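import Mathlib.GroupTheory.GroupAction.ConjAct
import Mathlib.GroupTheory.Commutator.Basic
import Cfsg.Agent.Omega.NoFF.Basic

/-!
# NO-3L, (2) and (4): points and the two modules of a point

`X` is a `G`-set (the points), `z x ≤ U i x` (`i : Bool`) are equivariant families of subgroups of `G`,
`U i x` is abelian and `C_G(z x)` fixes `x`. In the application `X = G / C_G(Z)`, `z = Z^g`,
`U i = ⟨Z^(H i)⟩^g` for two overgroups `H i` of `C_G(Z)`.

`p` is incident with `U i x` if `U i p = U i x`.

`false_of` is the impossibility of the pair `(Sp_2n(q), Sp_2m(q))`, `n ≥ 2` (text #12384 (4), and its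
extension to `S_(2^a+2)` by the referee #12778), for all `q`; `Y x = C_{U false x}(U true x) = x^⊥`.
-/

set_option autoImplicit false

namespace Cfsg.Agent.Omega.NOThreeL

open Subgroup MulAction Pointwise
open Cfsg.Agent.Omega.NoFF.Basic (conj_conj mem_conj conj_le_iff conj_le_centralizer comm_symm
  comm_mono)
open scoped commutatorElement

universe u v

variable {G : Type u} [Group G]

/-! ### Elementary facts -/

theorem mem_normalizer_of_conj_eq {g : G} {A : Subgroup G} (h : MulAut.conj g • A = A) :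
    g ∈ normalizer (A : Set G) := by
  rw [mem_normalizer_iff]
  intro x
  conv_rhs => rw [← h]
  rw [mem_conj]
  simp [mul_assoc]

theorem le_normalizer_of {A W : Subgroup G} (h : ∀ u ∈ A, ∀ w ∈ W, u * w * u⁻¹ ∈ W) :
    A ≤ normalizer (W : Set G) := by
  intro u hu
  rw [mem_normalizer_iff]
  intro w
  refine ⟨fun hw => h u hu w hw, fun hw => ?_⟩
  have h1 := h u⁻¹ (A.inv_mem hu) _ hw
  simpa [mul_assoc] using h1

theorem mem_sup_of_comm {A B : Subgroup G} (h : A ≤ centralizer (B : Set G)) {x : G}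
    (hx : x ∈ A ⊔ B) : ∃ a ∈ A, ∃ b ∈ B, a * b = x := by
  let K : Subgroup G :=
    { carrier := {x | ∃ a ∈ A, ∃ b ∈ B, a * b = x}
      mul_mem' := by
        rintro _ _ ⟨a, ha, b, hb, rfl⟩ ⟨a', ha', b', hb', rfl⟩
        refine ⟨a * a', mul_mem ha ha', b * b', mul_mem hb hb', ?_⟩
        have h1 := mem_centralizer_iff.mp (h ha') b hb
        calc a * a' * (b * b') = a * (a' * b) * b' := by group
          _ = a * (b * a') * b' := by rw [h1]
          _ = a * b * (a' * b') := by group
      one_mem' := ⟨1, one_mem _, 1, one_mem _, mul_one 1⟩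
      inv_mem' := by
        rintro _ ⟨a, ha, b, hb, rfl⟩
        refine ⟨a⁻¹, inv_mem ha, b⁻¹, inv_mem hb, ?_⟩
        have h1 := mem_centralizer_iff.mp (h (inv_mem ha)) b⁻¹ (inv_mem hb)
        rw [← h1, mul_inv_rev] }
  have h1 : A ⊔ B ≤ K := sup_le (fun a ha => ⟨a, ha, 1, one_mem _, mul_one a⟩)
    (fun b hb => ⟨1, one_mem _, b, hb, one_mul b⟩)
  exact h1 hx

/-! ### Points -/

/-- The equivariant families `z x ≤ U i x`. -/
structure Geo {X : Type v} [MulAction G X] (z : X → Subgroup G) (U : Bool → X → Subgroup G) :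
    Prop where
  eqv_z : ∀ (g : G) (x : X), z (g • x) = MulAut.conj g • z x
  eqv_U : ∀ (i : Bool) (g : G) (x : X), U i (g • x) = MulAut.conj g • U i x
  le : ∀ (i : Bool) (x : X), z x ≤ U i x
  abel : ∀ (i : Bool) (x : X), U i x ≤ centralizer (U i x : Set G)
  cent : ∀ (x : X), ∀ g ∈ centralizer (z x : Set G), g • x = x

/-- `Y x = C_{U false x}(U true x)`. -/
def Y {X : Type v} (U : Bool → X → Subgroup G) (x : X) : Subgroup G :=
  U false x ⊓ centralizer (U true x : Set G)

namespace Geo

variable {X : Type v} [MulAction G X] {z : X → Subgroup G} {U : Bool → X → Subgroup G}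

/-- exchange the two types -/
theorem swap (D : Geo z U) : Geo z (fun i => U (!i)) :=
  ⟨D.eqv_z, fun i => D.eqv_U (!i), fun i => D.le (!i), fun i => D.abel (!i), D.cent⟩

variable (D : Geo z U)
include D

theorem norm_U {g : G} {x : X} (h : g • x = x) (i : Bool) : g ∈ normalizer (U i x : Set G) :=
  mem_normalizer_of_conj_eq (by rw [← D.eqv_U, h])

theorem norm_z {g : G} {x : X} (h : g • x = x) : g ∈ normalizer (z x : Set G) :=
  mem_normalizer_of_conj_eq (by rw [← D.eqv_z, h])

theorem eqv_centralizer (i : Bool) (g : G) (x : X) :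
    centralizer (U i (g • x) : Set G) = MulAut.conj g • centralizer (U i x : Set G) := by
  apply le_antisymm
  · intro y hy
    rw [mem_conj, mem_centralizer_iff]
    intro u hu
    have h1 := mem_centralizer_iff.mp hy (g * u * g⁻¹) (by
      rw [D.eqv_U]
      change _ ∈ MulAut.conj g • U i x
      rw [mem_conj]
      simpa [mul_assoc] using hu)
    have h2 := congrArg (fun t => g⁻¹ * t * g) h1
    simpa [mul_assoc] using h2
  · rw [D.eqv_U]
    exact conj_le_centralizer le_rfl

theorem eqv_Y (g : G) (x : X) : Y U (g • x) = MulAut.conj g • Y U x := by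
  rw [Y, Y, D.eqv_U, D.eqv_centralizer, Subgroup.smul_inf]

theorem norm_Y {g : G} {x : X} (h : g • x = x) : g ∈ normalizer (Y U x : Set G) :=
  mem_normalizer_of_conj_eq (by rw [← D.eqv_Y, h])

theorem fix_of_le {A : Subgroup G} {x : X} (h : A ≤ centralizer (z x : Set G)) :
    ∀ g ∈ A, g • x = x := fun g hg => D.cent x g (h hg)

theorem U_fix (i : Bool) (x : X) : ∀ g ∈ U i x, g • x = x :=
  D.fix_of_le ((D.abel i x).trans (centralizer_le (D.le i x)))

/-- A subgroup centralising `U i x` fixes `x`. -/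
theorem fix_of_centralizer (i : Bool) {x : X} {g : G} (h : g ∈ centralizer (U i x : Set G)) :
    g • x = x := D.cent x g (centralizer_le (D.le i x) h)

theorem z_le_Y (x : X) : z x ≤ Y U x :=
  le_inf (D.le false x) ((D.le true x).trans (D.abel true x))

end Geo

/-! ### The theorem -/

/-- The hypotheses of (4). All `x` are points; `Y x = x^⊥`. -/
structure SpData {X : Type v} [MulAction G X] (z : X → Subgroup G) (U : Bool → X → Subgroup G) :
    Prop extends Geo z U where
  /-- mutual `U true`s commute -/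
  same : ∀ x y, U true x ≤ normalizer (U true y : Set G) → U true y ≤ normalizer (U true x : Set G) →
    U true x ≤ centralizer (U true y : Set G)
  /-- a mutual noncommuting pair of different types has a common incident point -/
  mixed : ∀ x y, U false x ≤ normalizer (U true y : Set G) →
    U true y ≤ normalizer (U false x : Set G) →
    ¬ U false x ≤ centralizer (U true y : Set G) → ∃ p, U false p = U false x ∧ U true p = U true y
  /-- `[U₁(x), U₂(x)] ≤ z x` -/
  com : ∀ x, ⁅U false x, U true x⁆ ≤ z x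
  /-- `[v, U₂(x)] ≥ z x` or `= 1` for `v ∈ U₁(x)` -/
  full : ∀ x, ∀ v ∈ U false x, v ∉ centralizer (U true x : Set G) →
    ∀ A : Subgroup G, (∀ w ∈ U true x, ⁅v, w⁆ ∈ A) → z x ≤ A
  /-- the points of `U₂(x)` are disjoint -/
  disj : ∀ x y, U true x = U true y → z x ⊓ z y ≠ ⊥ → U false x = U false y
  /-- the relation `⊥` is symmetric on `U₁(x)` -/
  perp : ∀ x y, U false x = U false y → U true x ≤ centralizer (z y : Set G) →
    U true y ≤ centralizer (z x : Set G)
  /-- `x^⊥ > z x` -/
  big : ∀ x, ¬ Y U x ≤ z x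
  /-- `v ∈ U₁(x) - z x` is not perpendicular to some point `p` of `x^⊥`, `p ≠ x` -/
  pts : ∀ x, ∀ v ∈ U false x, v ∉ z x → ∃ p, U false p = U false x ∧
    z p ≤ centralizer (U true x : Set G) ∧ v ∉ centralizer (U true p : Set G) ∧
    U false x ≤ Y U x ⊔ Y U p

namespace SpData

variable {X : Type v} [MulAction G X] {z : X → Subgroup G} {U : Bool → X → Subgroup G}
variable (D : SpData z U)
include D

/-- (a) `p ∈ c^⊥`: `U₂(p)` commutes with `U₂(c)`. -/
theorem step_a {p c : X} (h1 : U false p = U false c) (h2 : z p ≤ centralizer (U true c : Set G)) :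
    U true p ≤ centralizer (U true c : Set G) := by
  have h3 : U true c ≤ centralizer (z p : Set G) := comm_symm h2
  have h4 : U true p ≤ centralizer (z c : Set G) := D.perp c p h1.symm h3
  exact D.same p c (fun g hg => D.norm_U (D.fix_of_le h4 g hg) true)
    (fun g hg => D.norm_U (D.fix_of_le h3 g hg) true)

/-- `C_G(U₂(c))` fixes the points of `U₂(c)`. -/
theorem fix_of_eq {c c' : X} (h : U true c = U true c') {g : G}
    (hg : g ∈ centralizer (U true c : Set G)) : g • c' = c' :=
  D.fix_of_centralizer true (h ▸ hg)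

/-- (b), first half. -/
theorem step_b {c c' : X} (h : U true c = U true c') (hne : U false c ≠ U false c') :
    Y U c ⊓ Y U c' ≤ z c := by
  intro v hv
  by_contra hvz
  obtain ⟨p, hp1, hp2, hp3, -⟩ := D.pts c v hv.1.1 hvz
  have h3 : U true p ≤ centralizer (U true c : Set G) := D.step_a hp1 hp2
  have hkey : ∀ w ∈ U true p, ⁅v, w⁆ ∈ Y U c ⊓ Y U c' := by
    intro w hw
    have hw1 : w ∈ normalizer (Y U c : Set G) := D.norm_Y (D.fix_of_eq rfl (h3 hw))
    have hw2 : w ∈ normalizer (Y U c' : Set G) := D.norm_Y (D.fix_of_eq h (h3 hw))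
    have h5 : ⁅v, w⁆ = v * (w * v⁻¹ * w⁻¹) := by
      rw [commutatorElement_def]
      group
    rw [h5]
    exact ⟨mul_mem hv.1 ((mem_normalizer_iff.mp hw1 _).mp (inv_mem hv.1)),
      mul_mem hv.2 ((mem_normalizer_iff.mp hw2 _).mp (inv_mem hv.2))⟩
  have hvp : v ∈ U false p := by
    rw [hp1]
    exact hv.1.1
  have hzT : z p ≤ Y U c ⊓ Y U c' := D.full p v hvp hp3 _ hkey
  have hzU : z p ≤ U false c' := hzT.trans (inf_le_right.trans inf_le_left)
  -- `(U₁(c'), U₂(p))` is a mutual pair
  have hm1 : U false c' ≤ normalizer (U true p : Set G) := fun g hg =>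
    D.norm_U (D.fix_of_le ((D.abel false c').trans (centralizer_le hzU)) g hg) true
  have hm2 : U true p ≤ normalizer (U false c' : Set G) := fun g hg =>
    D.norm_U (D.fix_of_eq h (h3 hg)) false
  have hm3 : ¬ U false c' ≤ centralizer (U true p : Set G) := fun h6 => hp3 (h6 hv.2.1)
  obtain ⟨q, hq1, hq2⟩ := D.mixed c' p hm1 hm2 hm3
  -- a nontrivial commutator
  obtain ⟨w, hw, hk⟩ : ∃ w ∈ U true p, ⁅v, w⁆ ≠ 1 := by
    by_contra hcon
    push Not at hcon
    refine hp3 (mem_centralizer_iff.mpr fun w hw => ?_)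
    exact (commutatorElement_eq_one_iff_mul_comm.mp (hcon w hw)).symm
  have hk1 : ⁅v, w⁆ ∈ z p := D.com p (commutator_mem_commutator hvp hw)
  have hk2 : ⁅v, w⁆ ∈ z q := D.com q (commutator_mem_commutator (by rw [hq1]; exact hv.2.1)
    (by rw [hq2]; exact hw))
  have h7 : U false p = U false q := D.disj p q hq2.symm fun h8 => hk (by
    have h9 : ⁅v, w⁆ ∈ z p ⊓ z q := ⟨hk1, hk2⟩
    rw [h8] at h9
    exact mem_bot.mp h9)
  exact hne (hp1.symm.trans (h7.trans hq1))

theorem inf_eq_bot {c c' : X} (h : U true c = U true c') (hne : U false c ≠ U false c') :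
    Y U c ⊓ Y U c' = ⊥ := by
  by_contra h1
  refine hne (D.disj c c' h fun h2 => h1 (le_bot_iff.mp ?_))
  rw [← h2]
  refine le_inf (D.step_b h hne) ?_
  rw [inf_comm]
  exact D.step_b h.symm hne.symm

/-- (c) -/
theorem Y_comm {c c' : X} (h : U true c = U true c') (hne : U false c ≠ U false c') :
    Y U c ≤ centralizer (Y U c' : Set G) := by
  intro a ha
  rw [mem_centralizer_iff]
  intro b hb
  have ha' : a ∈ centralizer (U true c : Set G) := ha.2
  have hb' : b ∈ centralizer (U true c : Set G) := by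
    rw [h]
    exact hb.2
  have ha2 : a ∈ normalizer (Y U c' : Set G) := D.norm_Y (D.fix_of_eq h ha')
  have hb2 : b ∈ normalizer (Y U c : Set G) := D.norm_Y (D.fix_of_eq rfl hb')
  have h1 : ⁅a, b⁆ ∈ Y U c ⊓ Y U c' := by
    constructor
    · have h5 : ⁅a, b⁆ = a * (b * a⁻¹ * b⁻¹) := by
        rw [commutatorElement_def]
        group
      rw [h5]
      exact mul_mem ha ((mem_normalizer_iff.mp hb2 _).mp (inv_mem ha))
    · rw [commutatorElement_def]
      exact (Y U c').mul_mem ((mem_normalizer_iff.mp ha2 _).mp hb) ((Y U c').inv_mem hb)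
  rw [D.inf_eq_bot h hne] at h1
  exact (commutatorElement_eq_one_iff_mul_comm.mp (mem_bot.mp h1)).symm

/-- `g` fixes `c` and centralises `c^⊥`: `[U₁(c), g] ≤ z c`. -/
theorem axis {c : X} {g : G} (hg : g • c = c) (hY : g ∈ centralizer (Y U c : Set G)) {u : G}
    (hu : u ∈ U false c) : ⁅u, g⁆ ∈ z c := by
  have hgN := D.norm_U hg false
  have hv : ∀ u ∈ U false c, ⁅u, g⁆ ∈ U false c := by
    intro u hu
    have h5 : ⁅u, g⁆ = u * (g * u⁻¹ * g⁻¹) := by
      rw [commutatorElement_def]
      group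
    rw [h5]
    exact mul_mem hu ((mem_normalizer_iff.mp hgN _).mp (inv_mem hu))
  by_contra hvz
  obtain ⟨p, hp1, hp2, hp3, hp4⟩ := D.pts c _ (hv u hu) hvz
  have hzY : z p ≤ Y U c := le_inf (hp1 ▸ D.le false p) hp2
  have hgp : g • p = p := D.cent p g (centralizer_le hzY hY)
  have hgY := D.norm_Y hgp
  have hYU : Y U p ≤ U false c := hp1 ▸ inf_le_left
  let B : Subgroup G :=
    { carrier := {a | a ∈ U false c ∧ ⁅a, g⁆ ∈ Y U p}
      mul_mem' := by
        rintro a b ⟨ha, ha2⟩ ⟨hb, hb2⟩
        refine ⟨mul_mem ha hb, ?_⟩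
        have h1 := mem_centralizer_iff.mp (D.abel false c ha) _ (hYU hb2)
        have h2 : ⁅a * b, g⁆ = a * ⁅b, g⁆ * a⁻¹ * ⁅a, g⁆ := by
          simp only [commutatorElement_def]
          group
        rw [h2, ← h1, mul_assoc _ a a⁻¹, mul_inv_cancel, mul_one]
        exact mul_mem hb2 ha2
      one_mem' := ⟨one_mem _, by simp⟩
      inv_mem' := by
        rintro a ⟨ha, ha2⟩
        refine ⟨inv_mem ha, ?_⟩
        have h1 := mem_centralizer_iff.mp (D.abel false c ha) _ (hYU (inv_mem ha2))
        have h2 : ⁅a⁻¹, g⁆ = a⁻¹ * (⁅a, g⁆⁻¹ * a) := by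
          simp only [commutatorElement_def]
          group
        rw [h2, h1, inv_mul_cancel_left]
        exact inv_mem ha2 }
  have h1 : Y U c ⊔ Y U p ≤ B := by
    refine sup_le (fun a ha => ⟨ha.1, ?_⟩) (fun a ha => ⟨hYU ha, ?_⟩)
    · have h2 : ⁅a, g⁆ = 1 :=
        commutatorElement_eq_one_iff_mul_comm.mpr (mem_centralizer_iff.mp hY a ha)
      rw [h2]
      exact one_mem _
    · have h5 : ⁅a, g⁆ = a * (g * a⁻¹ * g⁻¹) := by
        rw [commutatorElement_def]
        group
      rw [h5]
      exact mul_mem ha ((mem_normalizer_iff.mp hgY _).mp (inv_mem ha))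
  exact hp3 (h1 (hp4 hu)).2.2

/-- `⟨U₁(c), U₁(c')⟩` normalises `c^⊥ z(c')`. -/
theorem norm_W {c c' : X} (h : U true c = U true c') (hne : U false c ≠ U false c') :
    U false c ⊔ U false c' ≤ normalizer ((Y U c ⊔ z c' : Subgroup G) : Set G) := by
  have hcc : Y U c ≤ centralizer (z c' : Set G) := by
    refine inf_le_right.trans ?_
    rw [h]
    exact centralizer_le (D.le true c')
  refine sup_le (le_normalizer_of fun u hu w hw => ?_) (le_normalizer_of fun u hu w hw => ?_)
  · obtain ⟨y, hy, t, ht, rfl⟩ := mem_sup_of_comm hcc hw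
    have h1 : u * y = y * u := (mem_centralizer_iff.mp (D.abel false c hu) y hy.1).symm
    have h2 : ⁅u, t⁆ ∈ z c := D.com c (commutator_mem_commutator hu (by
      rw [h]
      exact D.le true c' ht))
    have h3 : u * (y * t) * u⁻¹ = y * ⁅u, t⁆ * t := by
      calc u * (y * t) * u⁻¹ = (u * y) * t * u⁻¹ := by group
        _ = y * u * t * u⁻¹ := by rw [h1]
        _ = y * ⁅u, t⁆ * t := by
            rw [commutatorElement_def]
            group
    rw [h3]
    exact mul_mem (mul_mem (le_sup_left (a := Y U c) hy) (le_sup_left (a := Y U c) (D.z_le_Y c h2)))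
      (le_sup_right (a := Y U c) ht)
  · obtain ⟨y, hy, t, ht, rfl⟩ := mem_sup_of_comm hcc hw
    have h1 : u * t = t * u :=
      (mem_centralizer_iff.mp (D.abel false c' hu) t (D.le false c' ht)).symm
    have hyc : y ∈ centralizer (U true c' : Set G) := by
      rw [← h]
      exact hy.2
    have h2 : ⁅u, y⁆ ∈ z c' := D.axis (D.fix_of_centralizer true hyc) (D.Y_comm h hne hy) hu
    have h3 : u * (y * t) * u⁻¹ = ⁅u, y⁆ * (y * t) := by
      calc u * (y * t) * u⁻¹ = u * y * u⁻¹ * (u * t) * u⁻¹ := by group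
        _ = u * y * u⁻¹ * (t * u) * u⁻¹ := by rw [h1]
        _ = ⁅u, y⁆ * (y * t) := by
            rw [commutatorElement_def]
            group
    rw [h3]
    exact mul_mem (le_sup_right (a := Y U c) h2)
      (mul_mem (le_sup_left (a := Y U c) hy) (le_sup_right (a := Y U c) ht))

/-- **(4)**: `c`, `c'` are points of `U₂(c)`, `U₁(c)` moves `c'` and some `g ∈ ⟨U₁(c), U₁(c')⟩` maps
`U₁(c)` to `U₁(c')`: impossible. -/
theorem false_of {c c' : X} (h : U true c = U true c')
    (hn : ¬ U false c ≤ centralizer (z c' : Set G))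
    (htr : ∃ g ∈ U false c ⊔ U false c', U false (g • c) = U false c') : False := by
  have hne : U false c ≠ U false c' := fun h0 => hn (by
    rw [h0]
    exact (D.abel false c').trans (centralizer_le (D.le false c')))
  obtain ⟨g, hg, hgc⟩ := htr
  have hN : U false c ⊔ U false c' ≤ normalizer (U true c : Set G) := by
    refine sup_le (fun u hu => D.norm_U (D.U_fix false c u hu) true) (fun u hu => ?_)
    rw [h]
    exact D.norm_U (D.U_fix false c' u hu) true
  have hcj : ∀ {A : Subgroup G}, g ∈ normalizer (A : Set G) → MulAut.conj g • A = A := by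
    intro A hA
    ext x
    rw [mem_conj]
    have h1 := mem_normalizer_iff.mp hA (g⁻¹ * x * g)
    rw [h1]
    simp [mul_assoc]
  have h2 : U true (g • c) = U true c' := by
    rw [D.eqv_U, hcj (hN hg), h]
  have h3 : MulAut.conj g • Y U c = Y U c' := by
    rw [← D.eqv_Y, Y, Y, hgc, h2]
  have h4 : Y U c' ≤ Y U c ⊔ z c' := by
    rw [← hcj (D.norm_W h hne hg), ← h3]
    exact conj_le_iff.2 le_sup_left
  have hcc : Y U c ≤ centralizer (z c' : Set G) := by
    refine inf_le_right.trans ?_
    rw [h]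
    exact centralizer_le (D.le true c')
  refine D.big c' fun y' hy' => ?_
  obtain ⟨y, hy, t, ht, hyt⟩ := mem_sup_of_comm hcc (h4 hy')
  have h5 : y ∈ Y U c ⊓ Y U c' := by
    refine ⟨hy, ?_⟩
    have h6 : y = y' * t⁻¹ := by rw [← hyt, mul_inv_cancel_right]
    rw [h6]
    exact (Y U c').mul_mem hy' ((Y U c').inv_mem (D.z_le_Y c' ht))
  rw [D.inf_eq_bot h hne] at h5
  rw [mem_bot.mp h5, one_mul] at hyt
  rwa [← hyt]

end SpData

end Cfsg.Agent.Omega.NOThreeL
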