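import Cfsg.Agent.Omega.NOThreeL.ThmT

/-!
# NO-3L: the closure argument (helper83), all `q`, no structure of `M`

`X` is the `G`-set of points, `z x ≤ U x`, `W x ≤ U x` equivariant, `U x` abelian, `C_G(z x)` fixes `x`;
`M` is a subgroup normalised by `U c` with `z c ≤ M` (a line `V_P`, or `U_K(c)` for another overgroup
`K`), `Y = C_{U c}(M)`. If

* (`opp`) every `u ∈ U c`, `u ∉ C(M)`, has a point `x` with `z x ≤ M`, `U x ∩ U (u x) ∩ C(M) = 1`,
  `U c ∩ U x ∩ C(M) = 1`, `|Y| ≤ |C_{U x}(M)|`;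
* (`WM`) `W c ≤ C(M)`;
* (`conn`) a subgroup containing `z c` and with a point `z (h c)`, `h ∈ N(U c)`, also `W (h c)`, contains
  `U c`,

then `U c` centralises `M` (`Clo.le`). `ThmT.Data` satisfies `opp` (`opp_of_data`): this is THEOREM T for
all `q`, also in the presence of radicals (`thmT`).
-/

set_option autoImplicit false

namespace Cfsg.Agent.Omega.NOThreeL.Closure

open Subgroup MulAction Pointwise
open Cfsg.Agent.Omega.NOThreeL (mem_normalizer_of_conj_eq)
open Cfsg.Agent.Omega.NOThreeL.ThmT (conj_eq_of_mem_normalizer conj_mem_centralizer card_conj)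
open Cfsg.Agent.Omega.NoFF.Basic (conj_conj mem_conj conj_le_iff conj_le_centralizer comm_symm
  comm_mono)

universe u v

variable {G : Type u} [Group G]

/-- The hypotheses of the closure argument. -/
structure Clo {X : Type v} [MulAction G X] (z U W : X → Subgroup G) (M : Subgroup G) (c : X) :
    Prop where
  eqv_U : ∀ (g : G) (x : X), U (g • x) = MulAut.conj g • U x
  eqv_W : ∀ (g : G) (x : X), W (g • x) = MulAut.conj g • W x
  abel : U c ≤ centralizer (U c : Set G)
  cent : ∀ x, ∀ g ∈ centralizer (z x : Set G), g • x = x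
  zM : z c ≤ M
  UM : U c ≤ normalizer (M : Set G)
  opp : ∀ u ∈ U c, u ∉ centralizer (M : Set G) → ∃ x, z x ≤ M ∧
    U x ⊓ U (u • x) ⊓ centralizer (M : Set G) = ⊥ ∧
    U c ⊓ U x ⊓ centralizer (M : Set G) = ⊥ ∧
    Nat.card (U c ⊓ centralizer (M : Set G) : Subgroup G) ≤
      Nat.card (U x ⊓ centralizer (M : Set G) : Subgroup G)
  WU : W c ≤ U c
  WM : W c ≤ centralizer (M : Set G)
  zW : z c ≤ W c
  conn : ∀ A : Subgroup G, z c ≤ A →
    (∀ h ∈ normalizer (U c : Set G), z (h • c) ≤ A → W (h • c) ≤ A) → U c ≤ A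

namespace Clo

variable {X : Type v} [MulAction G X] {z U W : X → Subgroup G} {M : Subgroup G} {c : X}
variable (D : Clo z U W M c)
include D

theorem norm_U {g : G} {x : X} (h : g • x = x) : g ∈ normalizer (U x : Set G) :=
  mem_normalizer_of_conj_eq (by rw [← D.eqv_U, h])

theorem norm_W {g : G} {x : X} (h : g • x = x) : g ∈ normalizer (W x : Set G) :=
  mem_normalizer_of_conj_eq (by rw [← D.eqv_W, h])

/-- `C_G(M)` fixes the points of `M`. -/
theorem fix {x : X} (hx : z x ≤ M) {g : G} (hg : g ∈ centralizer (M : Set G)) : g • x = x :=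
  D.cent x g (centralizer_le hx hg)

/-- `[Y c, Y x] = 1` -/
theorem comm {x : X} (hx : z x ≤ M) (hi : U c ⊓ U x ⊓ centralizer (M : Set G) = ⊥) {a b : G}
    (ha : a ∈ U c ⊓ centralizer (M : Set G)) (hb : b ∈ U x ⊓ centralizer (M : Set G)) :
    a * b = b * a := by
  have ha2 : a ∈ normalizer (U x : Set G) := D.norm_U (D.fix hx ha.2)
  have hb2 : b ∈ normalizer (U c : Set G) := D.norm_U (D.fix D.zM hb.2)
  have h1 : a * b * a⁻¹ * b⁻¹ ∈ U c ⊓ U x ⊓ centralizer (M : Set G) := by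
    refine ⟨⟨?_, ?_⟩, ?_⟩
    · have h5 : a * b * a⁻¹ * b⁻¹ = a * (b * a⁻¹ * b⁻¹) := by group
      rw [h5]
      exact mul_mem ha.1 ((mem_normalizer_iff.mp hb2 _).mp (inv_mem ha.1))
    · exact (U x).mul_mem ((mem_normalizer_iff.mp ha2 _).mp hb.1) ((U x).inv_mem hb.1)
    · exact (centralizer _).mul_mem ((centralizer _).mul_mem ((centralizer _).mul_mem ha.2 hb.2)
        ((centralizer _).inv_mem ha.2)) ((centralizer _).inv_mem hb.2)
  rw [hi, mem_bot] at h1
  have h2 := congrArg (fun t => t * b * a) h1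
  simpa [mul_assoc] using h2

variable [Finite G]

/-- `[u, Y x] = Y c` -/
theorem star {u : G} (hu : u ∈ U c) {x : X}
    (hi : U x ⊓ U (u • x) ⊓ centralizer (M : Set G) = ⊥)
    (hc : Nat.card (U c ⊓ centralizer (M : Set G) : Subgroup G) ≤
      Nat.card (U x ⊓ centralizer (M : Set G) : Subgroup G))
    {y : G} (hy : y ∈ U c ⊓ centralizer (M : Set G)) :
    ∃ t ∈ U x ⊓ centralizer (M : Set G), t⁻¹ * u * t = u * y := by
  have hmem : ∀ t : (U x ⊓ centralizer (M : Set G) : Subgroup G),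
      u⁻¹ * ((t : G)⁻¹ * u * t) ∈ U c ⊓ centralizer (M : Set G) := by
    intro t
    have h1 : (t : G) ∈ normalizer (U c : Set G) := D.norm_U (D.fix D.zM t.2.2)
    refine mem_inf.mpr ⟨?_, ?_⟩
    · refine mul_mem (inv_mem hu) ?_
      have h2 := (mem_normalizer_iff.mp (inv_mem h1) u).mp hu
      simpa using h2
    · have h3 : u⁻¹ * ((t : G)⁻¹ * u * t) = u⁻¹ * (t : G)⁻¹ * u * t := by group
      rw [h3]
      exact mul_mem (conj_mem_centralizer (D.UM hu) (inv_mem (mem_inf.mp t.2).2))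
        (mem_inf.mp t.2).2
  let f : (U x ⊓ centralizer (M : Set G) : Subgroup G) →
      (U c ⊓ centralizer (M : Set G) : Subgroup G) := fun t => ⟨_, hmem t⟩
  have hinj : Function.Injective f := by
    intro s t hst
    have h1 : u⁻¹ * ((s : G)⁻¹ * u * s) = u⁻¹ * ((t : G)⁻¹ * u * t) := congrArg Subtype.val hst
    have h2 : (s : G)⁻¹ * u * s = (t : G)⁻¹ * u * t := mul_left_cancel h1
    have h3 : u * ((t : G) * (s : G)⁻¹) = (t : G) * (s : G)⁻¹ * u := by
      calc u * ((t : G) * (s : G)⁻¹) = (t : G) * ((t : G)⁻¹ * u * t) * (s : G)⁻¹ := by group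
        _ = (t : G) * ((s : G)⁻¹ * u * s) * (s : G)⁻¹ := by rw [h2]
        _ = (t : G) * (s : G)⁻¹ * u := by group
    have h40 : (t : G) * (s : G)⁻¹ ∈ U x :=
      mul_mem (mem_inf.mp t.2).1 (inv_mem (mem_inf.mp s.2).1)
    have h41 : (t : G) * (s : G)⁻¹ ∈ centralizer (M : Set G) :=
      mul_mem (mem_inf.mp t.2).2 (inv_mem (mem_inf.mp s.2).2)
    have h4 : (t : G) * (s : G)⁻¹ ∈ U x ⊓ U (u • x) ⊓ centralizer (M : Set G) := by
      refine mem_inf.mpr ⟨mem_inf.mpr ⟨h40, ?_⟩, h41⟩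
      rw [D.eqv_U, mem_conj]
      have h5 : u⁻¹ * ((t : G) * (s : G)⁻¹) * u = (t : G) * (s : G)⁻¹ := by
        rw [mul_assoc, ← h3, inv_mul_cancel_left]
      rw [h5]
      exact h40
    rw [hi, mem_bot] at h4
    exact Subtype.ext (mul_inv_eq_one.mp h4).symm
  have hbij := hinj.bijective_of_nat_card_le hc
  obtain ⟨t, ht⟩ := hbij.2 ⟨y, hy⟩
  refine ⟨t, t.2, ?_⟩
  have h1 : u⁻¹ * ((t : G)⁻¹ * u * t) = y := congrArg Subtype.val ht
  rw [← h1, mul_inv_cancel_left]

/-- a point of `Y` has its `W` in `Y`. -/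
theorem step {h : G} (hh : h ∈ normalizer (U c : Set G))
    (hz : z (h • c) ≤ U c ⊓ centralizer (M : Set G)) :
    W (h • c) ≤ U c ⊓ centralizer (M : Set G) := by
  have hWU : W (h • c) ≤ U c := by
    have h1 := conj_le_iff (g := h) |>.2 D.WU
    rwa [← D.eqv_W, conj_eq_of_mem_normalizer hh] at h1
  refine le_inf hWU fun w hw => ?_
  by_contra hwM
  obtain ⟨x, hx, hi1, hi2, hc⟩ := D.opp w (hWU hw) hwM
  have hYW : U c ⊓ centralizer (M : Set G) ≤ W (h • c) := by
    intro y hy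
    obtain ⟨t, ht, hty⟩ := D.star (hWU hw) hi1 hc hy
    have h1 : t ∈ centralizer (z (h • c) : Set G) := mem_centralizer_iff.mpr fun b hb =>
      D.comm hx hi2 (hz hb) ht
    have h2 : t ∈ normalizer (W (h • c) : Set G) := D.norm_W (D.cent _ _ h1)
    have h3 := (mem_normalizer_iff.mp (inv_mem h2) w).mp hw
    have h4 : y = w⁻¹ * (t⁻¹ * w * t) := by rw [hty, inv_mul_cancel_left]
    rw [h4]
    refine mul_mem (inv_mem hw) ?_
    simpa using h3
  have h5 : Nat.card (W (h • c)) ≤ Nat.card (U c ⊓ centralizer (M : Set G) : Subgroup G) := by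
    rw [D.eqv_W, card_conj]
    exact Nat.card_le_card_of_injective _ (Subgroup.inclusion_injective (le_inf D.WU D.WM))
  have h6 := Subgroup.eq_of_le_of_card_ge hYW h5
  rw [← h6] at hw
  exact hwM hw.2

/-- **The closure argument** -/
theorem le : U c ≤ centralizer (M : Set G) :=
  (D.conn _ (D.zW.trans (le_inf D.WU D.WM)) fun _ hh => D.step hh).trans inf_le_right

end Clo

/-- a natural line satisfies `opp`. -/
theorem opp_of_data [Finite G] {X : Type v} [MulAction G X] {z U : X → Subgroup G}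
    {V N : Subgroup G} {L : Set X} {opp : X → X → Prop} {c : X}
    (D : ThmT.Data z U V N L opp c) : ∀ u ∈ U c, u ∉ centralizer (V : Set G) →
    ∃ x, z x ≤ V ∧ U x ⊓ U (u • x) ⊓ centralizer (V : Set G) = ⊥ ∧
    U c ⊓ U x ⊓ centralizer (V : Set G) = ⊥ ∧
    Nat.card (U c ⊓ centralizer (V : Set G) : Subgroup G) ≤
      Nat.card (U x ⊓ centralizer (V : Set G) : Subgroup G) := by
  intro u hu huV
  obtain ⟨c', hc', hne⟩ := D.other
  refine ⟨c', D.zV c' hc', ?_, ?_, (D.card_Y hc').ge⟩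
  · rw [D.inf_eq_bot hc' (D.inv u (D.UN hu) c' hc') (D.stab u hu huV c' hc' hne), bot_inf_eq]
  · rw [D.inf_eq_bot D.mem hc' hne, bot_inf_eq]

/-- **THEOREM T** for all `q`, radicals allowed: a natural line `V` on `c` with `W c ≤ C(V)` commutes
with `U c`. -/
theorem thmT [Finite G] {X : Type v} [MulAction G X] {z U W : X → Subgroup G}
    {V N : Subgroup G} {L : Set X} {opp : X → X → Prop} {c : X} (D : ThmT.Data z U V N L opp c)
    (eqv_W : ∀ (g : G) (x : X), W (g • x) = MulAut.conj g • W x) (WU : W c ≤ U c)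
    (WV : W c ≤ centralizer (V : Set G)) (zW : z c ≤ W c)
    (conn : ∀ A : Subgroup G, z c ≤ A →
      (∀ h ∈ normalizer (U c : Set G), z (h • c) ≤ A → W (h • c) ≤ A) → U c ≤ A) :
    U c ≤ centralizer (V : Set G) :=
  Clo.le (z := z) (W := W)
    { eqv_U := D.eqv_U, eqv_W := eqv_W, abel := D.abel c, cent := D.cent, zM := D.zV c D.mem,
      UM := D.UN.trans D.NV, opp := opp_of_data D, WU := WU, WM := WV, zW := zW, conn := conn }

end Cfsg.Agent.Omega.NOThreeL.Closure
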