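import Cfsg.Agent.Omega.NOThreeL.Geo
import Mathlib.SetTheory.Cardinal.Finite

/-!
# NO-3L, (2) and (4) for `|Z| = 2`, all vectors of `U_i` being incident points

* `TwoData.common` : a mutual noncommuting pair has a common incident point (text #12384 (2));
* `TwoData.same` : mutual pairs of the same type commute;
* `Rank1.false_of` : (4), `(Sp_2n(2), Sp_2m(2))`, `(n, m) ≠ (1, 1)`, is impossible. The hypotheses are
  `[U₁(x), U₂(x)] ≤ z x`, `≠ 1`, `|U₂(x) : C(U₁(x))| = 2` and `C_{U₁(x)}(U₂(x)) > z x`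
  (or the last one for `U₂`).
-/

set_option autoImplicit false

namespace Cfsg.Agent.Omega.NOThreeL

open Subgroup MulAction Pointwise
open Cfsg.Agent.Omega.NoFF.Basic (conj_conj mem_conj conj_le_iff conj_le_centralizer comm_symm
  comm_mono)
open scoped commutatorElement

universe u v

variable {G : Type u} [Group G]

/-- `|Z| = 2` and every nontrivial element of `U i x` generates an incident point. -/
structure TwoData {X : Type v} [MulAction G X] (z : X → Subgroup G) (U : Bool → X → Subgroup G) :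
    Prop extends Geo z U where
  card : ∀ x, Nat.card (z x) = 2
  inj : ∀ x y, z x = z y → x = y
  pt : ∀ (i : Bool) (x : X), ∀ v ∈ U i x, v ≠ 1 → ∃ p, v ∈ z p ∧ U i p = U i x

theorem mem_normalizer_centralizer {g : G} {A : Subgroup G} (h : g ∈ normalizer (A : Set G)) :
    g ∈ normalizer (centralizer (A : Set G) : Set G) := by
  have key : ∀ g ∈ normalizer (A : Set G), ∀ x ∈ centralizer (A : Set G),
      g * x * g⁻¹ ∈ centralizer (A : Set G) := by
    intro g hg x hx
    rw [mem_centralizer_iff]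
    intro a ha
    have h1 : g⁻¹ * a * g ∈ A := by
      have h2 := (mem_normalizer_iff.mp (inv_mem hg) a).mp ha
      rwa [inv_inv] at h2
    have h2 := mem_centralizer_iff.mp hx _ h1
    have h3 := congrArg (fun t => g * t * g⁻¹) h2
    simpa [mul_assoc] using h3
  rw [mem_normalizer_iff]
  refine fun x => ⟨fun hx => key g h x hx, fun hx => ?_⟩
  have h1 := key g⁻¹ (inv_mem h) _ hx
  simpa [mul_assoc] using h1

namespace TwoData

variable {X : Type v} [MulAction G X] {z : X → Subgroup G} {U : Bool → X → Subgroup G}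

/-- exchange the two types -/
theorem swap (D : TwoData z U) : TwoData z (fun i => U (!i)) :=
  { toGeo := D.toGeo.swap, card := D.card, inj := D.inj, pt := fun i => D.pt (!i) }

variable (D : TwoData z U)
include D

theorem gen_eq {x : X} {a b : G} (ha : a ∈ z x) (hb : b ∈ z x) (ha1 : a ≠ 1) (hb1 : b ≠ 1) :
    a = b := by
  obtain ⟨y, -, hy⟩ := (Nat.card_eq_two_iff' (1 : z x)).mp (D.card x)
  have h1 := hy ⟨a, ha⟩ fun h => ha1 (congrArg Subtype.val h)
  have h2 := hy ⟨b, hb⟩ fun h => hb1 (congrArg Subtype.val h)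
  exact congrArg Subtype.val (h1.trans h2.symm)

theorem exists_gen (x : X) : ∃ a ∈ z x, a ≠ 1 := by
  obtain ⟨y, hy, -⟩ := (Nat.card_eq_two_iff' (1 : z x)).mp (D.card x)
  exact ⟨y, y.2, fun h => hy (Subtype.ext h)⟩

theorem eq_of_mem {x y : X} {a : G} (hx : a ∈ z x) (hy : a ∈ z y) (ha : a ≠ 1) : x = y := by
  apply D.inj
  have key : ∀ x y, a ∈ z x → a ∈ z y → z x ≤ z y := by
    intro x y hx hy b hb
    by_cases hb1 : b = 1
    · rw [hb1]
      exact one_mem _
    · rw [D.gen_eq hb hx hb1 ha]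
      exact hy
  exact le_antisymm (key x y hx hy) (key y x hy hx)

theorem le_of_mem {x : X} {a : G} {A : Subgroup G} (hx : a ∈ z x) (ha : a ≠ 1) (hA : a ∈ A) :
    z x ≤ A := by
  intro b hb
  by_cases hb1 : b = 1
  · rw [hb1]
    exact one_mem _
  · rwa [D.gen_eq hb hx hb1 ha]

/-- `g x = x` implies that `g` centralises `z x`. -/
theorem cent_of_fix {x : X} {g : G} (h : g • x = x) : g ∈ centralizer (z x : Set G) := by
  rw [mem_centralizer_iff]
  intro a ha
  by_cases ha1 : a = 1
  · rw [ha1, one_mul, mul_one]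
  · have h1 : g * a * g⁻¹ ∈ z x := (mem_normalizer_iff.mp (D.norm_z h) a).mp ha
    have h2 : g * a * g⁻¹ ≠ 1 := fun h3 => ha1 (by
      have h4 := congrArg (fun t => g⁻¹ * t * g) h3
      simpa [mul_assoc] using h4)
    have h3 := D.gen_eq h1 ha h2 ha1
    calc a * g = g * a * g⁻¹ * g := by rw [h3]
      _ = g * a := by group

/-- **(2)** a mutual noncommuting pair has a common incident point. -/
theorem common {i j : Bool} {x y : X} (h1 : U i x ≤ normalizer (U j y : Set G))
    (h2 : U j y ≤ normalizer (U i x : Set G)) (h3 : ¬ U i x ≤ centralizer (U j y : Set G)) :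
    ∃ p, U i p = U i x ∧ U j p = U j y := by
  obtain ⟨u, hu, hu'⟩ : ∃ u ∈ U i x, u ∉ centralizer (U j y : Set G) := by
    by_contra hcon
    push Not at hcon
    exact h3 hcon
  obtain ⟨w, hw, hk⟩ : ∃ w ∈ U j y, ⁅u, w⁆ ≠ 1 := by
    by_contra hcon
    push Not at hcon
    refine hu' (mem_centralizer_iff.mpr fun w hw => ?_)
    exact (commutatorElement_eq_one_iff_mul_comm.mp (hcon w hw)).symm
  have hk1 : ⁅u, w⁆ ∈ U i x := by
    have h5 : ⁅u, w⁆ = u * (w * u⁻¹ * w⁻¹) := by
      rw [commutatorElement_def]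
      group
    rw [h5]
    exact (U i x).mul_mem hu ((mem_normalizer_iff.mp (h2 hw) _).mp ((U i x).inv_mem hu))
  have hk2 : ⁅u, w⁆ ∈ U j y := by
    rw [commutatorElement_def]
    exact (U j y).mul_mem ((mem_normalizer_iff.mp (h1 hu) _).mp hw) ((U j y).inv_mem hw)
  obtain ⟨p, hp1, hp2⟩ := D.pt i x _ hk1 hk
  obtain ⟨q, hq1, hq2⟩ := D.pt j y _ hk2 hk
  obtain rfl := D.eq_of_mem hp1 hq1 hk
  exact ⟨p, hp2, hq2⟩

/-- **(2)** mutual pairs of the same type commute. -/
theorem same {i : Bool} {x y : X} (h1 : U i x ≤ normalizer (U i y : Set G))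
    (h2 : U i y ≤ normalizer (U i x : Set G)) : U i x ≤ centralizer (U i y : Set G) := by
  by_contra h3
  obtain ⟨p, hp1, hp2⟩ := D.common h1 h2 h3
  exact h3 (by rw [← hp1, ← hp2]; exact D.abel i p)

/-- A mutual noncommuting pair is `U₁(p)`, `U₂(p)` for some point `p`. -/
theorem exists_point {i j : Bool} {x y : X} (h1 : U i x ≤ normalizer (U j y : Set G))
    (h2 : U j y ≤ normalizer (U i x : Set G)) (h3 : ¬ U i x ≤ centralizer (U j y : Set G)) :
    i ≠ j ∧ ∃ p, U i p = U i x ∧ U j p = U j y ∧ ¬ U i p ≤ centralizer (U j p : Set G) := by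
  obtain ⟨p, hp1, hp2⟩ := D.common h1 h2 h3
  have h4 : ¬ U i p ≤ centralizer (U j p : Set G) := by rwa [hp1, hp2]
  refine ⟨?_, p, hp1, hp2, h4⟩
  rintro rfl
  exact h4 (D.abel i p)

end TwoData

/-- `U₁(x)` and `U₂(x)` act on each other as a single transvection with centre `z x`. -/
structure Rank1 {X : Type v} [MulAction G X] (z : X → Subgroup G) (U : Bool → X → Subgroup G) :
    Prop extends TwoData z U where
  com : ∀ x, ⁅U false x, U true x⁆ ≤ z x
  nonc : ∀ x, ¬ U false x ≤ centralizer (U true x : Set G)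
  one : ∀ x, ∀ w ∈ U true x, ∀ w' ∈ U true x, w ∉ centralizer (U false x : Set G) →
    w' ∉ centralizer (U false x : Set G) → w⁻¹ * w' ∈ centralizer (U false x : Set G)

namespace Rank1

variable {X : Type v} [MulAction G X] {z : X → Subgroup G} {U : Bool → X → Subgroup G}
variable (D : Rank1 z U)
include D

/-- `|U₁(x) : x^⊥| = 2` -/
theorem one' (x : X) : ∀ a ∈ U false x, ∀ b ∈ U false x, a ∉ centralizer (U true x : Set G) →
    b ∉ centralizer (U true x : Set G) → a⁻¹ * b ∈ centralizer (U true x : Set G) := by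
  -- a noncentral `w` moves all `a` outside `x^⊥`
  have key : ∀ a ∈ U false x, a ∉ centralizer (U true x : Set G) → ∀ w ∈ U true x,
      w ∉ centralizer (U false x : Set G) → ⁅a, w⁆ ≠ 1 := by
    intro a ha ha' w hw hw' h0
    refine ha' (mem_centralizer_iff.mpr fun w₀ hw₀ => ?_)
    by_cases h1 : w₀ ∈ centralizer (U false x : Set G)
    · exact (mem_centralizer_iff.mp h1 a ha).symm
    · have h2 := D.one x w hw w₀ hw₀ hw' h1
      have h3 := mem_centralizer_iff.mp h2 a ha
      have h4 := commutatorElement_eq_one_iff_mul_comm.mp h0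
      calc w₀ * a = w * ((w⁻¹ * w₀) * a) := by group
        _ = w * (a * (w⁻¹ * w₀)) := by rw [h3]
        _ = (w * a) * w⁻¹ * w₀ := by group
        _ = (a * w) * w⁻¹ * w₀ := by rw [h4]
        _ = a * w₀ := by group
  intro a ha b hb ha' hb'
  rw [mem_centralizer_iff]
  intro w hw
  by_cases h1 : w ∈ centralizer (U false x : Set G)
  · exact (mem_centralizer_iff.mp h1 _ (mul_mem (inv_mem ha) hb)).symm
  · have h2 := key a ha ha' w hw h1
    have h3 := key b hb hb' w hw h1
    have h4 : ⁅a, w⁆ = ⁅b, w⁆ := D.gen_eq (D.com x (commutator_mem_commutator ha hw))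
      (D.com x (commutator_mem_commutator hb hw)) h2 h3
    rw [commutatorElement_def, commutatorElement_def] at h4
    have h5 : a * w * a⁻¹ = b * w * b⁻¹ := mul_right_cancel h4
    calc w * (a⁻¹ * b) = a⁻¹ * (a * w * a⁻¹) * b := by group
      _ = a⁻¹ * (b * w * b⁻¹) * b := by rw [h5]
      _ = a⁻¹ * b * w := by group

theorem swap : Rank1 z (fun i => U (!i)) :=
  { toTwoData := D.toTwoData.swap
    com := fun x => by
      change ⁅U true x, U false x⁆ ≤ z x
      rw [commutator_comm]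
      exact D.com x
    nonc := fun x h => D.nonc x (comm_symm h)
    one := fun x => D.one' x }

/-- `⊥` is symmetric. -/
theorem perp {x y : X} (h : U false x = U false y) (h1 : U true x ≤ centralizer (z y : Set G)) :
    U true y ≤ centralizer (z x : Set G) := by
  intro w hw
  by_contra hwx
  -- `w` acts nontrivially on `U₁`
  have hwU : w ∉ centralizer (U false y : Set G) := fun h2 => hwx (by
    rw [← h] at h2
    exact centralizer_le (D.le false x) h2)
  -- `[u, t] ≠ 1`
  obtain ⟨u, hu, hu'⟩ : ∃ u ∈ U false x, u ∉ centralizer (U true x : Set G) := by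
    by_contra hcon
    push Not at hcon
    exact D.nonc x hcon
  obtain ⟨t, ht, hk⟩ : ∃ t ∈ U true x, ⁅u, t⁆ ≠ 1 := by
    by_contra hcon
    push Not at hcon
    refine hu' (mem_centralizer_iff.mpr fun w hw => ?_)
    exact (commutatorElement_eq_one_iff_mul_comm.mp (hcon w hw)).symm
  have hty : t • y = y := D.cent y t (h1 ht)
  have htx : t • x = x := D.U_fix true x t ht
  have h2 : t * w * t⁻¹ ∈ U true y := (mem_normalizer_iff.mp (D.norm_U hty true) w).mp hw
  have h3 : t * w * t⁻¹ ∉ centralizer (U false y : Set G) := fun h4 =>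
    hwU ((mem_normalizer_iff.mp (mem_normalizer_centralizer (D.norm_U hty false)) w).mpr h4)
  have h4 := D.one y w hw _ h2 hwU h3
  have h5 : w⁻¹ • y = y := D.U_fix true y w⁻¹ (inv_mem hw)
  have h6 : U false (w⁻¹ • x) = U false x := by
    rw [D.eqv_U, h, ← D.eqv_U, h5]
  have h7 : w⁻¹ * t * w ∈ U true (w⁻¹ • x) := by
    rw [D.eqv_U, mem_conj]
    simpa [mul_assoc] using ht
  have h8 : ⁅u, w⁻¹ * t * w⁆ = ⁅u, t⁆ := by
    have h9 : w⁻¹ * t * w = (w⁻¹ * (t * w * t⁻¹)) * t := by group
    have h10 : t * u⁻¹ * t⁻¹ ∈ U false x :=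
      (mem_normalizer_iff.mp (D.norm_U htx false) _).mp (inv_mem hu)
    have h11 := mem_centralizer_iff.mp h4 (u * (t * u⁻¹ * t⁻¹)) (by
      rw [← h]
      exact (U false x).mul_mem hu h10)
    have h12 := mem_centralizer_iff.mp h4 u (by
      rw [← h]
      exact hu)
    rw [h9, commutatorElement_def, commutatorElement_def]
    generalize w⁻¹ * (t * w * t⁻¹) = d at h11 h12 ⊢
    calc u * (d * t) * u⁻¹ * (d * t)⁻¹ = (u * d) * t * u⁻¹ * t⁻¹ * d⁻¹ := by group
      _ = (d * u) * t * u⁻¹ * t⁻¹ * d⁻¹ := by rw [h12]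
      _ = d * (u * (t * u⁻¹ * t⁻¹)) * d⁻¹ := by group
      _ = (u * (t * u⁻¹ * t⁻¹)) * d * d⁻¹ := by rw [h11]
      _ = u * t * u⁻¹ * t⁻¹ := by group
  have h9 : ⁅u, t⁆ ∈ z (w⁻¹ • x) := by
    rw [← h8]
    exact D.com _ (commutator_mem_commutator (by rw [h6]; exact hu) h7)
  have h10 : ⁅u, t⁆ ∈ z x := D.com _ (commutator_mem_commutator hu ht)
  have h11 : w⁻¹ • x = x := D.eq_of_mem h9 h10 hk
  refine hwx (D.cent_of_fix ?_)
  conv_lhs => rw [← h11]
  rw [smul_inv_smul]

theorem perp_iff {x y : X} (h : U false x = U false y) :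
    U true x ≤ centralizer (z y : Set G) ↔ U true y ≤ centralizer (z x : Set G) :=
  ⟨D.perp h, D.perp h.symm⟩

omit D in
theorem _root_.Cfsg.Agent.Omega.NOThreeL.TwoData.le_centralizer_iff (D : TwoData z U) {x : X}
    {a : G} (ha : a ∈ z x) (ha1 : a ≠ 1) {A : Subgroup G} :
    A ≤ centralizer (z x : Set G) ↔ a ∈ centralizer (A : Set G) := by
  constructor
  · intro h
    exact comm_symm h ha
  · intro h
    exact comm_symm (D.le_of_mem ha ha1 h)

/-- `c^⊥ = p^⊥` implies `c = p`. -/
theorem eq_of_Y_eq {c p : X} (h : U false c = U false p) (hY : Y U c = Y U p) : c = p := by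
  by_contra hne
  obtain ⟨a, ha, ha1⟩ := D.exists_gen c
  obtain ⟨b, hb, hb1⟩ := D.exists_gen p
  have hab : a⁻¹ * b ≠ 1 := fun h0 => hne (D.eq_of_mem (a := a) ha (by
    rw [inv_mul_eq_one.mp h0]
    exact hb) ha1)
  have haU : a ∈ U false c := D.le false c ha
  have hbU : b ∈ U false c := by
    rw [h]
    exact D.le false p hb
  obtain ⟨x, hx, hxU⟩ := D.pt false c _ (mul_mem (inv_mem haU) hbU) hab
  refine D.nonc x fun u hu => ?_
  by_cases hu1 : u = 1
  · rw [hu1]
    exact one_mem _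
  obtain ⟨r, hr, hrU⟩ := D.pt false x u hu hu1
  -- it is enough that `U₂(r)` centralises `a⁻¹ b`
  rw [← D.le_centralizer_iff hr hu1, D.perp_iff hrU.symm, D.le_centralizer_iff hx hab]
  have hrc : U false r = U false c := hrU.trans hxU
  have key : a ∈ centralizer (U true r : Set G) ↔ b ∈ centralizer (U true r : Set G) := by
    rw [← D.le_centralizer_iff ha ha1, ← D.le_centralizer_iff hb hb1, D.perp_iff hrc,
      D.perp_iff (hrc.trans h), D.le_centralizer_iff hr hu1, D.le_centralizer_iff hr hu1]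
    have hur : u ∈ U false c := by
      rw [← hrc]
      exact D.le false r hr
    constructor
    · intro h2
      have h3 : u ∈ Y U c := ⟨hur, h2⟩
      rw [hY] at h3
      exact h3.2
    · intro h2
      have h3 : u ∈ Y U p := ⟨by rw [← h]; exact hur, h2⟩
      rw [← hY] at h3
      exact h3.2
  by_cases h1 : a ∈ centralizer (U true r : Set G)
  · exact mul_mem (inv_mem h1) (key.mp h1)
  · exact D.one' r a (by rw [hrc]; exact haU) b (by rw [hrc]; exact hbU) h1
      fun h2 => h1 (key.mpr h2)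

/-- `c^⊥ ≤ p^⊥` implies `c = p`. -/
theorem eq_of_Y_le {c p : X} (h : U false c = U false p) (hY : Y U c ≤ Y U p) : c = p := by
  refine D.eq_of_Y_eq h (le_antisymm hY fun u hu => ?_)
  by_contra hu'
  obtain ⟨s, hs, hs'⟩ : ∃ s ∈ U false p, s ∉ centralizer (U true p : Set G) := by
    by_contra hcon
    push Not at hcon
    exact D.nonc p hcon
  have huc : u ∈ U false c := by
    rw [h]
    exact hu.1
  have hsc : s ∈ U false c := by
    rw [h]
    exact hs
  have h1 : s ∉ centralizer (U true c : Set G) := fun h2 => hs' (hY ⟨hsc, h2⟩).2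
  have h2 : u ∉ centralizer (U true c : Set G) := fun h2 => hu' ⟨huc, h2⟩
  have h3 : u⁻¹ * s ∈ Y U p :=
    hY ⟨(U false c).mul_mem ((U false c).inv_mem huc) hsc, D.one' c u huc s hsc h2 h1⟩
  refine hs' ?_
  have h4 : s = u * (u⁻¹ * s) := by group
  rw [h4]
  exact mul_mem hu.2 h3.2

theorem le_sup {c p : X} (h : U false c = U false p) (hne : c ≠ p) :
    U false c ≤ Y U c ⊔ Y U p := by
  obtain ⟨y, hy, hy'⟩ : ∃ y ∈ Y U c, y ∉ Y U p := by
    by_contra hcon
    push Not at hcon
    exact hne (D.eq_of_Y_le h hcon)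
  intro u hu
  have hup : u ∈ U false p := h ▸ hu
  by_cases h1 : u ∈ centralizer (U true p : Set G)
  · exact le_sup_right (a := Y U c) (⟨hup, h1⟩ : u ∈ Y U p)
  · have hyp : y ∈ U false p := h ▸ hy.1
    have h2 : y⁻¹ * u ∈ Y U p := ⟨(U false p).mul_mem ((U false p).inv_mem hyp) hup,
      D.one' p y hyp u hup (fun h3 => hy' ⟨hyp, h3⟩) h1⟩
    have h4 : u = y * (y⁻¹ * u) := by group
    rw [h4]
    exact mul_mem (le_sup_left (a := Y U c) hy) (le_sup_right (a := Y U c) h2)

theorem pts (big : ∀ x, ¬ Y U x ≤ z x) (c : X) {v : G} (hv : v ∈ U false c) (hvz : v ∉ z c) :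
    ∃ p, U false p = U false c ∧ z p ≤ centralizer (U true c : Set G) ∧
      v ∉ centralizer (U true p : Set G) ∧ U false c ≤ Y U c ⊔ Y U p := by
  have hv1 : v ≠ 1 := fun h => hvz (by rw [h]; exact one_mem _)
  obtain ⟨q, hq, hqU⟩ := D.pt false c v hv hv1
  by_contra hcon
  -- `v` is perpendicular to all points of `c^⊥` different from `c`
  have h1 : ∀ u ∈ Y U c, u ∉ z c → U true q ≤ centralizer (zpowers u : Set G) := by
    intro u hu huz
    have hu1 : u ≠ 1 := fun h => huz (by rw [h]; exact one_mem _)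
    obtain ⟨p, hp, hpU⟩ := D.pt false c u hu.1 hu1
    have hpc : c ≠ p := fun h => huz (by rw [h]; exact hp)
    have hvp : v ∈ centralizer (U true p : Set G) := by
      by_contra h2
      exact hcon ⟨p, hpU, D.le_of_mem hp hu1 hu.2, h2, D.le_sup hpU.symm hpc⟩
    rw [← D.le_centralizer_iff hq hv1, D.perp_iff (hpU.trans hqU.symm),
      D.le_centralizer_iff hp hu1] at hvp
    exact comm_symm (zpowers_le.mpr hvp)
  have h2 : ∀ u ∈ Y U c, u ∉ z c → u ∈ centralizer (U true q : Set G) := fun u hu huz =>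
    comm_symm (h1 u hu huz) (mem_zpowers u)
  obtain ⟨y, hy, hyz⟩ : ∃ y ∈ Y U c, y ∉ z c := by
    by_contra hc
    push Not at hc
    exact big c hc
  have h3 : ∀ a ∈ z c, a ∈ centralizer (U true q : Set G) := by
    intro a ha
    have h4 : y * a ∉ z c := fun h5 => hyz (by
      have h6 := (z c).mul_mem h5 ((z c).inv_mem ha)
      rwa [mul_inv_cancel_right] at h6)
    have h5 : a = y⁻¹ * (y * a) := by group
    rw [h5]
    exact (centralizer _).mul_mem ((centralizer _).inv_mem (h2 y hy hyz))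
      (h2 _ (mul_mem hy (D.z_le_Y c ha)) h4)
  have h4 : Y U c ≤ Y U q := by
    intro u hu
    refine ⟨by rw [hqU]; exact hu.1, ?_⟩
    by_cases hu1 : u ∈ z c
    · exact h3 u hu1
    · exact h2 u hu hu1
  obtain rfl := D.eq_of_Y_le hqU.symm h4
  exact hvz hq

theorem spData (big : ∀ x, ¬ Y U x ≤ z x) : SpData z U where
  toGeo := D.toGeo
  same := fun x y h1 h2 => D.same h1 h2
  mixed := fun x y h1 h2 h3 => D.common h1 h2 h3
  com := D.com
  full := fun x v hv hv' A hA => by
    obtain ⟨w, hw, hk⟩ : ∃ w ∈ U true x, ⁅v, w⁆ ≠ 1 := by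
      by_contra hcon
      push Not at hcon
      refine hv' (mem_centralizer_iff.mpr fun w hw => ?_)
      exact (commutatorElement_eq_one_iff_mul_comm.mp (hcon w hw)).symm
    exact D.le_of_mem (D.com x (commutator_mem_commutator hv hw)) hk (hA w hw)
  disj := fun x y _ h => by
    obtain ⟨a, ha, ha1⟩ : ∃ a ∈ z x ⊓ z y, a ≠ 1 := by
      by_contra hcon
      push Not at hcon
      exact h (le_bot_iff.mp fun a ha => mem_bot.mpr (hcon a ha))
    rw [D.eq_of_mem ha.1 ha.2 ha1]
  perp := fun x y h h1 => D.perp h h1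
  big := big
  pts := fun x v hv hvz => D.pts big x hv hvz

theorem false_of_big (big : ∀ x, ¬ Y U x ≤ z x) (c : X) : False := by
  obtain ⟨v, hv, hv'⟩ : ∃ v ∈ U true c, v ∉ centralizer (U false c : Set G) := by
    by_contra hcon
    push Not at hcon
    exact D.swap.nonc c hcon
  have hv1 : v ≠ 1 := fun h => hv' (by rw [h]; exact one_mem _)
  obtain ⟨c', hc, hcU⟩ := D.pt true c v hv hv1
  have hn : ¬ U false c ≤ centralizer (z c' : Set G) := fun h =>
    hv' ((D.le_centralizer_iff hc hv1).mp h)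
  refine (D.spData big).false_of hcU.symm hn ?_
  have hn' : ¬ U false c' ≤ centralizer (z c : Set G) := fun h => hn (D.swap.perp hcU h)
  obtain ⟨a, ha, ha1⟩ := D.exists_gen c
  -- `u v u⁻¹ = a v`
  obtain ⟨u, hu, huv⟩ : ∃ u ∈ U false c, ⁅u, v⁆ ≠ 1 := by
    by_contra hcon
    push Not at hcon
    refine hv' (mem_centralizer_iff.mpr fun u hu => ?_)
    exact commutatorElement_eq_one_iff_mul_comm.mp (hcon u hu)
  have h1 : ⁅u, v⁆ = a := D.gen_eq (D.com c (commutator_mem_commutator hu hv)) ha huv ha1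
  -- `u' a u'⁻¹ = v a`
  obtain ⟨u', hu', hua⟩ : ∃ u' ∈ U false c', ⁅u', a⁆ ≠ 1 := by
    by_contra hcon
    push Not at hcon
    refine hn' ((D.le_centralizer_iff ha ha1).mpr (mem_centralizer_iff.mpr fun u hu => ?_))
    exact commutatorElement_eq_one_iff_mul_comm.mp (hcon u hu)
  have hac : a ∈ U true c' := by
    rw [hcU]
    exact D.le true c ha
  have h2 : ⁅u', a⁆ = v := D.gen_eq (D.com c' (commutator_mem_commutator hu' hac)) hc hua hv1
  have h3 : a * v = v * a :=
    (mem_centralizer_iff.mp (D.abel true c hv) a (D.le true c ha))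
  refine ⟨u⁻¹ * u', mul_mem (inv_mem (le_sup_left (a := U false c) hu))
    (le_sup_right (a := U false c) hu'), ?_⟩
  have h4 : v ∈ z ((u⁻¹ * u') • c) := by
    rw [D.eqv_z, mem_conj]
    have h5 : u * v * u⁻¹ = a * v := by
      rw [← h1, commutatorElement_def]
      group
    have h6 : u' * a * u'⁻¹ = v * a := by
      conv_rhs => rw [← h2]
      rw [commutatorElement_def]
      group
    have h7 : (u⁻¹ * u')⁻¹ * v * (u⁻¹ * u') = a := by
      calc (u⁻¹ * u')⁻¹ * v * (u⁻¹ * u') = u'⁻¹ * (u * v * u⁻¹) * u' := by group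
        _ = u'⁻¹ * (u' * a * u'⁻¹) * u' := by rw [h5, h6, h3]
        _ = a := by group
    rw [h7]
    exact ha
  rw [D.eq_of_mem h4 hc hv1]

/-- **(4), `q = 2`**: `(Sp_2n(2), Sp_2m(2))` with `(n, m) ≠ (1, 1)` is impossible. -/
theorem false_of (big : (∀ x, ¬ U false x ⊓ centralizer (U true x : Set G) ≤ z x) ∨
    ∀ x, ¬ U true x ⊓ centralizer (U false x : Set G) ≤ z x) (c : X) : False := by
  rcases big with h | h
  · exact D.false_of_big h c
  · exact D.swap.false_of_big h c

end Rank1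

end Cfsg.Agent.Omega.NOThreeL
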