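import Cfsg.Agent.Omega.NOThreeL.Basic
import Cfsg.Agent.Omega.NO3b.EZeroBase
import Cfsg.Agent.Omega.FFThmM

/-!
# NO-3L: the group `⟨P*(S)⟩` and its module (#15808 (L0), #16235, helper999)

`S` a Sylow 2-subgroup, `Y = ⟨P*(S)⟩ = YS S`, `V* = zl S Y = ⟨Ω₁(Z(S))^Y⟩`, no mutual pair (`¬ FF S`).

* `zl_comm`, `zl_sq` : `V*` is elementary abelian;
* `le_norm_cs`, `cs_le_o2`, `isLoc` : `C_S(V*)` is normal in `Y`, so it is `O₂(Y)`, and `Y` is 2-local;
* `Root S L` : `S ≤ L`, `V_L = zl S L` elementary abelian, `C_S(V_L) ≤ O₂(L)`, `L` is generated by members of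
  `P*(S)`;
* `Opt V A` : `A` has `|A : C_A(V)| |C_V(A)|` maximal and then `|A : C_A(V)|` minimal;
* `exists_exact` : if `V*` is FF, then a 2-group `A ≤ S` acts on some `V_P`, `P ∈ P*(S)`, as an exact offender and
  `V* = V_P C_{V*}(A)`.
-/

set_option autoImplicit false

namespace Cfsg.Agent.Omega.NOThreeL.Star

open Subgroup Cfsg Cfsg.Agent.ZN Cfsg.Agent.ZN.ChoiceBase
open Cfsg.Agent.Omega.MinPar Cfsg.Agent.Omega.Frame Cfsg.Agent.Omega.FrameNOFF
open Cfsg.Agent.Omega.NO3b.EZero (NotFF cent_symm cj_cent cj_norm cj_eq_cj_iff)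
open Cfsg.Agent.Omega.FFThm (ElemM OffM NoOverM ConclM)
open Cfsg.Agent.MinSimple.VModule (zc_le_zl le_normalizer_zl zl_le zc_le mem_zc le_centralizer_zc zc_sq
  le_normalizer_o2 o2_isPGroup o2_le le_o2)

universe u

variable {G : Type u} [Group G]

/-- `⟨P*(S)⟩` -/
def YS (S : Subgroup G) : Subgroup G := sSup {P | IsParS S P}

theorem le_YS {S P : Subgroup G} (hP : IsParS S P) : P ≤ YS S := le_sSup hP

theorem zl_mono (S : Subgroup G) {A B : Subgroup G} (h : A ≤ B) : zl S A ≤ zl S B :=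
  zl_le (zc_le_zl S B) (h.trans (le_normalizer_zl S B))

section fin

variable [Finite G] {S : Sylow 2 G}

theorem S_le_YS (h : Ctx G) (hF : Full (S : Subgroup G)) : (S : Subgroup G) ≤ YS (S : Subgroup G) := by
  obtain ⟨P, hP⟩ := h.exists_isParS hF
  exact hP.le.trans (le_YS hP)

variable (hc : IsCharacteristicTwoType G) (hm : ¬ FF (S : Subgroup G))
include hc hm

/-- `V*` is abelian. -/
theorem zl_comm : zl (S : Subgroup G) (YS S) ≤ centralizer (zl (S : Subgroup G) (YS S) : Set G) := by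
  have h1 := NoFF.Main.comm_A (sys hc S hm) (inv S)
  have h2 : zl (S : Subgroup G) (YS S) ≤ NoFF.Main.A (zc (S : Subgroup G))
      (normalizer ((S : Subgroup G) : Set G)) (PS (S : Subgroup G)) :=
    NoFF.Basic.V_le fun p hp => NoFF.Basic.Z_le_V ((le_sup_right : YS (S : Subgroup G) ≤ _) hp)
  exact NoFF.Basic.comm_mono h1 h2 h2

theorem zl_sq : ∀ v ∈ zl (S : Subgroup G) (YS S), v ^ 2 = 1 := by
  refine NoFF.Lines.Geo.sq_of_comm (zl_comm hc hm)
    (B := fun y : YS (S : Subgroup G) => (zc (S : Subgroup G)).map (MulAut.conj (y : G)).toMonoidHom) ?_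
    le_rfl ?_
  · exact fun y => le_iSup (fun y : YS (S : Subgroup G) =>
      (zc (S : Subgroup G)).map (MulAut.conj (y : G)).toMonoidHom) y
  · rintro y _ ⟨x, hx, rfl⟩
    rw [← map_pow, zc_sq _ x hx, map_one]

omit hm in
/-- `C_S(V*)` is normalised by `Y`. -/
theorem le_norm_cs : YS (S : Subgroup G) ≤
    normalizer (((S : Subgroup G) ⊓ centralizer (zl (S : Subgroup G) (YS S) : Set G) : Subgroup G) : Set G) := by
  refine sSup_le fun P hP => ?_
  have hVP : zl (S : Subgroup G) P ≤ zl (S : Subgroup G) (YS S) := zl_mono _ (le_YS hP)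
  have key : ∀ p ∈ P, ∀ x ∈ (S : Subgroup G) ⊓ centralizer (zl (S : Subgroup G) (YS S) : Set G),
      p * x * p⁻¹ ∈ (S : Subgroup G) ⊓ centralizer (zl (S : Subgroup G) (YS S) : Set G) := by
    intro p hp x hx
    refine ⟨?_, ?_⟩
    · have h1 : x ∈ o2 P := mem_o2_of_cent hc S hP hx.1 (centralizer_le hVP hx.2)
      exact hP.isLoc.o2_le S ((mem_normalizer_iff.1 (le_normalizer_o2 P hp) x).1 h1)
    · refine mem_centralizer_iff.2 fun v hv => ?_
      have h2 := (mem_normalizer_iff''.1 (le_normalizer_zl (S : Subgroup G) (YS S) (le_YS hP hp)) v).1 hv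
      have h3 := mem_centralizer_iff.1 hx.2 _ h2
      have e1 : v * (p * x * p⁻¹) = p * ((p⁻¹ * v * p) * x) * p⁻¹ := by group
      have e2 : p * x * p⁻¹ * v = p * (x * (p⁻¹ * v * p)) * p⁻¹ := by group
      rw [e1, e2, h3]
  intro p hp
  rw [mem_normalizer_iff]
  intro x
  refine ⟨key p hp x, fun hx => ?_⟩
  have h1 := key p⁻¹ (P.inv_mem hp) _ hx
  have e : p⁻¹ * (p * x * p⁻¹) * p⁻¹⁻¹ = x := by group
  rwa [e] at h1

omit hm in
theorem cs_le_o2 (hSY : (S : Subgroup G) ≤ YS S) :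
    (S : Subgroup G) ⊓ centralizer (zl (S : Subgroup G) (YS S) : Set G) ≤ o2 (YS (S : Subgroup G)) :=
  le_o2 (inf_le_left.trans hSY) (S.isPGroup'.to_le inf_le_left) (le_norm_cs hc)

theorem isLoc (hSY : (S : Subgroup G) ≤ YS S) (hS : (S : Subgroup G) ≠ ⊥) :
    IsLoc (S : Subgroup G) (YS S) := by
  refine ⟨hSY, fun h0 => MinSimple.Basic.zc_ne_bot S.isPGroup' hS ?_⟩
  have h1 : zc (S : Subgroup G) ≤ (S : Subgroup G) ⊓ centralizer (zl (S : Subgroup G) (YS S) : Set G) :=
    le_inf (zc_le _) ((zc_le_zl _ _).trans (zl_comm hc hm))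
  exact le_bot_iff.1 (h0 ▸ h1.trans (cs_le_o2 hc hSY))

end fin

/-! ### Optimal offenders -/

/-- `|A : C_A(V)| |C_V(A)|` -/
noncomputable def ff (V A : Subgroup G) : ℕ :=
  (centralizer (V : Set G)).relIndex A * Nat.card ↥(V ⊓ centralizer (A : Set G))

/-- `A` is a 2-group which acts on `V` as an elementary abelian group. -/
structure Ok (V A : Subgroup G) : Prop extends ElemM V A where
  pg : IsPGroup 2 A
  norm : A ≤ normalizer (V : Set G)

/-- `A` acts on `V`, `|A : C_A(V)| |C_V(A)|` is maximal and then `|A : C_A(V)|` is minimal. -/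
structure Opt (V A : Subgroup G) : Prop extends Ok V A where
  ne : ¬ A ≤ centralizer (V : Set G)
  max : ∀ B, Ok V B → ff V B ≤ ff V A
  min : ∀ B, Ok V B → ¬ B ≤ centralizer (V : Set G) → ff V B = ff V A →
    (centralizer (V : Set G)).relIndex A ≤ (centralizer (V : Set G)).relIndex B

section opt

variable {V A : Subgroup G}

theorem ff_cj {g : G} (hg : g ∈ normalizer (V : Set G)) : ff V (cj g A) = ff V A := by
  have hV : cj g V = V := cj_eq_of_mem_normalizer hg
  unfold ff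
  congr 1
  · conv_lhs => rw [← hV, ← cj_centralizer]
    exact relIndex_map_map_of_injective _ _ (MulAut.conj g).injective
  · conv_lhs => rw [← cj_centralizer, ← hV, ← cj_inf]
    exact card_cj _ _

theorem rel_cj {g : G} (hg : g ∈ normalizer (V : Set G)) :
    (centralizer (V : Set G)).relIndex (cj g A) = (centralizer (V : Set G)).relIndex A := by
  have hV : cj g V = V := cj_eq_of_mem_normalizer hg
  conv_lhs => rw [← hV, ← cj_centralizer]
  exact relIndex_map_map_of_injective _ _ (MulAut.conj g).injective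

theorem cen_cj {g x : G} (hg : g ∈ normalizer (V : Set G)) (hx : x ∈ centralizer (V : Set G)) :
    g * x * g⁻¹ ∈ centralizer (V : Set G) := by
  rw [mem_centralizer_iff] at hx ⊢
  intro v hv
  have h1 := hx _ ((mem_normalizer_iff''.1 hg v).1 hv)
  have e1 : v * (g * x * g⁻¹) = g * ((g⁻¹ * v * g) * x) * g⁻¹ := by group
  have e2 : g * x * g⁻¹ * v = g * (x * (g⁻¹ * v * g)) * g⁻¹ := by group
  rw [e1, e2, h1]

theorem Ok.cj (h : Ok V A) {g : G} (hg : g ∈ normalizer (V : Set G)) : Ok V (cj g A) := by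
  refine ⟨⟨?_, ?_⟩, isPGroup_cj _ h.pg, ?_⟩
  · rintro _ ⟨a, ha, rfl⟩
    have h1 := cen_cj hg (h.sq a ha)
    change (g * a * g⁻¹) ^ 2 ∈ _
    have e : (g * a * g⁻¹) ^ 2 = g * a ^ 2 * g⁻¹ := by rw [pow_two, pow_two]; group
    rwa [e]
  · rintro _ ⟨a, ha, rfl⟩ _ ⟨b, hb, rfl⟩
    have h1 := cen_cj hg (h.comm a ha b hb)
    change g * a * g⁻¹ * (g * b * g⁻¹) * (g * a * g⁻¹)⁻¹ * (g * b * g⁻¹)⁻¹ ∈ _
    have e : g * a * g⁻¹ * (g * b * g⁻¹) * (g * a * g⁻¹)⁻¹ * (g * b * g⁻¹)⁻¹ =
      g * (a * b * a⁻¹ * b⁻¹) * g⁻¹ := by group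
    rwa [e]
  · have h1 := cj_norm (g := g) h.norm
    rwa [cj_eq_of_mem_normalizer hg] at h1

theorem Opt.cj (h : Opt V A) {g : G} (hg : g ∈ normalizer (V : Set G)) : Opt V (cj g A) := by
  refine ⟨h.toOk.cj hg, fun h0 => h.ne ?_, fun B hB => ?_, fun B hB hB1 hB2 => ?_⟩
  · have hV : ChoiceBase.cj g V = V := cj_eq_of_mem_normalizer hg
    rw [← hV, ← cj_centralizer, cj_le_iff, cj_inv_cj] at h0
    exact h0
  · rw [ff_cj hg]; exact h.max B hB
  · rw [rel_cj hg]
    exact h.min B hB hB1 (by rw [hB2, ff_cj hg])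

theorem Ok.mono (h : Ok V A) {B : Subgroup G} (hBA : B ≤ A) : Ok V B :=
  ⟨⟨fun b hb => h.sq b (hBA hb), fun a ha b hb => h.comm a (hBA ha) b (hBA hb)⟩, h.pg.to_le hBA,
    hBA.trans h.norm⟩

theorem rel_mul_card [Finite G] (A B : Subgroup G) :
    B.relIndex A * Nat.card ↥(A ⊓ B) = Nat.card A := by
  have e := relIndex_inf_mul_relIndex (⊥ : Subgroup G) B A
  rw [relIndex_bot_left, bot_inf_eq, relIndex_bot_left, mul_comm, inf_comm] at e
  exact e

theorem exists_opt [Finite G] (h : ¬ NotFF V) : ∃ A, Opt V A := by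
  unfold NO3b.EZero.NotFF at h
  push Not at h
  obtain ⟨A0, h1, h2, h3, h4, h5, h6⟩ := h
  have ok0 : Ok V A0 := ⟨⟨h3, h4⟩, h1, h2⟩
  have hV0 : Nat.card V ≤ ff V A0 := by
    unfold ff
    rw [← rel_mul_card V (centralizer (A0 : Set G))]
    exact Nat.mul_le_mul_right _ h6
  obtain ⟨A1, ⟨hA1, hA1n⟩, hmax⟩ := Set.exists_max_image {A : Subgroup G | Ok V A ∧ ¬ A ≤ centralizer (V : Set G)}
    (ff V) (Set.toFinite _) ⟨A0, ok0, h5⟩
  obtain ⟨A, ⟨⟨hA, hAn⟩, hAf⟩, hmin⟩ := Set.exists_min_image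
    {A : Subgroup G | (Ok V A ∧ ¬ A ≤ centralizer (V : Set G)) ∧ ff V A = ff V A1}
    (fun A => (centralizer (V : Set G)).relIndex A) (Set.toFinite _) ⟨A1, ⟨hA1, hA1n⟩, rfl⟩
  refine ⟨A, hA, hAn, fun B hB => ?_, fun B hB hB1 hB2 => hmin B ⟨⟨hB, hB1⟩, by rw [hB2, hAf]⟩⟩
  rw [hAf]
  by_cases hBV : B ≤ centralizer (V : Set G)
  · have e1 : V ⊓ centralizer (B : Set G) = V := inf_eq_left.2 (cent_symm hBV)
    have e2 : (centralizer (V : Set G)).relIndex B = 1 := relIndex_eq_one.2 hBV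
    have e3 : ff V B = Nat.card V := by unfold ff; rw [e1, e2, one_mul]
    rw [e3]
    exact hV0.trans (hmax A0 ⟨ok0, h5⟩)
  · exact hmax B ⟨hB, hBV⟩

theorem card_sup_mul [Finite G] {A B V : Subgroup G} (hV : V ≤ centralizer (V : Set G)) (hA : A ≤ V)
    (hB : B ≤ V) : Nat.card ↥(A ⊔ B) * Nat.card ↥(A ⊓ B) = Nat.card A * Nat.card B :=
  Cfsg.Agent.PLocal.ElemAbSup.card_sup_mul_card_inf (hB.trans (hV.trans (centralizer_le hA)))

/-- **Exactness.** -/
theorem Opt.exact [Finite G] {W P : Subgroup G} (h : Opt V A) (hV : V ≤ centralizer (V : Set G)) (hW : W ≤ V)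
    (hne : ¬ A ≤ centralizer (W : Set G)) (hAP : A ≤ P)
    (hno : OffM W A → NoOverM W P) :
    OffM W A ∧ A ⊓ centralizer (W : Set G) ≤ centralizer (V : Set G) ∧
      V = W ⊔ (V ⊓ centralizer (A : Set G)) ∧
      (centralizer (A : Set G)).relIndex V = (centralizer (V : Set G)).relIndex A := by
  set B : Subgroup G := A ⊓ centralizer (W : Set G) with hB
  have okB : Ok V B := h.toOk.mono inf_le_left
  have hmax := h.max B okB
  have hBV : B ⊓ centralizer (V : Set G) = A ⊓ centralizer (V : Set G) := by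
    rw [hB, inf_assoc, inf_eq_right.2 (centralizer_le hW)]
  have hWA : W ⊓ (V ⊓ centralizer (A : Set G)) = W ⊓ centralizer (A : Set G) := by
    rw [← inf_assoc, inf_eq_left.2 hW]
  have s1 := card_sup_mul hV hW (inf_le_left : V ⊓ centralizer (A : Set G) ≤ V)
  rw [hWA] at s1
  have hsup : W ⊔ (V ⊓ centralizer (A : Set G)) ≤ V ⊓ centralizer (B : Set G) := by
    refine sup_le (le_inf hW ?_) (le_inf inf_le_left (inf_le_right.trans (centralizer_le inf_le_left)))
    exact cent_symm inf_le_right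
  have s2 : Nat.card ↥(W ⊔ (V ⊓ centralizer (A : Set G))) ≤ Nat.card ↥(V ⊓ centralizer (B : Set G)) :=
    Subgroup.card_le_of_le hsup
  have r1 := rel_mul_card A (centralizer (V : Set G))
  have r2 := rel_mul_card B (centralizer (V : Set G))
  rw [hBV] at r2
  unfold ff at hmax
  set a := Nat.card A
  set b := Nat.card B
  set c := Nat.card ↥(A ⊓ centralizer (V : Set G))
  set n := Nat.card ↥(V ⊓ centralizer (A : Set G))
  set nB := Nat.card ↥(V ⊓ centralizer (B : Set G))
  set w := Nat.card W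
  set w0 := Nat.card ↥(W ⊓ centralizer (A : Set G))
  set m := Nat.card ↥(W ⊔ (V ⊓ centralizer (A : Set G)))
  set rA := (centralizer (V : Set G)).relIndex A
  set rB := (centralizer (V : Set G)).relIndex B
  have pc : 0 < c := Nat.card_pos
  have pn : 0 < n := Nat.card_pos
  have pw0 : 0 < w0 := Nat.card_pos
  have pb : 0 < b := Nat.card_pos
  have pa : 0 < a := Nat.card_pos
  have i1 : b * nB ≤ a * n := by
    calc b * nB = (rB * nB) * c := by rw [← r2]; ring
      _ ≤ (rA * n) * c := Nat.mul_le_mul_right _ hmax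
      _ = a * n := by rw [← r1]; ring
  have i2 : b * (w * n) ≤ a * n * w0 := by
    calc b * (w * n) = b * m * w0 := by rw [← s1]; ring
      _ ≤ b * nB * w0 := Nat.mul_le_mul_right _ (Nat.mul_le_mul_left _ s2)
      _ ≤ a * n * w0 := Nat.mul_le_mul_right _ i1
  have i3 : w * b ≤ a * w0 := by
    have : (w * b) * n ≤ (a * w0) * n := by
      calc (w * b) * n = b * (w * n) := by ring
        _ ≤ a * n * w0 := i2
        _ = (a * w0) * n := by ring
    exact Nat.le_of_mul_le_mul_right this pn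
  have hoff : OffM W A := by
    refine ⟨⟨fun x hx => centralizer_le hW (h.sq x hx), fun x hx y hy => centralizer_le hW (h.comm x hx y hy)⟩,
      hne, i3⟩
  have i4 : a * w0 ≤ w * b := hno hoff A hAP hoff.toElemM
  have e1 : w * b = a * w0 := le_antisymm i3 i4
  have i5 : a * n ≤ b * nB := by
    have : (a * n) * w0 ≤ (b * nB) * w0 := by
      calc (a * n) * w0 = (w * b) * n := by rw [e1]; ring
        _ = b * m * w0 := by
          have : b * m * w0 = b * (m * w0) := by ring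
          rw [this, s1]; ring
        _ ≤ b * nB * w0 := Nat.mul_le_mul_right _ (Nat.mul_le_mul_left _ s2)
    exact Nat.le_of_mul_le_mul_right this pw0
  have e2 : b * nB = a * n := le_antisymm i1 i5
  have e3 : rB * nB = rA * n := by
    have : (rB * nB) * c = (rA * n) * c := by
      calc (rB * nB) * c = b * nB := by rw [← r2]; ring
        _ = a * n := e2
        _ = (rA * n) * c := by rw [← r1]; ring
    exact Nat.eq_of_mul_eq_mul_right pc this
  have hBc : B ≤ centralizer (V : Set G) := by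
    by_contra hcon
    have h1 := h.min B okB hcon (by unfold ff; exact e3)
    have h2 : a ≤ b := by
      rw [← r1, ← r2]; exact Nat.mul_le_mul_right _ h1
    have h3 : B = A := Subgroup.eq_of_le_of_card_ge inf_le_left h2
    exact hne (h3 ▸ inf_le_right)
  have hnB : V ⊓ centralizer (B : Set G) = V := inf_eq_left.2 (cent_symm hBc)
  have hnB' : nB = Nat.card V := by rw [← hnB]
  have hbc : b = c := by
    change Nat.card B = Nat.card ↥(A ⊓ centralizer (V : Set G))
    rw [← hBV, inf_eq_left.2 hBc]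
  have e4 : m = Nat.card V := by
    have : m * (w0 * b) = Nat.card V * (w0 * b) := by
      calc m * (w0 * b) = (m * w0) * b := by ring
        _ = (w * b) * n := by rw [s1]; ring
        _ = w0 * (a * n) := by rw [e1]; ring
        _ = Nat.card V * (w0 * b) := by rw [← e2, hnB']; ring
    exact Nat.eq_of_mul_eq_mul_right (Nat.mul_pos pw0 pb) this
  refine ⟨hoff, hBc, (Subgroup.eq_of_le_of_card_ge (sup_le hW inf_le_left) e4.ge).symm, ?_⟩
  have r3 := rel_mul_card V (centralizer (A : Set G))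
  have : (centralizer (A : Set G)).relIndex V * (n * c) = rA * (n * c) := by
    calc (centralizer (A : Set G)).relIndex V * (n * c) = ((centralizer (A : Set G)).relIndex V * n) * c := by ring
      _ = Nat.card V * b := by rw [r3, hbc]
      _ = a * n := by rw [← hnB', ← e2]; ring
      _ = rA * (n * c) := by rw [← r1]; ring
  exact Nat.eq_of_mul_eq_mul_right (Nat.mul_pos pn pc) this

end opt

/-! ### The exact offender -/

section exact

variable [Finite G] {S : Sylow 2 G}

/-- If an offender in `S` centralises all `V_P`, it is in all `S^y`, `y ∈ Y`. -/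
theorem conj_le_of_all (hc : IsCharacteristicTwoType G) {V : Subgroup G}
    (hV : V = zl (S : Subgroup G) (YS S))
    (hall : ∀ A : Subgroup G, Opt V A → A ≤ (S : Subgroup G) → ∀ P : Subgroup G, IsParS (S : Subgroup G) P →
      A ≤ centralizer (zl (S : Subgroup G) P : Set G)) {y : G} (hy : y ∈ YS (S : Subgroup G)) :
    y ∈ normalizer (V : Set G) ∧ ∀ A : Subgroup G, Opt V A → A ≤ (S : Subgroup G) →
      cj y A ≤ (S : Subgroup G) := by
  have hy' : y ∈ ⨆ P : {P : Subgroup G // IsParS (S : Subgroup G) P}, (P : Subgroup G) := by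
    unfold YS at hy
    rwa [sSup_eq_iSup'] at hy
  refine Subgroup.iSup_induction (S := fun P : {P : Subgroup G // IsParS (S : Subgroup G) P} => (P : Subgroup G))
    (C := fun y => y ∈ normalizer (V : Set G) ∧ ∀ A : Subgroup G, Opt V A → A ≤ (S : Subgroup G) →
      cj y A ≤ (S : Subgroup G)) hy' ?_ ?_ ?_
  · rintro ⟨P, hP⟩ p hp
    refine ⟨?_, fun A hA hAS => ?_⟩
    · rw [hV]; exact le_normalizer_zl _ _ (le_YS hP hp)
    · rintro _ ⟨a, ha, rfl⟩
      have h1 : a ∈ o2 P := mem_o2_of_cent hc S hP (hAS ha) (hall A hA hAS P hP ha)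
      exact hP.isLoc.o2_le S ((mem_normalizer_iff.1 (le_normalizer_o2 P hp) a).1 h1)
  · exact ⟨one_mem _, fun A _ hAS => by rwa [cj_one]⟩
  · rintro x y ⟨hx1, hx2⟩ ⟨hy1, hy2⟩
    refine ⟨mul_mem hx1 hy1, fun A hA hAS => ?_⟩
    rw [← cj_cj]
    exact hx2 _ (hA.cj hy1) (hy2 A hA hAS)

/-- **The exact offender** (#15808 (L0) for `F = P*(S)`). -/
theorem exists_exact (hFF : FFThm.StmtM.{u}) (hc : IsCharacteristicTwoType G) (hm : ¬ FF (S : Subgroup G))
    {V : Subgroup G} (hV : V = zl (S : Subgroup G) (YS S)) (hSY : (S : Subgroup G) ≤ YS S)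
    (hn : ¬ NotFF V) :
    ∃ P A : Subgroup G, IsParS (S : Subgroup G) P ∧ A ≤ (S : Subgroup G) ∧ Opt V A ∧
      OffM (zl (S : Subgroup G) P) A ∧
      A ⊓ centralizer (zl (S : Subgroup G) P : Set G) ≤ centralizer (V : Set G) ∧
      V = zl (S : Subgroup G) P ⊔ (V ⊓ centralizer (A : Set G)) ∧
      (centralizer (A : Set G)).relIndex V = (centralizer (V : Set G)).relIndex A := by
  have hYV : YS (S : Subgroup G) ≤ normalizer (V : Set G) := by rw [hV]; exact le_normalizer_zl _ _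
  have hVc : V ≤ centralizer (V : Set G) := by rw [hV]; exact zl_comm hc hm
  obtain ⟨A0, hA0⟩ := exists_opt hn
  obtain ⟨n, hnV, hnS⟩ := FFThm.exists_conj_le S (hSY.trans hYV) hA0.pg hA0.norm
  have hA1 := hA0.cj hnV
  by_contra hcon
  have hall : ∀ A : Subgroup G, Opt V A → A ≤ (S : Subgroup G) → ∀ P : Subgroup G,
      IsParS (S : Subgroup G) P → A ≤ centralizer (zl (S : Subgroup G) P : Set G) := by
    intro A hA hAS P hP
    by_contra hne
    apply hcon
    have hW : zl (S : Subgroup G) P ≤ V := by rw [hV]; exact zl_mono _ (le_YS hP)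
    obtain ⟨h1, h2, h3, h4⟩ := hA.exact (P := P) hVc hW hne (hAS.trans hP.le) fun hoff =>
      (hFF G (S : Subgroup G) P (MinSimple.EmptyTI.syl_of_le hP.le) hP.toIsMinPar (hP.isLoc.char2 S hc)
        ⟨A, hAS.trans hP.le, hoff⟩).1
    exact ⟨P, A, hP, hAS, hA, h1, h2, h3, h4⟩
  refine hA1.ne (cent_symm ?_)
  have hle : zl (S : Subgroup G) (YS S) ≤ centralizer (cj n A0 : Set G) := by
    refine iSup_le fun y => ?_
    have h1 := (conj_le_of_all hc hV hall (inv_mem y.2)).2 _ hA1 hnS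
    have h2 : cj n A0 ≤ cj (y : G) (S : Subgroup G) := by
      have h3 := cj_mono (y : G) h1
      rwa [cj_cj_inv] at h3
    exact cent_symm (h2.trans (cj_cent (g := (y : G)) (le_centralizer_zc _)))
  exact hV.le.trans hle

end exact

end Cfsg.Agent.Omega.NOThreeL.Star
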