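import Cfsg.Agent.Omega.NOThreeL.Main
import Cfsg.Agent.Omega.NOThreeL.Star
import Cfsg.Agent.Omega.Node.NO3S

/-!
# NO-3L and NO-3S.NotFF have a common frame (#16235 helper999, #16346 helper672, #16966 helper597, #17343 helper863)

`S` a Sylow 2-subgroup, `Z = Ω₁(Z(S))`, `C = C_G(Z)`, `Q = O₂(C)`, `M₀ = MZ S = ⟨P*(S)⟩ = Star.YS S`,
`V* = zl S M₀ = ⟨Z^M₀⟩`.

* `HypG S M` : `S ≤ M`, `O₂(M) ≠ 1`, `M = ⟨P ∈ P*(S) : P ≤ M⟩`, `⟨M, C⟩` nonlocal, `V_M = ⟨Z^M⟩ ≤ Q` is not an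
  FF-module (no offender in `S`), NOFF and `V_P ≤ Q` for all `P ∈ P*(S)`;
* `NotFFG K` : the common socket;
* `notFF_of` : `NotFFG K` gives the socket `NO3S.NotFF K` of NO-3S (`M = P`);
* `isLoc_MZ`, `nonLoc_MZ` : `M₀` is local (galleries), `⟨M₀, C⟩` is nonlocal;
* `VF` : THEOREM VF = THEOREM NF (K-free): in NO-3L with `C_Z(P) = 1` for all `P ∈ P*(S)` the module `V*` is
  not FF; `VF.of_notFF` : from `NO3b.EZero.NotFF (zl S (Star.YS S))`;
* `LOW K` : not (A), and `V* ≰ Q`;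
* `RG K` : `C_Z(P) ≠ 1` for some `P ∈ P*(S)`, and `V*` is FF or `V* ≰ Q`;
* `caseB_of`, `r_of` : the sockets `Main.CaseB`, `Main.R` of NO-3L from `NotFFG K`, `VF`, `LOW K`, `RG K`.
-/

set_option autoImplicit false

namespace Cfsg.Agent.Omega.NOThreeL.Merge

open Subgroup Cfsg Cfsg.Agent.ZN Cfsg.Agent.Omega.MinPar Cfsg.Agent.Omega.Frame Cfsg.Agent.Omega.FrameNOFF
open Cfsg.Agent.Omega.Node.NO3L Cfsg.Agent.Omega.NOThreeL.Basic
open Cfsg.Agent.Omega.NO3S (FFMod HypC)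
open Cfsg.Agent.Omega.NoFF.Basic (V conj_le_iff Z_le_V V_le)
open Cfsg.Agent.MinSimple.VModule (zl_le le_normalizer_zl zc_le_zl zc_le)
open scoped Pointwise

universe u

/-- `M₀ = ⟨P*(S)⟩`. -/
def MZ {G : Type u} [Group G] (S : Subgroup G) : Subgroup G := sSup (PS S)

/-- **The common hypotheses of NO-3S.NotFF (`M = P`) and NO-3L (`M = ⟨P*(S)⟩`).** -/
structure HypG {G : Type u} [Group G] [Finite G] (S : Sylow 2 G) (M : Subgroup G) : Prop where
  ctx : Ctx G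
  full : Full (S : Subgroup G)
  noFF : ¬ FF (S : Subgroup G)
  low : ∀ R : Subgroup G, IsParS (S : Subgroup G) R →
    zl (S : Subgroup G) R ≤ o2 (CZ (S : Subgroup G))
  loc : IsLoc (S : Subgroup G) M
  gen : M ≤ sSup {P : Subgroup G | IsParS (S : Subgroup G) P ∧ P ≤ M}
  nonLoc : NonLoc M (CZ (S : Subgroup G))
  lowM : zl (S : Subgroup G) M ≤ o2 (CZ (S : Subgroup G))
  nff : ¬ FFMod (S : Subgroup G) M

section sockets

variable (K : Cls.{u})

/-- **NotFFG**: the common socket. -/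
def NotFFG : Prop :=
  ∀ (G : Type u) [Group G] [Finite G], K G → ∀ (S : Sylow 2 G) (M : Subgroup G), HypG S M →
    IsKnownSimple' G

/-- **THEOREM VF** (K-free): in NO-3L with `C_Z(P) = 1` for all `P ∈ P*(S)`, `⟨Z^M₀⟩` is not FF. -/
def VF : Prop :=
  ∀ (G : Type u) [Group G] [Finite G], Ctx G → ∀ (S : Sylow 2 G), Full (S : Subgroup G) →
    DataZ (S : Subgroup G) → ¬ FFMod (S : Subgroup G) (MZ (S : Subgroup G))

/-- **LOW**: not (A), and `V* = ⟨Z^M₀⟩` is not contained in `Q = O₂(C_G(Z))`. -/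
def LOW : Prop :=
  ∀ (G : Type u) [Group G] [Finite G], Ctx G → K G → ∀ (S : Sylow 2 G), Full (S : Subgroup G) →
    DataZ (S : Subgroup G) → ¬ CaseA (S : Subgroup G) →
      ¬ zl (S : Subgroup G) (MZ (S : Subgroup G)) ≤ o2 (CZ (S : Subgroup G)) → IsKnownSimple' G

/-- **R**: `C_Z(P) ≠ 1` for some `P ∈ P*(S)`, and `V* = ⟨Z^M₀⟩` is an FF-module or `V* ≰ Q`. -/
def RG : Prop :=
  ∀ (G : Type u) [Group G] [Finite G], Ctx G → K G → ∀ (S : Sylow 2 G), Full (S : Subgroup G) →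
    Data (S : Subgroup G) → (FFMod (S : Subgroup G) (MZ (S : Subgroup G)) ∨
      ¬ zl (S : Subgroup G) (MZ (S : Subgroup G)) ≤ o2 (CZ (S : Subgroup G))) →
      ∀ P : Subgroup G, IsParS (S : Subgroup G) P →
        zc (S : Subgroup G) ⊓ centralizer (P : Set G) ≠ ⊥ → IsKnownSimple' G

end sockets

/-! ### NO-3S -/

theorem HypG.of_par {G : Type u} [Group G] [Finite G] {S : Sylow 2 G} {P : Subgroup G} (h : HypC S)
    (hP : IsParS (S : Subgroup G) P) (hn : NonLoc P (CZ (S : Subgroup G)))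
    (hff : ¬ FFMod (S : Subgroup G) P) : HypG S P where
  ctx := h.ctx
  full := h.full
  noFF := h.noFF
  low := h.low
  loc := hP.isLoc
  gen := le_sSup ⟨hP, le_rfl⟩
  nonLoc := hn
  lowM := h.low P hP
  nff := hff

/-- **The socket `NO3S.NotFF` from the common socket.** -/
theorem notFF_of {K : Cls.{u}} (h : NotFFG K) : NO3S.NotFF K := by
  intro G _ _ hK S hC hff
  obtain ⟨P, hP, hn⟩ := hC.ex
  exact h G hK S P (HypG.of_par hC hP hn (hff P hP hn))

/-! ### NO-3L -/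

section no3L

variable {G : Type u} [Group G] [Finite G] {S : Sylow 2 G}

omit [Finite G] in
theorem le_MZ {P : Subgroup G} (hP : IsParS (S : Subgroup G) P) : P ≤ MZ (S : Subgroup G) := le_sSup hP

theorem S_le_MZ (hG : Ctx G) (hF : Full (S : Subgroup G)) :
    (S : Subgroup G) ≤ MZ (S : Subgroup G) := by
  obtain ⟨P, hP⟩ := hG.exists_isParS hF
  exact hP.isLoc.le.trans (le_MZ hP)

omit [Finite G] in
theorem MZ_le_X : MZ (S : Subgroup G) ≤
    NoFF.Main.X (normalizer ((S : Subgroup G) : Set G)) (PS (S : Subgroup G)) := le_sup_right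

theorem zl_MZ_le : zl (S : Subgroup G) (MZ (S : Subgroup G)) ≤
    NoFF.Main.A (zc (S : Subgroup G)) (normalizer ((S : Subgroup G) : Set G)) (PS (S : Subgroup G)) :=
  V_le fun _ hx => Z_le_V (MZ_le_X hx)

/-- `V* = ⟨Z^M₀⟩` is abelian. -/
theorem zl_MZ_comm (hG : Ctx G) (hm : ¬ FF (S : Subgroup G)) :
    zl (S : Subgroup G) (MZ (S : Subgroup G)) ≤
      centralizer (zl (S : Subgroup G) (MZ (S : Subgroup G)) : Set G) :=
  NoFF.Basic.comm_mono (NoFF.Main.comm_A (sys hG.char2 S hm) (inv S)) zl_MZ_le zl_MZ_le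

theorem zl_MZ_isPGroup (hG : Ctx G) (hm : ¬ FF (S : Subgroup G)) :
    IsPGroup 2 (zl (S : Subgroup G) (MZ (S : Subgroup G))) :=
  (NoFF.Main.isPGroup (sys hG.char2 S hm) (inv S) (S.isPGroup'.to_le (zc_le _))).to_le zl_MZ_le

/-- **`M₀` is local.** -/
theorem isLoc_MZ (hG : Ctx G) (hF : Full (S : Subgroup G)) (hm : ¬ FF (S : Subgroup G)) :
    IsLoc (S : Subgroup G) (MZ (S : Subgroup G)) := by
  have hS := S_le_MZ hG hF
  refine ⟨hS, o2_ne_bot_of_le (zl_MZ_isPGroup hG hm) ?_ ?_ (le_normalizer_zl _ _)⟩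
  · intro h
    refine MinSimple.Basic.zc_ne_bot S.isPGroup' (hG.sylow_ne_bot S) (le_bot_iff.1 ?_)
    exact h ▸ zc_le_zl _ _
  · exact zl_le ((zc_le _).trans hS) Subgroup.le_normalizer

/-- **`⟨M₀, C⟩` is nonlocal.** -/
theorem nonLoc_MZ (hG : Ctx G) (hF : Full (S : Subgroup G)) :
    NonLoc (MZ (S : Subgroup G)) (CZ (S : Subgroup G)) := fun _ hU h1 h2 =>
  eq_bot_of_norm hG S hF hU (fun _ hP => (le_MZ hP).trans h1) h2

theorem HypG.of_data (hG : Ctx G) (hF : Full (S : Subgroup G)) (D : Data (S : Subgroup G))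
    (hlow : zl (S : Subgroup G) (MZ (S : Subgroup G)) ≤ o2 (CZ (S : Subgroup G)))
    (hff : ¬ FFMod (S : Subgroup G) (MZ (S : Subgroup G))) : HypG S (MZ (S : Subgroup G)) where
  ctx := hG
  full := hF
  noFF := D.noff
  low := D.low
  loc := isLoc_MZ hG hF D.noff
  gen := sSup_le fun _ hP => le_sSup ⟨hP, le_MZ hP⟩
  nonLoc := nonLoc_MZ hG hF
  lowM := hlow
  nff := hff

/-- `NotFF V` (no offender in the whole of `N_G(V)`) gives `¬ FFMod S M`. -/
theorem not_ffMod {M : Subgroup G} (hM : (S : Subgroup G) ≤ M)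
    (h : NO3b.EZero.NotFF (zl (S : Subgroup G) M)) : ¬ FFMod (S : Subgroup G) M := by
  rintro ⟨A, hA, hoff⟩
  have h1 := h A (S.isPGroup'.to_le hA) ((hA.trans hM).trans (le_normalizer_zl _ _)) hoff.sq hoff.comm hoff.ne
  exact absurd (FFThm.relIndex_le_iff.1 hoff.le) (not_le.2 h1)

end no3L

/-- THEOREM VF in the form of helper863's THEOREM NF. -/
theorem VF.of_notFF
    (h : ∀ (G : Type u) [Group G] [Finite G], Ctx G → ∀ (S : Sylow 2 G), Full (S : Subgroup G) →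
      DataZ (S : Subgroup G) → NO3b.EZero.NotFF (zl (S : Subgroup G) (Star.YS (S : Subgroup G)))) : VF.{u} :=
  fun G _ _ hG S hF D => not_ffMod (S_le_MZ hG hF) (h G hG S hF D)

/-- **not (A)** from the common socket. -/
theorem caseB_of {K : Cls.{u}} (h : NotFFG K) (vf : VF.{u}) (low : LOW K) : Main.CaseB K := by
  intro G _ _ hG hcl S hF D hA
  by_cases hlow : zl (S : Subgroup G) (MZ (S : Subgroup G)) ≤ o2 (CZ (S : Subgroup G))
  · exact h G hcl S _ (HypG.of_data hG hF D.toData hlow (vf G hG S hF D))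
  · exact low G hG hcl S hF D hA hlow

/-- **R** from the common socket. -/
theorem r_of {K : Cls.{u}} (h : NotFFG K) (r : RG K) : Main.R K := by
  intro G _ _ hG hcl S hF D P hP hz
  by_cases hlow : zl (S : Subgroup G) (MZ (S : Subgroup G)) ≤ o2 (CZ (S : Subgroup G))
  · by_cases hff : FFMod (S : Subgroup G) (MZ (S : Subgroup G))
    · exact r G hG hcl S hF D (Or.inl hff) P hP hz
    · exact h G hcl S _ (HypG.of_data hG hF D hlow hff)
  · exact r G hG hcl S hF D (Or.inr hlow) P hP hz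

end Cfsg.Agent.Omega.NOThreeL.Merge
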