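import Cfsg.Agent.Omega.MinPar
import Cfsg.Agent.Omega.VP

/-!
# NO-3L (K5) (helper111, #14328): `S`-invariant four-groups on `z` are lines

`S : Sylow 2 G`, `Ω₁(Z(S)) = ⟨z⟩`, `E` a four-group normalised by `S` which contains `z` and a second conjugate
`e ≠ z` of `z`.

* `zc_inf`: `Ω₁(Z(C_S(e))) = E`;
* `exists_swap`: `N_G(E)` contains `t` with `e ^ t = e`, `z ^ t = z e`;
* `conj_all`: `N_G(E)` is transitive on the involutions of `E`;
* `exists_par`: `E = V_P` for some `P ∈ P*(S)`, `P ≤ N_G(E)`.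
-/

set_option autoImplicit false

namespace Cfsg.Agent.Omega.NOThreeL.FourLine

open Subgroup Cfsg Cfsg.Agent.ZN Cfsg.Agent.Omega.MinPar
open Cfsg.Agent.MinSimple.VModule (mem_zc zc_le zc_sq zc_comm le_centralizer_zc zc_le_zl zl_le
  le_normalizer_zl normalizer_le_normalizer_zc)

universe u

variable {G : Type u} [Group G]

/-- The hypotheses of (K5). -/
structure Four (S : Sylow 2 G) (z e : G) (E : Subgroup G) : Prop where
  zc_eq : zc (S : Subgroup G) = zpowers z
  z_ne : z ≠ 1
  sq : ∀ x ∈ E, x * x = 1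
  card : Nat.card E = 4
  zE : z ∈ E
  eE : e ∈ E
  ne : e ≠ z
  conj : ∃ g : G, g * z * g⁻¹ = e
  norm : (S : Subgroup G) ≤ normalizer (E : Set G)

theorem mem_zpowers_iff {z x : G} (hz : z * z = 1) : x ∈ zpowers z ↔ x = 1 ∨ x = z := by
  constructor
  · rintro ⟨k, rfl⟩
    rcases Int.even_or_odd k with ⟨m, hm⟩ | ⟨m, hm⟩
    · left
      change z ^ k = 1
      rw [hm, zpow_add, ← mul_zpow' hz]
    · right
      change z ^ k = z
      rw [hm, zpow_add, zpow_one, two_mul, zpow_add, ← mul_zpow' hz, one_mul]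
  · rintro (rfl | rfl)
    · exact one_mem _
    · exact mem_zpowers _
where
  mul_zpow' {z : G} (hz : z * z = 1) {m : ℤ} : (1 : G) = z ^ m * z ^ m := by
    rw [← zpow_add, ← two_mul, zpow_mul, zpow_two, hz, one_zpow]

namespace Four

variable {S : Sylow 2 G} {z e : G} {E : Subgroup G}

theorem zz (h : Four S z e E) : z * z = 1 := h.sq z h.zE

theorem ee (h : Four S z e E) : e * e = 1 := h.sq e h.eE

theorem e_ne (h : Four S z e E) : e ≠ 1 := by
  obtain ⟨g, hg⟩ := h.conj
  rintro rfl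
  apply h.z_ne
  have : z = g⁻¹ * 1 * g := by rw [← hg]; group
  rw [this]; group

theorem comm (h : Four S z e E) {x y : G} (hx : x ∈ E) (hy : y ∈ E) : x * y = y * x := by
  have h5 : (x * y)⁻¹ = x * y := inv_eq_of_mul_eq_one_left (h.sq _ (mul_mem hx hy))
  rw [mul_inv_rev, inv_eq_of_mul_eq_one_left (h.sq x hx), inv_eq_of_mul_eq_one_left (h.sq y hy)] at h5
  exact h5.symm

theorem ze_ne (h : Four S z e E) : z * e ≠ 1 := fun h1 => h.ne (by
  have : e = z⁻¹ := eq_inv_of_mul_eq_one_right h1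
  rw [this, inv_eq_of_mul_eq_one_left h.zz])

theorem mem_cases [Finite G] (h : Four S z e E) {x : G} (hx : x ∈ E) :
    x = 1 ∨ x = z ∨ x = e ∨ x = z * e := by
  have h1 : ({1, z, e, z * e} : Set G) ⊆ (E : Set G) := by
    rintro y (rfl | rfl | rfl | rfl)
    · exact one_mem _
    · exact h.zE
    · exact h.eE
    · exact mul_mem h.zE h.eE
  have n1 : e ≠ z * e := fun h2 => h.z_ne (by simpa using h2.symm)
  have n2 : z ≠ z * e := fun h2 => h.e_ne (by simpa using h2.symm)
  have n3 : z ∉ ({e, z * e} : Set G) := by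
    rintro (h2 | h2)
    · exact h.ne h2.symm
    · exact n2 h2
  have n4 : (1 : G) ∉ ({z, e, z * e} : Set G) := by
    rintro (h2 | h2 | h2)
    · exact h.z_ne h2.symm
    · exact h.e_ne h2.symm
    · exact h.ze_ne h2.symm
  have h2 : ({1, z, e, z * e} : Set G).ncard = 4 := by
    rw [Set.ncard_insert_of_notMem n4 (Set.toFinite _), Set.ncard_insert_of_notMem n3 (Set.toFinite _),
      Set.ncard_pair n1]
  have h3 : ({1, z, e, z * e} : Set G) = (E : Set G) := by
    refine Set.eq_of_subset_of_ncard_le h1 ?_ (Set.toFinite _)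
    rw [h2, ← Nat.card_coe_set_eq]
    exact h.card.le
  have h4 : x ∈ ({1, z, e, z * e} : Set G) := by rw [h3]; exact hx
  simpa using h4

theorem isPGroup (h : Four S z e E) : IsPGroup 2 E := by
  intro x
  refine ⟨1, ?_⟩
  ext
  simp only [pow_one, Subgroup.coe_pow, OneMemClass.coe_one]
  rw [pow_two]
  exact h.sq x x.2

theorem E_le (h : Four S z e E) : E ≤ (S : Subgroup G) := le_of_le_normalizer S h.isPGroup h.norm

theorem sz (h : Four S z e E) {s : G} (hs : s ∈ (S : Subgroup G)) : s * z = z * s := by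
  have h1 : z ∈ zc (S : Subgroup G) := by rw [h.zc_eq]; exact mem_zpowers z
  have h2 := le_centralizer_zc (S : Subgroup G) hs
  exact (mem_centralizer_iff.mp h2 z h1).symm

theorem mem_zcS (h : Four S z e E) {x : G} : x ∈ zc (S : Subgroup G) ↔ x = 1 ∨ x = z := by
  rw [h.zc_eq, mem_zpowers_iff h.zz]

theorem exists_move (h : Four S z e E) : ∃ s ∈ (S : Subgroup G), s * e ≠ e * s := by
  by_contra hcon
  push Not at hcon
  have h1 : e ∈ zc (S : Subgroup G) := by
    rw [mem_zc]
    refine ⟨h.E_le h.eE, ?_, by rw [pow_two, h.ee]⟩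
    intro y hy
    exact hcon y hy
  rcases h.mem_zcS.mp h1 with h2 | h2
  · exact h.e_ne h2
  · exact h.ne h2

/-- `C_S(e)` -/
def S0 (S : Sylow 2 G) (e : G) : Subgroup G := (S : Subgroup G) ⊓ centralizer ({e} : Set G)

theorem mem_S0 {x : G} : x ∈ S0 S e ↔ x ∈ (S : Subgroup G) ∧ x * e = e * x := by
  rw [S0, Subgroup.mem_inf, mem_centralizer_singleton_iff]

theorem S0_comm (h : Four S z e E) [Finite G] {s x : G} (hs : s ∈ S0 S e) (hx : x ∈ E) : s * x = x * s := by
  have hs' := mem_S0.mp hs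
  have h1 := h.sz hs'.1
  rcases h.mem_cases hx with rfl | rfl | rfl | rfl
  · simp
  · exact h1
  · exact hs'.2
  · rw [← mul_assoc, h1, mul_assoc, hs'.2, mul_assoc]

/-- an element of `S` moving `e` maps it to `z e` -/
theorem conj_e (h : Four S z e E) [Finite G] {s : G} (hs : s ∈ (S : Subgroup G)) (hse : s * e ≠ e * s) :
    s * e * s⁻¹ = z * e := by
  have h1 : s * e * s⁻¹ ∈ E := (mem_normalizer_iff.mp (h.norm hs) e).mp h.eE
  rcases h.mem_cases h1 with h2 | h2 | h2 | h2
  · exfalso; exact h.e_ne (by have := conj_eq_one_iff.mp h2; exact this)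
  · exfalso
    apply h.ne
    have h3 : e = s⁻¹ * z * s := by rw [← h2]; group
    rw [h3, mul_assoc, ← h.sz hs, ← mul_assoc, inv_mul_cancel, one_mul]
  · exfalso
    apply hse
    calc s * e = (s * e * s⁻¹) * s := by group
      _ = e * s := by rw [h2]
  · exact h2

theorem mul_mem_S0 (h : Four S z e E) [Finite G] {s t : G} (hs : s ∈ (S : Subgroup G)) (hse : s * e ≠ e * s)
    (ht : t ∈ (S : Subgroup G)) (hte : t * e ≠ e * t) : s * t ∈ S0 S e := by
  refine mem_S0.mpr ⟨mul_mem hs ht, ?_⟩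
  have h1 := h.conj_e hs hse
  have h2 := h.conj_e ht hte
  have h3 : s * t * e * (s * t)⁻¹ = e := by
    calc s * t * e * (s * t)⁻¹ = s * (t * e * t⁻¹) * s⁻¹ := by group
      _ = (s * z * s⁻¹) * (s * e * s⁻¹) := by rw [h2]; group
      _ = z * (z * e) := by rw [h1, h.sz hs, mul_inv_cancel_right]
      _ = e := by rw [← mul_assoc, h.zz, one_mul]
  calc s * t * e = (s * t * e * (s * t)⁻¹) * (s * t) := by group
    _ = e * (s * t) := by rw [h3]

variable [Finite G]

theorem relIndex_S0 (h : Four S z e E) : (S0 S e).relIndex (S : Subgroup G) = 2 := by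
  obtain ⟨s, hs, hse⟩ := h.exists_move
  rw [relIndex_eq_two_iff]
  refine ⟨s, hs, fun b hb => ?_⟩
  by_cases h1 : b ∈ S0 S e
  · right
    refine ⟨h1, fun h2 => hse ?_⟩
    have h3 : s ∈ S0 S e := by
      have := mul_mem (inv_mem h1) h2
      rwa [inv_mul_cancel_left] at this
    exact (mem_S0.mp h3).2
  · left
    refine ⟨h.mul_mem_S0 hb (fun h2 => h1 (mem_S0.mpr ⟨hb, h2⟩)) hs hse, h1⟩

omit [Finite G] in
theorem E_le_S0 (h : Four S z e E) : E ≤ S0 S e := fun _ hx => mem_S0.mpr ⟨h.E_le hx, h.comm hx h.eE⟩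

theorem conj_mem_S0 (h : Four S z e E) {s x : G} (hs : s ∈ (S : Subgroup G)) (hx : x ∈ S0 S e) :
    s * x * s⁻¹ ∈ S0 S e := by
  by_cases h1 : s * e = e * s
  · exact mul_mem (mul_mem (mem_S0.mpr ⟨hs, h1⟩) hx) (inv_mem (mem_S0.mpr ⟨hs, h1⟩))
  · have h2 : s * e * s⁻¹ = z * e := h.conj_e hs h1
    have hx' := mem_S0.mp hx
    refine mem_S0.mpr ⟨mul_mem (mul_mem hs hx'.1) (inv_mem hs), ?_⟩
    have h3 : s⁻¹ * e * s = z * e := by
      have h4 : s⁻¹ * e ≠ e * s⁻¹ := fun h5 => h1 (by
        calc s * e = s * (e * s⁻¹) * s := by group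
          _ = s * (s⁻¹ * e) * s := by rw [h5]
          _ = e * s := by group)
      have := h.conj_e (inv_mem hs) h4
      rwa [inv_inv] at this
    have h4 := h.S0_comm hx (mul_mem h.zE h.eE)
    calc s * x * s⁻¹ * e = s * (x * (s⁻¹ * e * s)) * s⁻¹ := by group
      _ = s * (z * e * x) * s⁻¹ := by rw [h3, h4]
      _ = s * (s⁻¹ * e * s * x) * s⁻¹ := by rw [h3]
      _ = e * (s * x * s⁻¹) := by group

/-- `Ω₁(Z(C_S(e))) = E` -/
theorem zc_inf (h : Four S z e E) : zc (S0 S e) = E := by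
  apply le_antisymm
  · intro x hx
    rw [mem_zc] at hx
    obtain ⟨hx0, hxc, hx2⟩ := hx
    obtain ⟨s, hs, hse⟩ := h.exists_move
    have hs2 : s * s ∈ S0 S e := h.mul_mem_S0 hs hse hs hse
    -- a description of the elements of `S` outside `S0`
    have hS : ∀ t ∈ (S : Subgroup G), t ∉ S0 S e → ∃ r ∈ S0 S e, t = s⁻¹ * r := fun t ht hn =>
      ⟨s * t, h.mul_mem_S0 hs hse ht (fun h2 => hn (mem_S0.mpr ⟨ht, h2⟩)), by group⟩
    have hxs : ∀ r ∈ S0 S e, r * x = x * r := fun r hr => hxc r hr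
    set y := s * x * s⁻¹ with hy
    have hy0 : y ∈ S0 S e := h.conj_mem_S0 hs hx0
    have hyc : ∀ r ∈ S0 S e, r * y = y * r := by
      intro r hr
      have h1 : s⁻¹ * r * s ∈ S0 S e := by
        have := h.conj_mem_S0 (inv_mem hs) hr
        rwa [inv_inv] at this
      calc r * y = s * (s⁻¹ * r * s * x) * s⁻¹ := by rw [hy]; group
        _ = s * (x * (s⁻¹ * r * s)) * s⁻¹ := by rw [hxs _ h1]
        _ = y * r := by rw [hy]; group
    have hsy : s * y * s⁻¹ = x := by
      calc s * y * s⁻¹ = (s * s) * x * (s * s)⁻¹ := by rw [hy]; group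
        _ = x := by rw [hxs _ hs2, mul_inv_cancel_right]
    have hy2 : y * y = 1 := by
      rw [pow_two] at hx2
      calc y * y = s * (x * x) * s⁻¹ := by rw [hy]; group
        _ = 1 := by rw [hx2]; group
    rw [pow_two] at hx2
    -- `w` in `zc S0` with `s w s⁻¹ = w` is in `zc S`
    have key : ∀ w ∈ S0 S e, (∀ r ∈ S0 S e, r * w = w * r) → w * w = 1 → s * w * s⁻¹ = w →
        w = 1 ∨ w = z := by
      intro w hw0 hwc hw2 hsw
      rw [← h.mem_zcS, mem_zc]
      refine ⟨(mem_S0.mp hw0).1, fun t ht => ?_, by rw [pow_two, hw2]⟩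
      by_cases h1 : t ∈ S0 S e
      · exact hwc t h1
      · obtain ⟨r, hr, rfl⟩ := hS t ht h1
        have h2 : s⁻¹ * w = w * s⁻¹ := by
          calc s⁻¹ * w = s⁻¹ * (s * w * s⁻¹) := by rw [hsw]
            _ = w * s⁻¹ := by group
        rw [mul_assoc, hwc r hr, ← mul_assoc, h2, mul_assoc]
    have hxy : x * y = y * x := (hyc x hx0)
    have h1 : x * y = 1 ∨ x * y = z := by
      refine key _ (mul_mem hx0 hy0) (fun r hr => ?_) ?_ ?_
      · calc r * (x * y) = (r * x) * y := by group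
          _ = x * (r * y) := by rw [hxs r hr]; group
          _ = x * y * r := by rw [hyc r hr]; group
      · calc x * y * (x * y) = x * (y * x) * y := by group
          _ = (x * x) * (y * y) := by rw [← hxy]; group
          _ = 1 := by rw [hx2, hy2, one_mul]
      · calc s * (x * y) * s⁻¹ = (s * x * s⁻¹) * (s * y * s⁻¹) := by group
          _ = y * x := by rw [hsy]
          _ = x * y := hxy.symm
    rcases h1 with h1 | h1
    · -- `y = x`
      have h2 : y = x := by
        have : x * (x * y) = x * 1 := by rw [h1]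
        rw [← mul_assoc, hx2, one_mul, mul_one] at this
        exact this
      rcases key x hx0 hxs hx2 h2 with h3 | h3
      · rw [h3]; exact one_mem _
      · rw [h3]; exact h.zE
    · -- `y = x z`
      have h2 : y = x * z := by
        have : x * (x * y) = x * z := by rw [h1]
        rw [← mul_assoc, hx2, one_mul] at this
        exact this
      have hex : e * x = x * e := (mem_S0.mp hx0).2.symm
      have h3 : x * e = 1 ∨ x * e = z := by
        refine key _ (mul_mem hx0 (h.E_le_S0 h.eE)) (fun r hr => ?_) ?_ ?_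
        · rw [← mul_assoc, hxs r hr, mul_assoc, (mem_S0.mp hr).2, mul_assoc]
        · calc x * e * (x * e) = x * (e * x) * e := by group
            _ = (x * x) * (e * e) := by rw [hex]; group
            _ = 1 := by rw [hx2, h.ee, one_mul]
        · calc s * (x * e) * s⁻¹ = (s * x * s⁻¹) * (s * e * s⁻¹) := by group
            _ = x * z * (z * e) := by rw [← hy, h2, h.conj_e hs hse]
            _ = x * ((z * z) * e) := by group
            _ = x * e := by rw [h.zz, one_mul]
      rcases h3 with h3 | h3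
      · have : x = e⁻¹ := eq_inv_of_mul_eq_one_left h3
        rw [this]; exact inv_mem h.eE
      · have : x = z * e := by
          calc x = x * e * e := by rw [mul_assoc, h.ee, mul_one]
            _ = z * e := by rw [h3]
        rw [this]; exact mul_mem h.zE h.eE
  · intro x hx
    rw [mem_zc]
    exact ⟨h.E_le_S0 hx, fun r hr => h.S0_comm hr hx, by rw [pow_two, h.sq x hx]⟩

/-- a conjugate `h • S` containing `C_S(e)`, with `z ^ h = e` -/
theorem exists_conj_syl (h : Four S z e E) : ∃ g : G, g * z * g⁻¹ = e ∧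
    ∀ x ∈ S0 S e, g⁻¹ * x * g ∈ (S : Subgroup G) := by
  obtain ⟨g, hg⟩ := h.conj
  set C : Subgroup G := centralizer ({e} : Set G) with hC
  have h1 : ((g • S : Sylow 2 G) : Subgroup G) ≤ C := by
    intro x hx
    rw [Sylow.coe_subgroup_smul, Subgroup.mem_pointwise_smul_iff_inv_smul_mem] at hx
    have h2 : g⁻¹ * x * g ∈ (S : Subgroup G) := by
      simpa [MulAut.smul_def, ← map_inv] using hx
    have h3 := h.sz h2
    rw [hC, mem_centralizer_singleton_iff, ← hg]
    calc x * (g * z * g⁻¹) = g * ((g⁻¹ * x * g) * z) * g⁻¹ := by group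
      _ = g * z * g⁻¹ * x := by rw [h3]; group
  have h2 : IsPGroup 2 ((S0 S e).subgroupOf C) :=
    (S.isPGroup'.to_le (inf_le_left : S0 S e ≤ (S : Subgroup G))).comap_of_injective C.subtype
      (Subgroup.subtype_injective C)
  obtain ⟨P, hP⟩ := h2.exists_le_sylow
  have : Fact (Nat.Prime 2) := ⟨Nat.prime_two⟩
  obtain ⟨c, hc⟩ := MulAction.exists_smul_eq C ((g • S : Sylow 2 G).subtype h1) P
  refine ⟨(c : G) * g, ?_, fun x hx => ?_⟩
  · have h3 : (c : G) * e = e * c := mem_centralizer_singleton_iff.mp c.2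
    calc (c : G) * g * z * ((c : G) * g)⁻¹ = (c : G) * (g * z * g⁻¹) * (c : G)⁻¹ := by group
      _ = e := by rw [hg, h3]; group
  · have hxC : x ∈ C := mem_centralizer_singleton_iff.mpr (mem_S0.mp hx).2
    have h3 : (⟨x, hxC⟩ : C) ∈ (P : Subgroup C) := hP (Subgroup.mem_subgroupOf.mpr hx)
    rw [← hc, Sylow.coe_subgroup_smul, Subgroup.mem_pointwise_smul_iff_inv_smul_mem] at h3
    have h4 : (c : G)⁻¹ * x * c ∈ ((g • S : Sylow 2 G) : Subgroup G) := by
      have h5 := h3
      rw [Sylow.coe_subtype, Subgroup.mem_subgroupOf] at h5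
      simpa [MulAut.smul_def, ← map_inv] using h5
    rw [Sylow.coe_subgroup_smul, Subgroup.mem_pointwise_smul_iff_inv_smul_mem] at h4
    have h5 : g⁻¹ * ((c : G)⁻¹ * x * c) * g ∈ (S : Subgroup G) := by
      have h6 : (MulAut.conj g)⁻¹ • ((c : G)⁻¹ * x * c) = g⁻¹ * ((c : G)⁻¹ * x * c) * g := by
        rw [← map_inv, MulAut.smul_def, MulAut.conj_apply, inv_inv]
      rw [h6] at h4
      exact h4
    have h6 : ((c : G) * g)⁻¹ * x * (c * g) = g⁻¹ * ((c : G)⁻¹ * x * c) * g := by group
    rw [h6]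
    exact h5

/-- `N_G(E)` contains `t` with `t e t⁻¹ = e`, `t z t⁻¹ = z e`. -/
theorem exists_swap (h : Four S z e E) :
    ∃ t ∈ normalizer (E : Set G), t * e = e * t ∧ t * z * t⁻¹ = z * e := by
  obtain ⟨g, hg, hS⟩ := h.exists_conj_syl
  let T : Subgroup G := (S : Subgroup G).map (MulAut.conj g).toMonoidHom
  have mT : ∀ x, x ∈ T ↔ g⁻¹ * x * g ∈ (S : Subgroup G) := by
    intro x
    constructor
    · rintro ⟨y, hy, rfl⟩
      simp only [MulEquiv.coe_toMonoidHom, MulAut.conj_apply]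
      have : g⁻¹ * (g * y * g⁻¹) * g = y := by group
      rw [this]; exact hy
    · intro hx
      exact ⟨_, hx, by simp only [MulEquiv.coe_toMonoidHom, MulAut.conj_apply]; group⟩
  have h1 : S0 S e ≤ T := fun x hx => (mT x).mpr (hS x hx)
  have h2 : Nat.card T = Nat.card (S : Subgroup G) :=
    Nat.card_congr ((S : Subgroup G).equivMapOfInjective _ (MulAut.conj g).injective).symm.toEquiv
  have h3 : (S0 S e).relIndex T = 2 := by
    have h4 := h.relIndex_S0
    have h5 : Nat.card (S0 S e) * (S0 S e).relIndex (S : Subgroup G) = Nat.card (S : Subgroup G) := by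
      rw [Subgroup.relIndex, ← Nat.card_congr (Subgroup.subgroupOfEquivOfLe
        (show S0 S e ≤ (S : Subgroup G) from inf_le_left)).toEquiv]
      exact Subgroup.card_mul_index _
    have h6 : Nat.card (S0 S e) * (S0 S e).relIndex T = Nat.card T := by
      rw [Subgroup.relIndex, ← Nat.card_congr (Subgroup.subgroupOfEquivOfLe h1).toEquiv]
      exact Subgroup.card_mul_index _
    rw [h2, ← h5, h4] at h6
    exact Nat.eq_of_mul_eq_mul_left Nat.card_pos h6
  have hn : T ≤ normalizer (S0 S e : Set G) := by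
    have h4 : ((S0 S e).subgroupOf T).Normal := Subgroup.normal_of_index_eq_two h3
    exact (Subgroup.normal_subgroupOf_iff_le_normalizer h1).mp h4
  have hnE : T ≤ normalizer (E : Set G) := by
    rw [← h.zc_inf]
    exact hn.trans (normalizer_le_normalizer_zc _)
  have hTe : ∀ t ∈ T, t * e = e * t := by
    intro t ht
    have h4 := h.sz ((mT t).mp ht)
    rw [← hg]
    calc t * (g * z * g⁻¹) = g * ((g⁻¹ * t * g) * z) * g⁻¹ := by group
      _ = g * z * g⁻¹ * t := by rw [h4]; group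
  have hex : ∃ t ∈ T, t * z ≠ z * t := by
    by_contra hcon
    push Not at hcon
    have h4 : g⁻¹ * z * g ∈ zc (S : Subgroup G) := by
      rw [mem_zc]
      refine ⟨(mT z).mp (h1 (h.E_le_S0 h.zE)), fun y hy => ?_, ?_⟩
      · have h5 := hcon (g * y * g⁻¹) ((mT _).mpr (by
          have : g⁻¹ * (g * y * g⁻¹) * g = y := by group
          rw [this]; exact hy))
        calc y * (g⁻¹ * z * g) = g⁻¹ * ((g * y * g⁻¹) * z) * g := by group
          _ = g⁻¹ * z * g * y := by rw [h5]; group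
      · rw [pow_two]
        calc g⁻¹ * z * g * (g⁻¹ * z * g) = g⁻¹ * (z * z) * g := by group
          _ = 1 := by rw [h.zz]; group
    rcases h.mem_zcS.mp h4 with h5 | h5
    · apply h.z_ne
      have : z = g * (g⁻¹ * z * g) * g⁻¹ := by group
      rw [this, h5]; group
    · apply h.ne
      have : z = g * (g⁻¹ * z * g) * g⁻¹ := by group
      rw [this, h5, hg]
  obtain ⟨t, ht, htz⟩ := hex
  refine ⟨t, hnE ht, hTe t ht, ?_⟩
  have h4 : t * z * t⁻¹ ∈ E := (mem_normalizer_iff.mp (hnE ht) z).mp h.zE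
  rcases h.mem_cases h4 with h5 | h5 | h5 | h5
  · exact absurd (conj_eq_one_iff.mp h5) h.z_ne
  · exfalso
    apply htz
    calc t * z = (t * z * t⁻¹) * t := by group
      _ = z * t := by rw [h5]
  · exfalso
    apply h.ne
    have h6 := hTe t ht
    calc e = t⁻¹ * (t * e) := by group
      _ = t⁻¹ * (e * t) := by rw [h6]
      _ = t⁻¹ * (t * z * t⁻¹) * t := by rw [h5]; group
      _ = z := by group
  · exact h5

/-- `N_G(E)` is transitive on the involutions of `E`. -/
theorem conj_all (h : Four S z e E) {x : G} (hx : x ∈ E) (h1 : x ≠ 1) :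
    ∃ n ∈ normalizer (E : Set G), n * z * n⁻¹ = x := by
  obtain ⟨t, ht, hte, htz⟩ := h.exists_swap
  obtain ⟨s, hs, hse⟩ := h.exists_move
  rcases h.mem_cases hx with rfl | rfl | rfl | rfl
  · exact absurd rfl h1
  · exact ⟨1, one_mem _, by group⟩
  · refine ⟨s⁻¹ * t, mul_mem (inv_mem (h.norm hs)) ht, ?_⟩
    calc s⁻¹ * t * z * (s⁻¹ * t)⁻¹ = s⁻¹ * (t * z * t⁻¹) * s := by group
      _ = s⁻¹ * (s * x * s⁻¹) * s := by rw [htz, h.conj_e hs hse]
      _ = x := by group
  · exact ⟨t, ht, htz⟩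

/-- **(K5)** `E = V_P` for a `P ∈ P*(S)` in `N_G(E)`. -/
theorem exists_par (h : Four S z e E) : ∃ P : Subgroup G, IsParS (S : Subgroup G) P ∧
    P ≤ normalizer (E : Set G) ∧ zl (S : Subgroup G) P = E := by
  have hE1 : E ≠ ⊥ := by
    rintro rfl
    exact h.z_ne (mem_bot.mp h.zE)
  have hL := isLoc_normalizer S h.isPGroup hE1 h.norm
  have hnot : ¬ normalizer (E : Set G) ≤ normalizer (zc (S : Subgroup G) : Set G) := by
    intro hle
    obtain ⟨t, ht, -, htz⟩ := h.exists_swap
    have h1 : t * z * t⁻¹ ∈ zc (S : Subgroup G) :=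
      (mem_normalizer_iff.mp (hle ht) z).mp (by rw [h.zc_eq]; exact mem_zpowers z)
    rw [htz] at h1
    rcases h.mem_zcS.mp h1 with h2 | h2
    · exact h.ze_ne h2
    · exact h.e_ne (by simpa using h2)
  obtain ⟨P, hP, hPE, hPn⟩ := hL.exists_not_le S (M := normalizer (zc (S : Subgroup G) : Set G))
    (inf_le_right.trans (normalizer_le_normalizer_zc _)) hnot
  refine ⟨P, ⟨hP, hPn⟩, hPE, ?_⟩
  have hzE : zc (S : Subgroup G) ≤ E := by
    rw [h.zc_eq, zpowers_le]; exact h.zE
  have h1 : zl (S : Subgroup G) P ≤ E := zl_le hzE hPE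
  refine le_antisymm h1 ?_
  -- a second element
  have h2 : ∃ x ∈ zl (S : Subgroup G) P, x ≠ 1 ∧ x ≠ z := by
    by_contra hcon
    push Not at hcon
    apply hPn
    have h3 : zl (S : Subgroup G) P = zc (S : Subgroup G) := by
      refine le_antisymm (fun x hx => h.mem_zcS.mpr ?_) (zc_le_zl _ _)
      by_cases hx1 : x = 1
      · exact Or.inl hx1
      · exact Or.inr (hcon x hx hx1)
    rw [← h3]
    exact le_normalizer_zl _ _
  obtain ⟨x, hx, hx1, hxz⟩ := h2
  have hzz : z ∈ zl (S : Subgroup G) P := zc_le_zl _ _ (by rw [h.zc_eq]; exact mem_zpowers z)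
  have hxE := h1 hx
  intro y hy
  have hcases : e ∈ zl (S : Subgroup G) P := by
    rcases h.mem_cases hxE with h3 | h3 | h3 | h3
    · exact absurd h3 hx1
    · exact absurd h3 hxz
    · rw [← h3]; exact hx
    · have h4 := mul_mem hzz hx
      rw [h3, ← mul_assoc, h.zz, one_mul] at h4
      exact h4
  rcases h.mem_cases hy with rfl | rfl | rfl | rfl
  · exact one_mem _
  · exact hzz
  · exact hcases
  · exact mul_mem hzz hcases

end Four

end Cfsg.Agent.Omega.NOThreeL.FourLine
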