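import Cfsg.Agent.Omega.NOThreeL.TR
import Cfsg.Agent.Omega.NOThreeL.FourLine

/-!
# (TR) of bb #15808 in the frame

`S : Sylow 2 G`, `Ω₁(Z(S)) = ⟨z⟩`, `P ∈ P*(S)` with `|V_P| = 4`, `V` elementary abelian, normalised by `Y ≥ P`, and some
`t ∈ Y` acts on `V` as a transvection with centre `z` and does not centralise `V_P`.

* `eq_zl` : `V_P` is the only `S`-invariant four-group of `V`;
* `zl_le_zl` : `V_P ≤ V_{P'}` for every `P' ∈ P*(S)` with `V_{P'} ≤ V`.
-/

set_option autoImplicit false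

namespace Cfsg.Agent.Omega.NOThreeL.TRPlug

open Subgroup Cfsg Cfsg.Agent.ZN Cfsg.Agent.Omega.MinPar
open Cfsg.Agent.MinSimple.VModule (mem_zc zc_le zc_sq zc_comm le_centralizer_zc zc_le_zl zl_le
  le_normalizer_zl normalizer_le_normalizer_zc le_normalizer_o2 o2_isPGroup)
open Cfsg.Agent.Omega.NOThreeL.FourLine (mem_zpowers_iff)

universe u

variable {G : Type u} [Group G] [Finite G]

/-- a group of order four is `{1, z, v, v z}` -/
theorem mem_of_card {F : Subgroup G} (hc : Nat.card F = 4) {z v : G} (hz : z ∈ F) (hv : v ∈ F)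
    (hsq : ∀ x ∈ F, x * x = 1) (z1 : z ≠ 1) (v1 : v ≠ 1) (hvz : v ≠ z) {x : G} (hx : x ∈ F) :
    x = 1 ∨ x = z ∨ x = v ∨ x = v * z := by
  classical
  have hzz := hsq z hz
  have hvz1 : v * z ≠ 1 := fun h => hvz (by
    calc v = v * (z * z) := by rw [hzz, mul_one]
      _ = z := by rw [← mul_assoc, h, one_mul])
  have hvzz : v * z ≠ z := fun h => v1 (by simpa using h)
  have hvzv : v * z ≠ v := fun h => z1 (by simpa using h)
  have hsub : ((({1, z, v, v * z} : Finset G)) : Set G) ⊆ (F : Set G) := by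
    intro y hy
    simp only [Finset.coe_insert, Finset.coe_singleton, Set.mem_insert_iff, Set.mem_singleton_iff] at hy
    rcases hy with rfl | rfl | rfl | rfl
    · exact F.one_mem
    · exact hz
    · exact hv
    · exact mul_mem hv hz
  have h6 : ({1, z, v, v * z} : Finset G).card = 4 := by
    rw [Finset.card_insert_of_notMem, Finset.card_insert_of_notMem, Finset.card_insert_of_notMem,
      Finset.card_singleton]
    · rw [Finset.mem_singleton]; exact hvzv.symm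
    · simp only [Finset.mem_insert, Finset.mem_singleton, not_or]
      exact ⟨hvz.symm, hvzz.symm⟩
    · simp only [Finset.mem_insert, Finset.mem_singleton, not_or]
      exact ⟨z1.symm, v1.symm, hvz1.symm⟩
  have h7 : (F : Set G).ncard = Nat.card F := rfl
  have h8 := Set.eq_of_subset_of_ncard_le hsub (by rw [Set.ncard_coe_finset, h6, h7, hc]) (Set.toFinite _)
  have h9 : x ∈ (F : Set G) := hx
  rw [← h8] at h9
  simpa using h9

variable {S : Sylow 2 G} {z : G} {P : Subgroup G}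

/-- `P ∈ P*(S)`, `|V_P| = 4`: `P` exchanges `z` and `v`, and the elements of `S^g` centralising `z` lie in `S`. -/
theorem exists_swap (hG : IsCharacteristicTwoType G) (hz : zc (S : Subgroup G) = zpowers z) (hz1 : z ≠ 1)
    (hP : IsParS (S : Subgroup G) P) (hc : Nat.card (zl (S : Subgroup G) P) = 4)
    (hsq : ∀ x ∈ zl (S : Subgroup G) P, x * x = 1) {v : G} (hv : v ∈ zl (S : Subgroup G) P) (hv1 : v ≠ 1)
    (hvz : v ≠ z) : ∃ g ∈ P, g * z * g⁻¹ = v ∧ g * v * g⁻¹ = z ∧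
      ∀ s ∈ (S : Subgroup G), g * s * g⁻¹ * z = z * (g * s * g⁻¹) → g * s * g⁻¹ ∈ (S : Subgroup G) := by
  have hzc : z ∈ zc (S : Subgroup G) := by rw [hz]; exact mem_zpowers z
  have hzF : z ∈ zl (S : Subgroup G) P := zc_le_zl _ _ hzc
  have hzz : z * z = 1 := hsq z hzF
  have hvv : v * v = 1 := hsq v hv
  have hcomm : ∀ {x y : G}, x ∈ zl (S : Subgroup G) P → y ∈ zl (S : Subgroup G) P → x * y = y * x :=
    fun hx hy => AdjTransv.eq_of_sq (hsq _ hx) (hsq _ hy) (hsq _ (mul_mem hx hy))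
  have hcs : ∀ {x : G}, x ∈ zl (S : Subgroup G) P → x = 1 ∨ x = z ∨ x = v ∨ x = v * z :=
    fun hx => mem_of_card hc hzF hv hsq hz1 hv1 hvz hx
  have hnF : ∀ g ∈ P, ∀ x ∈ zl (S : Subgroup G) P, g * x * g⁻¹ ∈ zl (S : Subgroup G) P :=
    fun g hg x hx => (mem_normalizer_iff.mp (le_normalizer_zl (S : Subgroup G) P hg) x).mp hx
  have hSz : ∀ s ∈ (S : Subgroup G), s * z = z * s := fun s hs => (mem_zc.mp hzc).2.1 s hs
  -- `S` moves `v`
  obtain ⟨s, hs, hsv⟩ : ∃ s ∈ (S : Subgroup G), s * v * s⁻¹ = v * z := by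
    by_contra hcon
    push Not at hcon
    have h1 : v ∈ zc (S : Subgroup G) := by
      rw [mem_zc]
      refine ⟨?_, fun s hs => ?_, by rw [pow_two, hvv]⟩
      · exact zc_le _ (hP.isLoc.zl_le S hG hv) |> fun h => hP.isLoc.o2_le S h
      · rcases hcs (hnF s (hP.le hs) v hv) with h | h | h | h
        · exact absurd (conj_eq_one_iff.mp h) hv1
        · exfalso
          apply hvz
          have h3 : s * v * s⁻¹ = s * z * s⁻¹ := by rw [h, hSz s hs, mul_inv_cancel_right]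
          exact mul_left_cancel (mul_right_cancel h3)
        · rwa [mul_inv_eq_iff_eq_mul] at h
        · exact absurd h (hcon s hs)
    rw [hz, mem_zpowers_iff hzz] at h1
    rcases h1 with h1 | h1
    · exact hv1 h1
    · exact hvz h1
  have hsP : s ∈ P := hP.le hs
  have hsz : s * z * s⁻¹ = z := by rw [hSz s hs, mul_inv_cancel_right]
  -- `P` moves `z`
  obtain ⟨a, ha, haz⟩ : ∃ a ∈ P, a * z * a⁻¹ ≠ z := by
    by_contra hcon
    push Not at hcon
    apply hP.not_zc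
    intro a ha
    rw [hz, mem_normalizer_iff]
    have key : ∀ a ∈ P, ∀ x ∈ zpowers z, a * x * a⁻¹ ∈ zpowers z := by
      intro a ha x hx
      rcases (mem_zpowers_iff hzz).mp hx with rfl | rfl
      · rw [mul_one, mul_inv_cancel]; exact one_mem _
      · rw [hcon a ha]; exact hx
    refine fun x => ⟨key a ha x, fun h => ?_⟩
    have h1 := key a⁻¹ (inv_mem ha) _ h
    have h2 : a⁻¹ * (a * x * a⁻¹) * a⁻¹⁻¹ = x := by group
    rwa [h2] at h1
  -- `z ↦ v`
  obtain ⟨b, hb, hbz⟩ : ∃ b ∈ P, b * z * b⁻¹ = v := by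
    rcases hcs (hnF a ha z hzF) with h | h | h | h
    · exact absurd (conj_eq_one_iff.mp h) hz1
    · exact absurd h haz
    · exact ⟨a, ha, h⟩
    · refine ⟨s * a, mul_mem hsP ha, ?_⟩
      calc s * a * z * (s * a)⁻¹ = s * (a * z * a⁻¹) * s⁻¹ := by group
        _ = (s * v * s⁻¹) * (s * z * s⁻¹) := by rw [h]; group
        _ = v := by rw [hsv, hsz, mul_assoc, hzz, mul_one]
  -- `z ↔ v`
  obtain ⟨g, hg, hg1, hg2⟩ : ∃ g ∈ P, g * z * g⁻¹ = v ∧ g * v * g⁻¹ = z := by
    rcases hcs (hnF b hb v hv) with h | h | h | h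
    · exact absurd (conj_eq_one_iff.mp h) hv1
    · exact ⟨b, hb, hbz, h⟩
    · exfalso
      apply hvz
      have h3 : b * v * b⁻¹ = b * z * b⁻¹ := by rw [h, hbz]
      exact mul_left_cancel (mul_right_cancel h3)
    · refine ⟨b * s, mul_mem hb hsP, ?_, ?_⟩
      · calc b * s * z * (b * s)⁻¹ = b * (s * z * s⁻¹) * b⁻¹ := by group
          _ = v := by rw [hsz, hbz]
      · calc b * s * v * (b * s)⁻¹ = b * (s * v * s⁻¹) * b⁻¹ := by group
          _ = (b * v * b⁻¹) * (b * z * b⁻¹) := by rw [hsv]; group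
          _ = z := by rw [h, hbz, hcomm hv hzF, mul_assoc, hvv, mul_one]
  refine ⟨g, hg, hg1, hg2, fun s hs h => ?_⟩
  have h1 : s ∈ centralizer (zl (S : Subgroup G) P : Set G) := by
    rw [mem_centralizer_iff]
    have h2 : s * z = z * s := hSz s hs
    have h3 : s * v = v * s := by
      have h4 : g⁻¹ * (g * s * g⁻¹ * z) * g = g⁻¹ * (z * (g * s * g⁻¹)) * g := by rw [h]
      have h5 : g⁻¹ * z * g = v := by rw [← hg2]; group
      calc s * v = g⁻¹ * (g * s * g⁻¹ * z) * g := by rw [← h5]; group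
        _ = v * s := by rw [h4, ← h5]; group
    intro x hx
    rcases hcs hx with rfl | rfl | rfl | rfl
    · rw [one_mul, mul_one]
    · exact h2.symm
    · exact h3.symm
    · rw [mul_assoc, ← h2, ← mul_assoc, ← h3, mul_assoc]
  have h2 : s ∈ o2 P := by
    rw [← hP.inf_centralizer S hG]
    exact ⟨hs, h1⟩
  exact hP.isLoc.o2_le S ((mem_normalizer_iff.mp (le_normalizer_o2 P hg) s).mp h2)

/-- The data of (TR) in the frame. -/
structure Dat (S : Sylow 2 G) (z : G) (P V Y : Subgroup G) : Prop where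
  hz : zc (S : Subgroup G) = zpowers z
  z1 : z ≠ 1
  par : IsParS (S : Subgroup G) P
  card : Nat.card (zl (S : Subgroup G) P) = 4
  SY : (S : Subgroup G) ≤ Y
  PY : P ≤ Y
  nV : Y ≤ normalizer (V : Set G)
  sq : ∀ u ∈ V, u * u = 1
  zV : z ∈ V
  tr : ∃ t ∈ Y, (¬ ∀ u ∈ zl (S : Subgroup G) P, t * u = u * t) ∧
    ∀ u ∈ V, t * u * t⁻¹ = u ∨ t * u * t⁻¹ = u * z

namespace Dat

variable {V Y : Subgroup G}

omit [Finite G] in
theorem zl_le_V (D : Dat S z P V Y) : zl (S : Subgroup G) P ≤ V :=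
  zl_le (by rw [D.hz, zpowers_le]; exact D.zV) (D.PY.trans D.nV)

theorem exists_grp (D : Dat S z P V Y) (hG : IsCharacteristicTwoType G) :
    ∃ v ∈ zl (S : Subgroup G) P, TR.Grp z v V Y (S : Subgroup G) := by
  obtain ⟨t, htY, htv, ht⟩ := D.tr
  push Not at htv
  obtain ⟨v, hv, htv⟩ := htv
  have hzc : z ∈ zc (S : Subgroup G) := by rw [D.hz]; exact mem_zpowers z
  have hSz : ∀ s ∈ (S : Subgroup G), s * z = z * s := fun s hs => (mem_zc.mp hzc).2.1 s hs
  have hzz : z * z = 1 := D.sq z D.zV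
  have hv1 : v ≠ 1 := by
    rintro rfl
    exact htv (by rw [mul_one, one_mul])
  have htz : t * z * t⁻¹ = z := by
    rcases ht z D.zV with h | h
    · exact h
    · rw [hzz, conj_eq_one_iff] at h
      exact absurd h D.z1
  have hvz : v ≠ z := by
    rintro rfl
    apply htv
    rwa [mul_inv_eq_iff_eq_mul] at htz
  have hsq : ∀ x ∈ zl (S : Subgroup G) P, x * x = 1 := fun x hx => D.sq x (D.zl_le_V hx)
  have hzF : z ∈ zl (S : Subgroup G) P := zc_le_zl _ _ hzc
  obtain ⟨g, hg, hg1, hg2, hg3⟩ := exists_swap hG D.hz D.z1 D.par D.card hsq hv hv1 hvz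
  have hV2 : IsPGroup 2 V := by
    intro x
    exact ⟨1, Subtype.ext (by
      change (x : G) ^ (2 ^ 1) = 1
      rw [pow_one, pow_two, D.sq _ x.2])⟩
  have hVS : V ≤ (S : Subgroup G) := le_of_le_normalizer S hV2 (D.SY.trans D.nV)
  refine ⟨v, hv, D.zV, D.zl_le_V hv, D.sq, fun y hy u hu => (mem_normalizer_iff.mp (D.nV hy) u).mp hu, D.SY,
    S.isPGroup', MinSimple.Basic.not_dvd_relIndex S D.SY, D.z1, hvz, hSz, fun u hu h => ?_, fun s hs => ?_,
    ⟨g, D.PY hg, hg1, hg2, hg3⟩, t, htY, ?_, ht⟩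
  · have h1 : u ∈ zc (S : Subgroup G) := by
      rw [mem_zc]
      refine ⟨hVS hu, fun s hs => ?_, by rw [pow_two, D.sq u hu]⟩
      have h2 := h s hs
      rwa [mul_inv_eq_iff_eq_mul] at h2
    rwa [D.hz, mem_zpowers_iff hzz] at h1
  · have h1 : s * v * s⁻¹ ∈ zl (S : Subgroup G) P :=
      (mem_normalizer_iff.mp (le_normalizer_zl (S : Subgroup G) P (D.par.le hs)) v).mp hv
    rcases mem_of_card D.card hzF hv hsq D.z1 hv1 hvz h1 with h | h | h | h
    · exact absurd (conj_eq_one_iff.mp h) hv1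
    · exfalso
      apply hvz
      have h3 : s * v * s⁻¹ = s * z * s⁻¹ := by rw [h, hSz s hs, mul_inv_cancel_right]
      exact mul_left_cancel (mul_right_cancel h3)
    · exact Or.inl h
    · exact Or.inr h
  · intro h
    rw [mul_inv_eq_iff_eq_mul] at h
    exact htv h

/-- **(TR)**: `V_P` is the only `S`-invariant four-group of `V`. -/
theorem eq_zl (D : Dat S z P V Y) (hG : IsCharacteristicTwoType G) {E : Subgroup G} (hE : E ≤ V)
    (hc : Nat.card E = 4) (hn : (S : Subgroup G) ≤ normalizer (E : Set G)) : E = zl (S : Subgroup G) P := by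
  obtain ⟨v, -, hg⟩ := D.exists_grp hG
  exact hg.eq hE hc hn D.zl_le_V D.card (D.par.le.trans (le_normalizer_zl _ _))

/-- `w ∈ V`, `[w, S] ≤ ⟨z⟩` implies `w ∈ V_P`. -/
theorem mem_zl (D : Dat S z P V Y) (hG : IsCharacteristicTwoType G) {w : G} (hw : w ∈ V)
    (h : ∀ s ∈ (S : Subgroup G), s * w * s⁻¹ = w ∨ s * w * s⁻¹ = w * z) : w ∈ zl (S : Subgroup G) P := by
  obtain ⟨v, hv, hg⟩ := D.exists_grp hG
  have hzc : z ∈ zc (S : Subgroup G) := by rw [D.hz]; exact mem_zpowers z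
  have hzF : z ∈ zl (S : Subgroup G) P := zc_le_zl _ _ hzc
  rcases hg.mem hw h with rfl | rfl | rfl | rfl
  · exact one_mem _
  · exact hzF
  · exact hv
  · exact mul_mem hv hzF

/-- **(TR)**: `V_P ≤ A` for every `S`-invariant `A ≤ V`, `A ≰ ⟨z⟩`. -/
theorem zl_le_of (D : Dat S z P V Y) (hG : IsCharacteristicTwoType G) {A : Subgroup G} (hA : A ≤ V)
    (hn : (S : Subgroup G) ≤ normalizer (A : Set G)) (hAz : ¬ A ≤ zpowers z) : zl (S : Subgroup G) P ≤ A := by
  have hzc : z ∈ zc (S : Subgroup G) := by rw [D.hz]; exact mem_zpowers z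
  have hSz : ∀ s ∈ (S : Subgroup G), s * z = z * s := fun s hs => (mem_zc.mp hzc).2.1 s hs
  have hzz : z * z = 1 := D.sq z D.zV
  have hV2 : IsPGroup 2 V := by
    intro x
    exact ⟨1, Subtype.ext (by
      change (x : G) ^ (2 ^ 1) = 1
      rw [pow_one, pow_two, D.sq _ x.2])⟩
  have hVS : V ≤ (S : Subgroup G) := le_of_le_normalizer S hV2 (D.SY.trans D.nV)
  have hnA : ∀ s ∈ (S : Subgroup G), ∀ a ∈ A, s * a * s⁻¹ ∈ A := fun s hs a ha =>
    (mem_normalizer_iff.mp (hn hs) a).mp ha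
  -- `z ∈ A`
  have hzA : z ∈ A := by
    have hA1 : A ≠ ⊥ := fun h => hAz (by rw [h]; exact bot_le)
    obtain ⟨n, hnE, hn1, hnS⟩ := AdjTransv.exists_fixed S.isPGroup' hA1 (fun n hn => D.sq n (hA hn)) hnA
    have h1 : n ∈ zc (S : Subgroup G) := by
      rw [mem_zc]
      refine ⟨hVS (hA hnE), fun s hs => ?_, by rw [pow_two, D.sq n (hA hnE)]⟩
      have h2 := hnS s hs
      rwa [mul_inv_eq_iff_eq_mul] at h2
    rw [D.hz, mem_zpowers_iff hzz] at h1
    rcases h1 with h | h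
    · exact absurd h hn1
    · rwa [h] at hnE
  -- the quotient `S / ⟨z⟩`
  let Zs : Subgroup (S : Subgroup G) := (zpowers z).subgroupOf (S : Subgroup G)
  have hZn : Zs.Normal := by
    constructor
    intro x hx y
    rw [mem_subgroupOf] at hx ⊢
    rcases (mem_zpowers_iff hzz).mp hx with h | h
    · rw [Subgroup.coe_mul, Subgroup.coe_mul, h, mul_one, Subgroup.coe_inv, mul_inv_cancel]
      exact one_mem _
    · rw [Subgroup.coe_mul, Subgroup.coe_mul, h, Subgroup.coe_inv, hSz _ y.2, mul_inv_cancel_right]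
      exact mem_zpowers z
  let π : (S : Subgroup G) →* (S : Subgroup G) ⧸ Zs := QuotientGroup.mk' Zs
  let N : Subgroup ((S : Subgroup G) ⧸ Zs) := (A.subgroupOf (S : Subgroup G)).map π
  have hN1 : N ≠ ⊥ := by
    intro h
    apply hAz
    intro a ha
    have h1 : π ⟨a, hVS (hA ha)⟩ ∈ N := ⟨_, ha, rfl⟩
    rw [h, mem_bot, QuotientGroup.mk'_apply, QuotientGroup.eq_one_iff] at h1
    exact h1
  have hNsq : ∀ n ∈ N, n * n = 1 := by
    rintro _ ⟨a, ha, rfl⟩
    rw [← map_mul]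
    have h1 : a * a = 1 := Subtype.ext (D.sq _ (hA ha))
    rw [h1, map_one]
  have hNn : ∀ s ∈ (⊤ : Subgroup ((S : Subgroup G) ⧸ Zs)), ∀ n ∈ N, s * n * s⁻¹ ∈ N := by
    rintro s - _ ⟨a, ha, rfl⟩
    obtain ⟨s, rfl⟩ := QuotientGroup.mk'_surjective Zs s
    refine ⟨s * a * s⁻¹, hnA _ s.2 _ ha, ?_⟩
    rw [map_mul, map_mul, map_inv]
  obtain ⟨_, ⟨w, hw, rfl⟩, hw1, hwS⟩ := AdjTransv.exists_fixed
    (S := (⊤ : Subgroup ((S : Subgroup G) ⧸ Zs))) ((S.isPGroup'.to_quotient Zs).to_subgroup _) hN1 hNsq hNn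
  have hwA : (w : G) ∈ A := hw
  have hwz : (w : G) ∉ zpowers z := fun h => hw1 (by
    rw [QuotientGroup.mk'_apply, QuotientGroup.eq_one_iff]
    exact h)
  have hws : ∀ s ∈ (S : Subgroup G), s * w * s⁻¹ = w ∨ s * w * s⁻¹ = w * z := by
    intro s hs
    have h1 := hwS (π ⟨s, hs⟩) (mem_top _)
    rw [← map_inv, ← map_mul, ← map_mul] at h1
    have h2 := QuotientGroup.eq.mp h1.symm
    rw [mem_subgroupOf, mem_zpowers_iff hzz] at h2
    rcases h2 with h2 | h2
    · left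
      have h3 : (w : G)⁻¹ * (s * w * s⁻¹) = 1 := h2
      rw [inv_mul_eq_one] at h3
      exact h3.symm
    · right
      have h3 : (w : G)⁻¹ * (s * w * s⁻¹) = z := h2
      rw [inv_mul_eq_iff_eq_mul] at h3
      exact h3
  have hwF := D.mem_zl hG (hA hwA) hws
  have hwz' : (w : G) ≠ z := fun h => hwz (by rw [h]; exact mem_zpowers z)
  have hw1' : (w : G) ≠ 1 := fun h => hwz (by rw [h]; exact one_mem _)
  intro x hx
  rcases mem_of_card D.card (zc_le_zl _ _ hzc) hwF (fun x hx => D.sq x (D.zl_le_V hx)) D.z1 hw1' hwz' hx with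
    rfl | rfl | rfl | rfl
  · exact one_mem _
  · exact hzA
  · exact hwA
  · exact mul_mem hwA hzA

/-- **(TR)**: `V_P ≤ V_{P'}` for every `P' ∈ P*(S)` with `P' ≤ Y`. -/
theorem zl_le_zl (D : Dat S z P V Y) (hG : IsCharacteristicTwoType G) {P' : Subgroup G}
    (hP' : IsParS (S : Subgroup G) P') (hY : P' ≤ Y) : zl (S : Subgroup G) P ≤ zl (S : Subgroup G) P' := by
  refine D.zl_le_of hG (zl_le (by rw [D.hz, zpowers_le]; exact D.zV) (hY.trans D.nV))
    (hP'.le.trans (le_normalizer_zl _ _)) fun h => hP'.not_zc ?_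
  have h1 : zl (S : Subgroup G) P' = zc (S : Subgroup G) :=
    le_antisymm (by rw [D.hz]; exact h) (zc_le_zl _ _)
  rw [← h1]
  exact le_normalizer_zl _ _

end Dat

end Cfsg.Agent.Omega.NOThreeL.TRPlug
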