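import Cfsg.Agent.Omega.NOThreeL.AThree

/-!
# NO-3L, case (A): `V_P` of type `S_{2^m+1}^k` is impossible (#14566 (2), helper775; #16668, helper477)

`AThree.a3` is the case where `U_H` offends on `V_P` (socket A3); here nothing is assumed about offenders, so the
result also covers the part `SymK` of the socket A4.

* `false_of` : `A ≤ S`, abelian, quadratic on `V` and normalised by `C_P(Z)`, acts trivially on `V` of type
  `S_{2^m+1}^k`, `m ≥ 2`;
* `no_sym` : there is no pair of type (A) with `V_P` of type `S_{2^m+1}^k`.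
-/

set_option autoImplicit false

namespace Cfsg.Agent.Omega.NOThreeL.AFourSym

open Subgroup Cfsg Cfsg.Agent.ZN Cfsg.Agent.Omega.MinPar Cfsg.Agent.Omega.Frame Cfsg.Agent.Omega.FrameNOFF
open Cfsg.Agent.ZN.ChoiceBase Cfsg.Agent.ZN.ChoiceSit
open Cfsg.Agent.Omega.Node.NO3L Cfsg.Agent.Omega.NOThreeL.Basic
open Cfsg.Agent.Omega.FFThm (Off SymK ActsSym)
open Cfsg.Agent.MinSimple.VModule (le_normalizer_zl)
open Cfsg.Agent.Omega.NOThreeL.AThree (const e_inj exists_ne ai ia)

universe u

variable {G : Type u} [Group G] [Finite G]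

/-- **A quadratic abelian subgroup of `S` normalised by `C_P(Z)` centralises `V`** (`V` of type `S_{2^m+1}^k`). -/
theorem false_of (S : Sylow 2 G) {P V Z A : Subgroup G} {k m : ℕ} (hm : 2 ≤ m)
    (hSP : (S : Subgroup G) ≤ P) (hPV : P ≤ normalizer (V : Set G)) (M : SymK (S : Subgroup G) P V ⊥ k m)
    (hZV : Z ≤ V) (hZ : ∀ s ∈ (S : Subgroup G), ∀ z ∈ Z, s * z = z * s) (hAS : A ≤ (S : Subgroup G))
    (hA : ∀ a ∈ A, ∀ b ∈ A, a * b = b * a) (hVA : V ≤ normalizer (A : Set G))
    (hn : ∀ g ∈ P, (∀ z ∈ Z, g * z = z * g) → g ∈ normalizer (A : Set G))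
    {a : G} (ha : a ∈ A) {v₀ : G} (hv₀ : v₀ ∈ V) (hne : a * v₀ * a⁻¹ ≠ v₀) : False := by
  classical
  have hN : ∀ {g : G}, g ∈ P → ∀ v ∈ V, g * v * g⁻¹ ∈ V := fun hg v hv =>
    (mem_normalizer_iff.1 (hPV hg) v).1 hv
  have hN' : ∀ {g : G}, g ∈ P → ∀ v ∈ V, g⁻¹ * v * g ∈ V := fun {g} hg v hv => by
    have := hN (inv_mem hg) v hv
    rwa [inv_inv] at this
  have haP : a ∈ P := hSP (hAS ha)
  obtain ⟨σ, τ, hact⟩ := M.perm a haP
  have h0 : ∀ i, τ i 0 = 0 := M.fix0 a (hAS ha) σ τ hact
  -- a moved nonzero point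
  obtain ⟨i, x, hx0, hmv⟩ : ∃ (i : Fin k) (x : Fin (2 ^ m + 1)), x ≠ 0 ∧ ¬ (σ i = i ∧ τ i x = x) := by
    by_contra hcon
    push Not at hcon
    apply hne
    refine e_inj M (hN haP _ hv₀) hv₀ ?_
    funext i x
    obtain ⟨w, hw0, -, -⟩ := exists_ne hm x x
    have h1 := hcon i w hw0
    by_cases hx : x = 0
    · subst hx
      have h2 := hact v₀ hv₀ i 0
      rwa [h1.1, h0] at h2
    · have h3 := hcon i x hx
      have h2 := hact v₀ hv₀ i x
      rwa [h3.1, h3.2] at h2
  set j := σ i with hj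
  set y := τ i x with hy
  have hy0 : y ≠ 0 := fun h => hx0 ((τ i).injective (by rw [← hy, h, h0]))
  obtain ⟨w, hw0, hwx, hwy⟩ := exists_ne hm x y
  obtain ⟨g, hg, hgact, -⟩ := M.lift (Function.update 1 j (Equiv.swap y w))
  -- `g` centralises `Z`
  have hgZ : ∀ z ∈ Z, g * z = z * g := by
    intro z hz
    have hzV := hZV hz
    have hc := fun (l : Fin k) {x y : Fin (2 ^ m + 1)} => const S (by omega) hSP hPV M hzV
      (fun s hs => hZ s hs z hz) l (x := x) (y := y)
    have h1 : g * z * g⁻¹ = z := by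
      refine e_inj M (hN hg z hzV) hzV ?_
      funext l u
      by_cases hl : l = j
      · subst hl
        have h2 := hgact z hzV (σ i) (Equiv.swap y w u)
        rw [Function.update_self, Equiv.swap_apply_self] at h2
        simp only [Equiv.Perm.one_apply] at h2
        rw [h2]
        by_cases h3 : u = y
        · rw [h3, Equiv.swap_apply_left]
          exact hc _ hw0 hy0
        · by_cases h4 : u = w
          · rw [h4, Equiv.swap_apply_right]
            exact hc _ hy0 hw0
          · rw [Equiv.swap_apply_of_ne_of_ne h3 h4]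
      · have h2 := hgact z hzV l u
        rw [Function.update_of_ne hl] at h2
        simpa using h2
    calc g * z = g * z * g⁻¹ * g := by group
      _ = z * g := by rw [h1]
  have hb : g * a * g⁻¹ ∈ A := (mem_normalizer_iff.1 (hn g hg hgZ) a).1 ha
  -- the vector
  obtain ⟨v, hv, hve⟩ := M.surj (Function.update 0 i (fun u => if u = x ∨ u = 0 then 1 else 0)) (by
    intro l
    by_cases hl : l = i
    · subst hl
      rw [Function.update_self]
      have h1 : ∀ u : Fin (2 ^ m + 1), (if u = x ∨ u = 0 then (1 : ZMod 2) else 0) =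
          (if u = x then 1 else 0) + if u = 0 then 1 else 0 := by
        intro u
        by_cases h2 : u = x
        · have : u ≠ 0 := h2 ▸ hx0
          simp [h2, hx0]
        · simp [h2]
      rw [Finset.sum_congr rfl fun u _ => h1 u, Finset.sum_add_distrib]
      simp only [Finset.sum_ite_eq', Finset.mem_univ, if_true]
      exact CharTwo.add_self_eq_zero _
    · rw [Function.update_of_ne hl]
      simp)
  have hvi : ∀ u, M.e v i u = if u = x ∨ u = 0 then 1 else 0 := fun u => by rw [hve, Function.update_self]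
  have hvl : ∀ l, l ≠ i → ∀ u, M.e v l u = 0 := fun l hl u => by
    rw [hve, Function.update_of_ne hl]; rfl
  have hav : a * v * a⁻¹ ∈ V := hN haP v hv
  -- values of `a v a⁻¹`
  have k1 : ∀ u, u ≠ y → u ≠ 0 → M.e (a * v * a⁻¹) j u = 0 := by
    intro u hu hu0
    obtain ⟨u, rfl⟩ := (τ i).surjective u
    have h1 := hact v hv i u
    rw [← hj] at h1
    rw [h1, hvi, if_neg]
    rintro (h | h)
    · exact hu (by rw [h])
    · exact hu0 (by rw [h, h0])
  have k2 : ∀ l, l ≠ j → ∀ u, M.e (a * v * a⁻¹) l u = 0 := by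
    intro l hl u
    obtain ⟨l, rfl⟩ := σ.surjective l
    obtain ⟨u, rfl⟩ := (τ l).surjective u
    rw [hact v hv l u]
    exact hvl l (fun h => hl (by rw [h])) _
  -- the commutator
  set c := a * v * a⁻¹ * v⁻¹ with hcdef
  have hcV : c ∈ V := mul_mem hav (inv_mem hv)
  have hcA : c ∈ A := by
    have h1 : v * a⁻¹ * v⁻¹ ∈ A := (mem_normalizer_iff.1 (hVA hv) _).1 (inv_mem ha)
    have e1 : c = a * (v * a⁻¹ * v⁻¹) := by rw [hcdef]; group
    rw [e1]
    exact mul_mem ha h1
  have hce : M.e c = M.e (a * v * a⁻¹) + M.e v := by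
    have h1 := M.mul c hcV v hv
    have e1 : c * v = a * v * a⁻¹ := by rw [hcdef]; group
    rw [e1] at h1
    rw [h1]
    funext l u
    simp only [Pi.add_apply]
    rw [add_assoc, CharTwo.add_self_eq_zero, add_zero]
  -- the two values of `c`
  have k3 : M.e c j w = 0 := by
    rw [hce]
    simp only [Pi.add_apply]
    rw [k1 w hwy hw0, zero_add]
    by_cases hji : j = i
    · rw [hji, hvi, if_neg]
      rintro (h | h)
      · exact hwx h
      · exact hw0 h
    · exact hvl j hji w
  have hxy : j = i → x ≠ y := fun h h' => hmv ⟨h, h'.symm⟩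
  have k4 : M.e c i x = 1 := by
    rw [hce]
    simp only [Pi.add_apply]
    rw [hvi, if_pos (Or.inl rfl)]
    by_cases hji : j = i
    · have h1 := k1 x (hxy hji) hx0
      rw [hji] at h1
      rw [h1, zero_add]
    · rw [k2 i (fun h => hji h.symm), zero_add]
  -- `b = g a g⁻¹` centralises `c`
  have hbc : g * a * g⁻¹ * c * (g * a * g⁻¹)⁻¹ = c := by
    rw [hA _ hb _ hcA]; group
  have hc' : g⁻¹ * c * g ∈ V := hN' hg c hcV
  have k5 : M.e (g⁻¹ * c * g) i x = M.e c i x := by
    have h1 := hgact _ hc' i x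
    have e1 : g * (g⁻¹ * c * g) * g⁻¹ = c := by group
    rw [e1] at h1
    rw [← h1]
    simp only [Equiv.Perm.one_apply]
    by_cases hji : j = i
    · rw [hji, Function.update_self, Equiv.swap_apply_of_ne_of_ne (hxy hji) hwx.symm]
    · rw [Function.update_of_ne (fun h => hji h.symm)]; rfl
  have k6 : M.e (a * (g⁻¹ * c * g) * a⁻¹) j y = M.e (g⁻¹ * c * g) i x := hact _ hc' i x
  have k7 : M.e c j w = M.e (a * (g⁻¹ * c * g) * a⁻¹) j y := by
    have h1 := hgact _ (hN haP _ hc') j y
    rw [Function.update_self, Equiv.swap_apply_left] at h1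
    simp only [Equiv.Perm.one_apply] at h1
    have e1 : g * (a * (g⁻¹ * c * g) * a⁻¹) * g⁻¹ = g * a * g⁻¹ * c * (g * a * g⁻¹)⁻¹ := by group
    rwa [e1, hbc] at h1
  rw [k3, k6, k5, k4] at k7
  exact zero_ne_one k7

/-- **There is no pair of type (A) with `V_P` of type `S_{2^m+1}^k`.** -/
theorem no_sym {S : Sylow 2 G} (hc : IsCharacteristicTwoType G) (D : DataZ (S : Subgroup G)) {P H : Subgroup G}
    (h : PairA (S : Subgroup G) P H) {k m : ℕ} (hm : 2 ≤ m)
    (M : SymK (S : Subgroup G) P (zl (S : Subgroup G) P) (FrameFF.cv (S : Subgroup G) P) k m) : False := by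
  have hcv : FrameFF.cv (S : Subgroup G) P = ⊥ := D.cv_eq hc h.par
  rw [hcv] at M
  have hAS : zl (S : Subgroup G) H ≤ (S : Subgroup G) := IsLong.zl_le_S hc h.long
  have hPV : P ≤ normalizer (zl (S : Subgroup G) P : Set G) := le_normalizer_zl _ _
  have hel := FFThm.elem_zl hc S h.long.loc
  have h2 := h.ne
  rw [SetLike.not_le_iff_exists] at h2
  obtain ⟨v, hv, hvc⟩ := h2
  have h3 : ∃ a ∈ zl (S : Subgroup G) H, a * v * a⁻¹ ≠ v := by
    by_contra hcon
    push Not at hcon
    apply hvc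
    rw [mem_centralizer_iff]
    intro a ha
    calc a * v = a * v * a⁻¹ * a := by group
      _ = v * a := by rw [hcon a ha]
  obtain ⟨a, ha, hav⟩ := h3
  refine false_of S hm h.par.le hPV M (MinSimple.VModule.zc_le_zl _ _)
    (fun s hs z hz => (MinSimple.VModule.mem_zc.1 hz).2.1 s hs) hAS
    (fun a ha b hb => ?_) (PairA.le_normalizer' hc h) (fun g hg hgz => ?_) ha hv hav
  · exact congrArg Subtype.val (hel.1.is_comm.comm ⟨a, ha⟩ ⟨b, hb⟩)
  · refine le_normalizer_zl _ _ (h.long.cz ?_)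
    rw [mem_centralizer_iff]
    intro z hz
    exact (hgz z hz).symm

end Cfsg.Agent.Omega.NOThreeL.AFourSym
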