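import Cfsg.Agent.Omega.FFBr.MainM

/-!
# The FF theorem on a submodule (helper621, for #16868)

`H` a minimal parabolic over its Sylow 2-subgroup `T`, `W` an elementary abelian 2-group normalised by `H`, generated
by the `H`-conjugates of `C_W(T)`, `O₂(H) ≤ C(W)`, `H ≰ C(W)`.  The abstract FF theorem `FFBr.AStmt` applies to the
action of `H` on `W` (for instance `W = ⟨z^H⟩`, `z ∈ Ω₁(Z(T))`).

* `abs_sub` : `FFBr.abs_of` for `W`;
* `noOverM_sub` : if some subgroup of `H` offends on `W`, there is no over-offender on `W` and the conclusion of the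
  abstract FF theorem holds.
-/

set_option autoImplicit false
set_option linter.unusedSectionVars false

namespace Cfsg.Agent.Omega.NOThreeL.SubFF

open Subgroup Cfsg Cfsg.Agent.ZN Cfsg.Agent.ZN.ChoiceBase Cfsg.Agent.ZN.ChoiceSit Cfsg.Agent.Omega.MinPar
open Cfsg.Agent.Omega.FrameFF Cfsg.Agent.MinSimple.MinParabolic Cfsg.Agent.Omega.FFThm Cfsg.Agent.Omega.FFBr

universe u

variable {G : Type u} [Group G] [Finite G] {H T W : Subgroup G}

/-- The hypotheses on `W`. -/
structure Sub (T H W : Subgroup G) : Prop where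
  syl : Syl T H
  min : IsMinPar T H
  norm : H ≤ normalizer (W : Set G)
  comm : W ≤ centralizer (W : Set G)
  sq : ∀ v ∈ W, v ^ 2 = 1
  o2 : o2 H ≤ centralizer (W : Set G)
  gen : ∀ K : Subgroup G, (∀ g ∈ H, ∀ z ∈ W, (∀ t ∈ T, t * z = z * t) → g * z * g⁻¹ ∈ K) → W ≤ K
  ne : ¬ H ≤ centralizer (W : Set G)

namespace Sub

variable (s : Sub T H W)
include s

theorem exists_moved : ∃ z ∈ W, (∀ t ∈ T, t * z = z * t) ∧ ∃ g ∈ H, g * z ≠ z * g := by
  by_contra hcon
  push Not at hcon
  apply s.ne
  rw [le_centralizer_iff]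
  refine s.gen _ fun g hg z hz hzT => ?_
  have h1 : g * z * g⁻¹ = z := by rw [hcon z hz hzT g hg, mul_inv_cancel_right]
  rw [h1, mem_centralizer_iff]
  exact fun y hy => hcon z hz hzT y hy

theorem sup_ne : (centralizer (W : Set G)).subgroupOf H ⊔ T.subgroupOf H ≠ ⊤ := by
  intro h
  obtain ⟨z, hz, hzT, g, hg, hgz⟩ := s.exists_moved
  have h2 : (centralizer (W : Set G)).subgroupOf H ⊔ T.subgroupOf H ≤ (centralizer ({z} : Set G)).subgroupOf H := by
    refine sup_le (comap_mono (centralizer_le (Set.singleton_subset_iff.2 hz))) (comap_mono fun t ht => ?_)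
    rw [mem_centralizer_iff]
    rintro _ rfl
    exact (hzT t ht).symm
  rw [h, top_le_iff, subgroupOf_eq_top] at h2
  exact hgz (mem_centralizer_iff.1 (h2 hg) z rfl).symm

theorem abs_sub : ∃ (S : Sylow 2 (XX s.norm)) (M : Subgroup (XX s.norm)), Abs (XX s.norm) W S M ∧
      ∀ x : XX s.norm, x ∈ S ↔ ∃ t : H, (t : G) ∈ T ∧ pr s.norm t = x := by
  have hT := s.syl
  have hmin := s.min
  set h := s.norm with hh
  have hfact : Fact (Nat.Prime 2) := ⟨Nat.prime_two⟩
  obtain ⟨P, hP⟩ := syl_iff.1 hT
  have hTP : T.subgroupOf H = (P : Subgroup H) := by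
    rw [← hP, Subgroup.subgroupOf, comap_map_eq_self_of_injective H.subtype_injective]
  obtain ⟨M₀, hM₀, hM₁⟩ := hmin.exists_max
  set M₁ : Subgroup H := M₀.subgroupOf H with hM₁'
  have hm : IsMin (P : Subgroup H) M₁ := by
    refine ⟨fun h1 => hM₀.not_ge (subgroupOf_eq_top.1 h1), fun K hK hK1 => ?_⟩
    have h3 : K.map H.subtype ≤ M₀ := by
      apply hM₁
      · rw [← hP]; exact map_mono hK
      · refine lt_of_le_of_ne (map_subtype_le _) fun h4 => hK1 ?_
        have h5 := comap_map_eq_self_of_injective H.subtype_injective K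
        rw [h4] at h5
        rw [← h5]
        exact subgroupOf_self H
    rw [hM₁', Subgroup.subgroupOf, ← map_le_iff_le_comap]
    exact h3
  -- the kernel
  set C : Subgroup H := (centralizer (W : Set G)).subgroupOf H with hC
  have hker : (pr h).ker = C := ker_pr h
  have hCn : C.Normal := by rw [← hker]; infer_instance
  have hCP : C ⊔ (P : Subgroup H) ≠ ⊤ := by rw [← hTP]; exact s.sup_ne
  have hCM : C ≤ M₁ := le_sup_left.trans (hm.le_of _ le_sup_right hCP)
  have hPM : (P : Subgroup H) ≤ M₁ := le_sup_right.trans (hm.le_of _ le_sup_right hCP)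
  have hMc : (M₁.map (pr h)).comap (pr h) = M₁ := by
    rw [comap_map_eq, hker, sup_eq_left]
    exact hCM
  refine ⟨P.mapSurjective (pr_surjective h), M₁.map (pr h), ?_, ?_⟩
  · refine
      { comm := fun v w => Subtype.ext (mem_centralizer_iff.1 (s.comm w.2) v v.2)
        sq := fun v => Subtype.ext (by
          have := s.sq v v.2
          rw [pow_two] at this
          exact this)
        faith := faith h
        core := ?_
        TM := by
          rw [Sylow.coe_mapSurjective]
          exact map_mono hPM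
        Mne := ?_
        max := ?_
        gen := ?_
        nfix := ?_ }
    · intro N hN hN2
      set N' : Subgroup H := N.comap (pr h) with hN'
      have hN'n : N'.Normal := hN.comap _
      have hCN : C ≤ N' := by rw [← hker]; exact (pr h).ker_le_comap N
      have h5 : ¬ N' ⊔ (P : Subgroup H) = ⊤ := by
        intro h6
        apply hCP
        have h7 : N ⊔ (P : Subgroup H).map (pr h) = ⊤ := by
          have := congrArg (Subgroup.map (pr h)) h6
          rw [Subgroup.map_sup, map_top_of_surjective _ (pr_surjective h), hN',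
            map_comap_eq_self_of_surjective (pr_surjective h)] at this
          exact this
        have h8 : IsPGroup 2 (⊤ : Subgroup (XX h)) := by
          rw [← h7]
          exact hN2.to_sup_of_normal_left (P.isPGroup'.map _)
        have h9 : (P : Subgroup H).map (pr h) = ⊤ := by
          have h10 := (P.mapSurjective (pr_surjective h)).is_maximal' h8 le_top
          rw [Sylow.coe_mapSurjective] at h10
          exact h10.symm
        have h11 := congrArg (Subgroup.comap (pr h)) h9
        rw [comap_map_eq, hker, comap_top, sup_comm] at h11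
        exact h11
      have h6 := (sup_eq_top_or_inf_le hm N').resolve_left h5
      have h7 : (P : Subgroup H) ⊓ N' ≤ C := by
        refine h6.trans ?_
        rw [hC, Subgroup.subgroupOf, ← map_le_iff_le_comap]
        exact s.o2
      rw [eq_bot_iff]
      intro x hx
      obtain ⟨g, rfl⟩ := pr_surjective h x
      have h8 : N ≤ (P.mapSurjective (pr_surjective h) : Sylow 2 (XX h)) := by
        have h9 : IsPGroup 2 ((P.mapSurjective (pr_surjective h) : Subgroup (XX h)) ⊔ N : Subgroup (XX h)) :=
          (P.mapSurjective (pr_surjective h)).isPGroup'.to_sup_of_normal_right hN2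
        exact le_sup_right.trans_eq ((P.mapSurjective (pr_surjective h)).is_maximal' h9 le_sup_left)
      have h9 := h8 hx
      rw [Sylow.coe_mapSurjective] at h9
      obtain ⟨p, hp, hpg⟩ := h9
      have h10 : p ∈ C := h7 ⟨hp, show pr h p ∈ N by rw [hpg]; exact hx⟩
      rw [← hker, MonoidHom.mem_ker, hpg] at h10
      rw [h10]
      exact one_mem _
    · intro h5
      apply hm.ne_top
      rw [← hMc, h5, comap_top]
    · intro K hK
      rw [Sylow.coe_mapSurjective, map_le_iff_le_comap] at hK
      by_cases hK1 : K.comap (pr h) = ⊤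
      · right
        rw [← map_comap_eq_self_of_surjective (pr_surjective h) K, hK1,
          map_top_of_surjective _ (pr_surjective h)]
      · left
        have h5 := hm.le_of _ hK hK1
        rw [← map_comap_eq_self_of_surjective (pr_surjective h) K]
        exact map_mono h5
    · intro X hX
      have h5 : W ≤ X.map W.subtype := by
        refine s.gen _ fun g hg z hz hzT => ?_
        refine ⟨pr h ⟨g, hg⟩ • ⟨z, hz⟩, hX _ ?_ _, rfl⟩
        intro t ht
        obtain ⟨t, ht, rfl⟩ := ht
        rw [pr_smul_eq_iff]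
        have ht' : t ∈ T.subgroupOf H := by rw [hTP]; exact ht
        exact hzT _ (mem_subgroupOf.1 ht')
      rw [eq_top_iff]
      intro v _
      obtain ⟨w, hw, hwv⟩ := h5 v.2
      have : w = v := Subtype.ext hwv
      rw [← this]
      exact hw
    · obtain ⟨z, hz, hzT, g, hg, hgz⟩ := s.exists_moved
      refine ⟨⟨z, hz⟩, ?_, pr h ⟨g, hg⟩, ?_⟩
      · intro t ht
        obtain ⟨t, ht, rfl⟩ := ht
        rw [pr_smul_eq_iff]
        have ht' : t ∈ T.subgroupOf H := by rw [hTP]; exact ht
        exact hzT _ (mem_subgroupOf.1 ht')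
      · rw [Ne, pr_smul_eq_iff]
        exact hgz
  · intro x
    constructor
    · rintro ⟨t, ht, rfl⟩
      have ht' : t ∈ T.subgroupOf H := by rw [hTP]; exact ht
      exact ⟨t, mem_subgroupOf.1 ht', rfl⟩
    · rintro ⟨t, ht, rfl⟩
      refine ⟨t, ?_, rfl⟩
      have ht' : t ∈ T.subgroupOf H := mem_subgroupOf.2 ht
      rw [hTP] at ht'
      exact ht'

/-- **The FF theorem on `W`.** -/
theorem noOverM (hA : AStmt.{u}) {A : Subgroup G} (hAH : A ≤ H) (ho : OffM W A) :
    NoOverM W H ∧ ∃ S : Subgroup (XX s.norm), (∀ x : XX s.norm, x ∈ S ↔ ∃ t : H, (t : G) ∈ T ∧ pr s.norm t = x) ∧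
      AConcl S W := by
  obtain ⟨S, M, hM, hS⟩ := s.abs_sub
  obtain ⟨h3, h4⟩ := hA (XX s.norm) W S M hM ⟨im s.norm A, aoff_of_offM s.norm hAH ho⟩
  exact ⟨noOverM_of s.norm h3, S, hS, h4⟩

end Sub

end Cfsg.Agent.Omega.NOThreeL.SubFF
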