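import Cfsg.Agent.Omega.NO3b.Bang
import Cfsg.Agent.Omega.NOThreeL.SubFF
import Cfsg.Agent.Omega.NOThreeL.Star

/-!
# NO-3L, box R: the `z`-cut (#16868, helper761)

`S` a Sylow 2-subgroup, no mutual pair, `z ∈ Ω₁(Z(S))#`, `F_z = {P ∈ P*(S) : P moves z}`, `Y^z = ⟨F_z⟩`,
`V^z = ⟨z^(Y^z)⟩`.

* `eq_bot_of_le` : (0), no nontrivial 2-group is normalised by `F_z` and by `C_G(z)`; `FZ_nonempty`;
* `cent_le_o2` : `C_S(⟨z^P⟩) ≤ O₂(P)` for `P ∈ F_z`; `le_norm_cs`, `cs_le_o2`, `isLoc` : (1);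
* `le_normalizer_bang` : (2), `V^z ∈ NN(S)` implies `Y^z ≤ N_G(V^!(S))`; `VZ_le_bang`;
* `nonLoc` : (2), then `N_G(V^!(S))` and `C_G(z)` do not normalise a common nontrivial 2-group;
* `exists_exact` : (3), `V^z ∉ NN(S)` implies: some optimal offender `A ≤ S` on `V^z` and `P ∈ F_z` with `A ≰ O₂(P)`,
  `V^z = ⟨z^P⟩ C_(V^z)(A)`, `|V^z : C(A)| = |A : C_A(V^z)|`, and the FF theorem holds for `P` on `⟨z^P⟩`;
* `cut` : the alternative.
-/

set_option autoImplicit false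

namespace Cfsg.Agent.Omega.NOThreeL.ZCut

open Subgroup Cfsg Cfsg.Agent.ZN Cfsg.Agent.ZN.ChoiceBase
open Cfsg.Agent.Omega.MinPar Cfsg.Agent.Omega.Frame Cfsg.Agent.Omega.FrameNOFF
open Cfsg.Agent.Omega.NO3b.EZero (NotFF cent_symm cj_cent cj_norm cj_eq_cj_iff)
open Cfsg.Agent.Omega.FFThm (ElemM OffM NoOverM ConclM relIndex_le_iff)
open Cfsg.Agent.Omega.NOThreeL.Star (YS le_YS Opt Ok exists_opt)
open Cfsg.Agent.Omega.NO3b.Bang (NN bang)
open Cfsg.Agent.Omega.NOThreeL.SubFF (Sub)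
open Cfsg.Agent.Omega.FFBr (AStmt AConcl XX pr)
open Cfsg.Agent.MinSimple.VModule (zc_le_zl le_normalizer_zl zl_le zc_le mem_zc le_centralizer_zc zc_sq
  le_normalizer_o2 o2_isPGroup o2_le le_o2)

universe u

variable {G : Type u} [Group G]

/-- `F_z` -/
def FZ (S : Subgroup G) (z : G) : Set (Subgroup G) := {P | IsParS S P ∧ ¬ P ≤ centralizer ({z} : Set G)}

/-- `Y^z = ⟨F_z⟩` -/
def YZ (S : Subgroup G) (z : G) : Subgroup G := sSup (FZ S z)

/-- `⟨z^P⟩` -/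
def XZ (z : G) (P : Subgroup G) : Subgroup G := closure {x | ∃ p ∈ P, x = p * z * p⁻¹}

/-- `V^z = ⟨z^(Y^z)⟩` -/
def VZ (S : Subgroup G) (z : G) : Subgroup G := XZ z (YZ S z)

theorem le_YZ {S P : Subgroup G} {z : G} (hP : P ∈ FZ S z) : P ≤ YZ S z := le_sSup hP

theorem conj_mem_XZ {z p : G} {P : Subgroup G} (hp : p ∈ P) : p * z * p⁻¹ ∈ XZ z P :=
  subset_closure ⟨p, hp, rfl⟩

theorem mem_XZ {z : G} {P : Subgroup G} : z ∈ XZ z P := by
  have := conj_mem_XZ (z := z) (one_mem P)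
  simpa using this

theorem XZ_le {z : G} {P K : Subgroup G} (h : ∀ p ∈ P, p * z * p⁻¹ ∈ K) : XZ z P ≤ K := by
  rw [XZ, closure_le]
  rintro _ ⟨p, hp, rfl⟩
  exact h p hp

theorem XZ_mono {z : G} {P Q : Subgroup G} (h : P ≤ Q) : XZ z P ≤ XZ z Q :=
  XZ_le fun _ hp => conj_mem_XZ (h hp)

theorem le_normalizer_XZ (z : G) (P : Subgroup G) : P ≤ normalizer (XZ z P : Set G) := by
  have key : ∀ p ∈ P, cj p (XZ z P) ≤ XZ z P := by
    intro p hp
    rw [cj, map_le_iff_le_comap]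
    refine XZ_le fun q hq => ?_
    have : (p * q) * z * (p * q)⁻¹ ∈ XZ z P := conj_mem_XZ (mul_mem hp hq)
    have e : (p * q) * z * (p * q)⁻¹ = p * (q * z * q⁻¹) * p⁻¹ := by group
    rw [e] at this
    exact this
  intro p hp
  rw [mem_normalizer_iff_cj]
  refine le_antisymm (key p hp) ?_
  have h1 := cj_mono p (key p⁻¹ (inv_mem hp))
  rwa [cj_cj_inv] at h1

theorem VZ_le_zl {S : Subgroup G} {z : G} (hz : z ∈ zc S) : VZ S z ≤ zl S (YS S) := by
  refine XZ_le fun p hp => ?_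
  have h1 : YZ S z ≤ YS S := sSup_le fun P hP => le_YS hP.1
  exact (mem_normalizer_iff.1 (le_normalizer_zl S (YS S) (h1 hp)) z).1 (zc_le_zl S (YS S) hz)

section fin

variable [Finite G] {S : Sylow 2 G} {z : G}

theorem le_cent (hz : z ∈ zc (S : Subgroup G)) : (S : Subgroup G) ≤ centralizer ({z} : Set G) := by
  intro s hs
  rw [mem_centralizer_iff]
  rintro _ rfl
  exact ((MinSimple.VModule.mem_zc.1 hz).2.1 s hs).symm

/-- `C_S(⟨z^P⟩) ≤ O₂(P)` -/
theorem cent_le_o2 (hz : z ∈ zc (S : Subgroup G)) {P : Subgroup G} (hP : P ∈ FZ (S : Subgroup G) z) :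
    (S : Subgroup G) ⊓ centralizer (XZ z P : Set G) ≤ o2 P := by
  have hSP : (S : Subgroup G) ≤ P := hP.1.le
  have hn : P ≤ normalizer ((P ⊓ centralizer (XZ z P : Set G) : Subgroup G) : Set G) := by
    intro p hp
    rw [mem_normalizer_iff_cj, cj_inf, cj_centralizer, cj_eq_of_mem_normalizer (le_normalizer hp),
      cj_eq_of_mem_normalizer (le_normalizer_XZ z P hp)]
  rcases hP.1.toIsPar.sup_eq_or_inf_le S inf_le_left hn with h1 | h1
  · exfalso
    apply hP.2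
    rw [← h1]
    refine sup_le ?_ (le_cent hz)
    exact inf_le_right.trans (centralizer_le (Set.singleton_subset_iff.2 mem_XZ))
  · refine le_trans ?_ h1
    exact le_inf inf_le_left (le_inf (inf_le_left.trans hSP) inf_le_right)

/-- **(0)** -/
theorem eq_bot_of_le (hM : ¬ OneMax (S : Subgroup G)) (hz : z ∈ zc (S : Subgroup G)) {U : Subgroup G}
    (hU : IsPGroup 2 U) (h1 : ∀ P ∈ FZ (S : Subgroup G) z, P ≤ normalizer (U : Set G))
    (h2 : centralizer ({z} : Set G) ≤ normalizer (U : Set G)) : U = ⊥ := by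
  refine NoFF.LinesPlug.eq_bot_of_le S hM U hU (fun P hP => ?_) ?_
  · by_cases h : P ≤ centralizer ({z} : Set G)
    · exact h.trans h2
    · exact h1 P ⟨hP, h⟩
  · refine le_trans (centralizer_le (Set.singleton_subset_iff.2 hz)) h2

theorem FZ_nonempty (hM : ¬ OneMax (S : Subgroup G)) (hz : z ∈ zc (S : Subgroup G)) (hz1 : z ≠ 1) :
    (FZ (S : Subgroup G) z).Nonempty := by
  by_contra hcon
  rw [Set.not_nonempty_iff_eq_empty] at hcon
  have h1 : zpowers z = ⊥ := by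
    refine eq_bot_of_le hM hz (S.isPGroup'.to_le ?_) (fun P hP => ?_) ?_
    · rw [zpowers_le]; exact zc_le _ hz
    · rw [hcon] at hP; exact absurd hP (Set.notMem_empty P)
    · refine le_trans ?_ (centralizer_le_normalizer _)
      intro g hg
      rw [mem_centralizer_iff] at hg ⊢
      intro x hx
      obtain ⟨k, rfl⟩ := mem_zpowers_iff.1 hx
      have e : Commute z g := hg z rfl
      exact (e.zpow_left k).eq
  exact hz1 (zpowers_eq_bot.1 h1)

theorem S_le_YZ (hM : ¬ OneMax (S : Subgroup G)) (hz : z ∈ zc (S : Subgroup G)) (hz1 : z ≠ 1) :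
    (S : Subgroup G) ≤ YZ (S : Subgroup G) z := by
  obtain ⟨P, hP⟩ := FZ_nonempty hM hz hz1
  exact hP.1.le.trans (le_YZ hP)

section cs

variable (hz : z ∈ zc (S : Subgroup G))
include hz

/-- `C_S(V^z)` is normalised by `Y^z`. -/
theorem le_norm_cs : YZ (S : Subgroup G) z ≤
    normalizer (((S : Subgroup G) ⊓ centralizer (VZ (S : Subgroup G) z : Set G) : Subgroup G) : Set G) := by
  refine sSup_le fun P hP => ?_
  have hVP : XZ z P ≤ VZ (S : Subgroup G) z := XZ_mono (le_YZ hP)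
  have key : ∀ p ∈ P, ∀ x ∈ (S : Subgroup G) ⊓ centralizer (VZ (S : Subgroup G) z : Set G),
      p * x * p⁻¹ ∈ (S : Subgroup G) ⊓ centralizer (VZ (S : Subgroup G) z : Set G) := by
    intro p hp x hx
    refine ⟨?_, ?_⟩
    · have h1 : x ∈ o2 P := cent_le_o2 hz hP ⟨hx.1, centralizer_le hVP hx.2⟩
      exact hP.1.isLoc.o2_le S ((mem_normalizer_iff.1 (le_normalizer_o2 P hp) x).1 h1)
    · refine mem_centralizer_iff.2 fun v hv => ?_
      have h2 := (mem_normalizer_iff''.1 (le_normalizer_XZ z (YZ (S : Subgroup G) z) (le_YZ hP hp)) v).1 hv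
      have h3 := mem_centralizer_iff.1 hx.2 _ h2
      have e1 : v * (p * x * p⁻¹) = p * ((p⁻¹ * v * p) * x) * p⁻¹ := by group
      have e2 : p * x * p⁻¹ * v = p * (x * (p⁻¹ * v * p)) * p⁻¹ := by group
      rw [e1, e2, h3]
  intro p hp
  rw [mem_normalizer_iff]
  intro x
  refine ⟨key p hp x, fun hx => ?_⟩
  have h1 := key p⁻¹ (P.inv_mem hp) _ hx
  have e : p⁻¹ * (p * x * p⁻¹) * p⁻¹⁻¹ = x := by group
  rwa [e] at h1

theorem cs_le_o2 (hSY : (S : Subgroup G) ≤ YZ (S : Subgroup G) z) :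
    (S : Subgroup G) ⊓ centralizer (VZ (S : Subgroup G) z : Set G) ≤ o2 (YZ (S : Subgroup G) z) :=
  le_o2 (inf_le_left.trans hSY) (S.isPGroup'.to_le inf_le_left) (le_norm_cs hz)

/-- **(2)**: `Y^z ≤ N_G(V^!(S))` -/
theorem le_normalizer_bang (hN : NN (S : Subgroup G) (VZ (S : Subgroup G) z)) :
    YZ (S : Subgroup G) z ≤ normalizer (bang (S : Subgroup G) : Set G) :=
  NO3b.Bang.le_normalizer_bang_of_cent hN (le_norm_cs hz)

/-- **(2)**: `⟨N_G(V^!(S)), C_G(z)⟩` is nonlocal. -/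
theorem nonLoc (hM : ¬ OneMax (S : Subgroup G)) (hN : NN (S : Subgroup G) (VZ (S : Subgroup G) z)) {U : Subgroup G}
    (hU : IsPGroup 2 U) (h1 : normalizer (bang (S : Subgroup G) : Set G) ≤ normalizer (U : Set G))
    (h2 : centralizer ({z} : Set G) ≤ normalizer (U : Set G)) : U = ⊥ :=
  eq_bot_of_le hM hz hU (fun _ hP => (le_YZ hP).trans ((le_normalizer_bang hz hN).trans h1)) h2

end cs

section comm

variable (hc : IsCharacteristicTwoType G) (hm : ¬ FF (S : Subgroup G)) (hz : z ∈ zc (S : Subgroup G))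
include hc hm hz

theorem VZ_comm : VZ (S : Subgroup G) z ≤ centralizer (VZ (S : Subgroup G) z : Set G) :=
  (VZ_le_zl hz).trans ((Star.zl_comm hc hm).trans (centralizer_le (VZ_le_zl hz)))

theorem VZ_sq : ∀ v ∈ VZ (S : Subgroup G) z, v ^ 2 = 1 := fun v hv => Star.zl_sq hc hm v (VZ_le_zl hz hv)

theorem VZ_isPGroup : IsPGroup 2 (VZ (S : Subgroup G) z) := fun x =>
  ⟨1, Subtype.ext (by simpa using VZ_sq hc hm hz x x.2)⟩

theorem VZ_le (hSY : (S : Subgroup G) ≤ YZ (S : Subgroup G) z) : VZ (S : Subgroup G) z ≤ S :=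
  le_of_le_normalizer S (VZ_isPGroup hc hm hz) (hSY.trans (le_normalizer_XZ z _))

/-- `Y^z` is 2-local -/
theorem isLoc (hSY : (S : Subgroup G) ≤ YZ (S : Subgroup G) z) (hz1 : z ≠ 1) :
    IsLoc (S : Subgroup G) (YZ (S : Subgroup G) z) := by
  refine ⟨hSY, fun h0 => hz1 ?_⟩
  have h1 : z ∈ (S : Subgroup G) ⊓ centralizer (VZ (S : Subgroup G) z : Set G) :=
    ⟨zc_le _ hz, VZ_comm hc hm hz mem_XZ⟩
  have h2 := cs_le_o2 hz hSY h1
  rw [h0] at h2
  exact h2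

/-- not FF implies `V^z ∈ NN(S)` -/
theorem nn_of_notFF (hSY : (S : Subgroup G) ≤ YZ (S : Subgroup G) z) (hn : NotFF (VZ (S : Subgroup G) z)) :
    NN (S : Subgroup G) (VZ (S : Subgroup G) z) where
  le := VZ_le hc hm hz hSY
  norm := hSY.trans (le_normalizer_XZ z _)
  comm := VZ_comm hc hm hz
  sq := VZ_sq hc hm hz
  nff := fun A hA ho => by
    have h1 := hn A (S.isPGroup'.to_le hA) (hA.trans (hSY.trans (le_normalizer_XZ z _))) ho.sq ho.comm ho.ne
    have h2 := relIndex_le_iff.1 ho.le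
    omega

/-- the FF theorem applies to `⟨z^P⟩`, `P ∈ F_z` -/
theorem sub {P : Subgroup G} (hP : P ∈ FZ (S : Subgroup G) z) : Sub (S : Subgroup G) P (XZ z P) where
  syl := MinSimple.EmptyTI.syl_of_le hP.1.le
  min := hP.1.toIsMinPar
  norm := le_normalizer_XZ z P
  comm := (XZ_mono (le_YZ hP)).trans ((VZ_comm hc hm hz).trans (centralizer_le (XZ_mono (le_YZ hP))))
  sq := fun v hv => VZ_sq hc hm hz v (XZ_mono (le_YZ hP) hv)
  o2 := by
    refine cent_symm (XZ_le fun p hp => ?_)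
    rw [mem_centralizer_iff]
    intro x hx
    have h1 : p⁻¹ * x * p ∈ (S : Subgroup G) := by
      have h2 := (mem_normalizer_iff''.1 (le_normalizer_o2 P hp) x).1 hx
      exact hP.1.isLoc.o2_le S h2
    have h3 := (MinSimple.VModule.mem_zc.1 hz).2.1 _ h1
    have e1 : x * (p * z * p⁻¹) = p * ((p⁻¹ * x * p) * z) * p⁻¹ := by group
    have e2 : p * z * p⁻¹ * x = p * (z * (p⁻¹ * x * p)) * p⁻¹ := by group
    rw [e1, e2, h3]
  gen := fun K hK => XZ_le fun p hp => hK p hp z mem_XZ fun t ht => (MinSimple.VModule.mem_zc.1 hz).2.1 t ht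
  ne := fun h => hP.2 (h.trans (centralizer_le (Set.singleton_subset_iff.2 mem_XZ)))

/-- If an offender in `S` centralises all `⟨z^P⟩`, `P ∈ F_z`, it is in all `S^y`, `y ∈ Y^z`. -/
theorem conj_le_of_all {V : Subgroup G} (hV : V = VZ (S : Subgroup G) z)
    (hall : ∀ A : Subgroup G, Opt V A → A ≤ (S : Subgroup G) → ∀ P ∈ FZ (S : Subgroup G) z,
      A ≤ centralizer (XZ z P : Set G)) {y : G} (hy : y ∈ YZ (S : Subgroup G) z) :
    y ∈ normalizer (V : Set G) ∧ ∀ A : Subgroup G, Opt V A → A ≤ (S : Subgroup G) →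
      cj y A ≤ (S : Subgroup G) := by
  have hy' : y ∈ ⨆ P : {P : Subgroup G // P ∈ FZ (S : Subgroup G) z}, (P : Subgroup G) := by
    unfold YZ at hy
    rwa [sSup_eq_iSup'] at hy
  refine Subgroup.iSup_induction (S := fun P : {P : Subgroup G // P ∈ FZ (S : Subgroup G) z} => (P : Subgroup G))
    (C := fun y => y ∈ normalizer (V : Set G) ∧ ∀ A : Subgroup G, Opt V A → A ≤ (S : Subgroup G) →
      cj y A ≤ (S : Subgroup G)) hy' ?_ ?_ ?_
  · rintro ⟨P, hP⟩ p hp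
    refine ⟨?_, fun A hA hAS => ?_⟩
    · rw [hV]; exact le_normalizer_XZ _ _ (le_YZ hP hp)
    · rintro _ ⟨a, ha, rfl⟩
      have h1 : a ∈ o2 P := cent_le_o2 hz hP ⟨hAS ha, hall A hA hAS P hP ha⟩
      exact hP.1.isLoc.o2_le S ((mem_normalizer_iff.1 (le_normalizer_o2 P hp) a).1 h1)
  · exact ⟨one_mem _, fun A _ hAS => by rwa [cj_one]⟩
  · rintro x y ⟨hx1, hx2⟩ ⟨hy1, hy2⟩
    refine ⟨mul_mem hx1 hy1, fun A hA hAS => ?_⟩
    rw [← cj_cj]
    exact hx2 _ (hA.cj hy1) (hy2 A hA hAS)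

/-- **(3)** -/
theorem exists_exact (hFF : AStmt.{u}) (hSY : (S : Subgroup G) ≤ YZ (S : Subgroup G) z)
    (hn : ¬ NN (S : Subgroup G) (VZ (S : Subgroup G) z)) :
    ∃ P ∈ FZ (S : Subgroup G) z, ∃ A : Subgroup G, A ≤ (S : Subgroup G) ∧ Opt (VZ (S : Subgroup G) z) A ∧
      ¬ A ≤ o2 P ∧ OffM (XZ z P) A ∧ NoOverM (XZ z P) P ∧
      (∃ (h : P ≤ normalizer (XZ z P : Set G)) (T : Subgroup (XX h)),
        (∀ x : XX h, x ∈ T ↔ ∃ t : P, (t : G) ∈ (S : Subgroup G) ∧ pr h t = x) ∧ AConcl T (XZ z P)) ∧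
      A ⊓ centralizer (XZ z P : Set G) ≤ centralizer (VZ (S : Subgroup G) z : Set G) ∧
      VZ (S : Subgroup G) z = XZ z P ⊔ (VZ (S : Subgroup G) z ⊓ centralizer (A : Set G)) ∧
      (centralizer (A : Set G)).relIndex (VZ (S : Subgroup G) z) =
        (centralizer (VZ (S : Subgroup G) z : Set G)).relIndex A := by
  set V := VZ (S : Subgroup G) z with hV
  have hYV : YZ (S : Subgroup G) z ≤ normalizer (V : Set G) := le_normalizer_XZ _ _
  have hVc : V ≤ centralizer (V : Set G) := VZ_comm hc hm hz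
  obtain ⟨A0, hA0⟩ := exists_opt fun h => hn (nn_of_notFF hc hm hz hSY h)
  obtain ⟨n, hnV, hnS⟩ := FFThm.exists_conj_le S (hSY.trans hYV) hA0.pg hA0.norm
  have hA1 := hA0.cj hnV
  by_contra hcon
  have hall : ∀ A : Subgroup G, Opt V A → A ≤ (S : Subgroup G) → ∀ P ∈ FZ (S : Subgroup G) z,
      A ≤ centralizer (XZ z P : Set G) := by
    intro A hA hAS P hP
    by_contra hne
    apply hcon
    have s := sub hc hm hz hP
    have hAP : A ≤ P := hAS.trans hP.1.le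
    have hW : XZ z P ≤ V := XZ_mono (le_YZ hP)
    obtain ⟨h1, h2, h3, h4⟩ := hA.exact (P := P) hVc hW hne hAP fun hoff => (s.noOverM hFF hAP hoff).1
    obtain ⟨h5, T, h6, h7⟩ := s.noOverM hFF hAP h1
    refine ⟨P, hP, A, hAS, hA, fun h8 => hne (h8.trans s.o2), h1, h5, ⟨s.norm, T, h6, h7⟩, h2, h3, h4⟩
  refine hA1.ne (cent_symm ?_)
  refine XZ_le fun y hy => ?_
  have h1 := (conj_le_of_all hc hm hz hV hall (inv_mem hy)).2 _ hA1 hnS
  rw [mem_centralizer_iff]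
  intro a ha
  have h2 : y⁻¹ * a * y ∈ (S : Subgroup G) := h1 ⟨a, ha, by simp⟩
  have h3 := (MinSimple.VModule.mem_zc.1 hz).2.1 _ h2
  have e1 : a * (y * z * y⁻¹) = y * ((y⁻¹ * a * y) * z) * y⁻¹ := by group
  have e2 : y * z * y⁻¹ * a = y * (z * (y⁻¹ * a * y)) * y⁻¹ := by group
  rw [e1, e2, h3]

/-- **The `z`-cut.** -/
theorem cut (hFF : AStmt.{u}) (hM : ¬ OneMax (S : Subgroup G)) (hz1 : z ≠ 1) :
    (VZ (S : Subgroup G) z ≤ bang (S : Subgroup G) ∧
      YZ (S : Subgroup G) z ≤ normalizer (bang (S : Subgroup G) : Set G) ∧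
      ∀ U : Subgroup G, IsPGroup 2 U → normalizer (bang (S : Subgroup G) : Set G) ≤ normalizer (U : Set G) →
        centralizer ({z} : Set G) ≤ normalizer (U : Set G) → U = ⊥) ∨
    ∃ P ∈ FZ (S : Subgroup G) z, ∃ A : Subgroup G, A ≤ (S : Subgroup G) ∧ Opt (VZ (S : Subgroup G) z) A ∧
      ¬ A ≤ o2 P ∧ OffM (XZ z P) A ∧ NoOverM (XZ z P) P ∧
      (∃ (h : P ≤ normalizer (XZ z P : Set G)) (T : Subgroup (XX h)),
        (∀ x : XX h, x ∈ T ↔ ∃ t : P, (t : G) ∈ (S : Subgroup G) ∧ pr h t = x) ∧ AConcl T (XZ z P)) ∧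
      A ⊓ centralizer (XZ z P : Set G) ≤ centralizer (VZ (S : Subgroup G) z : Set G) ∧
      VZ (S : Subgroup G) z = XZ z P ⊔ (VZ (S : Subgroup G) z ⊓ centralizer (A : Set G)) ∧
      (centralizer (A : Set G)).relIndex (VZ (S : Subgroup G) z) =
        (centralizer (VZ (S : Subgroup G) z : Set G)).relIndex A := by
  by_cases hN : NN (S : Subgroup G) (VZ (S : Subgroup G) z)
  · exact Or.inl ⟨hN.le_bang, le_normalizer_bang hz hN, fun U hU h1 h2 => nonLoc hz hM hN hU h1 h2⟩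
  · exact Or.inr (exists_exact hc hm hz hFF (S_le_YZ hM hz hz1) hN)

end comm

end fin

end Cfsg.Agent.Omega.NOThreeL.ZCut
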