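import Cfsg.Agent.Omega.NOThreeL.Basic
import Cfsg.Agent.Omega.NoFF.ThmJQ

/-!
# THEOREM JQ for NO-3L (helper861)

`S` a Sylow 2-subgroup, `Z = Ω₁(Z(S))`, `Q = O₂(C_G(Z))`, `WP S` the product of all lines on the point `Z`.

* `bhs` : no elementary abelian `A ≤ S` is an over-offender on a line `V_P` (from the FF theorem);
* `exists_jq` : in NO-3L there are `P ∈ P*(S)` and `A ≤ Q`, elementary abelian of maximal order in `Q`, with
  `WP S ≤ A` and `[A, U_H] ≠ 1`, `H = ⟨P, C_G(Z)⟩`;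
* `off_jq` : such an `A` is an offender on `U_H` and `A / C_A(U_H)` lies in the image of `Q`.
-/

set_option autoImplicit false

namespace Cfsg.Agent.Omega.NOThreeL.JQ

open Subgroup Cfsg Cfsg.Agent.ZN Cfsg.Agent.Omega.MinPar Cfsg.Agent.Omega.Frame Cfsg.Agent.Omega.FrameNOFF
open Cfsg.Agent.Omega.Node.NO3L Cfsg.Agent.Omega.NOThreeL.Basic
open Cfsg.Agent.Omega.NoFF.Basic (V conj_conj mem_conj conj_le_iff conj_le_centralizer comm_symm comm_mono)
open Cfsg.Agent.Omega.NOThreeL.Pair (conj_eq_of_mem)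
open Cfsg.Agent.Omega.FFThm (Off NoOver Concl)
open Cfsg.Agent.Omega.NoFF.ThmJQ (MxIn)
open Cfsg.Agent.Omega.NoFF.ThmJFam (Ex)
open Cfsg.Agent.MinSimple.VModule (le_normalizer_zl zc_le_zl o2_isPGroup le_normalizer_o2)
open scoped Pointwise

universe u

variable {G : Type u} [Group G]

theorem elem_of_ex {A : Subgroup G} (h : Ex A) : IsElementaryAbelian 2 A :=
  ⟨⟨⟨fun a b => Subtype.ext (mem_centralizer_iff.1 (h.comm b.2) a a.2)⟩⟩, h⟩

variable [Finite G]

/-- No over-offender on a line. -/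
theorem bhs (hFF : FFThm.Stmt.{u}) (hc : IsCharacteristicTwoType G) (S : Sylow 2 G) {P : Subgroup G}
    (hP : IsParS (S : Subgroup G) P) {A : Subgroup G} (hA : A ≤ (S : Subgroup G)) (hE : Ex A) :
    Nat.card A * Nat.card (zl (S : Subgroup G) P ⊓ centralizer (A : Set G) : Subgroup G) ≤
      Nat.card (zl (S : Subgroup G) P) *
        Nat.card (A ⊓ centralizer (zl (S : Subgroup G) P : Set G) : Subgroup G) := by
  rcases le_total (Nat.card A * Nat.card (zl (S : Subgroup G) P ⊓ centralizer (A : Set G) : Subgroup G))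
    (Nat.card (zl (S : Subgroup G) P) *
      Nat.card (A ⊓ centralizer (zl (S : Subgroup G) P : Set G) : Subgroup G)) with h | h
  · exact h
  · by_cases hcen : A ≤ centralizer (zl (S : Subgroup G) P : Set G)
    · rw [inf_eq_left.2 hcen, inf_eq_left.2 (comm_symm hcen), Nat.mul_comm]
    · obtain ⟨h1, -⟩ := FFThm.of_off hFF hc S hP.toIsPar (hA.trans (hP.le.trans (le_normalizer_zl _ _)))
        ⟨elem_of_ex hE, hcen, h⟩
      exact h1 A (hA.trans hP.le) (elem_of_ex hE)

/-- The hypotheses of `NoFF.ThmJQ` for `Q = O₂(C_G(Z))`. -/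
theorem nrm (hFF : FFThm.Stmt.{u}) (h : Ctx G) (S : Sylow 2 G) (D : Data (S : Subgroup G)) :
    NoFF.ThmJQ.Nrm (zc (S : Subgroup G)) (CZ (S : Subgroup G)) (o2 (CZ (S : Subgroup G)))
      (PS (S : Subgroup G)) := by
  have hQS : o2 (CZ (S : Subgroup G)) ≤ (S : Subgroup G) :=
    (isLoc_centralizer_zc S (h.sylow_ne_bot S)).o2_le S
  exact
    { nor := le_normalizer_o2 _
      low := fun P hP => D.low P hP
      fix := fun P (hP : IsParS (S : Subgroup G) P) => hQS.trans (hP.le.trans (le_normalizer_zl _ _))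
      bhs := fun P hP A hA hE => bhs hFF h.char2 S hP (hA.trans hQS) hE }

/-- **THEOREM JQ for NO-3L.** -/
theorem exists_jq (hFF : FFThm.Stmt.{u}) (h : Ctx G) (S : Sylow 2 G) (hF : Full (S : Subgroup G))
    (D : Data (S : Subgroup G)) : ∃ A : Subgroup G, MxIn (o2 (CZ (S : Subgroup G))) A ∧
      WP (S : Subgroup G) ≤ A ∧ ∃ P : Subgroup G, IsParS (S : Subgroup G) P ∧
        ¬ A ≤ centralizer (zl (S : Subgroup G) (P ⊔ CZ (S : Subgroup G)) : Set G) := by
  obtain ⟨A, hA, hW, P, hP, p, hp, hn⟩ := NoFF.ThmJQ.thmJQ (geo h.char2 D) (h.exists_isParS hF)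
    (MinSimple.Basic.zc_ne_bot S.isPGroup' (h.sylow_ne_bot S)) (fun U hU h1 h2 => eq_bot_of_norm h S hF hU h1 h2) (nrm hFF h S D)
  refine ⟨A, hA, hW, P, hP, fun hcen => hn ?_⟩
  have hL := D.loc P hP
  have h1 := le_o2_of_comm hA.2.1 hL hcen
  rw [← conj_eq_of_mem (le_normalizer_o2 _ ((le_sup_left : P ≤ P ⊔ CZ (S : Subgroup G)) hp))] at h1
  exact h1.trans (conj_le_iff.2 (hL.o2_le S))

/-- A member of maximal order in `Q` which does not centralise `U_H` is an offender on `U_H`. -/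
theorem off_jq (hc : IsCharacteristicTwoType G) (S : Sylow 2 G) {A H : Subgroup G}
    (hA : MxIn (o2 (CZ (S : Subgroup G))) A) (hH : IsLong (S : Subgroup G) H)
    (hn : ¬ A ≤ centralizer (zl (S : Subgroup G) H : Set G)) : Off (zl (S : Subgroup G) H) A := by
  have hU := FFThm.elem_zl hc S hH.loc
  have hEU : Ex (zl (S : Subgroup G) H) := hU.2
  have h1 := hA.2.2 _ (Ex.sup hEU (hA.1.mono inf_le_left)
    (comm_symm (inf_le_right : A ⊓ centralizer (zl (S : Subgroup G) H : Set G) ≤ _)))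
    (sup_le ((hH.zl_le_o2 hc S).trans (hH.o2_le S)) (inf_le_left.trans hA.2.1))
  have h2 := NoFF.ThmJFam.card_sup_inf (A := zl (S : Subgroup G) H)
    (B := A ⊓ centralizer (zl (S : Subgroup G) H : Set G)) (comm_symm inf_le_right)
  have h3 : Nat.card (zl (S : Subgroup G) H ⊓ (A ⊓ centralizer (zl (S : Subgroup G) H : Set G)) : Subgroup G) ≤
      Nat.card (zl (S : Subgroup G) H ⊓ centralizer (A : Set G) : Subgroup G) :=
    Subgroup.card_le_of_le (inf_le_inf le_rfl (inf_le_left.trans hA.1.comm))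
  exact ⟨elem_of_ex hA.1, hn, by rw [← h2]; exact Nat.mul_le_mul h1 h3⟩

/-- **Summary**: an honest offender in the point radical centralising all lines on the point. -/
theorem exists_off (hFF : FFThm.Stmt.{u}) (h : Ctx G) (S : Sylow 2 G) (hF : Full (S : Subgroup G))
    (D : Data (S : Subgroup G)) : ∃ P A : Subgroup G, IsParS (S : Subgroup G) P ∧
      MxIn (o2 (CZ (S : Subgroup G))) A ∧ WP (S : Subgroup G) ≤ A ∧
      Off (zl (S : Subgroup G) (P ⊔ CZ (S : Subgroup G))) A := by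
  obtain ⟨A, hA, hW, P, hP, hn⟩ := exists_jq hFF h S hF D
  exact ⟨P, A, hP, hA, hW, off_jq h.char2 S hA (D.loc P hP) hn⟩

end Cfsg.Agent.Omega.NOThreeL.JQ
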