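import Mathlib

/-!
# NO-3L, piece B1, `|Z| = 2`: THEOREM TV (helper905)

K-free. `z` an involution, `H, K ≥ C_G(z)`, `U = ⟨z^H⟩`, `W = ⟨z^K⟩` elementary abelian, normal in `H` resp. `K`,
`S` a 2-subgroup of `C_G(z)` with `C_U(S), C_W(S) ≤ {1, z}`. If `[U, W] ≠ 1` and `|U : C_U(W)| = 2`, then

* `Tv.symm` : `|W : C_W(U)| = 2`, `[U, W] = ⟨z⟩`;
* `Tv.exists_form` : there is an `H`-invariant symplectic form on `U` such that `W` induces the transvection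
  with centre `z`;
* `Tv.false_of` : no `⟨z^P⟩ ≠ ⟨z⟩` with `S ≤ P ≤ K` is centralised by `U` (by `Tv.symm` the same with `H`, `W`).
-/

set_option autoImplicit false
set_option linter.style.haveILetI false

namespace Cfsg.Agent.Omega.NOThreeL.AdjTransv

open Subgroup

variable {G : Type*} [Group G]

/-- a 2-group `S` normalising the nontrivial elementary abelian group `N` has a nontrivial fixed point in `N` -/
theorem exists_fixed [Finite G] {S N : Subgroup G} (hS : IsPGroup 2 S) (hN : N ≠ ⊥) (hsq : ∀ n ∈ N, n * n = 1)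
    (hn : ∀ s ∈ S, ∀ n ∈ N, s * n * s⁻¹ ∈ N) : ∃ n ∈ N, n ≠ 1 ∧ ∀ s ∈ S, s * n * s⁻¹ = n := by
  letI act : MulAction S N :=
    { smul := fun s n => ⟨(s : G) * n * (s : G)⁻¹, hn s s.2 n n.2⟩
      one_smul := fun n => Subtype.ext (by change (1 : G) * n * (1 : G)⁻¹ = n; simp)
      mul_smul := fun a b n => Subtype.ext (by
        change ((a : G) * b) * n * ((a : G) * b)⁻¹ = a * (b * n * (b : G)⁻¹) * (a : G)⁻¹
        simp [mul_assoc]) }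
  have hdvd : 2 ∣ Nat.card N := by
    obtain ⟨n, hn1⟩ := ne_bot_iff_exists_ne_one.1 hN
    have h2 : orderOf n = 2 := by
      apply orderOf_eq_prime
      · rw [pow_two]; exact Subtype.ext (hsq _ n.2)
      · exact hn1
    rw [← h2]
    exact orderOf_dvd_natCard _
  have h1 : (1 : N) ∈ MulAction.fixedPoints S N := by
    intro s
    apply Subtype.ext
    change (s : G) * 1 * (s : G)⁻¹ = 1
    simp
  obtain ⟨b, hb, hne⟩ := hS.exists_fixed_point_of_prime_dvd_card_of_fixed_point N hdvd h1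
  refine ⟨b, b.2, fun h => hne (Subtype.ext h.symm), fun s hs => ?_⟩
  exact congrArg Subtype.val (hb ⟨s, hs⟩)

/-- an adjacent pair (without the noncommutativity) -/
structure Adj (z : G) (U W H K S : Subgroup G) : Prop where
  z1 : z ≠ 1
  zU : z ∈ U
  zW : z ∈ W
  sqU : ∀ u ∈ U, u * u = 1
  sqW : ∀ w ∈ W, w * w = 1
  nU : ∀ h ∈ H, ∀ u ∈ U, h * u * h⁻¹ ∈ U
  nW : ∀ k ∈ K, ∀ w ∈ W, k * w * k⁻¹ ∈ W
  cH : ∀ g, g * z = z * g → g ∈ H
  cK : ∀ g, g * z = z * g → g ∈ K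
  genU : U ≤ closure {x | ∃ h ∈ H, x = h * z * h⁻¹}
  genW : W ≤ closure {x | ∃ k ∈ K, x = k * z * k⁻¹}
  pS : IsPGroup 2 S
  cS : ∀ s ∈ S, s * z = z * s
  fixU : ∀ u ∈ U, (∀ s ∈ S, s * u * s⁻¹ = u) → u = 1 ∨ u = z
  fixW : ∀ w ∈ W, (∀ s ∈ S, s * w * s⁻¹ = w) → w = 1 ∨ w = z

/-- the centraliser of `W` -/
abbrev C (W : Subgroup G) : Subgroup G := centralizer (W : Set G)

theorem mem_C {W : Subgroup G} {v : G} : v ∈ C W ↔ ∀ w ∈ W, w * v = v * w := mem_centralizer_iff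

/-- the character with kernel `C(W)` -/
noncomputable def chi (W : Subgroup G) (v : G) : ℤˣ := by
  classical exact if v ∈ C W then 1 else -1

theorem chi_eq_one {W : Subgroup G} {v : G} : chi W v = 1 ↔ v ∈ C W := by
  unfold chi
  split
  · simpa
  · rename_i h
    simp only [h, iff_false]
    decide

theorem chi_of_not {W : Subgroup G} {v : G} (h : v ∉ C W) : chi W v = -1 := by
  unfold chi
  rw [if_neg h]

theorem eq_of_sq {a b : G} (ha : a * a = 1) (hb : b * b = 1) (hab : a * b * (a * b) = 1) : a * b = b * a := by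
  have h1 : a⁻¹ = a := inv_eq_of_mul_eq_one_left ha
  have h2 : b⁻¹ = b := inv_eq_of_mul_eq_one_left hb
  have h3 : (a * b)⁻¹ = a * b := inv_eq_of_mul_eq_one_left hab
  rw [mul_inv_rev, h1, h2] at h3
  exact h3.symm

theorem units_mul_self (a : ℤˣ) : a * a = 1 := by
  rcases Int.units_eq_one_or a with h | h <;> rw [h] <;> decide

namespace Adj

variable {z : G} {U W H K S : Subgroup G}

theorem symm (a : Adj z U W H K S) : Adj z W U K H S :=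
  { z1 := a.z1, zU := a.zW, zW := a.zU, sqU := a.sqW, sqW := a.sqU, nU := a.nW, nW := a.nU, cH := a.cK, cK := a.cH,
    genU := a.genW, genW := a.genU, pS := a.pS, cS := a.cS, fixU := a.fixW, fixW := a.fixU }

theorem zz (a : Adj z U W H K S) : z * z = 1 := a.sqU z a.zU

theorem commU (a : Adj z U W H K S) {u v : G} (hu : u ∈ U) (hv : v ∈ U) : u * v = v * u :=
  eq_of_sq (a.sqU u hu) (a.sqU v hv) (a.sqU _ (U.mul_mem hu hv))

theorem commW (a : Adj z U W H K S) {u v : G} (hu : u ∈ W) (hv : v ∈ W) : u * v = v * u := a.symm.commU hu hv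

theorem UH (a : Adj z U W H K S) : U ≤ H := fun _ hu => a.cH _ (a.commU hu a.zU)

theorem UK (a : Adj z U W H K S) : U ≤ K := fun _ hu => a.cK _ (a.commU hu a.zU)

theorem WH (a : Adj z U W H K S) : W ≤ H := a.symm.UK

theorem WK (a : Adj z U W H K S) : W ≤ K := a.symm.UH

theorem SH (a : Adj z U W H K S) : S ≤ H := fun _ hs => a.cH _ (a.cS _ hs)

theorem SK (a : Adj z U W H K S) : S ≤ K := fun _ hs => a.cK _ (a.cS _ hs)

theorem invU (a : Adj z U W H K S) {u : G} (hu : u ∈ U) : u⁻¹ = u := inv_eq_of_mul_eq_one_left (a.sqU u hu)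

theorem invW (a : Adj z U W H K S) {u : G} (hu : u ∈ W) : u⁻¹ = u := a.symm.invU hu

/-- `C(W)` is normalised by `K` -/
theorem normC (a : Adj z U W H K S) {k v : G} (hk : k ∈ K) (hv : v ∈ C W) : k * v * k⁻¹ ∈ C W := by
  rw [mem_C] at hv ⊢
  intro w hw
  have h1 := hv _ (a.nW k⁻¹ (K.inv_mem hk) w hw)
  rw [inv_inv] at h1
  calc w * (k * v * k⁻¹) = k * ((k⁻¹ * w * k) * v) * k⁻¹ := by simp only [mul_assoc, mul_inv_cancel_left]
    _ = k * (v * (k⁻¹ * w * k)) * k⁻¹ := by rw [h1]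
    _ = k * v * k⁻¹ * w := by simp only [mul_assoc, mul_inv_cancel, mul_one]

theorem normC' (a : Adj z U W H K S) {k v : G} (hk : k ∈ K) (hv : k * v * k⁻¹ ∈ C W) : v ∈ C W := by
  have h1 := a.normC (K.inv_mem hk) hv
  rw [inv_inv] at h1
  simpa [mul_assoc] using h1

/-- a nontrivial `S`-invariant subgroup of `U` contains `z` -/
theorem mem_of [Finite G] (a : Adj z U W H K S) {N : Subgroup G} (h1 : N ≤ U) (h2 : N ≠ ⊥)
    (h3 : ∀ s ∈ S, ∀ n ∈ N, s * n * s⁻¹ ∈ N) : z ∈ N := by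
  obtain ⟨n, hn, hn1, hs⟩ := exists_fixed a.pS h2 (fun n hn => a.sqU n (h1 hn)) h3
  rcases a.fixU n (h1 hn) hs with h | h
  · exact absurd h hn1
  · rwa [← h]

/-- every point lies in `U` -/
theorem ptU (a : Adj z U W H K S) {h : G} (hh : h ∈ H) : h * z * h⁻¹ ∈ U := a.nU h hh z a.zU

theorem zCW (a : Adj z U W H K S) : z ∈ C W := mem_C.2 fun _ hw => a.commW hw a.zW

end Adj

/-- an adjacent pair with `[U, W] ≠ 1` and `|U : C_U(W)| = 2` -/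
structure Tv (z : G) (U W H K S : Subgroup G) : Prop extends Adj z U W H K S where
  ne : ∃ u ∈ U, u ∉ C W
  idx : ∀ u ∈ U, ∀ v ∈ U, u ∉ C W → v ∉ C W → u * v ∈ C W

namespace Tv

variable {z : G} {U W H K S : Subgroup G}

theorem chi_mul (t : Tv z U W H K S) {u v : G} (hu : u ∈ U) (hv : v ∈ U) : chi W (u * v) = chi W u * chi W v := by
  by_cases h1 : u ∈ C W
  · by_cases h2 : v ∈ C W
    · rw [chi_eq_one.2 h1, chi_eq_one.2 h2, chi_eq_one.2 (mul_mem h1 h2)]; rfl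
    · have h3 : u * v ∉ C W := fun h => h2 (by simpa using mul_mem (inv_mem h1) h)
      rw [chi_eq_one.2 h1, chi_of_not h2, chi_of_not h3]; rfl
  · by_cases h2 : v ∈ C W
    · have h3 : u * v ∉ C W := fun h => h1 (by simpa using mul_mem h (inv_mem h2))
      rw [chi_of_not h1, chi_eq_one.2 h2, chi_of_not h3]; rfl
    · rw [chi_of_not h1, chi_of_not h2, chi_eq_one.2 (t.idx u hu v hv h1 h2)]; rfl

/-- `w` acts on `U` as a transvection with axis `C_U(W)` -/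
theorem exists_e (t : Tv z U W H K S) {w : G} (hw : w ∈ W) : ∃ e ∈ U, e ∈ W ∧
    ∀ u ∈ U, u ∉ C W → w * u * w⁻¹ = u * e := by
  obtain ⟨u₁, hu₁, hn₁⟩ := t.ne
  refine ⟨u₁⁻¹ * (w * u₁ * w⁻¹), U.mul_mem (U.inv_mem hu₁) (t.nU w (t.WH hw) u₁ hu₁), ?_, ?_⟩
  · have h1 := t.nW u₁⁻¹ (t.UK (U.inv_mem hu₁)) w hw
    rw [inv_inv] at h1
    have h2 := W.mul_mem h1 (W.inv_mem hw)
    have h3 : u₁⁻¹ * (w * u₁ * w⁻¹) = u₁⁻¹ * w * u₁ * w⁻¹ := by group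
    rw [h3]; exact h2
  · intro u hu hn
    have h1 := mem_C.1 (t.idx u₁ hu₁ u hu hn₁ hn) w hw
    have h2 : w * u₁ * w⁻¹ ∈ U := t.nU w (t.WH hw) u₁ hu₁
    have h3 : w * u * w⁻¹ = (w * u₁ * w⁻¹) * (u₁ * u) := by
      have h4 : (w * u₁ * w⁻¹) * (w * (u₁ * u) * w⁻¹) = w * (u₁ * u₁) * u * w⁻¹ := by group
      rw [t.sqU u₁ hu₁, mul_one] at h4
      rw [← h4, h1]
      group
    rw [h3, t.commU h2 (U.mul_mem hu₁ hu), t.commU hu₁ hu, t.invU hu₁]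
    simp only [mul_assoc]

/-- some `w ∈ W` induces the transvection with axis `C_U(W)` and centre `z` -/
theorem exists_w [Finite G] (t : Tv z U W H K S) : ∃ w ∈ W, ∀ u ∈ U, u ∉ C W → w * u * w⁻¹ = u * z := by
  obtain ⟨u₁, hu₁, hn₁⟩ := t.ne
  let E : Subgroup G :=
    { carrier := {e | e ∈ U ∧ e ∈ W ∧ ∃ w ∈ W, ∀ u ∈ U, u ∉ C W → w * u * w⁻¹ = u * e}
      one_mem' := ⟨U.one_mem, W.one_mem, 1, W.one_mem, fun u _ _ => by simp⟩
      mul_mem' := by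
        rintro e f ⟨he, heW, w, hw, h1⟩ ⟨hf, hfW, v, hv, h2⟩
        refine ⟨U.mul_mem he hf, W.mul_mem heW hfW, w * v, W.mul_mem hw hv, fun u hu hn => ?_⟩
        have h3 : w * v * u * (w * v)⁻¹ = w * (v * u * v⁻¹) * w⁻¹ := by group
        rw [h3, h2 u hu hn]
        have h4 : w * (u * f) * w⁻¹ = (w * u * w⁻¹) * (w * f * w⁻¹) := by group
        rw [h4, h1 u hu hn, t.commW hw hfW, mul_inv_cancel_right, mul_assoc]
      inv_mem' := by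
        rintro e ⟨he, heW, w, hw, h1⟩
        refine ⟨U.inv_mem he, W.inv_mem heW, w, hw, fun u hu hn => ?_⟩
        rw [t.invU he]
        exact h1 u hu hn }
  have hz : z ∈ E := by
    apply t.mem_of (N := E) (fun e (he : e ∈ E) => he.1)
    · intro hE
      apply hn₁
      rw [mem_C]
      intro w hw
      obtain ⟨e, he, heW, h1⟩ := t.exists_e hw
      have h2 : e ∈ E := ⟨he, heW, w, hw, h1⟩
      rw [hE, mem_bot] at h2
      have h3 := h1 u₁ hu₁ hn₁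
      rw [h2, mul_one] at h3
      exact mul_inv_eq_iff_eq_mul.1 h3
    · rintro s hs e ⟨he, heW, w, hw, h1⟩
      refine ⟨t.nU s (t.SH hs) e he, t.nW s (t.SK hs) e heW, s * w * s⁻¹, t.nW s (t.SK hs) w hw, fun u hu hn => ?_⟩
      have h2 : s⁻¹ * u * s ∈ U := by
        have := t.nU s⁻¹ (t.SH (S.inv_mem hs)) u hu
        rwa [inv_inv] at this
      have h3 : s⁻¹ * u * s ∉ C W := by
        intro h
        apply hn
        have := t.normC (t.SK hs) h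
        simpa [mul_assoc] using this
      have h4 := h1 _ h2 h3
      calc s * w * s⁻¹ * u * (s * w * s⁻¹)⁻¹ = s * (w * (s⁻¹ * u * s) * w⁻¹) * s⁻¹ := by group
        _ = s * ((s⁻¹ * u * s) * e) * s⁻¹ := by rw [h4]
        _ = u * (s * e * s⁻¹) := by group
  exact hz.2.2

/-- symmetry -/
theorem sym1 [Finite G] (t : Tv z U W H K S) {k : G} (hk : k ∈ H) (h : k⁻¹ * z * k ∈ C W) : k * z * k⁻¹ ∈ C W := by
  by_contra hc
  obtain ⟨w₀, hw₀, hw⟩ := t.exists_w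
  have hkz : k * w₀ * k⁻¹ * z = z * (k * w₀ * k⁻¹) := by
    have h1 := mem_C.1 h w₀ hw₀
    calc k * w₀ * k⁻¹ * z = k * (w₀ * (k⁻¹ * z * k)) * k⁻¹ := by group
      _ = k * ((k⁻¹ * z * k) * w₀) * k⁻¹ := by rw [h1]
      _ = z * (k * w₀ * k⁻¹) := by group
  have hwK : k * w₀ * k⁻¹ ∈ K := t.cK _ hkz
  have key : ∀ u ∈ U ⊓ C W, k⁻¹ * u * k ∈ U ⊓ C W := by
    rintro u ⟨hu, huC⟩
    have hu' : k⁻¹ * u * k ∈ U := by
      have := t.nU k⁻¹ (H.inv_mem hk) u hu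
      rwa [inv_inv] at this
    refine ⟨hu', ?_⟩
    by_contra hn
    have h1 := hw _ hu' hn
    have h2 : (k * w₀ * k⁻¹) * u * (k * w₀ * k⁻¹)⁻¹ = u * (k * z * k⁻¹) := by
      calc (k * w₀ * k⁻¹) * u * (k * w₀ * k⁻¹)⁻¹ = k * (w₀ * (k⁻¹ * u * k) * w₀⁻¹) * k⁻¹ := by group
        _ = k * ((k⁻¹ * u * k) * z) * k⁻¹ := by rw [h1]
        _ = u * (k * z * k⁻¹) := by group
    have h3 := t.normC hwK huC
    rw [h2] at h3
    have h4 := (C W).mul_mem ((C W).inv_mem huC) h3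
    rw [inv_mul_cancel_left] at h4
    exact hc h4
  let f : ↥(U ⊓ C W) → ↥(U ⊓ C W) := fun u => ⟨k⁻¹ * u * k, key u u.2⟩
  have hf : Function.Injective f := by
    intro a b hab
    have h1 : k⁻¹ * (a : G) * k = k⁻¹ * b * k := congrArg Subtype.val hab
    exact Subtype.ext (mul_left_cancel (mul_right_cancel h1))
  obtain ⟨u, hu⟩ := (Finite.injective_iff_surjective.1 hf) ⟨z, t.zU, t.zCW⟩
  have h1 : k⁻¹ * (u : G) * k = z := congrArg Subtype.val hu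
  have h2 : (u : G) = k * z * k⁻¹ := by rw [← h1]; group
  exact hc (h2 ▸ u.2.2)

theorem sym [Finite G] (t : Tv z U W H K S) {k : G} (hk : k ∈ H) : chi W (k⁻¹ * z * k) = chi W (k * z * k⁻¹) := by
  by_cases h : k⁻¹ * z * k ∈ C W
  · rw [chi_eq_one.2 h, chi_eq_one.2 (t.sym1 hk h)]
  · have h' : k * z * k⁻¹ ∉ C W := by
      intro h1
      apply h
      have h2 := t.sym1 (H.inv_mem hk) (by rwa [inv_inv])
      rwa [inv_inv] at h2
    rw [chi_of_not h, chi_of_not h']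

theorem sym2 [Finite G] (t : Tv z U W H K S) {k l : G} (hk : k ∈ H) (hl : l ∈ H) :
    chi W (k⁻¹ * (l * z * l⁻¹) * k) = chi W (l⁻¹ * (k * z * k⁻¹) * l) := by
  have h1 := t.sym (H.mul_mem (H.inv_mem hl) hk)
  have h2 : k⁻¹ * (l * z * l⁻¹) * k = (l⁻¹ * k)⁻¹ * z * (l⁻¹ * k) := by group
  have h3 : l⁻¹ * (k * z * k⁻¹) * l = (l⁻¹ * k) * z * (l⁻¹ * k)⁻¹ := by group
  rw [h2, h3]
  exact h1

/-- the radical is trivial -/
theorem rad [Finite G] (t : Tv z U W H K S) {v : G} (hv : v ∈ U) (h : ∀ l ∈ H, l⁻¹ * v * l ∈ C W) : v = 1 := by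
  let N : Subgroup G :=
    { carrier := {v | v ∈ U ∧ ∀ l ∈ H, l⁻¹ * v * l ∈ C W}
      one_mem' := ⟨U.one_mem, fun l _ => by simp⟩
      mul_mem' := by
        rintro a b ⟨ha, ha'⟩ ⟨hb, hb'⟩
        refine ⟨U.mul_mem ha hb, fun l hl => ?_⟩
        have := mul_mem (ha' l hl) (hb' l hl)
        have h1 : l⁻¹ * (a * b) * l = l⁻¹ * a * l * (l⁻¹ * b * l) := by group
        rwa [h1]
      inv_mem' := by
        rintro a ⟨ha, ha'⟩
        show a⁻¹ ∈ U ∧ ∀ l ∈ H, l⁻¹ * a⁻¹ * l ∈ C W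
        rw [t.invU ha]
        exact ⟨ha, ha'⟩ }
  by_contra hne
  have hN : N ≠ ⊥ := by
    intro h1
    apply hne
    have : v ∈ N := ⟨hv, h⟩
    rwa [h1, mem_bot] at this
  have hz : z ∈ N := by
    apply t.mem_of (N := N) (fun e (he : e ∈ N) => he.1) hN
    rintro s hs n ⟨hn, hn'⟩
    refine ⟨t.nU s (t.SH hs) n hn, fun l hl => ?_⟩
    have := hn' (s⁻¹ * l) (H.mul_mem (H.inv_mem (t.SH hs)) hl)
    have h1 : l⁻¹ * (s * n * s⁻¹) * l = (s⁻¹ * l)⁻¹ * n * (s⁻¹ * l) := by group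
    rwa [h1]
  obtain ⟨u₁, hu₁, hn₁⟩ := t.ne
  apply hn₁
  have : U ≤ C W := by
    refine t.genU.trans ((closure_le _).2 ?_)
    rintro x ⟨k, hk, rfl⟩
    have := hz.2 k⁻¹ (H.inv_mem hk)
    rwa [inv_inv] at this
  exact this hu₁

/-- some point of `U` is moved by `W` -/
theorem exists_pt (t : Tv z U W H K S) : ∃ k ∈ H, k * z * k⁻¹ ∉ C W := by
  by_contra hcon
  push Not at hcon
  obtain ⟨u₁, hu₁, hn₁⟩ := t.ne
  apply hn₁
  have : U ≤ C W := by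
    refine t.genU.trans ((closure_le _).2 ?_)
    rintro x ⟨k, hk, rfl⟩
    exact hcon k hk
  exact this hu₁

/-- the centre of `w` is `1` or `z` -/
theorem centre [Finite G] (t : Tv z U W H K S) {w e : G} (hw : w ∈ W) (he : e ∈ U)
    (h : ∀ u ∈ U, u ∉ C W → w * u * w⁻¹ = u * e) : e = 1 ∨ e = z := by
  obtain ⟨k, hk, hkc⟩ := t.exists_pt
  have hwH : w ∈ H := t.WH hw
  have hconj : ∀ l ∈ H, ∀ u ∈ U, l⁻¹ * u * l ∈ U := by
    intro l hl u hu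
    have := t.nU l⁻¹ (H.inv_mem hl) u hu
    rwa [inv_inv] at this
  have hmul : ∀ l ∈ H, ∀ u ∈ U, ∀ v ∈ U, chi W (l⁻¹ * (u * v) * l) = chi W (l⁻¹ * u * l) * chi W (l⁻¹ * v * l) := by
    intro l hl u hu v hv
    rw [← t.chi_mul (hconj l hl u hu) (hconj l hl v hv)]
    congr 1
    group
  have hxk : (w * k) * z * (w * k)⁻¹ = (k * z * k⁻¹) * e := by
    rw [← h _ (t.ptU hk) hkc]
    group
  have key : ∀ l ∈ H, chi W (l⁻¹ * (k * z * k⁻¹) * l) * chi W (l⁻¹ * e * l) =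
      chi W (k⁻¹ * (w * (l * z * l⁻¹) * w⁻¹) * k) := by
    intro l hl
    have h1 := t.sym2 hl (H.mul_mem hwH hk)
    rw [hxk, hmul l hl _ (t.ptU hk) _ he] at h1
    rw [h1]
    have h2 : w⁻¹ = w := t.invW hw
    congr 1
    rw [mul_inv_rev, h2]
    simp only [mul_assoc]
  have hA : ∀ l ∈ H, l * z * l⁻¹ ∈ C W → chi W (l⁻¹ * e * l) = 1 := by
    intro l hl hlc
    have h1 := key l hl
    have h2 : w * (l * z * l⁻¹) * w⁻¹ = l * z * l⁻¹ := mul_inv_eq_iff_eq_mul.2 (mem_C.1 hlc w hw)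
    rw [h2, t.sym2 hk hl] at h1
    exact mul_eq_left.1 h1
  have hB : ∀ l ∈ H, l * z * l⁻¹ ∉ C W → chi W (l⁻¹ * e * l) = chi W (k⁻¹ * e * k) := by
    intro l hl hlc
    have h1 := key l hl
    rw [h _ (t.ptU hl) hlc, hmul k hk _ (t.ptU hl) _ he, t.sym2 hk hl] at h1
    exact mul_left_cancel h1
  rcases Int.units_eq_one_or (chi W (k⁻¹ * e * k)) with h1 | h1
  · left
    refine t.rad he fun l hl => chi_eq_one.1 ?_
    by_cases hlc : l * z * l⁻¹ ∈ C W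
    · exact hA l hl hlc
    · rw [hB l hl hlc, h1]
  · right
    have h2 : e * z = 1 := by
      refine t.rad (U.mul_mem he t.zU) fun l hl => chi_eq_one.1 ?_
      rw [hmul l hl _ he _ t.zU, t.sym hl]
      by_cases hlc : l * z * l⁻¹ ∈ C W
      · rw [hA l hl hlc, chi_eq_one.2 hlc]; rfl
      · rw [hB l hl hlc, h1, chi_of_not hlc]; rfl
    rw [← t.invU t.zU]
    exact eq_inv_of_mul_eq_one_left h2

/-- `[U, W] = ⟨z⟩` -/
theorem dich [Finite G] (t : Tv z U W H K S) {w : G} (hw : w ∈ W) :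
    w ∈ C U ∨ ∀ u ∈ U, u ∉ C W → w * u * w⁻¹ = u * z := by
  obtain ⟨e, he, _, h1⟩ := t.exists_e hw
  rcases t.centre hw he h1 with h2 | h2
  · left
    rw [mem_C]
    intro u hu
    by_cases hc : u ∈ C W
    · exact (mem_C.1 hc w hw).symm
    · have h3 := h1 u hu hc
      rw [h2, mul_one] at h3
      exact (mul_inv_eq_iff_eq_mul.1 h3).symm
  · right
    intro u hu hc
    rw [h1 u hu hc, h2]

/-- the index is `2` on the other side as well -/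
theorem symm [Finite G] (t : Tv z U W H K S) : Tv z W U K H S :=
  { t.toAdj.symm with
    ne := by
      obtain ⟨u₁, hu₁, hn₁⟩ := t.ne
      obtain ⟨w, hw, h⟩ := t.exists_w
      refine ⟨w, hw, fun hc => t.z1 ?_⟩
      have h1 := mem_C.1 hc u₁ hu₁
      have h2 := h u₁ hu₁ hn₁
      rw [← h1, mul_inv_cancel_right] at h2
      exact (mul_eq_left.1 h2.symm)
    idx := by
      intro w hw w' hw' hc hc'
      have h1 := (t.dich hw).resolve_left hc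
      have h2 := (t.dich hw').resolve_left hc'
      rw [mem_C]
      intro u hu
      by_cases hcu : u ∈ C W
      · exact (mem_C.1 hcu _ (W.mul_mem hw hw')).symm
      · have h3 : (w * w') * u * (w * w')⁻¹ = u := by
          calc (w * w') * u * (w * w')⁻¹ = w * (w' * u * w'⁻¹) * w⁻¹ := by group
            _ = (w * u * w⁻¹) * (w * z * w⁻¹) := by rw [h2 u hu hcu]; group
            _ = u * z * z := by rw [h1 u hu hcu, t.commW hw t.zW, mul_inv_cancel_right]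
            _ = u := by rw [mul_assoc, t.zz, mul_one]
        exact (mul_inv_eq_iff_eq_mul.1 h3).symm }

/-! ### the form -/

theorem ext_hom (t : Tv z U W H K S) {f g : G → ℤˣ} (hf : ∀ u ∈ U, ∀ v ∈ U, f (u * v) = f u * f v)
    (hg : ∀ u ∈ U, ∀ v ∈ U, g (u * v) = g u * g v) (h : ∀ k ∈ H, f (k * z * k⁻¹) = g (k * z * k⁻¹)) :
    ∀ u ∈ U, f u = g u := by
  have h1 : ∀ u ∈ closure {x | ∃ h ∈ H, x = h * z * h⁻¹}, u ∈ U ∧ f u = g u := by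
    intro u hu
    refine closure_induction (p := fun u _ => u ∈ U ∧ f u = g u) ?_ ?_ ?_ ?_ hu
    · rintro x ⟨k, hk, rfl⟩
      exact ⟨t.ptU hk, h k hk⟩
    · refine ⟨U.one_mem, ?_⟩
      have h2 := hf 1 U.one_mem 1 U.one_mem
      have h3 := hg 1 U.one_mem 1 U.one_mem
      rw [mul_one, units_mul_self] at h2 h3
      rw [h2, h3]
    · rintro x y _ _ ⟨hx, hx'⟩ ⟨hy, hy'⟩
      exact ⟨U.mul_mem hx hy, by rw [hf x hx y hy, hg x hx y hy, hx', hy']⟩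
    · rintro x _ ⟨hx, hx'⟩
      rw [t.invU hx]
      exact ⟨hx, hx'⟩
  exact fun u hu => (h1 u (t.genU hu)).2

/-- the `H`-invariant symplectic form on `U` -/
theorem exists_form [Finite G] (t : Tv z U W H K S) : ∃ B : G → G → ℤˣ,
    (∀ u ∈ U, ∀ v ∈ U, ∀ v' ∈ U, B u (v * v') = B u v * B u v') ∧
    (∀ u ∈ U, ∀ v ∈ U, B u v = B v u) ∧
    (∀ h ∈ H, ∀ u ∈ U, ∀ v ∈ U, B (h * u * h⁻¹) (h * v * h⁻¹) = B u v) ∧
    (∀ v ∈ U, (∀ u ∈ U, B v u = 1) → v = 1) ∧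
    (∀ v ∈ U, B z v = chi W v) := by
  have hconj : ∀ l ∈ H, ∀ u ∈ U, l⁻¹ * u * l ∈ U := by
    intro l hl u hu
    have := t.nU l⁻¹ (H.inv_mem hl) u hu
    rwa [inv_inv] at this
  have hmul : ∀ l ∈ H, ∀ u ∈ U, ∀ v ∈ U, chi W (l⁻¹ * (u * v) * l) = chi W (l⁻¹ * u * l) * chi W (l⁻¹ * v * l) := by
    intro l hl u hu v hv
    rw [← t.chi_mul (hconj l hl u hu) (hconj l hl v hv)]
    congr 1
    group
  have hex : ∀ u, u ∈ U → ∃ φ : G → ℤˣ, (∀ v ∈ U, ∀ v' ∈ U, φ (v * v') = φ v * φ v') ∧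
      ∀ k ∈ H, φ (k * z * k⁻¹) = chi W (k⁻¹ * u * k) := by
    intro u hu
    have h1 : u ∈ U ∧ ∃ φ : G → ℤˣ, (∀ v ∈ U, ∀ v' ∈ U, φ (v * v') = φ v * φ v') ∧
      ∀ k ∈ H, φ (k * z * k⁻¹) = chi W (k⁻¹ * u * k) := by
      refine closure_induction (p := fun u _ => u ∈ U ∧ ∃ φ : G → ℤˣ,
        (∀ v ∈ U, ∀ v' ∈ U, φ (v * v') = φ v * φ v') ∧
        ∀ k ∈ H, φ (k * z * k⁻¹) = chi W (k⁻¹ * u * k)) ?_ ?_ ?_ ?_ (t.genU hu)
      · rintro x ⟨l, hl, rfl⟩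
        exact ⟨t.ptU hl, fun v => chi W (l⁻¹ * v * l), hmul l hl, fun k hk => (t.sym2 hl hk)⟩
      · refine ⟨U.one_mem, fun _ => 1, fun _ _ _ _ => (one_mul _).symm, fun k _ => ?_⟩
        rw [mul_one, inv_mul_cancel]
        exact (chi_eq_one.2 (C W).one_mem).symm
      · rintro x y _ _ ⟨hx, φ, h1, h2⟩ ⟨hy, ψ, h3, h4⟩
        refine ⟨U.mul_mem hx hy, fun v => φ v * ψ v, fun v hv v' hv' => ?_, fun k hk => ?_⟩
        · simp only [h1 v hv v' hv', h3 v hv v' hv']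
          exact mul_mul_mul_comm _ _ _ _
        · show φ (k * z * k⁻¹) * ψ (k * z * k⁻¹) = _
          rw [h2 k hk, h4 k hk, hmul k hk x hx y hy]
      · rintro x _ ⟨hx, h⟩
        rw [t.invU hx]
        exact ⟨hx, h⟩
    exact h1.2
  choose! B hB1 hB2 using hex
  have hpt : ∀ k ∈ H, ∀ v ∈ U, B (k * z * k⁻¹) v = chi W (k⁻¹ * v * k) := by
    intro k hk
    refine t.ext_hom (hB1 _ (t.ptU hk)) (hmul k hk) fun l hl => ?_
    rw [hB2 _ (t.ptU hk) l hl]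
    exact t.sym2 hl hk
  have hadd : ∀ u ∈ U, ∀ u' ∈ U, ∀ v ∈ U, B (u * u') v = B u v * B u' v := by
    intro u hu u' hu'
    refine t.ext_hom (hB1 _ (U.mul_mem hu hu')) ?_ fun l hl => ?_
    · intro v hv v' hv'
      rw [hB1 u hu v hv v' hv', hB1 u' hu' v hv v' hv']
      exact mul_mul_mul_comm _ _ _ _
    · rw [hB2 _ (U.mul_mem hu hu') l hl, hB2 _ hu l hl, hB2 _ hu' l hl]
      exact hmul l hl u hu u' hu'
  refine ⟨B, hB1, ?_, ?_, ?_, ?_⟩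
  · intro u hu
    refine t.ext_hom (hB1 u hu) (fun v hv v' hv' => hadd v hv v' hv' u hu) fun k hk => ?_
    rw [hB2 u hu k hk, hpt k hk u hu]
  · intro h hh u hu
    refine t.ext_hom ?_ (hB1 u hu) fun k hk => ?_
    · intro v hv v' hv'
      have h1 : h * (v * v') * h⁻¹ = (h * v * h⁻¹) * (h * v' * h⁻¹) := by group
      rw [h1]
      exact hB1 _ (t.nU h hh u hu) _ (t.nU h hh v hv) _ (t.nU h hh v' hv')
    · have h1 : h * (k * z * k⁻¹) * h⁻¹ = (h * k) * z * (h * k)⁻¹ := by group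
      rw [h1, hB2 _ (t.nU h hh u hu) _ (H.mul_mem hh hk), hB2 u hu k hk]
      congr 1
      group
  · intro v hv h
    refine t.rad hv fun l hl => chi_eq_one.1 ?_
    rw [← hB2 v hv l hl]
    exact h _ (t.ptU hl)
  · intro v hv
    have := hpt 1 H.one_mem v hv
    simpa using this

end Tv

/-! ### the three points `z`, `c' = g z g⁻¹`, `z c'` -/

/-- `c' = g z g⁻¹` is a point of `U` moved by `s ∈ W`; `s' = g s g⁻¹` -/
structure Sit (z : G) (U W H K S : Subgroup G) (g s : G) : Prop extends Tv z U W H K S where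
  hg : g ∈ H
  hc : g * z * g⁻¹ ∉ C W
  hs : s ∈ W
  hs' : ∀ u ∈ U, u ∉ C W → s * u * s⁻¹ = u * z

theorem Tv.exists_sit [Finite G] {z : G} {U W H K S : Subgroup G} (t : Tv z U W H K S) :
    ∃ g s, Sit z U W H K S g s := by
  obtain ⟨g, hg, hc⟩ := t.exists_pt
  obtain ⟨s, hs, hs'⟩ := t.exists_w
  exact ⟨g, s, { t with hg := hg, hc := hc, hs := hs, hs' := hs' }⟩

namespace Sit

variable {z : G} {U W H K S : Subgroup G} {g s : G}

/-- `Y = C_W(U)` -/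
def Y (_ : Sit z U W H K S g s) : Subgroup G := W ⊓ C U

/-- `Y' = C_{W^g}(U)` -/
def Y' (_ : Sit z U W H K S g s) : Subgroup G := (W ⊓ C U).comap (MulAut.conj g⁻¹).toMonoidHom

/-- `T = Y ∩ Y'` -/
def T (d : Sit z U W H K S g s) : Subgroup G := d.Y ⊓ d.Y'

variable (d : Sit z U W H K S g s)

include d

theorem mem_Y {y : G} : y ∈ d.Y ↔ y ∈ W ∧ y ∈ C U := Iff.rfl

theorem mem_Y' {y : G} : y ∈ d.Y' ↔ g⁻¹ * y * g ∈ W ∧ y ∈ C U := by
  have h0 : y ∈ d.Y' ↔ g⁻¹ * y * g⁻¹⁻¹ ∈ W ∧ g⁻¹ * y * g⁻¹⁻¹ ∈ C U := Iff.rfl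
  rw [h0, inv_inv]
  refine and_congr_right fun _ => ⟨fun h => ?_, fun h => ?_⟩
  · have := d.toAdj.symm.normC d.hg h
    simpa [mul_assoc] using this
  · have := d.toAdj.symm.normC (H.inv_mem d.hg) h
    rwa [inv_inv] at this

theorem mem_T {y : G} : y ∈ d.T ↔ y ∈ d.Y ∧ y ∈ d.Y' := Iff.rfl

theorem sH : s ∈ H := d.WH d.hs

theorem s'H : g * s * g⁻¹ ∈ H := H.mul_mem (H.mul_mem d.hg d.sH) (H.inv_mem d.hg)

/-- `s` moves `c'` to `c' z` -/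
theorem s_c' : s * (g * z * g⁻¹) * s⁻¹ = g * z * g⁻¹ * z := d.hs' _ (d.ptU d.hg) d.hc

/-- `s'` moves `z` to `z c'` -/
theorem s'_z [Finite G] : (g * s * g⁻¹) * z * (g * s * g⁻¹)⁻¹ = z * (g * z * g⁻¹) := by
  have h1 : g⁻¹ * z * g ∈ U := by
    have := d.ptU (H.inv_mem d.hg)
    rwa [inv_inv] at this
  have h2 : g⁻¹ * z * g ∉ C W := fun h => d.hc (d.sym1 d.hg h)
  calc (g * s * g⁻¹) * z * (g * s * g⁻¹)⁻¹ = g * (s * (g⁻¹ * z * g) * s⁻¹) * g⁻¹ := by group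
    _ = g * ((g⁻¹ * z * g) * z) * g⁻¹ := by rw [d.hs' _ h1 h2]
    _ = z * (g * z * g⁻¹) := by group

theorem comm_s {y : G} (hy : y ∈ W) : s * y * s⁻¹ = y := by
  rw [d.commW d.hs hy, mul_inv_cancel_right]

theorem comm_s' {y : G} (hy : g⁻¹ * y * g ∈ W) : (g * s * g⁻¹) * y * (g * s * g⁻¹)⁻¹ = y := by
  calc (g * s * g⁻¹) * y * (g * s * g⁻¹)⁻¹ = g * (s * (g⁻¹ * y * g) * s⁻¹) * g⁻¹ := by group
    _ = y := by rw [d.comm_s hy]; group

theorem c'_ne : g * z * g⁻¹ ≠ 1 := fun h => d.hc (h ▸ (C W).one_mem)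

/-- `z ∉ T` -/
theorem z_T [Finite G] : z ∉ d.T := by
  intro h
  have h1 := (d.mem_Y'.1 h.2).1
  have h2 := d.comm_s' h1
  rw [d.s'_z] at h2
  exact d.c'_ne (mul_eq_left.1 h2)

/-- `Y` is normalised by everything centralising `z` -/
theorem Y_norm {x y : G} (hx : x * z = z * x) (hy : y ∈ d.Y) : x * y * x⁻¹ ∈ d.Y :=
  ⟨d.nW x (d.cK x hx) y hy.1, d.toAdj.symm.normC (d.cH x hx) hy.2⟩

/-- `Y'` is normalised by everything centralising `c'` -/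
theorem Y'_norm {x y : G} (hx : x * (g * z * g⁻¹) = (g * z * g⁻¹) * x) (hy : y ∈ d.Y') : x * y * x⁻¹ ∈ d.Y' := by
  have h1 : (g⁻¹ * x * g) * z = z * (g⁻¹ * x * g) := by
    calc (g⁻¹ * x * g) * z = g⁻¹ * (x * (g * z * g⁻¹)) * g := by group
      _ = g⁻¹ * ((g * z * g⁻¹) * x) * g := by rw [hx]
      _ = z * (g⁻¹ * x * g) := by group
  have h2 := d.mem_Y'.1 hy
  have h3 := d.nW _ (d.cK _ h1) _ h2.1
  have h4 : g⁻¹ * x * g * (g⁻¹ * y * g) * (g⁻¹ * x * g)⁻¹ = g⁻¹ * (x * y * x⁻¹) * g := by group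
  rw [h4] at h3
  refine d.mem_Y'.2 ⟨h3, ?_⟩
  have h5 : x ∈ H := by
    have := H.mul_mem (H.mul_mem d.hg (d.cH _ h1)) (H.inv_mem d.hg)
    have h6 : g * (g⁻¹ * x * g) * g⁻¹ = x := by group
    rwa [h6] at this
  exact d.toAdj.symm.normC h5 h2.2

theorem CU_z {y : G} (hy : y ∈ C U) : y * z = z * y := (mem_C.1 hy z d.zU).symm

theorem CU_c' {y : G} (hy : y ∈ C U) : y * (g * z * g⁻¹) = (g * z * g⁻¹) * y := (mem_C.1 hy _ (d.ptU d.hg)).symm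

/-- `[Y, Y'] ≤ T` -/
theorem comm_T {y y' : G} (hy : y ∈ d.Y) (hy' : y' ∈ d.Y') : y' * y * y'⁻¹ * y⁻¹ ∈ d.T := by
  refine ⟨d.Y.mul_mem (d.Y_norm (d.CU_z (d.mem_Y'.1 hy').2) hy) (d.Y.inv_mem hy), ?_⟩
  have h1 := d.Y'_norm (d.CU_c' hy.2) (d.Y'.inv_mem hy')
  have h2 := d.Y'.mul_mem hy' h1
  have h3 : y' * (y * y'⁻¹ * y⁻¹) = y' * y * y'⁻¹ * y⁻¹ := by group
  rwa [h3] at h2

/-- `s' Y s'⁻¹ = s Y' s⁻¹` -/
theorem exists_y0 [Finite G] {y : G} (hy : y ∈ d.Y) : ∃ y₀ ∈ d.Y', s * y₀ * s⁻¹ = (g * s * g⁻¹) * y * (g * s * g⁻¹)⁻¹ := by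
  refine ⟨s⁻¹ * ((g * s * g⁻¹) * y * (g * s * g⁻¹)⁻¹) * s, ?_, by group⟩
  -- `x = (s g)⁻¹ s'` centralises `z`
  have h1 : ((s * g)⁻¹ * (g * s * g⁻¹)) * z = z * ((s * g)⁻¹ * (g * s * g⁻¹)) := by
    have h2 : (s * g) * z * (s * g)⁻¹ = (g * s * g⁻¹) * z * (g * s * g⁻¹)⁻¹ := by
      rw [d.s'_z, d.commU d.zU (d.ptU d.hg), ← d.s_c']
      group
    have h3 := mul_inv_eq_iff_eq_mul.1 h2
    calc ((s * g)⁻¹ * (g * s * g⁻¹)) * z
        = (s * g)⁻¹ * ((g * s * g⁻¹) * z * (g * s * g⁻¹)⁻¹) * (g * s * g⁻¹) := by group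
      _ = (s * g)⁻¹ * ((s * g) * z * (s * g)⁻¹) * (g * s * g⁻¹) := by rw [h2]
      _ = z * ((s * g)⁻¹ * (g * s * g⁻¹)) := by group
  have h4 := d.Y_norm h1 hy
  have h5 : g⁻¹ * (s⁻¹ * ((g * s * g⁻¹) * y * (g * s * g⁻¹)⁻¹) * s) * g =
      ((s * g)⁻¹ * (g * s * g⁻¹)) * y * ((s * g)⁻¹ * (g * s * g⁻¹))⁻¹ := by group
  refine d.mem_Y'.2 ⟨?_, ?_⟩
  · rw [h5]; exact h4.1
  · have h6 : ((g * s * g⁻¹) * y * (g * s * g⁻¹)⁻¹) ∈ C U := d.toAdj.symm.normC d.s'H hy.2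
    have h7 := d.toAdj.symm.normC (H.inv_mem d.sH) h6
    rwa [inv_inv] at h7

/-- `[W, Y'] ≤ Y` -/
theorem W_Y' {w y' : G} (hw : w ∈ W) (hy' : y' ∈ C U) : w * y' * w⁻¹ * y'⁻¹ ∈ d.Y := by
  constructor
  · have h1 := d.nW y' (d.cK _ (d.CU_z hy')) w⁻¹ (W.inv_mem hw)
    have h2 := W.mul_mem hw h1
    have h3 : w * (y' * w⁻¹ * y'⁻¹) = w * y' * w⁻¹ * y'⁻¹ := by group
    rwa [h3] at h2
  · exact (C U).mul_mem (d.toAdj.symm.normC (d.WH hw) hy') ((C U).inv_mem hy')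

/-- `[s', Y] ≤ Y'` -/
theorem s'_Y {y : G} (hy : y ∈ d.Y) : (g * s * g⁻¹) * y * (g * s * g⁻¹)⁻¹ * y⁻¹ ∈ d.Y' := by
  have h1 : (g⁻¹ * y⁻¹ * g) * z = z * (g⁻¹ * y⁻¹ * g) := by
    have h0 := d.CU_c' ((C U).inv_mem hy.2)
    calc (g⁻¹ * y⁻¹ * g) * z = g⁻¹ * (y⁻¹ * (g * z * g⁻¹)) * g := by group
      _ = g⁻¹ * ((g * z * g⁻¹) * y⁻¹) * g := by rw [h0]
      _ = z * (g⁻¹ * y⁻¹ * g) := by group
  refine d.mem_Y'.2 ⟨?_, ?_⟩
  · have h2 := d.nW _ (K.inv_mem (d.cK _ h1)) s⁻¹ (W.inv_mem d.hs)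
    have h3 := W.mul_mem d.hs h2
    have h4 : s * ((g⁻¹ * y⁻¹ * g)⁻¹ * s⁻¹ * (g⁻¹ * y⁻¹ * g)⁻¹⁻¹) =
        g⁻¹ * (g * s * g⁻¹ * y * (g * s * g⁻¹)⁻¹ * y⁻¹) * g := by group
    rwa [h4] at h3
  · exact (C U).mul_mem (d.toAdj.symm.normC d.s'H hy.2) ((C U).inv_mem hy.2)

/-- (*) : `Y = [s, Y'] T` -/
theorem star [Finite G] {y : G} (hy : y ∈ d.Y) : ∃ y₀ ∈ d.Y', (s * y₀ * s⁻¹ * y₀⁻¹)⁻¹ * y ∈ d.T := by
  obtain ⟨y₀, hy₀, h0⟩ := d.exists_y0 hy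
  refine ⟨y₀, hy₀, ?_⟩
  -- `a = [s, y₀] ∈ Y`, `b = [s', y] ∈ Y'`, `b y = a y₀`
  have ha := d.W_Y' d.hs (d.mem_Y'.1 hy₀).2
  have hb := d.s'_Y hy
  rw [← h0] at hb
  set a := s * y₀ * s⁻¹ * y₀⁻¹ with ha_def
  set b := s * y₀ * s⁻¹ * y⁻¹ with hb_def
  have h1 : b * y = a * y₀ := by rw [ha_def, hb_def]; group
  -- `b⁻¹ a⁻¹ b y = b⁻¹ y₀ ∈ Y ∩ Y'`
  have h2 : b⁻¹ * y₀ = (b⁻¹ * a⁻¹ * b) * y := by
    have : y₀ = a⁻¹ * (b * y) := by rw [h1]; group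
    rw [this]; group
  have hbz : b⁻¹ * z = z * b⁻¹ := d.CU_z ((C U).inv_mem (d.mem_Y'.1 hb).2)
  have h3 : b⁻¹ * a⁻¹ * b ∈ d.Y := by
    have := d.Y_norm hbz (d.Y.inv_mem ha)
    rwa [inv_inv] at this
  have h4 : (b⁻¹ * a⁻¹ * b) * y ∈ d.T :=
    ⟨d.Y.mul_mem h3 hy, h2 ▸ d.Y'.mul_mem (d.Y'.inv_mem hb) hy₀⟩
  have h5 : b⁻¹ * a⁻¹ * b * a ∈ d.T := by
    have := d.comm_T (d.Y.inv_mem ha) (d.Y'.inv_mem hb)
    rwa [inv_inv, inv_inv] at this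
  have h6 := d.T.mul_mem (d.T.inv_mem h5) h4
  have h7 : (b⁻¹ * a⁻¹ * b * a)⁻¹ * (b⁻¹ * a⁻¹ * b * y) = a⁻¹ * y := by group
  rwa [h7] at h6

/-- `Y = T ∪ z T`, and `Y'` centralises `Y` -/
theorem Y_T [Finite G] {y : G} (hy : y ∈ d.Y) : y ∈ d.T ∨ z * y ∈ d.T := by
  obtain ⟨B, hB1, hB2, hB3, hB4, hB5⟩ := d.toTv.symm.exists_form
  have hB1' : ∀ u ∈ W, ∀ v ∈ W, ∀ x ∈ W, B (u * v) x = B u x * B v x := by
    intro u hu v hv x hx
    rw [hB2 _ (W.mul_mem hu hv) x hx, hB1 x hx u hu v hv, hB2 x hx u hu, hB2 x hx v hv]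
  have hYW : ∀ y, y ∈ d.Y → y ∈ W := fun y hy => hy.1
  have hTW : ∀ y, y ∈ d.T → y ∈ W := fun y hy => hy.1.1
  -- invariance : an element of `C(U)` centralising `v` : `B([w, y'], v) = 1`
  have hinv : ∀ w ∈ W, ∀ y' ∈ C U, ∀ v ∈ W, y' * v * y'⁻¹ = v → B (w * y' * w⁻¹ * y'⁻¹) v = 1 := by
    intro w hw y' hy' v hv hc
    have h1 : w * y' * w⁻¹ * y'⁻¹ = w * (y' * w⁻¹ * y'⁻¹) := by group
    have hK := d.cK _ (d.CU_z hy')
    have h2 : B (y' * w⁻¹ * y'⁻¹) v = B w⁻¹ v := by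
      conv_lhs => rw [← hc]
      exact hB3 y' hK _ (W.inv_mem hw) v hv
    rw [h1, hB1' w hw _ (d.nW y' hK _ (W.inv_mem hw)) v hv, h2, d.invW hw, units_mul_self]
  -- `Y'` is abelian
  have hab : ∀ y' ∈ d.Y', ∀ x ∈ d.Y', y' * x * y'⁻¹ = x := by
    intro y' hy' x hx
    have h1 := d.commW (d.mem_Y'.1 hy').1 (d.mem_Y'.1 hx).1
    have h2 : y' * x = x * y' := by
      calc y' * x = g * ((g⁻¹ * y' * g) * (g⁻¹ * x * g)) * g⁻¹ := by group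
        _ = g * ((g⁻¹ * x * g) * (g⁻¹ * y' * g)) * g⁻¹ := by rw [h1]
        _ = x * y' := by group
    rw [h2, mul_inv_cancel_right]
  have hperp : ∀ w ∈ W, ∀ y' ∈ d.Y', ∀ x ∈ d.T, B (w * y' * w⁻¹ * y'⁻¹) x = 1 := fun w hw y' hy' x hx =>
    hinv w hw y' (d.mem_Y'.1 hy').2 x (hTW x hx) (hab y' hy' x hx.2)
  -- an element of `W` perpendicular to `Y` is `1` or `z`
  have hYperp : ∀ x ∈ W, (∀ y ∈ d.Y, B x y = 1) → x = 1 ∨ x = z := by
    intro x hx hxy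
    have hBz : ∀ w ∈ W, w ∉ d.Y → B z w = -1 := by
      intro w hw hn
      rw [hB5 w hw]
      exact chi_of_not fun h => hn ⟨hw, h⟩
    have hBz' : ∀ w, w ∈ d.Y → B z w = 1 := by
      intro w hw
      rw [hB5 w (hYW w hw)]
      exact chi_eq_one.2 hw.2
    have hsn : s ∉ d.Y := by
      intro h
      have h1 := mem_C.1 h.2 _ (d.ptU d.hg)
      have h2 := d.s_c'
      rw [← h1, mul_inv_cancel_right] at h2
      exact d.z1 (mul_eq_left.1 h2.symm)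
    have hoff : ∀ w ∈ W, w ∉ d.Y → B x w = B x s := by
      intro w hw hn
      have h1 : w * s ∈ d.Y := ⟨W.mul_mem hw d.hs, d.toTv.symm.idx w hw s d.hs (fun h => hn ⟨hw, h⟩) fun h => hsn ⟨d.hs, h⟩⟩
      have h2 := hxy _ h1
      rw [hB1 x hx w hw s d.hs] at h2
      rw [eq_inv_of_mul_eq_one_left h2, Int.units_inv_eq_self]
    rcases Int.units_eq_one_or (B x s) with h1 | h1
    · left
      refine hB4 x hx fun w hw => ?_
      by_cases hwy : w ∈ d.Y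
      · exact hxy w hwy
      · rw [hoff w hw hwy, h1]
    · right
      have h2 : x * z = 1 := by
        refine hB4 _ (W.mul_mem hx d.zW) fun w hw => ?_
        rw [hB1' x hx z d.zW w hw]
        by_cases hwy : w ∈ d.Y
        · rw [hxy w hwy, hBz' w hwy]; rfl
        · rw [hoff w hw hwy, h1, hBz w hw hwy]; rfl
      rw [← d.invW d.zW]
      exact eq_inv_of_mul_eq_one_left h2
  -- `T ∩ T^⊥ = 1`
  have hTT : ∀ x ∈ d.T, (∀ x' ∈ d.T, B x x' = 1) → x = 1 := by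
    intro x hx h
    refine (hYperp x (hTW x hx) fun y hy => ?_).resolve_right fun h => d.z_T (h ▸ hx)
    obtain ⟨y₀, hy₀, h1⟩ := d.star hy
    have ha := d.W_Y' d.hs (d.mem_Y'.1 hy₀).2
    have h2 : y = (s * y₀ * s⁻¹ * y₀⁻¹) * ((s * y₀ * s⁻¹ * y₀⁻¹)⁻¹ * y) := by group
    rw [h2, hB1 x (hTW x hx) _ (hYW _ ha) _ (hTW _ h1), h _ h1, mul_one,
      hB2 x (hTW x hx) _ (hYW _ ha)]
    exact hperp s d.hs y₀ hy₀ x hx
  -- `[Y, Y'] = 1`
  have hYY : ∀ y ∈ d.Y, ∀ y' ∈ d.Y', y' * y * y'⁻¹ = y := by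
    intro y hy y' hy'
    have h1 := d.comm_T hy hy'
    have h2 : y' * y * y'⁻¹ * y⁻¹ = 1 := by
      refine hTT _ h1 fun x hx => ?_
      have h3 : y' * y * y'⁻¹ * y⁻¹ = (y * y' * y⁻¹ * y'⁻¹)⁻¹ := by group
      have h4 : y * y' * y⁻¹ * y'⁻¹ ∈ W := (d.W_Y' (hYW y hy) (d.mem_Y'.1 hy').2).1
      rw [h3, d.invW h4]
      exact hperp y (hYW y hy) y' hy' x hx
    exact mul_inv_eq_one.1 h2
  -- `[W, Y'] ≤ ⟨z⟩`
  obtain ⟨y₀, hy₀, h1⟩ := d.star hy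
  have ha := d.W_Y' d.hs (d.mem_Y'.1 hy₀).2
  rcases hYperp _ (hYW _ ha) fun y hy => hinv s d.hs y₀ (d.mem_Y'.1 hy₀).2 y (hYW y hy) (hYY y hy y₀ hy₀) with h2 | h2
  · left
    rwa [h2, inv_one, one_mul] at h1
  · right
    rwa [h2, d.invW d.zW] at h1

/-- no point of `W` under `K` lies in `T` -/
theorem pt_T [Finite G] {p : G} (hp : p ∈ K) : p * z * p⁻¹ ∉ d.T := by
  intro h
  have h1 := d.comm_s' (d.mem_Y'.1 h.2).1
  have h2 : (p⁻¹ * (g * s * g⁻¹) * p) * z = z * (p⁻¹ * (g * s * g⁻¹) * p) := by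
    have h3 := mul_inv_eq_iff_eq_mul.1 h1
    calc (p⁻¹ * (g * s * g⁻¹) * p) * z = p⁻¹ * ((g * s * g⁻¹) * (p * z * p⁻¹)) * p := by group
      _ = p⁻¹ * ((p * z * p⁻¹) * (g * s * g⁻¹)) * p := by rw [h3]
      _ = z * (p⁻¹ * (g * s * g⁻¹) * p) := by group
  have h4 : g * s * g⁻¹ ∈ K := by
    have := K.mul_mem (K.mul_mem hp (d.cK _ h2)) (K.inv_mem hp)
    have h5 : p * (p⁻¹ * (g * s * g⁻¹) * p) * p⁻¹ = g * s * g⁻¹ := by group
    rwa [h5] at this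
  have h5 := d.nW _ h4 z d.zW
  rw [d.s'_z] at h5
  have h6 : g * z * g⁻¹ ∈ W := by
    have := W.mul_mem (W.inv_mem d.zW) h5
    rwa [inv_mul_cancel_left] at this
  have h7 := d.comm_s h6
  rw [d.s_c'] at h7
  exact d.z1 (mul_eq_left.1 h7)

end Sit

/-- **THEOREM TV** -/
theorem Tv.false_of [Finite G] {z : G} {U W H K S P : Subgroup G} (t : Tv z U W H K S) (hSP : S ≤ P) (hPK : P ≤ K)
    (hcen : ∀ p ∈ P, p * z * p⁻¹ ∈ C U) (hne : ∃ p ∈ P, p * z ≠ z * p) : False := by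
  obtain ⟨g, s, d⟩ := t.exists_sit
  have hptY : ∀ p ∈ P, p * z * p⁻¹ ∈ d.Y := fun p hp => ⟨t.nW p (hPK hp) z t.zW, hcen p hp⟩
  have hptT : ∀ p ∈ P, p * z * p⁻¹ ∉ d.T := fun p hp => d.pt_T (hPK hp)
  -- in `Y` : `a b ∈ T` iff (`a ∈ T` iff `b ∈ T`)
  have hTz : ∀ a ∈ d.Y, a ∉ d.T → ∀ b ∈ d.Y, b ∉ d.T → a * b ∈ d.T := by
    intro a ha hna b hb hnb
    have h1 := (d.Y_T ha).resolve_left hna
    have h2 := (d.Y_T hb).resolve_left hnb
    have h3 := d.T.mul_mem h1 h2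
    have h4 : z * a * (z * b) = a * b := by
      rw [t.commW t.zW ha.1, mul_assoc, ← mul_assoc z z b, t.zz, one_mul]
    rwa [h4] at h3
  -- `V`
  let V : Subgroup G := closure {x | ∃ p ∈ P, x = p * z * p⁻¹}
  have hV : ∀ v ∈ V, v ∈ d.Y ∧ ∀ p ∈ P, p * v * p⁻¹ ∈ d.Y ∧ (v ∈ d.T ↔ p * v * p⁻¹ ∈ d.T) := by
    intro v hv
    refine closure_induction (p := fun v _ => v ∈ d.Y ∧ ∀ p ∈ P, p * v * p⁻¹ ∈ d.Y ∧ (v ∈ d.T ↔ p * v * p⁻¹ ∈ d.T))
      ?_ ?_ ?_ ?_ hv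
    · rintro x ⟨q, hq, rfl⟩
      refine ⟨hptY q hq, fun p hp => ?_⟩
      have h1 : p * (q * z * q⁻¹) * p⁻¹ = (p * q) * z * (p * q)⁻¹ := by group
      rw [h1]
      exact ⟨hptY _ (P.mul_mem hp hq), iff_of_false (hptT q hq) (hptT _ (P.mul_mem hp hq))⟩
    · refine ⟨d.Y.one_mem, fun p hp => ?_⟩
      rw [mul_one, mul_inv_cancel]
      exact ⟨d.Y.one_mem, Iff.rfl⟩
    · rintro x y _ _ ⟨hx, hx'⟩ ⟨hy, hy'⟩
      refine ⟨d.Y.mul_mem hx hy, fun p hp => ?_⟩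
      obtain ⟨hx1, hx2⟩ := hx' p hp
      obtain ⟨hy1, hy2⟩ := hy' p hp
      have h1 : p * (x * y) * p⁻¹ = (p * x * p⁻¹) * (p * y * p⁻¹) := by group
      rw [h1]
      refine ⟨d.Y.mul_mem hx1 hy1, ?_⟩
      by_cases hxT : x ∈ d.T
      · have hxT' := hx2.1 hxT
        rw [d.T.mul_mem_cancel_left hxT, d.T.mul_mem_cancel_left hxT', hy2]
      · have hxT' := fun h => hxT (hx2.2 h)
        by_cases hyT : y ∈ d.T
        · rw [d.T.mul_mem_cancel_right hyT, d.T.mul_mem_cancel_right (hy2.1 hyT), hx2]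
        · exact iff_of_true (hTz x hx hxT y hy hyT) (hTz _ hx1 hxT' _ hy1 fun h => hyT (hy2.2 h))
    · rintro x _ ⟨hx, hx'⟩
      have h1 : x⁻¹ = x := t.invW hx.1
      rw [h1]
      exact ⟨hx, hx'⟩
  -- `V ∩ T = 1`
  have hVT : V ⊓ d.T = ⊥ := by
    by_contra hcon
    have h1 := t.toAdj.symm.mem_of (N := V ⊓ d.T) (fun v hv => hv.2.1.1) hcon ?_
    · exact d.z_T h1.2
    · rintro x hx v ⟨hv, hvT⟩
      refine ⟨?_, ((hV v hv).2 x (hSP hx)).2.1 hvT⟩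
      have h2 : V ≤ V.comap (MulAut.conj x).toMonoidHom := by
        refine (closure_le _).2 ?_
        rintro y ⟨p, hp, rfl⟩
        show x * (p * z * p⁻¹) * x⁻¹ ∈ V
        have h3 : x * (p * z * p⁻¹) * x⁻¹ = (x * p) * z * (x * p)⁻¹ := by group
        rw [h3]
        exact subset_closure ⟨x * p, P.mul_mem (hSP hx) hp, rfl⟩
      exact h2 hv
  obtain ⟨p, hp, hpz⟩ := hne
  apply hpz
  have h1 : p * z * p⁻¹ ∈ V := subset_closure ⟨p, hp, rfl⟩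
  have h2 : z ∈ V := subset_closure ⟨1, P.one_mem, by group⟩
  have h3 : z ∈ d.Y := by
    have := hptY 1 P.one_mem
    rwa [one_mul, inv_one, mul_one] at this
  have h4 : p * z * p⁻¹ * z ∈ V ⊓ d.T := ⟨V.mul_mem h1 h2, hTz _ (hptY p hp) (hptT p hp) _ h3 d.z_T⟩
  rw [hVT, mem_bot] at h4
  have h5 : p * z * p⁻¹ = z := by
    rw [← t.invU t.zU]
    conv_lhs => rw [t.invU t.zU]
    exact eq_inv_of_mul_eq_one_left h4
  exact mul_inv_eq_iff_eq_mul.1 h5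

end Cfsg.Agent.Omega.NOThreeL.AdjTransv
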