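import Cfsg.Agent.Omega.VP
import Cfsg.Agent.Omega.NoFF.Basic

/-!
# NO-3L, (1): local overgroups of `C_G(Z)` generating a nonlocal group give a mutual pair

K-free. `H i` are subgroups with `C_G(Z) ≤ H i`, `U i` an abelian normal subgroup of `H i` containing `Z`.

* `exists_mutual_or` : some `U i` and some `(U j)^x`, `x ∈ X = ⟨H i⟩`, normalise each other and do not
  commute, or all `U i` and `(U j)^x` commute;
* `exists_mutual` : if no abelian subgroup containing `Z` is normal in `X = ⟨H i⟩`, then the first holds;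
* `exists_mutual_loc` : `G` of characteristic 2 type, `H i ∈ L(S)`, `C_G(Ω₁Z(S)) ≤ H i`,
  `O₂(⟨H i⟩) = 1`, `U i = ⟨Ω₁Z(S)^(H i)⟩ = zl S (H i)`.
-/

set_option autoImplicit false

namespace Cfsg.Agent.Omega.NOThreeL.Pair

open Subgroup MulAction Pointwise Cfsg Cfsg.Agent.ZN Cfsg.Agent.MinSimple
open Cfsg.Agent.Omega.NoFF.Basic (conj_conj mem_conj conj_le_iff conj_le_centralizer comm_symm
  comm_mono)
open scoped commutatorElement

universe u v

section abstr

variable {G : Type u} [Group G] {ι : Type v}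

theorem conj_eq_of_mem {g : G} {U : Subgroup G} (hg : g ∈ normalizer (U : Set G)) :
    MulAut.conj g • U = U := by
  ext x
  rw [mem_conj]
  have h := mem_normalizer_iff.mp hg (g⁻¹ * x * g)
  rw [h]
  simp [mul_assoc]

theorem conj_le_normalizer {g : G} {A B : Subgroup G} (h : A ≤ normalizer (B : Set G)) :
    MulAut.conj g • A ≤ normalizer ((MulAut.conj g • B : Subgroup G) : Set G) := by
  intro a ha
  rw [mem_conj] at ha
  rw [mem_normalizer_iff]
  intro x
  rw [mem_conj, mem_conj]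
  have h1 := mem_normalizer_iff.mp (h ha) (g⁻¹ * x * g)
  rw [h1]
  simp [mul_assoc]

theorem exists_list {H : ι → Subgroup G} {x : G} (hx : x ∈ (⨆ i, H i : Subgroup G)) :
    ∃ l : List G, (∀ y ∈ l, ∃ k, y ∈ H k) ∧ l.prod = x := by
  rw [iSup_eq_closure, ← mem_toSubmonoid, closure_toSubmonoid] at hx
  obtain ⟨l, hl, rfl⟩ := Submonoid.exists_list_of_mem_closure hx
  refine ⟨l, fun y hy => ?_, rfl⟩
  rcases hl y hy with h | h
  · simpa using h
  · obtain ⟨k, hk⟩ := Set.mem_iUnion.mp (Set.mem_inv.mp h)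
    exact ⟨k, inv_mem_iff.mp hk⟩

/-- `x` is a product of `n` elements of the `H k`; `U i` and `(U j)^x` do not commute. -/
def Bad (H U : ι → Subgroup G) (n : ℕ) : Prop :=
  ∃ (i j : ι) (l : List G), l.length = n ∧ (∀ y ∈ l, ∃ k, y ∈ H k) ∧
    ¬ U i ≤ centralizer ((MulAut.conj l.prod • U j : Subgroup G) : Set G)

/-- The normal closure of the `U i` in `X`. -/
def clo (X : Subgroup G) (U : ι → Subgroup G) : Subgroup G :=
  ⨆ (i : ι) (x : X), MulAut.conj (x : G) • U i

theorem le_clo {X : Subgroup G} {U : ι → Subgroup G} (i : ι) {x : G} (hx : x ∈ X) :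
    MulAut.conj x • U i ≤ clo X U :=
  (le_iSup (fun y : X => MulAut.conj (y : G) • U i) ⟨x, hx⟩).trans
    (le_iSup (fun i => ⨆ y : X, MulAut.conj (y : G) • U i) i)

theorem le_clo' {X : Subgroup G} {U : ι → Subgroup G} (i : ι) : U i ≤ clo X U := by
  have h := le_clo (X := X) (U := U) i (one_mem X)
  rwa [map_one, one_smul] at h

theorem clo_le {X A : Subgroup G} {U : ι → Subgroup G}
    (h : ∀ i, ∀ x ∈ X, MulAut.conj x • U i ≤ A) : clo X U ≤ A :=
  iSup_le fun i => iSup_le fun x => h i x x.2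

/-- the union of the conjugates of the `U i` under `X` generates an `X`-invariant subgroup. -/
theorem le_normalizer_clo (X : Subgroup G) (U : ι → Subgroup G) :
    X ≤ normalizer (clo X U : Set G) := by
  have key : ∀ g ∈ X, MulAut.conj g • clo X U ≤ clo X U := by
    intro g hg
    rw [Subgroup.pointwise_smul_subset_iff]
    refine clo_le fun i x hx => ?_
    rw [← Subgroup.pointwise_smul_subset_iff, conj_conj]
    exact le_clo i (X.mul_mem hg hx)
  intro g hg
  rw [mem_normalizer_iff]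
  intro y
  constructor
  · intro hy
    apply key g hg
    rw [mem_conj]
    simpa [mul_assoc] using hy
  · intro hy
    apply key g⁻¹ (X.inv_mem hg)
    rw [mem_conj]
    simpa [mul_assoc] using hy

theorem clo_comm {X : Subgroup G} {U : ι → Subgroup G} (h : ∀ i j, ∀ x ∈ X,
    U i ≤ centralizer ((MulAut.conj x • U j : Subgroup G) : Set G)) :
    clo X U ≤ centralizer (clo X U : Set G) := by
  refine clo_le fun i x hx => ?_
  rw [Subgroup.le_centralizer_iff]
  refine clo_le fun j y hy => ?_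
  have h3 := conj_le_centralizer (g := y) (h j i (y⁻¹ * x) (mul_mem (inv_mem hy) hx))
  rwa [conj_conj, mul_inv_cancel_left] at h3

/-- **NO-3L, (1)**, abstract. -/
theorem exists_mutual_or {Z : Subgroup G} {H U : ι → Subgroup G}
    (hZ : ∀ i, Z ≤ U i) (hC : ∀ i, centralizer (Z : Set G) ≤ H i)
    (hU : ∀ i, U i ≤ centralizer (U i : Set G)) (hN : ∀ i, H i ≤ normalizer (U i : Set G)) :
    (∃ i j, ∃ x ∈ (⨆ i, H i : Subgroup G),
      U i ≤ normalizer ((MulAut.conj x • U j : Subgroup G) : Set G) ∧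
      MulAut.conj x • U j ≤ normalizer (U i : Set G) ∧
      ¬ U i ≤ centralizer ((MulAut.conj x • U j : Subgroup G) : Set G)) ∨
    ∀ i j, ∀ x ∈ (⨆ i, H i : Subgroup G),
      U i ≤ centralizer ((MulAut.conj x • U j : Subgroup G) : Set G) := by
  classical
  by_cases hbad : ∃ n, Bad H U n
  swap
  · right
    intro i j x hx
    by_contra hne
    obtain ⟨l, hl, rfl⟩ := exists_list hx
    exact hbad ⟨l.length, i, j, l, rfl, hl, hne⟩
  left
  -- take one of least length
  obtain ⟨i, j, l, hl, hH, hne⟩ := Nat.find_spec hbad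
  have hmin : ∀ (i j : ι) (l' : List G), l'.length < l.length → (∀ y ∈ l', ∃ k, y ∈ H k) →
      U i ≤ centralizer ((MulAut.conj l'.prod • U j : Subgroup G) : Set G) := by
    intro i j l' hl' hH'
    by_contra hne'
    rw [hl] at hl'
    exact Nat.find_min hbad hl' ⟨i, j, l', rfl, hH', hne'⟩
  have hmem : l.prod ∈ (⨆ i, H i : Subgroup G) := by
    refine list_prod_mem fun y hy => ?_
    obtain ⟨k, hk⟩ := hH y hy
    exact (le_iSup H k) hk
  -- `U i` centralises `Z^x`
  have h1 : U i ≤ centralizer ((MulAut.conj l.prod • Z : Subgroup G) : Set G) := by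
    rcases l.eq_nil_or_concat with h0 | ⟨L, b, h0⟩
    · subst h0
      rw [List.prod_nil, map_one, one_smul]
      exact comm_mono (hU i) le_rfl (hZ i)
    · obtain ⟨k, hk⟩ := hH b (by rw [h0]; simp)
      have h3 := hmin i k L (by rw [h0]; simp) (fun y hy => hH y (by rw [h0]; simp [hy]))
      have h4 : MulAut.conj l.prod • U k = MulAut.conj L.prod • U k := by
        rw [h0, List.concat_eq_append, List.prod_append, List.prod_singleton, ← conj_conj,
          conj_eq_of_mem (hN k hk)]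
      rw [← h4] at h3
      exact comm_mono h3 le_rfl (conj_le_iff.2 (hZ k))
  -- `(U j)^x` centralises `Z`
  have h2 : MulAut.conj l.prod • U j ≤ centralizer (Z : Set G) := by
    rcases l with _ | ⟨b, L⟩
    · rw [List.prod_nil, map_one, one_smul]
      exact comm_mono (hU j) le_rfl (hZ j)
    · obtain ⟨k, hk⟩ := hH b (by simp)
      have h3 := hmin k j L (by simp) (fun y hy => hH y (by simp [hy]))
      have h4 := conj_le_centralizer (g := b) h3
      rw [conj_eq_of_mem (hN k hk), conj_conj, ← List.prod_cons] at h4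
      exact comm_mono (comm_symm h4) le_rfl (hZ k)
  refine ⟨i, j, l.prod, hmem, ?_, ?_, hne⟩
  · refine le_trans ?_ (conj_le_normalizer (hN j))
    refine le_trans ?_ (conj_le_iff.2 (hC j))
    intro u hu
    rw [mem_conj, mem_centralizer_iff]
    intro z hz
    have h5 := mem_centralizer_iff.mp (h1 hu) (l.prod * z * l.prod⁻¹) (by
      change _ ∈ MulAut.conj l.prod • Z
      rw [mem_conj]
      simpa [mul_assoc] using hz)
    have h6 := congrArg (fun t => l.prod⁻¹ * t * l.prod) h5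
    simpa [mul_assoc] using h6
  · exact h2.trans ((hC i).trans (hN i))

/-- **NO-3L, (1)**: if no abelian subgroup containing `Z` is normal in `⟨H i⟩`, there is a mutual pair. -/
theorem exists_mutual [Nonempty ι] {Z : Subgroup G} {H U : ι → Subgroup G}
    (hZ : ∀ i, Z ≤ U i) (hC : ∀ i, centralizer (Z : Set G) ≤ H i)
    (hU : ∀ i, U i ≤ centralizer (U i : Set G)) (hN : ∀ i, H i ≤ normalizer (U i : Set G))
    (hX : ∀ A : Subgroup G, Z ≤ A → A ≤ centralizer (A : Set G) →
      ¬ (⨆ i, H i) ≤ normalizer (A : Set G)) :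
    ∃ i j, ∃ x ∈ (⨆ i, H i : Subgroup G),
      U i ≤ normalizer ((MulAut.conj x • U j : Subgroup G) : Set G) ∧
      MulAut.conj x • U j ≤ normalizer (U i : Set G) ∧
      ¬ U i ≤ centralizer ((MulAut.conj x • U j : Subgroup G) : Set G) := by
  rcases exists_mutual_or hZ hC hU hN with h | h
  · exact h
  · obtain ⟨i⟩ := ‹Nonempty ι›
    exact absurd (le_normalizer_clo _ U)
      (hX (clo _ U) ((hZ i).trans (le_clo' i)) (clo_comm h))

/-- commuting subgroups of exponent 2 generate a group of exponent 2 -/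
theorem clo_isPGroup {X : Subgroup G} {U : ι → Subgroup G}
    (hsq : ∀ i, ∀ u ∈ U i, u ^ 2 = 1) (hc : clo X U ≤ centralizer (clo X U : Set G)) :
    ∀ u ∈ clo X U, u ^ 2 = 1 := by
  let A : Subgroup G :=
    { carrier := {u | u ∈ clo X U ∧ u ^ 2 = 1}
      mul_mem' := by
        rintro a b ⟨ha, ha2⟩ ⟨hb, hb2⟩
        refine ⟨mul_mem ha hb, ?_⟩
        have h1 : Commute a b := (mem_centralizer_iff.mp (hc hb)) a ha
        rw [h1.mul_pow, ha2, hb2, one_mul]
      one_mem' := ⟨one_mem _, one_pow 2⟩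
      inv_mem' := by
        rintro a ⟨ha, ha2⟩
        exact ⟨inv_mem ha, by rw [inv_pow, ha2, inv_one]⟩ }
  have h1 : clo X U ≤ A := by
    refine clo_le fun i x hx u hu => ⟨le_clo i hx hu, ?_⟩
    rw [mem_conj] at hu
    have h2 := hsq i _ hu
    have h3 : u ^ 2 = x * (x⁻¹ * u * x) ^ 2 * x⁻¹ := by
      simp [pow_two, mul_assoc]
    rw [h3, h2]
    simp
  exact fun u hu => (h1 hu).2

/-- **NO-3L, (1)**, for 2-groups: if no 2-subgroup `≠ 1` is normal in `⟨H i⟩`, there is a mutual pair. -/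
theorem exists_mutual_two [Nonempty ι] {Z : Subgroup G} {H U : ι → Subgroup G} (hZ1 : Z ≠ ⊥)
    (hZ : ∀ i, Z ≤ U i) (hC : ∀ i, centralizer (Z : Set G) ≤ H i)
    (hU : ∀ i, U i ≤ centralizer (U i : Set G)) (hsq : ∀ i, ∀ u ∈ U i, u ^ 2 = 1)
    (hN : ∀ i, H i ≤ normalizer (U i : Set G))
    (hX : ∀ A : Subgroup G, IsPGroup 2 A → (⨆ i, H i) ≤ normalizer (A : Set G) → A = ⊥) :
    ∃ i j, ∃ x ∈ (⨆ i, H i : Subgroup G),
      U i ≤ normalizer ((MulAut.conj x • U j : Subgroup G) : Set G) ∧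
      MulAut.conj x • U j ≤ normalizer (U i : Set G) ∧
      ¬ U i ≤ centralizer ((MulAut.conj x • U j : Subgroup G) : Set G) := by
  rcases exists_mutual_or hZ hC hU hN with h | h
  · exact h
  · obtain ⟨i⟩ := ‹Nonempty ι›
    exfalso
    refine hZ1 (le_bot_iff.mp ?_)
    rw [← hX (clo (⨆ i, H i) U) (fun a => ⟨1, ?_⟩) (le_normalizer_clo _ U)]
    · exact (hZ i).trans (le_clo' i)
    · exact Subtype.ext (clo_isPGroup hsq (clo_comm h) a a.2)

end abstr

/-! ### In the frame -/

section loc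

open Cfsg.Agent.Omega.MinPar (IsPar IsParS IsLoc NonLoc)
open Cfsg.Agent.MinSimple.VModule (le_o2 mem_zc zc_le zc_le_zl zl_le_zc zl_comm zl_sq
  le_normalizer_zl zl_le inf_centralizer_zl o2_le_centralizer_zl normalizer_le_normalizer_zc)

variable {G : Type u} [Group G] [Finite G] {ι : Type v}

/-- `U_H = ⟨Ω₁Z(S)^H⟩` is elementary abelian. -/
theorem zl_abel (hG : IsCharacteristicTwoType G) (S : Sylow 2 G) {H : Subgroup G}
    (h : IsLoc (S : Subgroup G) H) :
    zl (S : Subgroup G) H ≤ centralizer (zl (S : Subgroup G) H : Set G) ∧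
      ∀ u ∈ zl (S : Subgroup G) H, u ^ 2 = 1 := by
  have h1 := h.zl_le S hG
  refine ⟨fun u hu => ?_, fun u hu => (mem_zc.mp (h1 hu)).2.2⟩
  rw [mem_centralizer_iff]
  intro v hv
  exact (mem_zc.mp (h1 hu)).2.1 v (zc_le _ (h1 hv))

/-- **NO-3L, (1)**: `H i ∈ L(S)`, `C_G(Ω₁Z(S)) ≤ H i`, `O₂(⟨H i⟩) = 1`; then there is a mutual
noncommuting pair of conjugates of the `U_{H i} = ⟨Ω₁Z(S)^(H i)⟩`. -/
theorem exists_mutual_loc [Nonempty ι] (hG : IsCharacteristicTwoType G) (S : Sylow 2 G)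
    {H : ι → Subgroup G} (h : ∀ i, IsLoc (S : Subgroup G) (H i))
    (hC : ∀ i, centralizer (zc (S : Subgroup G) : Set G) ≤ H i) (core : o2 (⨆ i, H i) = ⊥) :
    ∃ i j, ∃ x ∈ (⨆ i, H i : Subgroup G),
      zl (S : Subgroup G) (H i) ≤
        normalizer ((MulAut.conj x • zl (S : Subgroup G) (H j) : Subgroup G) : Set G) ∧
      MulAut.conj x • zl (S : Subgroup G) (H j) ≤
        normalizer (zl (S : Subgroup G) (H i) : Set G) ∧
      ⁅zl (S : Subgroup G) (H i), MulAut.conj x • zl (S : Subgroup G) (H j)⁆ ≠ ⊥ := by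
  have hS : (S : Subgroup G) ≠ ⊥ := by
    obtain ⟨i⟩ := ‹Nonempty ι›
    intro h0
    exact (h i).o2_ne (le_bot_iff.mp (h0 ▸ (h i).o2_le S))
  have hX : ∀ A : Subgroup G, IsPGroup 2 A → (⨆ i, H i) ≤ normalizer (A : Set G) → A = ⊥ := by
    intro A hA hn
    obtain ⟨i⟩ := ‹Nonempty ι›
    by_contra hA1
    have hSX : (S : Subgroup G) ≤ ⨆ i, H i := (h i).le.trans (le_iSup H i)
    exact (Cfsg.Agent.Omega.MinPar.isLoc_of_le_normalizer S hSX hA hA1 hn).o2_ne core
  obtain ⟨i, j, x, hx, h1, h2, h3⟩ := exists_mutual_two (Z := zc (S : Subgroup G)) (H := H)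
    (U := fun i => zl (S : Subgroup G) (H i)) (Basic.zc_ne_bot S.isPGroup' hS)
    (fun i => zc_le_zl _ _) hC (fun i => (zl_abel hG S (h i)).1) (fun i => (zl_abel hG S (h i)).2)
    (fun i => le_normalizer_zl _ _) hX
  refine ⟨i, j, x, hx, h1, h2, fun h4 => h3 ?_⟩
  rwa [commutator_eq_bot_iff_le_centralizer] at h4

/-- two overgroups -/
theorem exists_mutual_pair (hG : IsCharacteristicTwoType G) (S : Sylow 2 G)
    {H₁ H₂ : Subgroup G} (h₁ : IsLoc (S : Subgroup G) H₁) (h₂ : IsLoc (S : Subgroup G) H₂)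
    (hC₁ : centralizer (zc (S : Subgroup G) : Set G) ≤ H₁)
    (hC₂ : centralizer (zc (S : Subgroup G) : Set G) ≤ H₂) (core : NonLoc H₁ H₂) :
    ∃ H H' : Subgroup G, (H = H₁ ∨ H = H₂) ∧ (H' = H₁ ∨ H' = H₂) ∧ ∃ x ∈ H₁ ⊔ H₂,
      zl (S : Subgroup G) H ≤
        normalizer ((MulAut.conj x • zl (S : Subgroup G) H' : Subgroup G) : Set G) ∧
      MulAut.conj x • zl (S : Subgroup G) H' ≤ normalizer (zl (S : Subgroup G) H : Set G) ∧
      ⁅zl (S : Subgroup G) H, MulAut.conj x • zl (S : Subgroup G) H'⁆ ≠ ⊥ := by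
  have hs : (⨆ i : Bool, bif i then H₁ else H₂) = H₁ ⊔ H₂ := iSup_bool_eq
  obtain ⟨i, j, x, hx, h1⟩ := exists_mutual_loc (ι := Bool) hG S
    (H := fun i => bif i then H₁ else H₂) (fun i => by cases i <;> assumption)
    (fun i => by cases i <;> assumption) (by rw [hs]; exact core.o2_sup)
  rw [hs] at hx
  refine ⟨bif i then H₁ else H₂, bif j then H₁ else H₂, ?_, ?_, x, hx, h1⟩
  · cases i <;> simp
  · cases j <;> simp

end loc

end Cfsg.Agent.Omega.NOThreeL.Pair
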