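import Cfsg.Agent.Omega.NOThreeL.Pair

/-!
# NO-3L: the point stabiliser lemma (text `bb OMEGA`, helper582, LEMMA P)

K-free. `H i` are subgroups with `C_G(Z) ≤ H i`, `U i` an abelian normal subgroup of `H i` containing `Z`,
`O₂(H i) ≤ O₂(C_G(Z))`. Words `l` in the `H k` are galleries; `conj l.prod • U j` is the module of
type `j` at the last point of the gallery.

* `word_le` : if no pair of modules at distance `< l.length` is noncommuting, then
  `(U j)^x ≤ O₂(C_G(Z))`, `x = l.prod`, and `(U j)^x ≤ O₂(H k)` if the first letter of `l` is in `H k`;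
* `exists_crit_or` : there is a mutual noncommuting pair `U i`, `(U j)^x` with
  `(U j)^x ≤ O₂(C_G(Z))` and `U i ≤ O₂(C_G(Z))^x`, or everything commutes;
* `exists_crit_loc` : the same in the frame (`H i ∈ L(S)`, `C_G(Ω₁Z(S)) ≤ H i`, `O₂(⟨H i⟩) = 1`).
-/

set_option autoImplicit false

namespace Cfsg.Agent.Omega.NOThreeL.PointStab

open Subgroup MulAction Pointwise Cfsg Cfsg.Agent.ZN Cfsg.Agent.MinSimple
open Cfsg.Agent.Omega.NoFF.Basic (conj_conj mem_conj conj_le_iff conj_le_centralizer comm_symm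
  comm_mono)
open Cfsg.Agent.Omega.NOThreeL.Pair
open Cfsg.Agent.MinSimple.VModule (o2_le o2_isPGroup le_normalizer_o2 le_o2 o2_le_of_sylow
  normalizer_le_normalizer_zc)
open scoped commutatorElement

universe u v

section abstr

variable {G : Type u} [Group G] {ι : Type v}

/-- All pairs of modules at gallery distance `< n` commute. -/
def Good (H U : ι → Subgroup G) (n : ℕ) : Prop :=
  ∀ (i j : ι) (l : List G), l.length < n → (∀ y ∈ l, ∃ k, y ∈ H k) →
    U i ≤ centralizer ((MulAut.conj l.prod • U j : Subgroup G) : Set G)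

theorem Good.mono {H U : ι → Subgroup G} {m n : ℕ} (h : Good H U n) (hmn : m ≤ n) : Good H U m :=
  fun i j l hl => h i j l (hl.trans_le hmn)

/-- the part of `O₂(C_G(Z))` centralising `U k ≥ Z` is in `O₂(H k)`. -/
theorem inf_le_o2 {Z U H : Subgroup G} (hZ : Z ≤ U) (hC : centralizer (Z : Set G) ≤ H)
    (hN : H ≤ normalizer (U : Set G)) :
    o2 (centralizer (Z : Set G)) ⊓ centralizer (U : Set G) ≤ o2 H := by
  have hCU : centralizer (U : Set G) ≤ centralizer (Z : Set G) := centralizer_le hZ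
  have h1 : o2 (centralizer (Z : Set G)) ⊓ centralizer (U : Set G) ≤
      o2 (centralizer (U : Set G)) := by
    refine le_o2 inf_le_right ((o2_isPGroup _).to_le inf_le_left) ?_
    intro g hg
    have h2 := le_normalizer_o2 (centralizer (Z : Set G)) (hCU hg)
    rw [mem_normalizer_iff] at h2 ⊢
    intro x
    rw [Subgroup.mem_inf, Subgroup.mem_inf, h2 x]
    refine and_congr_right fun _ => ⟨fun hx => mul_mem (mul_mem hg hx) (inv_mem hg), fun hx => ?_⟩
    have h3 := mul_mem (mul_mem (inv_mem hg) hx) hg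
    simpa [mul_assoc] using h3
  refine h1.trans (le_o2 ((o2_le _).trans (hCU.trans hC)) (o2_isPGroup _) ?_)
  intro g hg
  have h4 : ∀ a ∈ normalizer (U : Set G), ∀ x ∈ centralizer (U : Set G),
      a * x * a⁻¹ ∈ centralizer (U : Set G) := by
    intro a ha x hx
    rw [mem_centralizer_iff]
    intro u hu
    have h5 : a⁻¹ * u * a ∈ U := by
      have h6 := (mem_normalizer_iff.mp (inv_mem ha) u).mp hu
      rwa [inv_inv] at h6
    have h6 := mem_centralizer_iff.mp hx _ h5
    have h7 := congrArg (fun t => a * t * a⁻¹) h6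
    simpa [mul_assoc] using h7
  have h5 : g ∈ normalizer (centralizer (U : Set G) : Set G) := by
    rw [mem_normalizer_iff]
    intro x
    refine ⟨h4 g (hN hg) x, fun hx => ?_⟩
    have h6 := h4 g⁻¹ (inv_mem (hN hg)) _ hx
    simpa [mul_assoc] using h6
  exact Cfsg.Agent.Omega.normalizer_le_normalizer_o2' _ h5

/-- **LEMMA P.** -/
theorem word_le {Z : Subgroup G} {H U : ι → Subgroup G}
    (hZ : ∀ i, Z ≤ U i) (hC : ∀ i, centralizer (Z : Set G) ≤ H i)
    (hN : ∀ i, H i ≤ normalizer (U i : Set G)) (hO : ∀ i, o2 (H i) ≤ o2 (centralizer (Z : Set G)))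
    (hUO : ∀ i, U i ≤ o2 (H i)) (j : ι) :
    ∀ l : List G, (∀ y ∈ l, ∃ k, y ∈ H k) → Good H U l.length →
      MulAut.conj l.prod • U j ≤ o2 (centralizer (Z : Set G)) ∧
      ∀ y l', l = y :: l' → ∀ k, y ∈ H k → MulAut.conj l.prod • U j ≤ o2 (H k)
  | [], _, _ => by
    refine ⟨?_, fun y l' h => absurd h (by simp)⟩
    rw [List.prod_nil, map_one, one_smul]
    exact (hUO j).trans (hO j)
  | y :: l, hl, hg => by
    have ih := word_le hZ hC hN hO hUO j l (fun x hx => hl x (List.mem_cons_of_mem _ hx))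
      (hg.mono (by simp))
    have key : ∀ k, y ∈ H k → MulAut.conj (y :: l).prod • U j ≤ o2 (H k) := by
      intro k hk
      have h1 : U k ≤ centralizer ((MulAut.conj l.prod • U j : Subgroup G) : Set G) :=
        hg k j l (by simp) (fun x hx => hl x (List.mem_cons_of_mem _ hx))
      have h2 : MulAut.conj l.prod • U j ≤ o2 (H k) :=
        (le_inf ih.1 (comm_symm h1)).trans (inf_le_o2 (hZ k) (hC k) (hN k))
      rw [List.prod_cons, ← conj_conj]
      have h3 : MulAut.conj y • o2 (H k) = o2 (H k) :=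
        conj_eq_of_mem (le_normalizer_o2 _ hk)
      rw [← h3]
      exact conj_le_iff.2 h2
    refine ⟨?_, ?_⟩
    · obtain ⟨k, hk⟩ := hl y (by simp)
      exact (key k hk).trans (hO k)
    · intro y' l' h k hk
      obtain ⟨rfl, rfl⟩ := List.cons.inj h
      exact key k hk

/-- Reversing a gallery. -/
theorem Good.symm_word {Z : Subgroup G} {H U : ι → Subgroup G}
    (hZ : ∀ i, Z ≤ U i) (hC : ∀ i, centralizer (Z : Set G) ≤ H i)
    (hN : ∀ i, H i ≤ normalizer (U i : Set G)) (hO : ∀ i, o2 (H i) ≤ o2 (centralizer (Z : Set G)))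
    (hUO : ∀ i, U i ≤ o2 (H i)) (i : ι) (l : List G) (hl : ∀ y ∈ l, ∃ k, y ∈ H k)
    (hg : Good H U l.length) :
    U i ≤ MulAut.conj l.prod • o2 (centralizer (Z : Set G)) := by
  have h1 := (word_le hZ hC hN hO hUO i (l.reverse.map (·⁻¹)) (by
    intro y hy
    obtain ⟨x, hx, rfl⟩ := List.mem_map.mp hy
    obtain ⟨k, hk⟩ := hl x (List.mem_reverse.mp hx)
    exact ⟨k, inv_mem hk⟩) (by simpa using hg)).1
  have h2 : (l.reverse.map (·⁻¹)).prod = l.prod⁻¹ := by
    rw [List.prod_inv_reverse, List.map_reverse]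
  rw [h2] at h1
  have h3 := conj_le_iff (g := l.prod).2 h1
  rwa [conj_conj, mul_inv_cancel, map_one, one_smul] at h3

/-- **NO-3L**: everything commutes, or there is a mutual noncommuting pair inside the `O₂` of the two
point stabilisers. -/
theorem exists_crit_or {Z : Subgroup G} {H U : ι → Subgroup G}
    (hZ : ∀ i, Z ≤ U i) (hC : ∀ i, centralizer (Z : Set G) ≤ H i)
    (hN : ∀ i, H i ≤ normalizer (U i : Set G)) (hO : ∀ i, o2 (H i) ≤ o2 (centralizer (Z : Set G)))
    (hUO : ∀ i, U i ≤ o2 (H i)) :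
    (∃ i j, ∃ x ∈ (⨆ i, H i : Subgroup G),
      MulAut.conj x • U j ≤ o2 (centralizer (Z : Set G)) ∧
      U i ≤ MulAut.conj x • o2 (centralizer (Z : Set G)) ∧
      ¬ U i ≤ centralizer ((MulAut.conj x • U j : Subgroup G) : Set G)) ∨
    ∀ i j, ∀ x ∈ (⨆ i, H i : Subgroup G),
      U i ≤ centralizer ((MulAut.conj x • U j : Subgroup G) : Set G) := by
  classical
  by_cases hbad : ∃ n, Bad H U n
  swap
  · right
    intro i j x hx
    by_contra hne
    obtain ⟨l, hl, rfl⟩ := exists_list hx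
    exact hbad ⟨l.length, i, j, l, rfl, hl, hne⟩
  left
  obtain ⟨i, j, l, hl, hH, hne⟩ := Nat.find_spec hbad
  have hgood : Good H U l.length := by
    intro i j l' hl' hH'
    by_contra hne'
    rw [hl] at hl'
    exact Nat.find_min hbad hl' ⟨i, j, l', rfl, hH', hne'⟩
  have hmem : l.prod ∈ (⨆ i, H i : Subgroup G) := by
    refine list_prod_mem fun y hy => ?_
    obtain ⟨k, hk⟩ := hH y hy
    exact (le_iSup H k) hk
  exact ⟨i, j, l.prod, hmem, (word_le hZ hC hN hO hUO j l hH hgood).1,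
    Good.symm_word hZ hC hN hO hUO i l hH hgood, hne⟩

end abstr

/-! ### In the frame -/

section loc

open Cfsg.Agent.Omega.MinPar (IsPar IsParS IsLoc NonLoc)
open Cfsg.Agent.MinSimple.VModule (mem_zc zc_le zc_le_zl zl_le_zc zl_comm zl_sq
  le_normalizer_zl zl_le inf_centralizer_zl o2_le_centralizer_zl)

variable {G : Type u} [Group G] [Finite G] {ι : Type v}

omit [Finite G] in
/-- `S ≤ C_G(Ω₁Z(S))`. -/
theorem le_cz (S : Subgroup G) : S ≤ centralizer (zc S : Set G) := by
  intro s hs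
  rw [mem_centralizer_iff]
  intro z hz
  exact ((mem_zc.mp hz).2.1 s hs).symm

/-- `O₂(H) ≤ O₂(C_G(Ω₁Z(S)))` for `H ∈ L(S)` with `C_G(Ω₁Z(S)) ≤ H`. -/
theorem o2_le_o2_cz (S : Sylow 2 G) {H : Subgroup G} (h : IsLoc (S : Subgroup G) H)
    (hC : centralizer (zc (S : Subgroup G) : Set G) ≤ H) :
    o2 H ≤ o2 (centralizer (zc (S : Subgroup G) : Set G)) :=
  le_o2 ((h.o2_le S).trans (le_cz _)) (o2_isPGroup _) (hC.trans (le_normalizer_o2 _))

theorem zl_le_o2 (hG : IsCharacteristicTwoType G) (S : Sylow 2 G) {H : Subgroup G}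
    (h : IsLoc (S : Subgroup G) H) : zl (S : Subgroup G) H ≤ o2 H := by
  have h1 := h.zl_le S hG
  exact h1.trans (zc_le _)

/-- **LEMMA P in the frame.** -/
theorem exists_crit_loc [Nonempty ι] (hG : IsCharacteristicTwoType G) (S : Sylow 2 G)
    {H : ι → Subgroup G} (h : ∀ i, IsLoc (S : Subgroup G) (H i))
    (hC : ∀ i, centralizer (zc (S : Subgroup G) : Set G) ≤ H i) (core : o2 (⨆ i, H i) = ⊥) :
    ∃ i j, ∃ x ∈ (⨆ i, H i : Subgroup G),
      MulAut.conj x • zl (S : Subgroup G) (H j) ≤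
        o2 (centralizer (zc (S : Subgroup G) : Set G)) ∧
      zl (S : Subgroup G) (H i) ≤
        MulAut.conj x • o2 (centralizer (zc (S : Subgroup G) : Set G)) ∧
      ⁅zl (S : Subgroup G) (H i), MulAut.conj x • zl (S : Subgroup G) (H j)⁆ ≠ ⊥ := by
  rcases exists_crit_or (Z := zc (S : Subgroup G)) (H := H)
    (U := fun i => zl (S : Subgroup G) (H i)) (fun i => zc_le_zl _ _) hC
    (fun i => le_normalizer_zl _ _) (fun i => o2_le_o2_cz S (h i) (hC i))
    (fun i => zl_le_o2 hG S (h i)) with h1 | h1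
  · obtain ⟨i, j, x, hx, h2, h3, h4⟩ := h1
    refine ⟨i, j, x, hx, h2, h3, fun h5 => h4 ?_⟩
    rwa [commutator_eq_bot_iff_le_centralizer] at h5
  · exfalso
    obtain ⟨i, j, x, hx, -, -, h4⟩ := exists_mutual_loc hG S h hC core
    apply h4
    rw [commutator_eq_bot_iff_le_centralizer]
    exact h1 i j x hx

end loc

end Cfsg.Agent.Omega.NOThreeL.PointStab
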