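import Cfsg.Agent.Omega.NOThreeL.Adjacent

/-!
# NO-3L: the points of `U_H` are connected by lines

`conn` : `S ≤ H ∈ L(S)`; a subgroup `A` with `Z ≤ A` and `W_H^h ≤ A` whenever `Z^h ≤ A`
(`h ∈ N_G(U_H)`) contains `U_H = ⟨Z^H⟩`; `W_H = ⟨V_P^c : P ∈ P*(S), P ≤ H, c ∈ C_G(Z)⟩` (or any subgroup
containing all `V_P`, `P ∈ P*(S)`, `P ≤ H`).
-/

set_option autoImplicit false

namespace Cfsg.Agent.Omega.NOThreeL

open Subgroup MulAction Pointwise Cfsg Cfsg.Agent.ZN Cfsg.Agent.MinSimple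
open Cfsg.Agent.Omega.NoFF.Basic (conj_conj mem_conj conj_le_iff)
open Cfsg.Agent.Omega.MinPar (IsPar IsParS IsLoc NonLoc)

universe u

variable {G : Type u} [Group G]

/-- the elements which stabilise the set `{h ∈ N : Z^h ≤ A}` from the right -/
def rstab (N Z A : Subgroup G) : Subgroup G where
  carrier := {y | y ∈ N ∧ ∀ h ∈ N, MulAut.conj h • Z ≤ A ↔ MulAut.conj (h * y) • Z ≤ A}
  mul_mem' := by
    rintro a b ⟨ha, ha2⟩ ⟨hb, hb2⟩
    refine ⟨mul_mem ha hb, fun h hh => ?_⟩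
    rw [← mul_assoc, ha2 h hh]
    exact hb2 (h * a) (mul_mem hh ha)
  one_mem' := ⟨one_mem _, fun h _ => by rw [mul_one]⟩
  inv_mem' := by
    rintro a ⟨ha, ha2⟩
    refine ⟨inv_mem ha, fun h hh => ?_⟩
    have h1 := ha2 (h * a⁻¹) (mul_mem hh (inv_mem ha))
    rw [inv_mul_cancel_right] at h1
    exact h1.symm

theorem mem_rstab {N Z A : Subgroup G} {y : G} : y ∈ rstab N Z A ↔
    y ∈ N ∧ ∀ h ∈ N, MulAut.conj h • Z ≤ A ↔ MulAut.conj (h * y) • Z ≤ A := Iff.rfl

/-- it is enough to check one direction, for all elements of a subgroup -/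
theorem le_rstab {N Z A P : Subgroup G} (hPN : P ≤ N)
    (h : ∀ y ∈ P, ∀ h ∈ N, MulAut.conj h • Z ≤ A → MulAut.conj (h * y) • Z ≤ A) :
    P ≤ rstab N Z A := by
  intro y hy
  refine mem_rstab.mpr ⟨hPN hy, fun g hg => ⟨h y hy g hg, fun h1 => ?_⟩⟩
  have h2 := h y⁻¹ (inv_mem hy) (g * y) (mul_mem hg (hPN hy)) h1
  rwa [mul_inv_cancel_right] at h2

/-- **The points of `U_H` are connected.** -/
theorem conn [Finite G] (S : Sylow 2 G) {H W : Subgroup G} (hH : IsLoc (S : Subgroup G) H)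
    (hW : ∀ P, IsParS (S : Subgroup G) P → P ≤ H → zl (S : Subgroup G) P ≤ W) (A : Subgroup G)
    (hZ : zc (S : Subgroup G) ≤ A)
    (h : ∀ g ∈ normalizer (zl (S : Subgroup G) H : Set G),
      MulAut.conj g • zc (S : Subgroup G) ≤ A → MulAut.conj g • W ≤ A) :
    zl (S : Subgroup G) H ≤ A := by
  have hHN : H ≤ normalizer (zl (S : Subgroup G) H : Set G) := VModule.le_normalizer_zl _ _
  have hfix : ∀ P : Subgroup G, P ≤ H → P ≤ normalizer (zc (S : Subgroup G) : Set G) →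
      P ≤ rstab (normalizer (zl (S : Subgroup G) H : Set G)) (zc (S : Subgroup G)) A := by
    intro P hPH hPn
    refine le_rstab (hPH.trans hHN) fun y hy g _ h1 => ?_
    rwa [← conj_conj, Pair.conj_eq_of_mem (hPn hy)]
  have key : H ≤ rstab (normalizer (zl (S : Subgroup G) H : Set G)) (zc (S : Subgroup G)) A := by
    refine hH.le_of_forall S ?_ fun P hP hPH => ?_
    · exact hfix _ inf_le_left (inf_le_right.trans (VModule.normalizer_le_normalizer_zc _))
    · by_cases hPs : P ≤ normalizer (zc (S : Subgroup G) : Set G)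
      · exact hfix P hPH hPs
      · refine le_rstab (hPH.trans hHN) fun y hy g hg h1 => ?_
        refine le_trans ?_ (h g hg h1)
        rw [← conj_conj]
        refine conj_le_iff.2 (le_trans ?_ (hW P ⟨hP, hPs⟩ hPH))
        have h2 : MulAut.conj y • zc (S : Subgroup G) ≤ MulAut.conj y • zl (S : Subgroup G) P :=
          conj_le_iff.2 (VModule.zc_le_zl _ _)
        rwa [Pair.conj_eq_of_mem (VModule.le_normalizer_zl _ _ hy)] at h2
  refine iSup_le fun g => ?_
  have h1 := ((mem_rstab.mp (key g.2)).2 1 (one_mem _)).mp (by rwa [map_one, one_smul])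
  rw [one_mul] at h1
  exact h1

/-- the same for `W S H`. -/
theorem conn_W [Finite G] (S : Sylow 2 G) {H : Subgroup G} (hH : IsLoc (S : Subgroup G) H)
    (A : Subgroup G) (hZ : zc (S : Subgroup G) ≤ A)
    (h : ∀ g ∈ normalizer (zl (S : Subgroup G) H : Set G),
      MulAut.conj g • zc (S : Subgroup G) ≤ A → MulAut.conj g • W (S : Subgroup G) H ≤ A) :
    zl (S : Subgroup G) H ≤ A :=
  conn S hH (fun _ hP hPH => zl_le_W hP hPH) A hZ h

end Cfsg.Agent.Omega.NOThreeL
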