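import Cfsg.Agent.Omega.NOThreeL.Closure
import Cfsg.Agent.Omega.NOThreeL.Conn

/-!
# NO-3L: the closure argument in the frame

`clo_frame` : `S` a Sylow 2-subgroup of `G`, `Z = Ω₁Z(S)`, `C = C_G(Z) ≤ H ∈ L(S)`, `U = ⟨Z^H⟩`,
`Z ≤ W ≤ U` normalised by `C` and containing all `V_P`, `P ∈ P*(S)`, `P ≤ H`; `M` a subgroup with
`Z ≤ M`, normalised by `U` and centralised by `W`. If every `u ∈ U`, `u ∉ C(M)` has a `g` with `Z^g ≤ M`,
`U^g ∩ U^(ug) ∩ C(M) = 1`, `U ∩ U^g ∩ C(M) = 1`, `|C_U(M)| ≤ |C_{U^g}(M)|`, then `[U, M] = 1`.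
-/

set_option autoImplicit false

namespace Cfsg.Agent.Omega.NOThreeL

open Subgroup MulAction Pointwise Cfsg Cfsg.Agent.ZN Cfsg.Agent.MinSimple
open Cfsg.Agent.Omega.NoFF.Basic (conj_conj mem_conj conj_le_iff)
open Cfsg.Agent.Omega.MinPar (IsPar IsParS IsLoc NonLoc)
open Cfsg.Agent.Omega.FrameNOFF (CZ)

universe u

variable {G : Type u} [Group G] [Finite G]

/-- **The closure argument in the frame.** -/
theorem clo_frame (hG : IsCharacteristicTwoType G) (S : Sylow 2 G) {H W M : Subgroup G}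
    (hH : IsLoc (S : Subgroup G) H) (hC : CZ (S : Subgroup G) ≤ H)
    (hZW : zc (S : Subgroup G) ≤ W) (hWU : W ≤ zl (S : Subgroup G) H)
    (hCW : CZ (S : Subgroup G) ≤ normalizer (W : Set G))
    (hPW : ∀ P, IsParS (S : Subgroup G) P → P ≤ H → zl (S : Subgroup G) P ≤ W)
    (hZM : zc (S : Subgroup G) ≤ M) (hUM : zl (S : Subgroup G) H ≤ normalizer (M : Set G))
    (hWM : W ≤ centralizer (M : Set G))
    (opp : ∀ u ∈ zl (S : Subgroup G) H, u ∉ centralizer (M : Set G) → ∃ g : G,
      MulAut.conj g • zc (S : Subgroup G) ≤ M ∧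
      MulAut.conj g • zl (S : Subgroup G) H ⊓ MulAut.conj (u * g) • zl (S : Subgroup G) H ⊓
        centralizer (M : Set G) = ⊥ ∧
      zl (S : Subgroup G) H ⊓ MulAut.conj g • zl (S : Subgroup G) H ⊓
        centralizer (M : Set G) = ⊥ ∧
      Nat.card (zl (S : Subgroup G) H ⊓ centralizer (M : Set G) : Subgroup G) ≤
        Nat.card (MulAut.conj g • zl (S : Subgroup G) H ⊓ centralizer (M : Set G) : Subgroup G)) :
    zl (S : Subgroup G) H ≤ centralizer (M : Set G) := by
  have hCU : CZ (S : Subgroup G) ≤ normalizer (zl (S : Subgroup G) H : Set G) :=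
    hC.trans (VModule.le_normalizer_zl _ _)
  have hCZ : CZ (S : Subgroup G) ≤ normalizer (zc (S : Subgroup G) : Set G) :=
    centralizer_le_normalizer _
  have hgeo := geo (Z := zc (S : Subgroup G)) (C := CZ (S : Subgroup G))
    (U := fun _ => zl (S : Subgroup G) H) le_rfl hCZ (fun _ => VModule.zc_le_zl _ _)
    (fun _ => (Pair.zl_abel hG S hH).1) (fun _ => hCU)
  have e1 : ∀ {A : Subgroup G}, CZ (S : Subgroup G) ≤ normalizer (A : Set G) →
      orb (CZ (S : Subgroup G)) A (QuotientGroup.mk 1) = A := fun h => orb_one h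
  have D : Closure.Clo (orb (CZ (S : Subgroup G)) (zc (S : Subgroup G)))
      (orb (CZ (S : Subgroup G)) (zl (S : Subgroup G) H)) (orb (CZ (S : Subgroup G)) W) M
      (QuotientGroup.mk 1) :=
    { eqv_U := fun g x => orb_smul hCU g x
      eqv_W := fun g x => orb_smul hCW g x
      abel := hgeo.abel false _
      cent := hgeo.cent
      zM := by rw [e1 hCZ]; exact hZM
      UM := by rw [e1 hCU]; exact hUM
      opp := by
        rw [e1 hCU]
        intro u hu huM
        obtain ⟨g, h1, h2, h3, h4⟩ := opp u hu huM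
        refine ⟨QuotientGroup.mk g, ?_, ?_, ?_, ?_⟩
        · rw [orb_mk hCZ]
          exact h1
        · have h5 : u • (QuotientGroup.mk g : G ⧸ CZ (S : Subgroup G)) =
            QuotientGroup.mk (u * g) := rfl
          rw [h5, orb_mk hCU, orb_mk hCU]
          exact h2
        · rw [orb_mk hCU]
          exact h3
        · rw [orb_mk hCU]
          exact h4
      WU := orb_mono hWU _
      WM := by rw [e1 hCW]; exact hWM
      zW := orb_mono hZW _
      conn := by
        rw [e1 hCU]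
        intro A hZA hA
        rw [e1 hCZ] at hZA
        refine conn S hH hPW A hZA fun g hg h1 => ?_
        have h5 : g • (QuotientGroup.mk 1 : G ⧸ CZ (S : Subgroup G)) = QuotientGroup.mk g := by
          change (QuotientGroup.mk (g * 1) : G ⧸ CZ (S : Subgroup G)) = _
          rw [mul_one]
        have h2 := hA g hg
        rw [h5, orb_mk hCZ, orb_mk hCW] at h2
        exact h2 h1 }
  have h1 := D.le
  rwa [e1 hCU] at h1

end Cfsg.Agent.Omega.NOThreeL
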