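import Cfsg.Agent.Omega.NOThreeL.Main
import Cfsg.Agent.Omega.NOThreeL.ClosureFrame

/-!
# NO-3L, case (A), one natural factor (socket A1): THEOREM T for all `q` and all `|Z|`, K-free

`V = V_P` is a natural `SL₂(F)`-module for `P ∈ P*(S)` (field automorphisms in `S` allowed, so `|Z| ≤ |F|`),
`U = U_H` induces the full root group. `inf_eq_bot`: `U ∩ U^h = 1` for all `h ∈ P` which act as a matrix
with nonzero lower left entry [`U ∩ U^h` is centralised by `⟨U, U^h⟩`, which induces `SL₂(F)`, so it is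
contained in `T₀ = ⋂ U^g`, `g ∈ P` acting as an element of `SL₂(F)`; `T₀` is normalised by `S`, so meets
`Z`, but `C_V(⟨U, U^h⟩) = 1`]. The closure argument (`clo_frame`, helper83) gives `[V, U] = 1`.
-/

set_option autoImplicit false

namespace Cfsg.Agent.Omega.NOThreeL.AOne

open Subgroup Cfsg Cfsg.Agent.ZN Cfsg.Agent.Omega.MinPar Cfsg.Agent.Omega.Frame Cfsg.Agent.Omega.FrameNOFF
open Cfsg.Agent.Omega.Node.NO3L Cfsg.Agent.Omega.NOThreeL.Basic Cfsg.Agent.Omega.NOThreeL.Main
open Cfsg.Agent.Omega.NoFF.Basic (conj_conj mem_conj conj_le_iff conj_le_centralizer)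
open Cfsg.Agent.Omega.NOThreeL.Pair (conj_eq_of_mem zl_abel)
open Cfsg.Agent.Omega.FFThm (Off NoOver Concl NatK SymK)
open Cfsg.Agent.Omega.FrameFF (cv)
open Cfsg.Agent.Omega.NatPair (ap ap_mul ap_one ap_inv_ap)
open Cfsg.Agent.Lib.SL2Mat
open Cfsg.Agent.MinSimple.VModule (zl_le le_normalizer_zl zc_le_zl zc_le zl_le_zc o2_isPGroup le_normalizer_o2
  mem_zc)
open scoped Pointwise

open Cfsg.Agent.Omega.NOThreeL (mem_normalizer_of_conj_eq clo_frame)

universe u

/-! ### Matrices -/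

section mat

variable {F : Type} [Field F]

/-- a subgroup with all `up` and all conjugates of `up` by an element moving the line is everything -/
theorem mem_of_up {K : Subgroup (Matrix.SpecialLinearGroup (Fin 2) F)} (hu : ∀ b, up b ∈ K)
    {A : Matrix.SpecialLinearGroup (Fin 2) F} (hA : ent A 1 0 ≠ 0) (hc : ∀ b, A * up b * A⁻¹ ∈ K) :
    ∀ x, x ∈ K := by
  have hlo : ∀ b, lo b ∈ K := by
    intro b
    by_cases hb : b = 0
    · rw [hb, lo_zero]; exact K.one_mem
    -- `A = up a * lo c * up d`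
    have h1 := eq_up_lo_up A hA
    set a := (ent A 0 0 - 1) / ent A 1 0
    set c := ent A 1 0
    set d := (ent A 1 1 - 1) / ent A 1 0
    have h2 : ∀ t, lo c * up t * lo (-c) ∈ K := by
      intro t
      have h3 := hc t
      have e : A * up t * A⁻¹ = up a * (lo c * up t * lo (-c)) * up (-a) := by
        rw [h1, mul_inv_rev, mul_inv_rev, up_inv, up_inv, lo_inv]
        have e1 : up d * up t * up (-d) = up t := by rw [up_mul, up_mul]; congr 1; ring
        calc up a * lo c * up d * up t * (up (-d) * (lo (-c) * up (-a)))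
            = up a * (lo c * (up d * up t * up (-d)) * lo (-c)) * up (-a) := by group
          _ = _ := by rw [e1]
      rw [e] at h3
      have h4 := K.mul_mem (K.mul_mem (hu (-a)) h3) (hu a)
      have e2 : up (-a) * (up a * (lo c * up t * lo (-c)) * up (-a)) * up a =
          lo c * up t * lo (-c) := by
        have e3 : up (-a) * up a = 1 := by rw [up_mul, neg_add_cancel, up_zero]
        calc up (-a) * (up a * (lo c * up t * lo (-c)) * up (-a)) * up a
            = (up (-a) * up a) * (lo c * up t * lo (-c)) * (up (-a) * up a) := by group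
          _ = _ := by rw [e3, one_mul, mul_one]
      rwa [e2] at h4
    -- `lo c * up t * lo (-c) = up * lo (-c² t) * up`
    have h3 : ∀ t, t ≠ 0 → lo (-(c ^ 2 * t)) ∈ K := by
      intro t ht
      have hent : ent (lo c * up t * lo (-c)) 1 0 = -(c ^ 2 * t) := by
        simp only [ent_mul, up_00, up_01, up_10, up_11, lo_00, lo_01, lo_10, lo_11]
        ring
      have hne : ent (lo c * up t * lo (-c)) 1 0 ≠ 0 := by
        rw [hent]
        exact neg_ne_zero.2 (mul_ne_zero (pow_ne_zero 2 hA) ht)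
      have h4 := eq_up_lo_up _ hne
      have h5 := h2 t
      rw [h4] at h5
      have h6 := (K.mul_mem_cancel_left (hu _)).1 ((K.mul_mem_cancel_right (hu _)).1 h5)
      rwa [hent] at h6
    have h4 := h3 (-(b / c ^ 2)) (neg_ne_zero.2 (div_ne_zero hb (pow_ne_zero 2 hA)))
    have e : -(c ^ 2 * -(b / c ^ 2)) = b := by
      have : c ^ 2 ≠ 0 := pow_ne_zero 2 hA
      field_simp
    rwa [e] at h4
  intro x
  obtain ⟨a, b, c, d, rfl⟩ := exists_up_lo x
  exact K.mul_mem (K.mul_mem (K.mul_mem (hu _) (hlo _)) (hu _)) (hlo _)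

theorem ap_up_0 (b : F) (x : Fin 2 → F) : ap (up b) x 0 = x 0 + b * x 1 := by
  rw [NatPair.ap_eq_mulVec, Matrix.mulVec, dotProduct, Fin.sum_univ_two]
  change ent (up b) 0 0 * x 0 + ent (up b) 0 1 * x 1 = _
  rw [up_00, up_01, one_mul]

theorem ap_lo_1 (b : F) (x : Fin 2 → F) : ap (lo b) x 1 = b * x 0 + x 1 := by
  rw [NatPair.ap_eq_mulVec, Matrix.mulVec, dotProduct, Fin.sum_univ_two]
  change ent (lo b) 1 0 * x 0 + ent (lo b) 1 1 * x 1 = _
  rw [lo_10, lo_11, one_mul]

end mat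

/-! ### The action on `V` -/

section act

variable {G : Type u} [Group G] {F : Type} [Field F]

/-- `g` acts as `A` on the coordinates of `V`. -/
def Act (e : G → Fin 2 → F) (V : Subgroup G) (g : G) (A : Matrix.SpecialLinearGroup (Fin 2) F) : Prop :=
  ∀ v ∈ V, e (g * v * g⁻¹) = ap A (e v)

variable {e : G → Fin 2 → F} {V : Subgroup G}

theorem Act.mul {g h : G} {A B : Matrix.SpecialLinearGroup (Fin 2) F} (hg : Act e V g A)
    (hh : Act e V h B) (hn : h ∈ normalizer (V : Set G)) : Act e V (g * h) (A * B) := by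
  intro v hv
  have h1 := (mem_normalizer_iff.mp hn v).mp hv
  have h2 : g * h * v * (g * h)⁻¹ = g * (h * v * h⁻¹) * g⁻¹ := by group
  rw [h2, hg _ h1, hh v hv, ap_mul]

theorem Act.one : Act e V 1 (1 : Matrix.SpecialLinearGroup (Fin 2) F) := by
  intro v _
  rw [one_mul, inv_one, mul_one, ap_one]

theorem Act.inv {g : G} {A : Matrix.SpecialLinearGroup (Fin 2) F} (hg : Act e V g A)
    (hn : g ∈ normalizer (V : Set G)) : Act e V g⁻¹ A⁻¹ := by
  intro v hv
  have h1 := (mem_normalizer_iff.mp (inv_mem hn) v).mp hv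
  have h2 := hg _ h1
  have h3 : g * (g⁻¹ * v * g⁻¹⁻¹) * g⁻¹ = v := by group
  rw [h3] at h2
  rw [h2, ap_inv_ap]

end act

/-! ### `U ∩ U^h = 1` -/

section key

variable {G : Type u} [Group G] [Finite G] {F : Type} [Field F]
variable {e : G → Fin 2 → F} {S P U V : Subgroup G}

/-- The hypotheses on `(S, P, U, V)`. -/
structure Hyp (e : G → Fin 2 → F) (S P U V : Subgroup G) : Prop where
  pS : IsPGroup 2 S
  PV : P ≤ normalizer (V : Set G)
  SP : S ≤ P
  US : U ≤ S
  SU : S ≤ normalizer (U : Set G)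
  DU : P ⊓ centralizer (V : Set G) ≤ normalizer (U : Set G)
  ab : U ≤ centralizer (U : Set G)
  one : e 1 = 0
  mul : ∀ v ∈ V, ∀ w ∈ V, e (v * w) = e v + e w
  inj : ∀ v ∈ V, e v = 0 → v = 1
  norm : ∀ g ∈ P, ∀ h ∈ P, ∀ A, Act e V h A → ∃ B, Act e V (g * h * g⁻¹) B
  up1 : ∀ u ∈ U, ∃ b, Act e V u (up b)
  up2 : ∀ b, ∃ u ∈ U, Act e V u (up b)
  fix : ∀ x ∈ U, (∀ s ∈ S, s * x = x * s) → x ∈ V

namespace Hyp

variable (D : Hyp e S P U V)
include D

omit [Finite G] in
theorem mem_centralizer {g : G} (hg : g ∈ P) (h : Act e V g 1) : g ∈ centralizer (V : Set G) := by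
  rw [mem_centralizer_iff]
  intro v hv
  have h1 : g * v * g⁻¹ ∈ V := (mem_normalizer_iff.mp (D.PV hg) v).mp hv
  have h2 : e (g * v * g⁻¹ * v⁻¹) = 0 := by
    have h3 := D.mul _ h1 _ (V.inv_mem hv)
    have h4 := D.mul v hv v⁻¹ (V.inv_mem hv)
    rw [mul_inv_cancel, D.one] at h4
    rw [h3, h v hv, ap_one, ← h4]
  have h3 := D.inj _ (V.mul_mem h1 (V.inv_mem hv)) h2
  have h4 : g * v * g⁻¹ = v := mul_inv_eq_one.mp h3
  calc v * g = g * v * g⁻¹ * g := by rw [h4]
    _ = g * v := by group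

omit [Finite G] in
theorem conj_le {g : G} (hg : g ∈ P) : MulAut.conj g • U ≤ P := by
  intro x hx
  rw [mem_conj] at hx
  have h1 := P.mul_mem (P.mul_mem hg (D.SP (D.US hx))) (P.inv_mem hg)
  have e1 : g * (g⁻¹ * x * g) * g⁻¹ = x := by group
  rwa [e1] at h1

omit [Finite G] in
theorem sup_le' {h : G} (hh : h ∈ P) : U ⊔ MulAut.conj h • U ≤ P :=
  sup_le (D.US.trans D.SP) (D.conj_le hh)

omit [Finite G] in
/-- `⟨U, U^h⟩` induces `SL₂(F)` -/
theorem exists_act {h : G} (hh : h ∈ P) {A : Matrix.SpecialLinearGroup (Fin 2) F} (hA : Act e V h A)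
    (hne : ent A 1 0 ≠ 0) (B : Matrix.SpecialLinearGroup (Fin 2) F) :
    ∃ k ∈ U ⊔ MulAut.conj h • U, Act e V k B := by
  have hV : ∀ k ∈ U ⊔ MulAut.conj h • U, k ∈ normalizer (V : Set G) := fun k hk => D.PV (D.sup_le' hh hk)
  let K : Subgroup (Matrix.SpecialLinearGroup (Fin 2) F) :=
    { carrier := {x | ∃ k ∈ U ⊔ MulAut.conj h • U, Act e V k x}
      mul_mem' := by
        rintro x y ⟨k, hk, h1⟩ ⟨l, hl, h2⟩
        exact ⟨k * l, mul_mem hk hl, h1.mul h2 (hV l hl)⟩
      one_mem' := ⟨1, one_mem _, Act.one⟩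
      inv_mem' := by
        rintro x ⟨k, hk, h1⟩
        exact ⟨k⁻¹, inv_mem hk, h1.inv (hV k hk)⟩ }
  have hu : ∀ b, up b ∈ K := fun b => by
    obtain ⟨u, hu, h1⟩ := D.up2 b
    exact ⟨u, le_sup_left (a := U) hu, h1⟩
  have hc : ∀ b, A * up b * A⁻¹ ∈ K := fun b => by
    obtain ⟨u, hu, h1⟩ := D.up2 b
    have h2 : h * u * h⁻¹ ∈ MulAut.conj h • U := by
      rw [mem_conj]
      have e1 : h⁻¹ * (h * u * h⁻¹) * h = u := by group
      rwa [e1]
    refine ⟨h * u * h⁻¹, le_sup_right (a := U) h2, ?_⟩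
    exact (hA.mul h1 (D.PV (D.SP (D.US hu)))).mul (hA.inv (D.PV hh)) (inv_mem (D.PV hh))
  exact mem_of_up hu hne hc B

omit [Finite G] in
theorem conj_eq {g k : G} (hg : g ∈ P) (hk : k ∈ P) {B : Matrix.SpecialLinearGroup (Fin 2) F}
    (h1 : Act e V g B) (h2 : Act e V k B) : MulAut.conj g • U = MulAut.conj k • U := by
  have h3 : Act e V (k⁻¹ * g) 1 := by
    have := (h2.inv (D.PV hk)).mul h1 (D.PV hg)
    rwa [inv_mul_cancel] at this
  have h4 : k⁻¹ * g ∈ P := P.mul_mem (P.inv_mem hk) hg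
  have h5 := conj_eq_of_mem (D.DU ⟨h4, D.mem_centralizer h4 h3⟩)
  calc MulAut.conj g • U = MulAut.conj (k * (k⁻¹ * g)) • U := by rw [mul_inv_cancel_left]
    _ = MulAut.conj k • U := by rw [← conj_conj, h5]

theorem inf_eq_bot {h : G} (hh : h ∈ P) {A : Matrix.SpecialLinearGroup (Fin 2) F}
    (hA : Act e V h A) (hne : ent A 1 0 ≠ 0) : U ⊓ MulAut.conj h • U = ⊥ := by
  set T := U ⊓ MulAut.conj h • U with hT
  have hcen : ∀ t ∈ T, ∀ k ∈ U ⊔ MulAut.conj h • U, k * t = t * k := by
    intro t ht k hk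
    have h1 : U ⊔ MulAut.conj h • U ≤ centralizer ({t} : Set G) := by
      refine sup_le (fun x hx => ?_) (fun x hx => ?_)
      · rw [mem_centralizer_iff]
        rintro _ rfl
        exact (mem_centralizer_iff.mp (D.ab (mem_inf.mp ht).1) x hx).symm
      · rw [mem_centralizer_iff]
        rintro _ rfl
        exact (mem_centralizer_iff.mp (conj_le_centralizer (g := h) D.ab (mem_inf.mp ht).2) x hx).symm
    exact (mem_centralizer_iff.mp (h1 hk) t rfl).symm
  let I : Set G := {g | g ∈ P ∧ ∃ B, Act e V g B}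
  let T0 : Subgroup G := ⨅ g : I, MulAut.conj (g : G) • U
  have hTT0 : T ≤ T0 := by
    refine le_iInf fun g => ?_
    obtain ⟨g, hg, B, hB⟩ := g
    obtain ⟨k, hk, hkB⟩ := D.exists_act hh hA hne B
    change T ≤ MulAut.conj g • U
    rw [D.conj_eq hg (D.sup_le' hh hk) hB hkB]
    intro t ht
    rw [mem_conj]
    have e1 : k⁻¹ * t * k = t := by rw [mul_assoc, ← hcen t ht k hk, inv_mul_cancel_left]
    rw [e1]
    exact (mem_inf.mp ht).1
  have hT0 : ∀ g ∈ P, ∀ B, Act e V g B → T0 ≤ MulAut.conj g • U := fun g hg B hB =>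
    iInf_le (fun g : I => MulAut.conj (g : G) • U) ⟨g, hg, B, hB⟩
  have hT0U : T0 ≤ U := by
    have := hT0 1 P.one_mem 1 Act.one
    rwa [map_one, one_smul] at this
  have hST0 : ∀ s ∈ S, MulAut.conj s • T0 ≤ T0 := by
    intro s hs
    refine le_iInf fun g => ?_
    obtain ⟨g, hg, B, hB⟩ := g
    change MulAut.conj s • T0 ≤ MulAut.conj g • U
    obtain ⟨B', hB'⟩ := D.norm s⁻¹ (P.inv_mem (D.SP hs)) g hg B hB
    have h1 : s⁻¹ * g * s⁻¹⁻¹ ∈ P :=
      P.mul_mem (P.mul_mem (P.inv_mem (D.SP hs)) hg) (P.inv_mem (P.inv_mem (D.SP hs)))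
    have h2 := (conj_le_iff (g := s)).2 (hT0 _ h1 _ hB')
    refine h2.trans ?_
    rw [conj_conj]
    have e1 : s * (s⁻¹ * g * s⁻¹⁻¹) = g * s := by group
    rw [e1, ← conj_conj, conj_eq_of_mem (D.SU hs)]
  have hSN : S ≤ normalizer (T0 : Set G) := by
    intro s hs
    rw [mem_normalizer_iff]
    intro x
    constructor
    · intro hx
      apply hST0 s hs
      rw [mem_conj]
      have e1 : s⁻¹ * (s * x * s⁻¹) * s = x := by group
      rwa [e1]
    · intro hx
      have h1 := hST0 s⁻¹ (S.inv_mem hs)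
      apply h1
      rw [mem_conj, inv_inv]
      exact hx
  by_contra hne'
  have hT0ne : T0 ≠ ⊥ := fun h0 => hne' (le_bot_iff.1 (h0 ▸ hTT0))
  obtain ⟨x, hx, hx1, hxS⟩ := NoFF.LinesPlug.exists_fixed D.pS (hT0U.trans D.US) hSN hT0ne
  have hxU := hT0U hx
  have hxV := D.fix x hxU hxS
  have hxT : x ∈ T := mem_inf.mpr ⟨hxU, hT0 h hh A hA hx⟩
  -- `x` is fixed by `SL₂(F)`
  have hfix : ∀ B : Matrix.SpecialLinearGroup (Fin 2) F, ap B (e x) = e x := by
    intro B
    obtain ⟨k, hk, hkB⟩ := D.exists_act hh hA hne B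
    rw [← hkB x hxV, hcen x hxT k hk, mul_inv_cancel_right]
  have h1 : e x 1 = 0 := by
    have h2 := congrFun (hfix (up 1)) 0
    rw [ap_up_0, one_mul] at h2
    exact left_eq_add.mp h2.symm
  have h0 : e x 0 = 0 := by
    have h2 := congrFun (hfix (lo 1)) 1
    rw [ap_lo_1, one_mul] at h2
    exact right_eq_add.mp h2.symm
  refine hx1 (D.inj x hxV ?_)
  funext i
  fin_cases i
  · exact h0
  · exact h1

end Hyp

end key

/-! ### The socket -/

section main

variable {G : Type u} [Group G] [Finite G] {F : Type} [Field F]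

theorem false_of (hc : IsCharacteristicTwoType G) (S : Sylow 2 G) (D : DataZ (S : Subgroup G))
    {P H : Subgroup G} (E : Exact (S : Subgroup G) P H)
    (M : NatK F (S : Subgroup G) P (zl (S : Subgroup G) P) (cv (S : Subgroup G) P) 1) : False := by
  set U := zl (S : Subgroup G) H with hU
  set V := zl (S : Subgroup G) P with hV
  have hcv : cv (S : Subgroup G) P = ⊥ := D.cv_eq hc E.par
  have hUS : U ≤ (S : Subgroup G) := by
    intro x hx
    exact E.long.loc.o2_le S (mem_zc.mp (E.long.loc.zl_le S hc hx)).1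
  have hVa : ∀ x ∈ V, ∀ y ∈ V, x * y = y * x := by
    intro x hx y hy
    have h1 := E.par.isLoc.zl_le S hc
    exact (mem_zc.mp (h1 hy)).2.1 x (mem_zc.mp (h1 hx)).1
  have he1 : M.e 1 0 = 0 := by
    have h1 := (M.ker 1 V.one_mem).2 (Subgroup.one_mem _)
    rw [h1]; rfl
  -- `U` induces the full root group
  obtain ⟨I, h1, h2⟩ := M.off U hUS E.off
  have hI : ∀ i, i ∈ I := by
    intro i
    by_contra hi
    apply E.off.ne
    intro u hu
    obtain ⟨b, hb, hub⟩ := h1 u hu
    have hb0 : ∀ j, b j = 0 := fun j => hb j (by rwa [Subsingleton.elim j i])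
    rw [mem_centralizer_iff]
    intro v hv
    have hn : u * v * u⁻¹ ∈ V :=
      (mem_normalizer_iff.mp (le_normalizer_zl _ _ (E.par.le (hUS hu))) v).mp hv
    have h3 : M.e (u * v * u⁻¹ * v⁻¹) = 0 := by
      have h4 := M.mul _ hn _ (V.inv_mem hv)
      have h5 := M.mul v hv v⁻¹ (V.inv_mem hv)
      rw [mul_inv_cancel, (M.ker 1 V.one_mem).2 (Subgroup.one_mem _)] at h5
      have h6 : M.e (u * v * u⁻¹) = M.e v := by
        funext j
        rw [hub.1 v hv j]
        change ap (up (b j)) _ = _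
        rw [hb0 j, up_zero, ap_one]
      rw [h4, h6, ← h5]
    have h4 := (M.ker _ (V.mul_mem hn (V.inv_mem hv))).1 h3
    rw [hcv, mem_bot] at h4
    have h5 : u * v * u⁻¹ = v := mul_inv_eq_one.mp h4
    calc v * u = u * v * u⁻¹ * u := by rw [h5]
      _ = u * v := by group
  have hyp : Hyp (fun g => M.e g 0) (S : Subgroup G) P U V :=
    { pS := S.isPGroup'
      PV := le_normalizer_zl _ _
      SP := E.par.le
      US := hUS
      SU := E.long.loc.le.trans (le_normalizer_zl _ _)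
      DU := by
        refine inf_le_right.trans ((centralizer_le ?_).trans (E.long.cz.trans (le_normalizer_zl _ _)))
        exact zc_le_zl _ _
      ab := (zl_abel hc S E.long.loc).1
      one := he1
      mul := fun v hv w hw => by
        rw [M.mul v hv w hw]; rfl
      inj := fun v hv h0 => by
        have h3 := (M.ker v hv).1 (by
          funext i
          rw [Subsingleton.elim i 0]
          exact h0)
        rwa [hcv, mem_bot] at h3
      norm := fun g hg h hh A hA => by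
        obtain ⟨B, hB⟩ := M.norm g hg h hh (fun _ => A) fun v hv i => by
          rw [Subsingleton.elim i 0]
          exact hA v hv
        exact ⟨B 0, fun v hv => hB v hv 0⟩
      up1 := fun u hu => by
        obtain ⟨b, _, hb⟩ := h1 u hu
        exact ⟨b 0, fun v hv => hb.1 v hv 0⟩
      up2 := fun b => by
        obtain ⟨u, hu, hb⟩ := h2 (fun _ => b) fun i hi => absurd (hI i) hi
        exact ⟨u, hu, fun v hv => hb.1 v hv 0⟩
      fix := fun x hx hxS => by
        refine zc_le_zl _ _ (mem_zc.mpr ⟨hUS hx, hxS, ?_⟩)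
        exact (zl_abel hc S E.long.loc).2 x hx }
  -- the product of the lines on `Z` in `H`
  set W := zc (S : Subgroup G) ⊔
    NoFF.Lines.W (zc (S : Subgroup G)) (CZ (S : Subgroup G)) {P | IsParS (S : Subgroup G) P ∧ P ≤ H} with hW
  have hZV : zc (S : Subgroup G) ≤ V := zc_le_zl _ _
  have hCH := E.long.cz
  have hWP : W ≤ centralizer (V : Set G) := by
    refine sup_le (fun x hx => ?_) ?_
    · rw [mem_centralizer_iff]
      exact fun y hy => hVa y hy x (hZV hx)
    · have h3 : NoFF.Lines.W (zc (S : Subgroup G)) (CZ (S : Subgroup G))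
          {P | IsParS (S : Subgroup G) P ∧ P ≤ H} ≤ WP (S : Subgroup G) :=
        NoFF.Lines.W_le fun P' hP' c hcc => line_le_WP hP'.1 hcc
      have h4 : WP (S : Subgroup G) ≤ centralizer (WP (S : Subgroup G) : Set G) :=
        (Basic.geo hc D.toData).W_comm
      exact (h3.trans h4).trans (centralizer_le (zl_le_WP E.par))
  apply E.ne
  rw [le_centralizer_iff]
  refine clo_frame hc S E.long.loc hCH (W := W) le_sup_left (sup_le (zc_le_zl _ _) ?_) ?_ ?_ hZV
    (hUS.trans (E.par.le.trans (le_normalizer_zl _ _))) hWP ?_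
  · refine NoFF.Lines.W_le fun P' hP' c hcc => ?_
    have h3 : zl (S : Subgroup G) P' ≤ zl (S : Subgroup G) H :=
      zl_le (zc_le_zl _ _) (hP'.2.trans (le_normalizer_zl _ _))
    have h4 := (conj_le_iff (g := c)).2 h3
    rwa [conj_eq_of_mem (le_normalizer_zl _ _ (hCH hcc))] at h4
  · intro c hcc
    apply mem_normalizer_of_conj_eq
    rw [hW, Subgroup.smul_sup, NoFF.Lines.W_conj hcc, conj_eq_of_mem (centralizer_le_normalizer _ hcc)]
  · intro P' hP' hP'H
    have h3 := NoFF.Lines.line_le (Z := zc (S : Subgroup G)) (C := CZ (S : Subgroup G))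
      (F := {P | IsParS (S : Subgroup G) P ∧ P ≤ H}) ⟨hP', hP'H⟩ (one_mem _)
    rw [map_one, one_smul] at h3
    exact h3.trans le_sup_right
  · intro u hu huV
    obtain ⟨w, hw, hwA⟩ := M.lift fun _ => wm 1 one_ne_zero
    have hwA' : Act (fun g => M.e g 0) V w (wm 1 one_ne_zero) := fun v hv => hwA.1 v hv 0
    have hwV : MulAut.conj w • V = V := conj_eq_of_mem (le_normalizer_zl _ _ hw)
    obtain ⟨b, hb⟩ := hyp.up1 u hu
    have hb0 : b ≠ 0 := by
      rintro rfl
      rw [up_zero] at hb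
      exact huV (hyp.mem_centralizer (hyp.SP (hUS hu)) hb)
    have huP : u ∈ P := hyp.SP (hUS hu)
    refine ⟨w, ?_, ?_, ?_, ?_⟩
    · have h3 := (conj_le_iff (g := w)).2 hZV
      rwa [hwV] at h3
    · have hx : w⁻¹ * u * w ∈ P := P.mul_mem (P.mul_mem (P.inv_mem hw) huP) hw
      have hxA := ((hwA'.inv (hyp.PV hw)).mul hb (hyp.PV huP)).mul hwA' (hyp.PV hw)
      have hne : ent ((wm (1 : F) one_ne_zero)⁻¹ * up b * wm 1 one_ne_zero) 1 0 ≠ 0 := by
        rw [ent_mul, ent_mul, ent_mul]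
        simp only [ent_inv, up_00, up_01, up_10, up_11, wm_00, wm_01, wm_10, wm_11]
        simpa using hb0
      have h3 := hyp.inf_eq_bot hx hxA hne
      have h4 : MulAut.conj w • U ⊓ MulAut.conj (u * w) • U = ⊥ := by
        have e1 : MulAut.conj (u * w) • U = MulAut.conj w • MulAut.conj (w⁻¹ * u * w) • U := by
          rw [conj_conj]
          congr 2
          group
        rw [e1, ← Subgroup.smul_inf, h3, Subgroup.smul_bot]
      rw [h4, bot_inf_eq]
    · rw [hyp.inf_eq_bot hw hwA' (by rw [wm_10, inv_one]; exact neg_ne_zero.2 one_ne_zero), bot_inf_eq]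
    · refine le_of_eq ?_
      have h3 : MulAut.conj w • (U ⊓ centralizer (V : Set G)) =
          MulAut.conj w • U ⊓ centralizer (V : Set G) := by
        rw [Subgroup.smul_inf, NOThreeL.ThmT.conj_centralizer_eq (hyp.PV hw)]
      rw [← h3, NOThreeL.ThmT.card_conj]

/-- **A1** (`F` arbitrary). -/
theorem a1 (K : Cls.{u}) : Main.A1 K := by
  intro G _ _ hG _ S _ D P H E F _ _ _ M
  exact (false_of hG.char2 S D E M).elim

end main

end Cfsg.Agent.Omega.NOThreeL.AOne
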