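import Cfsg.Agent.Omega.Node.NO3L
import Cfsg.Agent.Omega.NO3S.PointTI
import Cfsg.Agent.Omega.NOThreeL.ThmT

/-!
# NO-3L, socket R: (R2) of #15623 (helper691)

`S` a Sylow 2-subgroup, `Z = Ω₁(Z(S))`, `z ∈ Z - 1`.

* `exists_par` : `C_G(z)` does not normalise `Z`: some `P ∈ P*(S)` centralises `z`;
* `iff_exists` : `C_G(z) ≰ N_G(Z)` iff `z ∈ C_Z(P)` for some `P ∈ P*(S)`;
* `ti_of` : `z ∈ Z ∩ Z^g`, `C_G(z) ≤ N_G(Z)`: `g ∈ N_G(Z)`;
* `cent_le`, `ti` : if `C_Z(P) = 1` for all `P ∈ P*(S)`, then `C_G(z) ≤ N_G(Z)` for all `z ∈ Z - 1` and `Z` is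
  a TI-subgroup;
* `isLong_centralizer` : `E ≤ Z`, `E ≠ 1`: `C_G(E)` is a long group; `le_centralizer_E` : it contains `P` for
  `E = C_Z(P)`; `comm_of_cent` : if `H` centralises `C_Z(P) ≠ 1`, then `[V_P, U_H] = 1`.
-/

set_option autoImplicit false

namespace Cfsg.Agent.Omega.NOThreeL.RTwo

open Subgroup Cfsg Cfsg.Agent.ZN Cfsg.Agent.Omega.MinPar Cfsg.Agent.Omega.FrameNOFF
open Cfsg.Agent.Omega.Node.NO3L
open Cfsg.Agent.Omega.NoFF.Basic (conj_conj mem_conj conj_le_iff conj_le_centralizer comm_mono)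
open Cfsg.Agent.Omega.NOThreeL.Pair (zl_abel)
open Cfsg.Agent.MinSimple.VModule (mem_zc zc_le zc_le_centralizer le_centralizer_zc zc_comm zc_sq
  normalizer_le_normalizer_zc zl_le zc_le_zl le_normalizer_zl)
open scoped Pointwise

universe u

variable {G : Type u} [Group G]

section one

variable [Finite G] (S : Sylow 2 G)

/-- `C_G(z)` does not normalise `Z`: some member of `P*(S)` centralises `z`. -/
theorem exists_par {z : G} (hz : z ∈ zc (S : Subgroup G)) (hz1 : z ≠ 1)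
    (h : ¬ centralizer ({z} : Set G) ≤ normalizer (zc (S : Subgroup G) : Set G)) :
    ∃ P : Subgroup G, IsParS (S : Subgroup G) P ∧ P ≤ centralizer ({z} : Set G) := by
  have hS : (S : Subgroup G) ≤ centralizer ({z} : Set G) := by
    intro s hs
    rw [mem_centralizer_singleton_iff]
    exact (mem_zc.1 hz).2.1 s hs
  have hL := isLoc_centralizer S (zc_sq _ z hz) hz1 hS
  obtain ⟨P, hP, hPL, hPn⟩ := hL.exists_not_le S
    (inf_le_right.trans (normalizer_le_normalizer_zc _)) h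
  exact ⟨P, ⟨hP, hPn⟩, hPL⟩

/-- **(R2)**, last statement. -/
theorem iff_exists {z : G} (hz : z ∈ zc (S : Subgroup G)) (hz1 : z ≠ 1) :
    ¬ centralizer ({z} : Set G) ≤ normalizer (zc (S : Subgroup G) : Set G) ↔
      ∃ P : Subgroup G, IsParS (S : Subgroup G) P ∧
        z ∈ zc (S : Subgroup G) ⊓ centralizer (P : Set G) := by
  constructor
  · intro h
    obtain ⟨P, hP, hPz⟩ := exists_par S hz hz1 h
    refine ⟨P, hP, mem_inf.2 ⟨hz, mem_centralizer_iff.2 fun p hp => ?_⟩⟩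
    exact mem_centralizer_singleton_iff.1 (hPz hp)
  · rintro ⟨P, hP, hPz⟩ h
    refine hP.not_zc fun p hp => h ?_
    rw [mem_centralizer_singleton_iff]
    exact mem_centralizer_iff.1 (mem_inf.1 hPz).2 p hp

omit [Finite G] in
theorem le_centralizer {z : G} (hz : z ∈ zc (S : Subgroup G)) :
    (S : Subgroup G) ≤ centralizer ({z} : Set G) := fun s hs => by
  rw [mem_centralizer_singleton_iff]
  exact (mem_zc.1 hz).2.1 s hs

/-- `z ∈ Z ∩ Z^g` and `C_G(z) ≤ N_G(Z)`: `g ∈ N_G(Z)`. -/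
theorem ti_of {z g : G} (hz : z ∈ zc (S : Subgroup G))
    (hzg : z ∈ MulAut.conj g • zc (S : Subgroup G))
    (h : centralizer ({z} : Set G) ≤ normalizer (zc (S : Subgroup G) : Set G)) :
    g ∈ normalizer (zc (S : Subgroup G) : Set G) := by
  rw [mem_conj] at hzg
  have h1 : ((g • S : Sylow 2 G) : Subgroup G) ≤ centralizer ({z} : Set G) := by
    intro s hs
    have hs' : s ∈ MulAut.conj g • (S : Subgroup G) := hs
    rw [mem_conj] at hs'
    rw [mem_centralizer_singleton_iff]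
    have h2 := (mem_zc.1 hzg).2.1 _ hs'
    have h3 := congrArg (fun t => g * t * g⁻¹) h2
    simpa [mul_assoc] using h3
  obtain ⟨c, hc, he⟩ := NO3S.PT.exists_conj (le_centralizer S hz) h1
  have h2 : MulAut.conj (g⁻¹ * c) • (S : Subgroup G) = S := by
    have h3 : MulAut.conj c • (S : Subgroup G) = MulAut.conj g • (S : Subgroup G) := he
    rw [← conj_conj, h3, conj_conj, inv_mul_cancel, map_one, one_smul]
  have h3 : g⁻¹ * c ∈ normalizer ((S : Subgroup G) : Set G) := mem_normalizer_of_conj_eq h2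
  have h4 := normalizer_le_normalizer_zc _ h3
  have h5 := mul_mem (h hc) (inv_mem h4)
  have e : c * (g⁻¹ * c)⁻¹ = g := by group
  rwa [e] at h5

omit [Finite G] in
/-- `E ≤ Z`, `E ≠ 1`: `C_G(E)` is a long group. -/
theorem isLong_centralizer {E : Subgroup G} (hE : E ≤ zc (S : Subgroup G)) (h : E ≠ ⊥) :
    IsLong (S : Subgroup G) (centralizer (E : Set G)) := by
  obtain ⟨⟨z, hz⟩, hz1⟩ := Subgroup.ne_bot_iff_exists_ne_one.1 h
  have hz1' : z ≠ 1 := fun h0 => hz1 (Subtype.ext h0)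
  have hS : (S : Subgroup G) ≤ centralizer (E : Set G) :=
    (le_centralizer_zc _).trans (centralizer_le hE)
  refine ⟨(isLoc_centralizer S (zc_sq _ z (hE hz)) hz1' (le_centralizer S (hE hz))).of_le S hS
    (centralizer_le (Set.singleton_subset_iff.2 hz)), centralizer_le hE⟩

omit [Finite G] in
/-- `P ≤ C_G(C_Z(P))` -/
theorem le_centralizer_E (P : Subgroup G) :
    P ≤ centralizer ((zc (S : Subgroup G) ⊓ centralizer (P : Set G) : Subgroup G) : Set G) := by
  rw [le_centralizer_iff]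
  exact inf_le_right

/-- If the long group `H` centralises `C_Z(P) ≠ 1`, then `[V_P, U_H] = 1`. -/
theorem comm_of_cent (hc : IsCharacteristicTwoType G) {P H : Subgroup G}
    (hE : zc (S : Subgroup G) ⊓ centralizer (P : Set G) ≠ ⊥)
    (hH : H ≤ centralizer ((zc (S : Subgroup G) ⊓ centralizer (P : Set G) : Subgroup G) : Set G)) :
    zl (S : Subgroup G) P ≤ centralizer (zl (S : Subgroup G) H : Set G) := by
  set E := zc (S : Subgroup G) ⊓ centralizer (P : Set G) with hEd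
  set K := centralizer (E : Set G) with hK
  have hL := isLong_centralizer S (E := E) inf_le_left hE
  have hmono : ∀ {A : Subgroup G}, A ≤ K → zl (S : Subgroup G) A ≤ zl (S : Subgroup G) K := fun h =>
    zl_le (zc_le_zl _ _) (h.trans (le_normalizer_zl _ _))
  exact comm_mono (zl_abel hc S hL.loc).1 (hmono (le_centralizer_E S P)) (hmono hH)

variable (hP : ∀ P : Subgroup G, IsParS (S : Subgroup G) P →
  zc (S : Subgroup G) ⊓ centralizer (P : Set G) = ⊥)
include hP

/-- **(R2)**: `C_Z(P) = 1` for all `P ∈ P*(S)`: `C_G(z) ≤ N_G(Z)` for all `z ∈ Z - 1`. -/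
theorem cent_le {z : G} (hz : z ∈ zc (S : Subgroup G)) (hz1 : z ≠ 1) :
    centralizer ({z} : Set G) ≤ normalizer (zc (S : Subgroup G) : Set G) := by
  by_contra h
  obtain ⟨P, h1, h2⟩ := (iff_exists S hz hz1).1 h
  rw [hP P h1, mem_bot] at h2
  exact hz1 h2

/-- **(R2)**: `C_Z(P) = 1` for all `P ∈ P*(S)`: `Z` is a TI-subgroup. -/
theorem ti {g : G} (h : zc (S : Subgroup G) ⊓ MulAut.conj g • zc (S : Subgroup G) ≠ ⊥) :
    g ∈ normalizer (zc (S : Subgroup G) : Set G) := by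
  obtain ⟨z, hz1⟩ := Subgroup.ne_bot_iff_exists_ne_one.1 h
  exact ti_of S (mem_inf.1 z.2).1 (mem_inf.1 z.2).2
    (cent_le S hP (mem_inf.1 z.2).1 fun h0 => hz1 (Subtype.ext h0))

end one

end Cfsg.Agent.Omega.NOThreeL.RTwo
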