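import Cfsg.Agent.Omega.NOThreeL.ThmAMod
import Cfsg.Agent.Omega.NOThreeL.AdjTransv

/-!
# NO-3L, THEOREM A (#15935 (3), helper658): group form (helper340)

`Sit z U H S B` : `U = ⟨z^H⟩` is elementary abelian, `C_G(z) ≤ H`, `S ≤ C_G(z)` is a 2-group which fixes only
`1`, `z` in `U`, `B` is an abelian normal subgroup of `C_G(z)` centralising some `z^h ≠ z`, `h ∈ H`.

`Sit.main`: if some `v ∈ B` acts on `U` as a transvection with centre `z`, then every element of `B` acts on `U` as
`1` or as `v`.
-/

set_option autoImplicit false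

namespace Cfsg.Agent.Omega.NOThreeL.ThmA

open Subgroup Cfsg.Agent.Omega.NOThreeL MulAction

variable {G : Type*} [Group G]

/-- The situation of THEOREM A, group form. -/
structure GSit (z : G) (U H S B : Subgroup G) : Prop where
  z1 : z ≠ 1
  zU : z ∈ U
  sq : ∀ u ∈ U, u * u = 1
  nU : ∀ h ∈ H, ∀ u ∈ U, h * u * h⁻¹ ∈ U
  cH : ∀ g, g * z = z * g → g ∈ H
  gen : ∀ N : Subgroup G, z ∈ N → N ≤ U → (∀ h ∈ H, ∀ n ∈ N, h * n * h⁻¹ ∈ N) → U ≤ N
  S2 : IsPGroup 2 S
  cS : ∀ s ∈ S, s * z = z * s
  fix : ∀ u ∈ U, (∀ s ∈ S, s * u * s⁻¹ = u) → u = 1 ∨ u = z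
  cB : ∀ b ∈ B, b * z = z * b
  nB : ∀ g, g * z = z * g → ∀ b ∈ B, g * b * g⁻¹ ∈ B
  ab : ∀ b ∈ B, ∀ c ∈ B, b * c = c * b
  line : ∃ h ∈ H, h * z * h⁻¹ ≠ z ∧ ∀ b ∈ B, b * (h * z * h⁻¹) = h * z * h⁻¹ * b

namespace GSit

variable {z : G} {U H S B : Subgroup G}

/-- **THEOREM A**, group form. -/
theorem main [Finite G] (D : GSit z U H S B) {v : G} (vB : v ∈ B)
    (hv : ∀ u ∈ U, v * u * v⁻¹ = u ∨ v * u * v⁻¹ = u * z) (ne : ∃ u ∈ U, v * u * v⁻¹ ≠ u) {b : G} (hb : b ∈ B) :
    (∀ u ∈ U, b * u * b⁻¹ = u) ∨ (∀ u ∈ U, b * u * b⁻¹ = v * u * v⁻¹) := by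
  classical
  have comm : ∀ {u w : G}, u ∈ U → w ∈ U → u * w = w * u := fun hu hw =>
    AdjTransv.eq_of_sq (D.sq _ hu) (D.sq _ hw) (D.sq _ (mul_mem hu hw))
  have hBH : B ≤ H := fun b hb => D.cH b (D.cB b hb)
  -- the module
  let i0 : CommGroup U :=
    { (inferInstance : Group U) with
      mul_comm := fun a b => Subtype.ext (comm a.2 b.2) }
  let M := Additive U
  let i1 : AddCommGroup M := inferInstanceAs (AddCommGroup (Additive U))
  let i2 : Module (ZMod 2) M := AddCommGroup.zmodModule (n := 2) fun a => by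
    rw [two_nsmul]
    exact Subtype.ext (D.sq _ (Additive.toMul a).2)
  let i3 : DistribMulAction H M :=
    { smul := fun x a => Additive.ofMul ⟨(x : G) * (Additive.toMul a : U) * (x : G)⁻¹,
        D.nU x x.2 _ (Additive.toMul a : U).2⟩
      one_smul := fun a => Subtype.ext (by
        change (1 : G) * ((Additive.toMul a : U) : G) * (1 : G)⁻¹ = ((Additive.toMul a : U) : G)
        rw [one_mul, inv_one, mul_one])
      mul_smul := fun a b c => Subtype.ext (by
        change ((a : G) * b) * ((Additive.toMul c : U) : G) * ((a : G) * b)⁻¹ =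
          (a : G) * ((b : G) * ((Additive.toMul c : U) : G) * (b : G)⁻¹) * (a : G)⁻¹
        rw [mul_inv_rev]; simp only [mul_assoc])
      smul_zero := fun a => Subtype.ext (by
        change (a : G) * 1 * (a : G)⁻¹ = 1
        rw [mul_one, mul_inv_cancel])
      smul_add := fun a b c => Subtype.ext (by
        change (a : G) * (((Additive.toMul b : U) : G) * ((Additive.toMul c : U) : G)) * (a : G)⁻¹ =
          ((a : G) * ((Additive.toMul b : U) : G) * (a : G)⁻¹) * ((a : G) * ((Additive.toMul c : U) : G) * (a : G)⁻¹)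
        group) }
  have hfinM : Finite M := inferInstanceAs (Finite U)
  -- coercion to `G`
  let co : M → G := fun a => ((Additive.toMul a : U) : G)
  have co_inj : ∀ {a b : M}, co a = co b → a = b := fun h => Subtype.ext h
  have co_mem : ∀ a : M, co a ∈ U := fun a => (Additive.toMul a : U).2
  have co_add : ∀ a b : M, co (a + b) = co a * co b := fun a b => rfl
  have co_zero : co 0 = 1 := rfl
  have co_neg : ∀ a : M, co (-a) = (co a)⁻¹ := fun a => rfl
  have co_smul : ∀ (x : H) (a : M), co (x • a) = (x : G) * co a * (x : G)⁻¹ := fun x a => rfl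
  let mk : ∀ u : G, u ∈ U → M := fun u hu => Additive.ofMul ⟨u, hu⟩
  have co_mk : ∀ (u : G) (hu : u ∈ U), co (mk u hu) = u := fun u hu => rfl
  let c : M := mk z D.zU
  have hsz : ∀ s : H, s • c = c ↔ (s : G) * z = z * s := by
    intro s
    constructor
    · intro h
      have h1 := congrArg co h
      rw [co_smul] at h1
      change (s : G) * z * (s : G)⁻¹ = z at h1
      rw [mul_inv_eq_iff_eq_mul] at h1
      exact h1
    · intro h
      apply co_inj
      rw [co_smul]
      change (s : G) * z * (s : G)⁻¹ = z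
      rw [mul_inv_eq_iff_eq_mul]
      exact h
  -- the functional
  have hzz : z * z = 1 := D.sq z D.zU
  let f : M →+ ZMod 2 :=
    { toFun := fun a => if v * co a * v⁻¹ = co a then 0 else 1
      map_zero' := by
        rw [if_pos]
        rw [co_zero, mul_one, mul_inv_cancel]
      map_add' := fun a b => by
        have e1 : v * co (a + b) * v⁻¹ = (v * co a * v⁻¹) * (v * co b * v⁻¹) := by rw [co_add]; group
        have hne : ∀ w : G, w * z ≠ w := fun w h => D.z1 (by simpa using h)
        rcases hv _ (co_mem a) with ha | ha <;> rcases hv _ (co_mem b) with hb | hb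
        · have h3 : v * co (a + b) * v⁻¹ = co (a + b) := by rw [e1, ha, hb, co_add]
          rw [if_pos h3, if_pos ha, if_pos hb, add_zero]
        · have h3 : ¬ v * co (a + b) * v⁻¹ = co (a + b) := by
            rw [e1, ha, hb, ← mul_assoc, ← co_add]
            exact hne _
          have hb' : ¬ v * co b * v⁻¹ = co b := by rw [hb]; exact hne _
          rw [if_neg h3, if_pos ha, if_neg hb', zero_add]
        · have h3 : ¬ v * co (a + b) * v⁻¹ = co (a + b) := by
            rw [e1, ha, hb, mul_assoc, comm D.zU (co_mem b), ← mul_assoc, ← co_add]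
            exact hne _
          have ha' : ¬ v * co a * v⁻¹ = co a := by rw [ha]; exact hne _
          rw [if_neg h3, if_neg ha', if_pos hb, add_zero]
        · have h3 : v * co (a + b) * v⁻¹ = co (a + b) := by
            rw [e1, ha, hb, mul_assoc, ← mul_assoc z, comm D.zU (co_mem b), mul_assoc, hzz, mul_one, co_add]
          have ha' : ¬ v * co a * v⁻¹ = co a := by rw [ha]; exact hne _
          have hb' : ¬ v * co b * v⁻¹ = co b := by rw [hb]; exact hne _
          rw [if_pos h3, if_neg ha', if_neg hb']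
          decide }
  have hf0 : ∀ a : M, f a = 0 ↔ v * co a * v⁻¹ = co a := by
    intro a
    change (if v * co a * v⁻¹ = co a then (0 : ZMod 2) else 1) = 0 ↔ _
    constructor
    · intro h
      by_contra h1
      rw [if_neg h1] at h
      exact absurd h (by decide)
    · intro h
      rw [if_pos h]
  have hvf : ∀ u : M, (⟨v, hBH vB⟩ : H) • u = u + f u • c := by
    intro u
    apply co_inj
    rw [co_smul]
    change v * co u * v⁻¹ = _
    rcases z2 (f u) with h | h
    · rw [h, zero_smul, add_zero, (hf0 u).1 h]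
    · rw [h, one_smul, co_add]
      rcases hv _ (co_mem u) with h1 | h1
      · rw [(hf0 u).2 h1] at h
        exact absurd h (by decide)
      · exact h1
  have hfne : f ≠ 0 := by
    obtain ⟨u, hu, hne⟩ := ne
    intro h
    have h1 : f (mk u hu) = 0 := by rw [h]; rfl
    exact hne ((hf0 _).1 h1)
  -- subgroups of `G` from invariant subspaces
  let toG : AddSubgroup M → Subgroup G := fun N =>
    { carrier := {u | ∃ a ∈ N, co a = u}
      mul_mem' := by
        rintro _ _ ⟨a, ha, rfl⟩ ⟨b, hb, rfl⟩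
        exact ⟨a + b, N.add_mem ha hb, co_add a b⟩
      one_mem' := ⟨0, N.zero_mem, co_zero⟩
      inv_mem' := by
        rintro _ ⟨a, ha, rfl⟩
        exact ⟨-a, N.neg_mem ha, co_neg a⟩ }
  have htoG : ∀ (N : AddSubgroup M) (a : M), co a ∈ toG N ↔ a ∈ N := by
    intro N a
    constructor
    · rintro ⟨b, hb, h⟩
      rwa [co_inj h] at hb
    · intro h
      exact ⟨a, h, rfl⟩
  have hleU : ∀ N : AddSubgroup M, toG N ≤ U := by
    rintro N _ ⟨a, -, rfl⟩
    exact co_mem a
  have hfixN : ∀ N : AddSubgroup M, (∀ t ∈ S.subgroupOf H, ∀ n ∈ N, t • n ∈ N) → N ≠ ⊥ → c ∈ N := by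
    intro N hN hne
    have h1 : toG N ≠ ⊥ := by
      intro h
      apply hne
      rw [AddSubgroup.eq_bot_iff_forall]
      intro a ha
      have h2 : co a ∈ toG N := (htoG N a).2 ha
      rw [h, mem_bot] at h2
      exact co_inj h2
    obtain ⟨n, hn, hn1, hnS⟩ := AdjTransv.exists_fixed D.S2 h1 (fun n hn => D.sq n (hleU N hn))
      (fun s hs n hn => by
        obtain ⟨a, ha, rfl⟩ := hn
        have hsH : s ∈ H := D.cH s (D.cS s hs)
        exact ⟨(⟨s, hsH⟩ : H) • a, hN ⟨s, hsH⟩ hs a ha, rfl⟩)
    have hnz : n = z := (D.fix n (hleU N hn) hnS).resolve_left hn1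
    rw [hnz] at hn
    exact (htoG N c).1 hn
  have hSit : Sit c (B.subgroupOf H) (S.subgroupOf H) :=
    { z0 := fun h => D.z1 (congrArg co h)
      irr := by
        intro N hN
        by_cases hne : N = ⊥
        · exact Or.inl hne
        · right
          have h1 : c ∈ N := hfixN N (fun t _ n hn => hN t n hn) hne
          have h2 := D.gen (toG N) ((htoG N c).2 h1) (hleU N) (by
            rintro h hh _ ⟨a, ha, rfl⟩
            exact ⟨(⟨h, hh⟩ : H) • a, hN _ a ha, rfl⟩)
          rw [AddSubgroup.eq_top_iff']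
          intro a
          exact (htoG N a).1 (h2 (co_mem a))
      nB := by
        intro x hx b hb
        exact D.nB x ((hsz x).1 hx) b hb
      fixB := fun b hb => (hsz b).2 (D.cB b hb)
      quad := by
        intro b hb e he u
        apply co_inj
        rw [co_smul, co_add, co_smul]
        have h1 : (e : G) * co u * (e : G)⁻¹ * co u ∈ B := by
          have h2 : co u * (e : G)⁻¹ * (co u)⁻¹ ∈ B :=
            D.nB _ (comm (co_mem u) D.zU) _ (inv_mem he)
          have h3 : (co u)⁻¹ = co u := inv_eq_of_mul_eq_one_left (D.sq _ (co_mem u))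
          rw [h3] at h2
          have h4 : (e : G) * (co u * (e : G)⁻¹ * co u) ∈ B := B.mul_mem he h2
          have h5 : (e : G) * co u * (e : G)⁻¹ * co u = (e : G) * (co u * (e : G)⁻¹ * co u) := by group
          rw [h5]
          exact h4
        rw [D.ab b hb _ h1, mul_inv_cancel_right]
      Tz := fun t ht => (hsz t).2 (D.cS t ht)
      fix := hfixN
      line := by
        obtain ⟨h, hh, h1, h2⟩ := D.line
        refine ⟨⟨h, hh⟩, fun h3 => h1 (congrArg co h3), fun b hb => ?_⟩
        apply co_inj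
        rw [co_smul, co_smul]
        change (b : G) * (h * z * h⁻¹) * (b : G)⁻¹ = h * z * h⁻¹
        rw [h2 b hb, mul_inv_cancel_right] }
  rcases hSit.main (b₀ := ⟨v, hBH vB⟩) vB hvf hfne (b := ⟨b, hBH hb⟩) hb with h | h
  · left
    intro u hu
    have h1 := congrArg co (h (mk u hu))
    rw [co_smul] at h1
    exact h1
  · right
    intro u hu
    have h1 := h (mk u hu)
    rw [← hvf] at h1
    have h2 := congrArg co h1
    rw [co_smul, co_smul] at h2
    exact h2

end GSit

end Cfsg.Agent.Omega.NOThreeL.ThmA
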