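import Cfsg.Agent.Omega.NOThreeL.AdjTransvPlug
import Cfsg.Agent.Omega.NOThreeL.ThmA

/-!
# NO-3L, `|Z| = 2`, THEOREM A (#15935 (3), helper658), plugged (helper340)

`S` a Sylow 2-subgroup, `Z = zc S = {1, z}`, `H`, `K` long, not (A).

* `gsit` : the group form `GSit z U_H H S B` for every abelian `B ≤ C_G(Z)` normalised by `C_G(Z)` and centralising
  some `V_P`, `P ∈ P*(S)`, `P ≤ H`;
* `mul_mem_of_transv` : if some element of `B` acts on `U_H` as a transvection with centre `z`, then
  `|B : C_B(U_H)| = 2`;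
* `false_of_transv` : not (A), `[U_H, U_K] ≠ 1`: no element of `F_K` acts on `U_H` as a transvection with centre `z`.
-/

set_option autoImplicit false

namespace Cfsg.Agent.Omega.NOThreeL.ThmA

open Subgroup Cfsg Cfsg.Agent.ZN Cfsg.Agent.Omega.MinPar Cfsg.Agent.Omega.Frame Cfsg.Agent.Omega.FrameNOFF
open Cfsg.Agent.Omega.Node.NO3L Cfsg.Agent.Omega.NOThreeL.Basic
open Cfsg.Agent.Omega.NOThreeL.AdjTransv (exists_z norm_le_cent exists_par adj)
open Cfsg.Agent.MinSimple.VModule (zl_le le_normalizer_zl zc_le_zl zc_le mem_zc normalizer_le_normalizer_zc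
  le_centralizer_zc)

universe u

variable {G : Type u} [Group G] [Finite G] {S : Sylow 2 G}

theorem gsit (hc : IsCharacteristicTwoType G) {H : Subgroup G} (hH : IsLong (S : Subgroup G) H) {z : G}
    (hz : z ∈ zc (S : Subgroup G)) (hz1 : z ≠ 1) (hu : ∀ x ∈ zc (S : Subgroup G), x = 1 ∨ x = z)
    {B : Subgroup G} (hBC : B ≤ CZ (S : Subgroup G)) (hBB : B ≤ centralizer (B : Set G))
    (hCB : CZ (S : Subgroup G) ≤ normalizer (B : Set G)) {P : Subgroup G} (hP : IsParS (S : Subgroup G) P)
    (hPH : P ≤ H) (hVB : zl (S : Subgroup G) P ≤ centralizer (B : Set G)) :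
    GSit z (zl (S : Subgroup G) H) H (S : Subgroup G) B := by
  have a := adj hc hH hH hz hz1 hu
  have hcz : ∀ g, g * z = z * g → g ∈ CZ (S : Subgroup G) := by
    intro g hg
    rw [mem_centralizer_iff]
    intro x hx
    rcases hu x hx with rfl | rfl
    · rw [one_mul, mul_one]
    · exact hg.symm
  exact
    { z1 := hz1
      zU := a.zU
      sq := a.sqU
      nU := a.nU
      cH := a.cH
      gen := by
        intro N hzN _ hN
        refine a.genU.trans ((closure_le _).2 ?_)
        rintro x ⟨h, hh, rfl⟩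
        exact hN h hh z hzN
      S2 := a.pS
      cS := a.cS
      fix := a.fixU
      cB := fun b hb => ((mem_centralizer_iff.1 (hBC hb)) z hz).symm
      nB := fun g hg b hb => (mem_normalizer_iff.1 (hCB (hcz g hg)) b).1 hb
      ab := fun b hb c hcc => (mem_centralizer_iff.1 (hBB hcc)) b hb
      line := by
        by_contra hcon
        push Not at hcon
        have key : ∀ p ∈ P, p * z * p⁻¹ = z := by
          intro p hp
          by_contra hne
          obtain ⟨b, hb, hb'⟩ := hcon p (hPH hp) hne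
          have h1 : p * z * p⁻¹ ∈ zl (S : Subgroup G) P :=
            (mem_normalizer_iff.1 (le_normalizer_zl (S : Subgroup G) P hp) z).1 (zc_le_zl _ _ hz)
          exact hb' ((mem_centralizer_iff.1 (hVB h1)) b hb)
        refine hP.not_zc (le_trans (fun p hp => ?_) (centralizer_le_normalizer _))
        rw [mem_centralizer_iff]
        intro x hx
        rcases hu x hx with rfl | rfl
        · rw [one_mul, mul_one]
        · exact (mul_inv_eq_iff_eq_mul.1 (key p hp)).symm }

/-- **THEOREM A, plugged**: `|B : C_B(U_H)| = 2`. -/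
theorem mul_mem_of_transv (hc : IsCharacteristicTwoType G) {H : Subgroup G} (hH : IsLong (S : Subgroup G) H)
    {z : G} (hz : z ∈ zc (S : Subgroup G)) (hz1 : z ≠ 1) (hu : ∀ x ∈ zc (S : Subgroup G), x = 1 ∨ x = z)
    {B : Subgroup G} (hBC : B ≤ CZ (S : Subgroup G)) (hBB : B ≤ centralizer (B : Set G))
    (hCB : CZ (S : Subgroup G) ≤ normalizer (B : Set G)) {P : Subgroup G} (hP : IsParS (S : Subgroup G) P)
    (hPH : P ≤ H) (hVB : zl (S : Subgroup G) P ≤ centralizer (B : Set G)) {v : G} (vB : v ∈ B)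
    (hv : ∀ u ∈ zl (S : Subgroup G) H, v * u * v⁻¹ = u ∨ v * u * v⁻¹ = u * z)
    (ne : ∃ u ∈ zl (S : Subgroup G) H, v * u * v⁻¹ ≠ u) {b c : G} (hb : b ∈ B) (hcB : c ∈ B)
    (hb' : b ∉ centralizer (zl (S : Subgroup G) H : Set G)) (hc' : c ∉ centralizer (zl (S : Subgroup G) H : Set G)) :
    b * c ∈ centralizer (zl (S : Subgroup G) H : Set G) := by
  have D := gsit hc hH hz hz1 hu hBC hBB hCB hP hPH hVB
  have key : ∀ d ∈ B, d ∉ centralizer (zl (S : Subgroup G) H : Set G) →
      ∀ u ∈ zl (S : Subgroup G) H, d * u * d⁻¹ = v * u * v⁻¹ := by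
    intro d hd hd'
    rcases D.main vB hv ne hd with h | h
    · exfalso
      apply hd'
      rw [mem_centralizer_iff]
      intro u huU
      exact (mul_inv_eq_iff_eq_mul.1 (h u huU)).symm
    · exact h
  have hvv : ∀ u ∈ zl (S : Subgroup G) H, v * (v * u * v⁻¹) * v⁻¹ = u := by
    intro u huU
    rcases hv u huU with h | h
    · rw [h, h]
    · rw [h]
      have h1 : v * (u * z) * v⁻¹ = (v * u * v⁻¹) * (v * z * v⁻¹) := by group
      have h2 : v * z * v⁻¹ = z := by
        rw [mul_inv_eq_iff_eq_mul]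
        exact D.cB v vB
      rw [h1, h2, h, mul_assoc, D.sq z D.zU, mul_one]
  rw [mem_centralizer_iff]
  intro u huU
  have h1 : c * u * c⁻¹ ∈ zl (S : Subgroup G) H := D.nU c (D.cH c (D.cB c hcB)) u huU
  have h2 : b * c * u * (b * c)⁻¹ = u := by
    calc b * c * u * (b * c)⁻¹ = b * (c * u * c⁻¹) * b⁻¹ := by group
      _ = v * (v * u * v⁻¹) * v⁻¹ := by rw [key b hb hb' _ h1, key c hcB hc' u huU]
      _ = u := hvv u huU
  exact (mul_inv_eq_iff_eq_mul.1 h2).symm

/-- **THEOREM A + TV**: not (A), `|Z| = 2`, `[U_H, U_K] ≠ 1`: no element of `F_K` acts on `U_H` as a transvection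
with centre `z`. -/
theorem false_of_transv (h : Ctx G) (hF : Full (S : Subgroup G)) (D : Data (S : Subgroup G))
    (hA : ¬ CaseA (S : Subgroup G)) (h2 : Nat.card (zc (S : Subgroup G)) = 2) {H K : Subgroup G}
    (hH : IsLong (S : Subgroup G) H) (hK : IsLong (S : Subgroup G) K)
    (hne : ¬ zl (S : Subgroup G) H ≤ centralizer (zl (S : Subgroup G) K : Set G)) {z : G}
    (hz : z ∈ zc (S : Subgroup G)) {v : G} (vF : v ∈ FH (S : Subgroup G) K)
    (hv : ∀ u ∈ zl (S : Subgroup G) H, v * u * v⁻¹ = u ∨ v * u * v⁻¹ = u * z)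
    (ne : ∃ u ∈ zl (S : Subgroup G) H, v * u * v⁻¹ ≠ u) : False := by
  have hc := h.char2
  have hz1 : z ≠ 1 := by
    rintro rfl
    obtain ⟨u, hu, hne⟩ := ne
    rcases hv u hu with h | h
    · exact hne h
    · rw [mul_one] at h
      exact hne h
  have hu : ∀ x ∈ zc (S : Subgroup G), x = 1 ∨ x = z := by
    obtain ⟨y, hy, hy1, hy2⟩ := exists_z h2
    intro x hx
    rcases hy2 z hz with h | rfl
    · exact absurd h hz1
    · exact hy2 x hx
  have hFab := NotA.FH_comm hc D hA hK
  have hUF := zl_le_FH h hF K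
  have hFC : FH (S : Subgroup G) K ≤ CZ (S : Subgroup G) :=
    hFab.trans (centralizer_le ((zc_le_zl _ _).trans hUF))
  have hHC : ¬ H ≤ CZ (S : Subgroup G) := by
    intro hle
    apply hne
    have h1 : zl (S : Subgroup G) H ≤ zc (S : Subgroup G) :=
      zl_le le_rfl (hle.trans (centralizer_le_normalizer _))
    refine h1.trans ?_
    rw [← le_centralizer_iff]
    exact (IsLong.zl_le_S hc hK).trans (le_centralizer_zc _)
  obtain ⟨P, hP, hPH⟩ := exists_par h2 hH hHC
  have hVF : zl (S : Subgroup G) P ≤ centralizer (FH (S : Subgroup G) K : Set G) :=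
    ((zl_le_WP hP).trans (WP_le_FH _ K)).trans hFab
  refine AdjTransv.false_of_index hc hA h2 hK hH ?_ fun a ha b hb ha' hb' => ?_
  · intro h1
    exact hne (le_centralizer_iff.1 h1)
  · exact mul_mem_of_transv hc hH hz hz1 hu hFC hFab (hK.cz.trans (le_normalizer_FH _ K)) hP hPH hVF vF hv ne
      (hUF ha) (hUF hb) ha' hb'

end Cfsg.Agent.Omega.NOThreeL.ThmA
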