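import Cfsg.Agent.Omega.NOThreeL.SwapTrick
import Cfsg.Agent.Omega.NOThreeL.ThmAPlug

/-!
# NO-3L, `|Z| = 2`: DICHOTOMY and SWAP TRICK (#15935 (1), (2), helper658), plugged (helper340)

`S` a Sylow 2-subgroup, `|Z| = 2`, not (A), `H`, `K` long, `P ∈ P*(S)` with `|V_P| = 4`.

* `dichotomy` : `V_P ≤ U_H`, or `U_H ∩ U_H^p = 1 = [U_H, U_H^p]` for all `p ∈ P`, `p ∉ C_G(Z)`;
* `swap` : `[U_H, U_K] ≠ 1`, `P ≤ K`, `V_P ≰ U_H`, `V_P ≤ W ≤ WP S`, `W` normalised by `C = C_G(Z)`, `t ∈ C` trivial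
  on `W / Z`, but not on `V_P`: `U_H` centralises `W^p` and lies in `Q^p` for all `p ∈ P`;
* `W4 S` : the product of all lines of order 4 on `Z`; `W4.comm` : `[W4 S, Q] ≤ Z`;
* `collinear` : `swap` for `W = W4 S` and `t ∈ Q`.
-/

set_option autoImplicit false

namespace Cfsg.Agent.Omega.NOThreeL.SwapTrick

open Subgroup Cfsg Cfsg.Agent.ZN Cfsg.Agent.Omega.MinPar Cfsg.Agent.Omega.Frame Cfsg.Agent.Omega.FrameNOFF
open Cfsg.Agent.Omega.Node.NO3L Cfsg.Agent.Omega.NOThreeL.Basic
open Cfsg.Agent.Omega.NoFF.Basic (V conj_conj mem_conj conj_le_iff conj_le_centralizer comm_symm comm_mono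
  Z_le_V V_le conj_V_mul)
open Cfsg.Agent.Omega.NOThreeL.Pair (conj_eq_of_mem conj_le_normalizer)
open Cfsg.Agent.Omega.NOThreeL.AdjTransv (exists_z norm_le_cent exists_par adj)
open Cfsg.Agent.MinSimple.VModule (zl_le le_normalizer_zl zc_le_zl zc_le mem_zc normalizer_le_normalizer_zc
  le_centralizer_zc le_o2 o2_isPGroup le_normalizer_o2)
open scoped Pointwise

universe u

variable {G : Type u} [Group G] [Finite G] {S : Sylow 2 G}

omit [Finite G] in
/-- a 2-subgroup normalised by `S` lies in `S` -/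
theorem le_sylow {R : Subgroup G} (hR : IsPGroup 2 R) (h : (S : Subgroup G) ≤ normalizer (R : Set G)) :
    R ≤ (S : Subgroup G) := by
  have : Fact (Nat.Prime 2) := ⟨Nat.prime_two⟩
  have h1 : IsPGroup 2 ((S : Subgroup G) ⊔ R : Subgroup G) := S.isPGroup'.to_sup_of_normal_right' hR h
  exact le_sup_right.trans (S.is_maximal' h1 le_sup_left).le

omit [Finite G] in
theorem normalizer_le_normalizer_centralizer (V : Subgroup G) :
    normalizer (V : Set G) ≤ normalizer (centralizer (V : Set G) : Set G) := by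
  have key : ∀ g ∈ normalizer (V : Set G), ∀ x ∈ centralizer (V : Set G), g * x * g⁻¹ ∈ centralizer (V : Set G) := by
    intro g hg x hx
    rw [mem_centralizer_iff] at hx ⊢
    intro v hv
    have h1 : g⁻¹ * v * g ∈ V := by
      have := (mem_normalizer_iff.1 (inv_mem hg) v).1 hv
      rwa [inv_inv] at this
    have h2 := hx _ h1
    calc v * (g * x * g⁻¹) = g * ((g⁻¹ * v * g) * x) * g⁻¹ := by group
      _ = g * x * g⁻¹ * v := by rw [h2]; group
  intro g hg
  rw [mem_normalizer_iff]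
  intro x
  refine ⟨key g hg x, fun h => ?_⟩
  have := key g⁻¹ (inv_mem hg) _ h
  simpa [mul_assoc] using this

omit [Finite G] in
theorem normalizer_le_normalizer_o2 (L : Subgroup G) :
    normalizer (L : Set G) ≤ normalizer (o2 L : Set G) := by
  intro g hg
  have h1 : MulAut.conj g • L = L := conj_eq_of_mem hg
  have h2 : MulAut.conj g • o2 L = o2 L := by
    rw [← Cfsg.Agent.MinSimple.CosetFam.o2_conj, h1]
  rw [mem_normalizer_iff]
  intro x
  constructor
  · intro hx
    rw [← h2, mem_conj]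
    simpa [mul_assoc] using hx
  · intro hx
    rw [← h2, mem_conj] at hx
    simpa [mul_assoc] using hx

omit [Finite G] in
theorem cz_of_comm {z : G} (hu : ∀ x ∈ zc (S : Subgroup G), x = 1 ∨ x = z) {g : G} (hg : g * z = z * g) :
    g ∈ CZ (S : Subgroup G) := by
  rw [mem_centralizer_iff]
  intro x hx
  rcases hu x hx with rfl | rfl
  · rw [one_mul, mul_one]
  · exact hg.symm

theorem sit (hc : IsCharacteristicTwoType G) (hA : ¬ CaseA (S : Subgroup G)) {H : Subgroup G}
    (hH : IsLong (S : Subgroup G) H) {z : G} (hz : z ∈ zc (S : Subgroup G)) (hz1 : z ≠ 1)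
    (hu : ∀ x ∈ zc (S : Subgroup G), x = 1 ∨ x = z) {P : Subgroup G} (hP : IsParS (S : Subgroup G) P)
    (h4 : Nat.card (zl (S : Subgroup G) P) = 4) :
    Sit z (zl (S : Subgroup G) H) (S : Subgroup G) P (zl (S : Subgroup G) P) := by
  have a := adj hc hH hH hz hz1 hu
  have hzE : z ∈ zl (S : Subgroup G) P := zc_le_zl _ _ hz
  have hEC : centralizer (zl (S : Subgroup G) P : Set G) ≤ CZ (S : Subgroup G) := centralizer_le (zc_le_zl _ _)
  have hUC : zl (S : Subgroup G) H ≤ centralizer (zl (S : Subgroup G) P : Set G) := by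
    have h1 : zl (S : Subgroup G) P ≤ centralizer (zl (S : Subgroup G) H : Set G) := by
      by_contra h
      exact hA ⟨P, H, hP, hH, h⟩
    exact comm_symm h1
  have hU2 : IsPGroup 2 (zl (S : Subgroup G) H) := S.isPGroup'.to_le (IsLong.zl_le_S hc hH)
  have hUo : zl (S : Subgroup G) H ≤ o2 (centralizer (zl (S : Subgroup G) P : Set G)) :=
    le_o2 hUC hU2 ((hEC.trans hH.cz).trans (le_normalizer_zl _ _))
  have hPn : P ≤ normalizer (o2 (centralizer (zl (S : Subgroup G) P : Set G)) : Set G) :=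
    ((le_normalizer_zl _ _).trans (normalizer_le_normalizer_centralizer _)).trans (normalizer_le_normalizer_o2 _)
  have hoS : o2 (centralizer (zl (S : Subgroup G) P : Set G)) ≤ (S : Subgroup G) :=
    le_sylow (o2_isPGroup _) (hP.le.trans hPn)
  exact
    { z1 := hz1
      zE := hzE
      card := h4
      sqE := fun e he => by rw [← pow_two]; exact (FFThm.elem_zl hc S hP.isLoc).2 e he
      nE := fun p hp e he => (mem_normalizer_iff.1 (le_normalizer_zl (S : Subgroup G) P hp) e).1 he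
      SP := hP.le
      S2 := S.isPGroup'
      cS := a.cS
      mov := by
        by_contra hcon
        push Not at hcon
        refine hP.not_zc (le_trans (fun p hp => ?_) (centralizer_le_normalizer _))
        rw [mem_centralizer_iff]
        intro x hx
        rcases hu x hx with rfl | rfl
        · rw [one_mul, mul_one]
        · exact (mul_inv_eq_iff_eq_mul.1 (hcon p hp)).symm
      fixE := fun e he h => hu e (mem_zc.2 ⟨IsParS.zl_le_S hc hP he, fun b hb => mul_inv_eq_iff_eq_mul.1 (h b hb),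
        (FFThm.elem_zl hc S hP.isLoc).2 e he⟩)
      zU := a.zU
      nU := fun g hg u huU => a.nU g (a.cH g hg) u huU
      sqU := a.sqU
      UE := fun u huU e he => ((mem_centralizer_iff.1 (hUC huU)) e he).symm
      fixU := by
        intro p hp u huU hfix
        have h1 : p * u * p⁻¹ ∈ (S : Subgroup G) := hoS ((mem_normalizer_iff.1 (hPn hp) u).1 (hUo huU))
        refine hu _ (mem_zc.2 ⟨h1, fun b hb => mul_inv_eq_iff_eq_mul.1 (hfix b hb), ?_⟩)
        have h2 := a.sqU u huU
        rw [pow_two]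
        calc p * u * p⁻¹ * (p * u * p⁻¹) = p * (u * u) * p⁻¹ := by group
          _ = 1 := by rw [h2]; group }

/-- **(1) DICHOTOMY**, plugged. -/
theorem dichotomy (hc : IsCharacteristicTwoType G) (hA : ¬ CaseA (S : Subgroup G))
    (h2 : Nat.card (zc (S : Subgroup G)) = 2) {H : Subgroup G} (hH : IsLong (S : Subgroup G) H) {P : Subgroup G}
    (hP : IsParS (S : Subgroup G) P) (h4 : Nat.card (zl (S : Subgroup G) P) = 4) :
    zl (S : Subgroup G) P ≤ zl (S : Subgroup G) H ∨ ∀ p ∈ P, p ∉ CZ (S : Subgroup G) →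
      zl (S : Subgroup G) H ⊓ MulAut.conj p • zl (S : Subgroup G) H = ⊥ ∧
        zl (S : Subgroup G) H ≤ centralizer ((MulAut.conj p • zl (S : Subgroup G) H : Subgroup G) : Set G) := by
  obtain ⟨z, hz, hz1, hu⟩ := exists_z h2
  have D := sit hc hA hH hz hz1 hu hP h4
  rcases D.dichotomy with h | hβ
  · exact Or.inl h
  · right
    intro p hp hpC
    have hne : p * z * p⁻¹ ≠ z := fun h => hpC (cz_of_comm hu (mul_inv_eq_iff_eq_mul.1 h))
    have hx := D.nE p hp z D.zE
    have hmem : ∀ u, u ∈ MulAut.conj p • zl (S : Subgroup G) H → PU z (zl (S : Subgroup G) H) (p * z * p⁻¹) u := by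
      intro u huU
      rw [mem_conj] at huU
      exact ⟨p, rfl, huU⟩
    constructor
    · rw [Subgroup.eq_bot_iff_forall]
      intro u huU
      exact hβ z D.zE _ hx hz1 D.conj_ne hne u (D.pu_z.2 huU.1) (hmem u huU.2)
    · intro u huU
      rw [mem_centralizer_iff]
      intro v hv
      exact (D.comm hβ D.zE hx hz1 D.conj_ne hne (D.pu_z.2 huU) (hmem v hv)).symm

/-- **(2) SWAP TRICK + THEOREM A**, plugged. -/
theorem swap (h : Ctx G) (hF : Full (S : Subgroup G)) (D : Data (S : Subgroup G))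
    (hA : ¬ CaseA (S : Subgroup G)) (h2 : Nat.card (zc (S : Subgroup G)) = 2) {H K : Subgroup G}
    (hH : IsLong (S : Subgroup G) H) (hK : IsLong (S : Subgroup G) K)
    (hne : ¬ zl (S : Subgroup G) H ≤ centralizer (zl (S : Subgroup G) K : Set G)) {P : Subgroup G}
    (hP : IsParS (S : Subgroup G) P) (hPK : P ≤ K) (h4 : Nat.card (zl (S : Subgroup G) P) = 4)
    (hn : ¬ zl (S : Subgroup G) P ≤ zl (S : Subgroup G) H) {W : Subgroup G} (hW : W ≤ WP (S : Subgroup G))
    (hPW : zl (S : Subgroup G) P ≤ W) (hCW : CZ (S : Subgroup G) ≤ normalizer (W : Set G)) {t : G}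
    (ht : t ∈ CZ (S : Subgroup G)) (htW : ∀ w ∈ W, t * w * t⁻¹ * w⁻¹ ∈ zc (S : Subgroup G))
    (htP : t ∉ centralizer (zl (S : Subgroup G) P : Set G)) {p : G} (hp : p ∈ P) :
    zl (S : Subgroup G) H ≤ centralizer ((MulAut.conj p • W : Subgroup G) : Set G) ∧
      zl (S : Subgroup G) H ≤ MulAut.conj p • o2 (CZ (S : Subgroup G)) := by
  have hc := h.char2
  obtain ⟨z, hz, hz1, hu⟩ := exists_z h2
  have E := sit hc hA hH hz hz1 hu hP h4
  have hWab : W ≤ centralizer (W : Set G) := by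
    have h1 : W ≤ FH (S : Subgroup G) H := hW.trans (WP_le_FH _ H)
    exact h1.trans ((NotA.FH_comm hc D hA hH).trans (centralizer_le h1))
  have hWC : ∀ w ∈ W, w * z = z * w := fun w hw =>
    ((mem_centralizer_iff.1 (hWab hw)) z (hPW E.zE)).symm
  have hcen : W ≤ centralizer (zl (S : Subgroup G) H : Set G) := hW.trans (WP_le_centralizer hA hH)
  have hβ := (E.dichotomy).resolve_left hn
  have ab : ∀ a ∈ W, ∀ b ∈ W, a * b = b * a := fun a ha b hb => (mem_centralizer_iff.1 (hWab hb)) a ha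
  have htz : t * z = z * t := ((mem_centralizer_iff.1 ht) z hz).symm
  have htW' : ∀ w ∈ W, t * w * t⁻¹ = w ∨ t * w * t⁻¹ = w * z := by
    intro w hw
    rcases hu _ (htW w hw) with h1 | h1
    · exact Or.inl (mul_inv_eq_one.1 h1)
    · right
      rw [hWC w hw]
      exact mul_inv_eq_iff_eq_mul.1 h1
  have htE : ∃ e ∈ zl (S : Subgroup G) P, t * e * t⁻¹ ≠ e := by
    by_contra hcon
    push Not at hcon
    apply htP
    rw [mem_centralizer_iff]
    intro e he
    exact (mul_inv_eq_iff_eq_mul.1 (hcon e he)).symm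
  have nW : ∀ g, g * z = z * g → ∀ w ∈ W, g * w * g⁻¹ ∈ W := fun g hg w hw =>
    (mem_normalizer_iff.1 (hCW (cz_of_comm hu hg)) w).1 hw
  by_cases hpz : p * z * p⁻¹ = z
  · -- `p ∈ C_G(Z)`
    have hpC : p ∈ CZ (S : Subgroup G) := cz_of_comm hu (mul_inv_eq_iff_eq_mul.1 hpz)
    rw [conj_eq_of_mem (hCW hpC), conj_eq_of_mem (le_normalizer_o2 _ hpC)]
    exact ⟨comm_symm hcen, (hH.zl_le_o2 hc S).trans (hH.o2_le S)⟩
  · have hcom : zl (S : Subgroup G) H ≤ centralizer ((MulAut.conj p • W : Subgroup G) : Set G) := by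
      refine comm_symm fun x hx => ?_
      have hx' : p⁻¹ * x * p ∈ W := by rwa [mem_conj] at hx
      by_contra hxU
      have hxF : x ∈ FH (S : Subgroup G) K :=
        conj_WP_le_FH (S : Subgroup G) (hPK hp) (conj_le_iff.2 hW hx)
      have e : p * (p⁻¹ * x * p) * p⁻¹ = x := by group
      refine ThmA.false_of_transv h hF D hA h2 hH hK hne hz hxF (fun u huU => ?_) ?_
      · have h1 := E.swap hβ ab hPW nW htz htW' htE hp hpz hx' huU
        rwa [e] at h1
      · by_contra hcon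
        push Not at hcon
        apply hxU
        rw [mem_centralizer_iff]
        intro u huU
        exact (mul_inv_eq_iff_eq_mul.1 (hcon u huU)).symm
    refine ⟨hcom, ?_⟩
    -- `U_H ≤ O₂(C_G(E)) ∩ C_G(W^p) ≤ Q^p`
    have hEC : centralizer (zl (S : Subgroup G) P : Set G) ≤ CZ (S : Subgroup G) := centralizer_le (zc_le_zl _ _)
    have hEW : zl (S : Subgroup G) P ≤ MulAut.conj p • W := by
      have h1 := conj_le_iff (g := p) |>.2 hPW
      rwa [conj_eq_of_mem (le_normalizer_zl _ _ hp)] at h1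
    have hU2 : IsPGroup 2 (zl (S : Subgroup G) H) := S.isPGroup'.to_le (IsLong.zl_le_S hc hH)
    have h5 : zl (S : Subgroup G) H ≤ o2 (centralizer ((MulAut.conj p • W : Subgroup G) : Set G)) := by
      refine le_o2 hcom hU2 (le_trans ?_ (le_normalizer_zl _ _))
      exact ((centralizer_le hEW).trans hEC).trans hH.cz
    refine h5.trans ?_
    have h6 : MulAut.conj p • o2 (CZ (S : Subgroup G)) = o2 (MulAut.conj p • CZ (S : Subgroup G)) :=
      (Cfsg.Agent.MinSimple.CosetFam.o2_conj _ _).symm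
    rw [h6]
    refine le_o2 ?_ (o2_isPGroup _) ?_
    · refine le_trans (Cfsg.Agent.MinSimple.VModule.o2_le _) ?_
      intro x hx
      rw [mem_conj]
      have h7 : x ∈ centralizer ((MulAut.conj p • W : Subgroup G) : Set G) := hx
      refine cz_of_comm hu ?_
      have h8 : p * z * p⁻¹ ∈ MulAut.conj p • W := by
        rw [mem_conj]
        have e : p⁻¹ * (p * z * p⁻¹) * p = z := by group
        rw [e]
        exact hPW E.zE
      have h9 := (mem_centralizer_iff.1 h7) _ h8
      calc p⁻¹ * x * p * z = p⁻¹ * (x * (p * z * p⁻¹)) * p := by group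
        _ = z * (p⁻¹ * x * p) := by rw [← h9]; group
    · refine le_trans ?_ (normalizer_le_normalizer_o2 _)
      refine le_trans ?_ (normalizer_le_normalizer_centralizer _)
      exact conj_le_normalizer hCW

/-! ### The lines of order 4 -/

/-- The product of all lines of order 4 on the point `Z`. -/
def W4 (S : Subgroup G) : Subgroup G :=
  NoFF.Lines.W (zc S) (CZ S) {P | IsParS S P ∧ Nat.card (zl S P) = 4}

omit [Finite G] in
theorem W4_le (S : Subgroup G) : W4 S ≤ WP S :=
  NoFF.Lines.W_le fun _ hP _ hc => line_le_WP hP.1 hc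

omit [Finite G] in
theorem zl_le_W4 {S P : Subgroup G} (hP : IsParS S P) (h4 : Nat.card (zl S P) = 4) : zl S P ≤ W4 S := by
  have := NoFF.Lines.line_le (Z := zc S) (C := CZ S) (F := {P | IsParS S P ∧ Nat.card (zl S P) = 4}) ⟨hP, h4⟩
    (one_mem _)
  rwa [map_one, one_smul] at this

omit [Finite G] in
theorem CZ_le_normalizer_W4 (S : Subgroup G) : CZ S ≤ normalizer (W4 S : Set G) := by
  intro c hc
  have h1 : MulAut.conj c • W4 S = W4 S := NoFF.Lines.W_conj hc
  rw [mem_normalizer_iff]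
  intro x
  constructor
  · intro hx
    rw [← h1, mem_conj]
    simpa [mul_assoc] using hx
  · intro hx
    rw [← h1, mem_conj] at hx
    simpa [mul_assoc] using hx

/-- `[W4, Q] ≤ Z` -/
theorem W4_comm (hc : IsCharacteristicTwoType G)
    (h2 : Nat.card (zc (S : Subgroup G)) = 2) {q w : G} (hq : q ∈ o2 (CZ (S : Subgroup G)))
    (hw : w ∈ W4 (S : Subgroup G)) : q * w * q⁻¹ * w⁻¹ ∈ zc (S : Subgroup G) := by
  obtain ⟨z, hz, hz1, hu⟩ := exists_z h2
  have hz' : ∀ x : G, (x = 1 ∨ x = z) → x ∈ zc (S : Subgroup G) := by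
    rintro x (rfl | rfl)
    · exact one_mem _
    · exact hz
  let K : Subgroup G :=
    { carrier := {w | w ∈ CZ (S : Subgroup G) ∧ ∀ q ∈ o2 (CZ (S : Subgroup G)),
        q * w * q⁻¹ * w⁻¹ ∈ zc (S : Subgroup G)}
      mul_mem' := by
        rintro a b ⟨ha, ha'⟩ ⟨hb, hb'⟩
        refine ⟨mul_mem ha hb, fun q hq => ?_⟩
        have h1 := (mem_centralizer_iff.1 ha) _ (hb' q hq)
        have e : q * (a * b) * q⁻¹ * (a * b)⁻¹ = (q * a * q⁻¹ * a⁻¹) * (q * b * q⁻¹ * b⁻¹) := by
          calc q * (a * b) * q⁻¹ * (a * b)⁻¹ = (q * a * q⁻¹ * a⁻¹) * (a * (q * b * q⁻¹ * b⁻¹)) * a⁻¹ := by group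
            _ = (q * a * q⁻¹ * a⁻¹) * (q * b * q⁻¹ * b⁻¹) := by rw [← h1]; group
        rw [e]
        exact mul_mem (ha' q hq) (hb' q hq)
      one_mem' := ⟨one_mem _, fun q _ => by
        rw [mul_one, mul_inv_cancel, one_mul, inv_one]
        exact one_mem _⟩
      inv_mem' := by
        rintro a ⟨ha, ha'⟩
        refine ⟨inv_mem ha, fun q hq => ?_⟩
        have h1 := (mem_centralizer_iff.1 ha) _ (inv_mem (ha' q hq))
        have e : q * a⁻¹ * q⁻¹ * (a⁻¹)⁻¹ = (q * a * q⁻¹ * a⁻¹)⁻¹ := by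
          have e2 : q * a⁻¹ * q⁻¹ * (a⁻¹)⁻¹ = a⁻¹ * (a * (q * a⁻¹ * q⁻¹)) * a := by group
          have e3 : (q * a * q⁻¹ * a⁻¹)⁻¹ = a * (q * a⁻¹ * q⁻¹) := by group
          rw [e2, e3]
          rw [e3] at h1
          calc a⁻¹ * (a * (q * a⁻¹ * q⁻¹)) * a = a⁻¹ * (a * (q * a⁻¹ * q⁻¹) * a) := by group
            _ = a⁻¹ * (a * (a * (q * a⁻¹ * q⁻¹))) := by rw [h1]
            _ = a * (q * a⁻¹ * q⁻¹) := by group
        rw [e]
        exact inv_mem (ha' q hq) }
  have hWK : W4 (S : Subgroup G) ≤ K := by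
    refine NoFF.Lines.W_le fun P hP c hcc => ?_
    intro x hx
    have hx' : c⁻¹ * x * c ∈ zl (S : Subgroup G) P := by
      have : x ∈ MulAut.conj c • zl (S : Subgroup G) P := hx
      rwa [mem_conj] at this
    have hPab : ∀ e ∈ zl (S : Subgroup G) P, e ∈ CZ (S : Subgroup G) := by
      intro e he
      exact (le_centralizer_zc (S : Subgroup G)) (IsParS.zl_le_S hc hP.1 he)
    have hxC : x ∈ CZ (S : Subgroup G) := by
      have h1 := mul_mem (mul_mem hcc (hPab _ hx')) (inv_mem hcc)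
      have e : c * (c⁻¹ * x * c) * c⁻¹ = x := by group
      rwa [e] at h1
    refine ⟨hxC, fun q hq => ?_⟩
    have hq' : c⁻¹ * q * c ∈ o2 (CZ (S : Subgroup G)) := by
      have := (mem_normalizer_iff.1 (le_normalizer_o2 _ (inv_mem hcc)) q).1 hq
      rwa [inv_inv] at this
    have hqS : c⁻¹ * q * c ∈ (S : Subgroup G) := by
      have hS : (S : Subgroup G) ≠ ⊥ := by
        intro h0
        have h2 : Fact (Nat.Prime 2) := ⟨Nat.prime_two⟩
        have h1 := S.not_dvd_index
        rw [h0, index_bot] at h1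
        exact h1 hc.1.two_dvd
      exact (isLoc_centralizer_zc S hS).o2_le S hq'
    set q' := c⁻¹ * q * c with hq'd
    set x' := c⁻¹ * x * c with hx'd
    -- the commutator in `V_P`
    have hn := (mem_normalizer_iff.1 (le_normalizer_zl (S : Subgroup G) P (hP.1.le hqS)) x').1 hx'
    have hqz : q' * z * q'⁻¹ = z := by
      have h1 := (mem_zc.1 hz).2.1 q' hqS
      rw [h1, mul_inv_cancel_right]
    have h3 : q' * x' * q'⁻¹ * x'⁻¹ ∈ zc (S : Subgroup G) := by
      apply hz'
      by_cases h1 : x' = 1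
      · left; rw [h1]; group
      by_cases h4 : x' = z
      · left; rw [h4, hqz, mul_inv_cancel]
      have hE : Nat.card (zl (S : Subgroup G) P) = 4 := hP.2
      have hsq : ∀ e ∈ zl (S : Subgroup G) P, e * e = 1 := fun e he => by
        rw [← pow_two]; exact (FFThm.elem_zl hc S hP.1.isLoc).2 e he
      rcases eq_or_of_card hz1 (zc_le_zl _ _ hz) hE hsq hx' h1 h4 hn with h5 | h5 | h5 | h5
      · exact absurd (conj_eq_one_iff.1 h5) h1
      · exfalso
        apply h4
        have h6 : q' * x' * q'⁻¹ = q' * z * q'⁻¹ := h5.trans hqz.symm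
        exact mul_left_cancel (mul_right_cancel h6)
      · left; rw [h5, mul_inv_cancel]
      · right; rw [h5, mul_inv_cancel_right]
    have e : q * x * q⁻¹ * x⁻¹ = c * (q' * x' * q'⁻¹ * x'⁻¹) * c⁻¹ := by
      rw [hq'd, hx'd]; group
    rw [e]
    have h5 := (mem_centralizer_iff.1 hcc) _ h3
    rw [← h5, mul_inv_cancel_right]
    exact h3
  exact (hWK hw).2 q hq

/-- **CONSEQUENCE**: `V_P ≰ U_H`, `[V_P, Q] ≠ 1`: `U_H` centralises the lines of order 4 on the points of `V_P`, and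
lies in their `Q`. -/
theorem collinear (h : Ctx G) (hF : Full (S : Subgroup G)) (D : Data (S : Subgroup G))
    (hA : ¬ CaseA (S : Subgroup G)) (h2 : Nat.card (zc (S : Subgroup G)) = 2) {H K : Subgroup G}
    (hH : IsLong (S : Subgroup G) H) (hK : IsLong (S : Subgroup G) K)
    (hne : ¬ zl (S : Subgroup G) H ≤ centralizer (zl (S : Subgroup G) K : Set G)) {P : Subgroup G}
    (hP : IsParS (S : Subgroup G) P) (hPK : P ≤ K) (h4 : Nat.card (zl (S : Subgroup G) P) = 4)
    (hn : ¬ zl (S : Subgroup G) P ≤ zl (S : Subgroup G) H)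
    (hQ : ¬ o2 (CZ (S : Subgroup G)) ≤ centralizer (zl (S : Subgroup G) P : Set G)) {p : G} (hp : p ∈ P) :
    zl (S : Subgroup G) H ≤ centralizer ((MulAut.conj p • W4 (S : Subgroup G) : Subgroup G) : Set G) ∧
      zl (S : Subgroup G) H ≤ MulAut.conj p • o2 (CZ (S : Subgroup G)) := by
  obtain ⟨t, ht, ht'⟩ : ∃ t ∈ o2 (CZ (S : Subgroup G)), t ∉ centralizer (zl (S : Subgroup G) P : Set G) := by
    by_contra hcon
    push Not at hcon
    exact hQ hcon
  exact swap h hF D hA h2 hH hK hne hP hPK h4 hn (W4_le _) (zl_le_W4 hP h4) (CZ_le_normalizer_W4 _)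
    (Cfsg.Agent.MinSimple.VModule.o2_le _ ht) (fun w hw => W4_comm h.char2 h2 ht hw) ht' hp

end Cfsg.Agent.Omega.NOThreeL.SwapTrick
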