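import Cfsg.Agent.Omega.NOThreeL.EndFive
import Cfsg.Agent.Omega.NO3b.BasePt.MoveTop
import Cfsg.Agent.Omega.NO3b.Exit.Bridge
import Cfsg.Agent.Omega.NO3b.Exit.LocBar
import Cfsg.Agent.Omega.NO3b.Exit.DescAnn

/-!
# END5 (#23013) over the blocks

`H` with `N_G(B) ≤ H ≤ N_G(V)`, `W = MU hc` (`V` additively), `𝒴` a family of blocks (helper957's `Fam`) invariant
under the image of `M = N_G(B)`, `RG` the preimage of `RR 𝒴` in `M`.

* `dat` : `EndFive.Dat S B RG V`;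
* `key` : if `S` is transitive on `𝒴`, `P ≤ M`, `P ≰ N_G(Z₁)`, `P = (P ∩ RG)S`, then `RG ≤ ⟨P, C_G(Z)⟩`;
* `false_of` : **END5**: `HypG S M₀`, `Data S` (NO-3L), `M₀ ≤ M`, `C_G(Z) ≤ N_G(Z₁)`: contradiction.
-/

set_option autoImplicit false

namespace Cfsg.Agent.Omega.NOThreeL.EndFiveKey

open Subgroup Cfsg
open Cfsg.Agent.ZN (o2 zc zl)
open Cfsg.Agent.ZN.ChoiceBase hiding mem_zc
open Cfsg.Agent.ZN.ChoiceSit (syl_not_dvd)
open Cfsg.Agent.MinSimple.EmptyTI (syl_of_le)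
open Cfsg.Agent.Omega.MinPar Cfsg.Agent.Omega.Frame Cfsg.Agent.Omega.FrameNOFF
open Cfsg.Agent.Omega.Node.NO3L
open Cfsg.Agent.Omega.NO3b.Wc (WC)
open Cfsg.Agent.Omega.NOThreeL.Merge (HypG)
open Cfsg.Agent.Omega.NOThreeL.EndFive (Zo Dat zc_le_Zo)
open Cfsg.Agent.MinSimple.VModule (zc_le_zl le_normalizer_zl zl_le zc_le mem_zc le_centralizer_zc)
open Cfsg.Agent.Omega.FF.Basic (fx)
open Cfsg.Agent.Omega.FFBr (XX pr im mem_im pr_eq_one pr_surjective)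
open Cfsg.Agent.Omega.NO3b.Exit.Bridge (MU val mk val_mk val_mem val_inj val_smul pr_smul_eq_iff')
open Cfsg.Agent.Omega.NO3b.Exit.TBlk (Sn)
open Cfsg.Agent.Omega.NO3b.BasePt (Fam RR)
open Cfsg.Agent.Omega.NO3b.BasePt.MoveTop (sm')
open Cfsg.Agent.Omega.NO3b

universe u

variable {G : Type u} [Group G] {H V : Subgroup G}

/-- the preimage of `RR 𝒴` in `M = N_G(B)` -/
def RG (h : H ≤ normalizer (V : Set G)) (B : Subgroup G) (𝒴 : Set (Subgroup (XX h))) : Subgroup G where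
  carrier := {g | g ∈ normalizer (B : Set G) ∧ ∃ hg : g ∈ H, pr h ⟨g, hg⟩ ∈ RR 𝒴}
  one_mem' := ⟨one_mem _, one_mem _, by
    have e : pr h ⟨1, one_mem _⟩ = 1 := map_one (pr h)
    rw [e]; exact one_mem _⟩
  mul_mem' := by
    rintro a b ⟨h1, h2, h3⟩ ⟨k1, k2, k3⟩
    refine ⟨mul_mem h1 k1, mul_mem h2 k2, ?_⟩
    have e : pr h ⟨a * b, mul_mem h2 k2⟩ = pr h ⟨a, h2⟩ * pr h ⟨b, k2⟩ := map_mul (pr h) ⟨a, h2⟩ ⟨b, k2⟩
    rw [e]; exact mul_mem h3 k3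
  inv_mem' := by
    rintro a ⟨h1, h2, h3⟩
    refine ⟨inv_mem h1, inv_mem h2, ?_⟩
    have e : pr h ⟨a⁻¹, inv_mem h2⟩ = (pr h ⟨a, h2⟩)⁻¹ := map_inv (pr h) ⟨a, h2⟩
    rw [e]; exact inv_mem h3

variable {h : H ≤ normalizer (V : Set G)} {B : Subgroup G} {𝒴 : Set (Subgroup (XX h))}

theorem mem_RG {g : G} : g ∈ RG h B 𝒴 ↔ g ∈ normalizer (B : Set G) ∧ ∃ hg : g ∈ H, pr h ⟨g, hg⟩ ∈ RR 𝒴 := Iff.rfl

variable {hc : V ≤ centralizer (V : Set G)}

/-- `Y` normalises `Y'` -/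
theorem conj_mem (Fa : Fam (MU hc) (im h (normalizer (B : Set G))) 𝒴) {Y Y' : Subgroup (XX h)} (hY : Y ∈ 𝒴)
    (hY' : Y' ∈ 𝒴) {y y' : XX h} (hy : y ∈ Y) (hy' : y' ∈ Y') : y * y' * y⁻¹ ∈ Y' := by
  by_cases e : Y = Y'
  · subst e
    exact mul_mem (mul_mem hy hy') (inv_mem hy)
  · have h1 : y * y' = y' * y := by
      have h2 : ∀ w : MU hc, (y * y') • w = (y' * y) • w := by
        intro w
        rw [mul_smul, mul_smul]
        have h3 : y • (y' • w - w) = y' • w - w :=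
          Fa.triv Y hY Y' hY' e y hy _ (BasePt.MoveTop.br_mem hy' w)
        have h4 : y' • (y • w - w) = y • w - w :=
          Fa.triv Y' hY' Y hY (fun e' => e e'.symm) y' hy' _ (BasePt.MoveTop.br_mem hy w)
        rw [smul_sub] at h3 h4
        have h5 : y • y' • w = (y • y' • w - y • w) + y • w := by abel
        have h6 : y' • y • w = (y' • y • w - y' • w) + y' • w := by abel
        rw [h5, h3, h6, h4]
        abel
      have h3 := Fa.faith ((y' * y)⁻¹ * (y * y')) fun w => by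
        rw [mul_smul, h2, inv_smul_smul]
      exact (inv_mul_eq_one.1 h3).symm
    rw [h1, mul_inv_cancel_right]
    exact hy'

theorem sn (Fa : Fam (MU hc) (im h (normalizer (B : Set G))) 𝒴) {Y : Subgroup (XX h)} (hY : Y ∈ 𝒴) :
    Sn Y (im h (normalizer (B : Set G))) := by
  have hY2 : ∀ r ∈ RR 𝒴, ∀ y ∈ Y, r * y * r⁻¹ ∈ Y := by
    let N : Subgroup (XX h) :=
      { carrier := {r | (∀ y ∈ Y, r * y * r⁻¹ ∈ Y) ∧ ∀ y ∈ Y, r⁻¹ * y * r ∈ Y}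
        one_mem' := ⟨fun y hy => by simpa using hy, fun y hy => by simpa using hy⟩
        mul_mem' := by
          rintro a b ⟨h1, h2⟩ ⟨k1, k2⟩
          refine ⟨fun y hy => ?_, fun y hy => ?_⟩
          · have e : a * b * y * (a * b)⁻¹ = a * (b * y * b⁻¹) * a⁻¹ := by group
            rw [e]; exact h1 _ (k1 y hy)
          · have e : (a * b)⁻¹ * y * (a * b) = b⁻¹ * (a⁻¹ * y * a) * b := by group
            rw [e]; exact k2 _ (h2 y hy)
        inv_mem' := by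
          rintro a ⟨h1, h2⟩
          refine ⟨fun y hy => ?_, fun y hy => ?_⟩
          · rw [inv_inv]; exact h2 y hy
          · rw [inv_inv]; exact h1 y hy }
    have hN : RR 𝒴 ≤ N := by
      refine sSup_le fun Y' hY' y' hy' => ⟨fun y hy => conj_mem Fa hY' hY hy' hy, fun y hy => ?_⟩
      have h1 := conj_mem Fa hY' hY (inv_mem hy') hy
      rwa [inv_inv] at h1
    exact fun r hr => (hN hr).1
  refine Sn.step (Sn.step Sn.refl (le_sSup hY) fun k hk n hn => hY2 k hk n hn) (sSup_le Fa.le) ?_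
  intro m hm r hr
  have h1 : RR 𝒴 ≤ (RR 𝒴).comap (MulAut.conj m).toMonoidHom := by
    refine sSup_le fun Y' hY' y' hy' => ?_
    have h2 := Fa.conj Y' hY' m hm
    exact (le_sSup h2 : _ ≤ RR 𝒴) ⟨y', hy', rfl⟩
  exact h1 hr

variable [Finite G] {S : Sylow 2 G}

theorem odd (wc : WC (S : Subgroup G) B) (hBH : normalizer (B : Set G) ≤ H)
    (Fa : Fam (MU hc) (im h (normalizer (B : Set G))) 𝒴) {Y : Subgroup (XX h)} (hY : Y ∈ 𝒴) :
    ¬ 2 ∣ (im h (S : Subgroup G)).relIndex Y := by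
  refine Exit.DescAnn.sn_odd (sn Fa hY) ?_
  have hSN : (S : Subgroup G) ≤ normalizer (B : Set G) := Exit.wc_S_le wc
  have h1 : ¬ 2 ∣ (S : Subgroup G).relIndex (normalizer (B : Set G)) := syl_not_dvd (syl_of_le hSN)
  have h2 : ((S : Subgroup G).subgroupOf H).relIndex ((normalizer (B : Set G)).subgroupOf H) =
      (S : Subgroup G).relIndex (normalizer (B : Set G)) := relIndex_subgroupOf hBH
  set A : Subgroup H := (S : Subgroup G).subgroupOf H with hA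
  set N : Subgroup H := (normalizer (B : Set G)).subgroupOf H with hN
  have h3 : ((A.map (pr h)).relIndex (N.map (pr h))) ∣ A.relIndex N := by
    have h4 : ((A.subgroupOf N).map ((pr h).subgroupMap N)).index ∣ (A.subgroupOf N).index :=
      index_map_dvd _ ((pr h).subgroupMap_surjective N)
    refine dvd_trans (index_dvd_of_le ?_) h4
    rintro _ ⟨a, ha, rfl⟩
    exact ⟨(a : H), ha, rfl⟩
  intro h5
  apply h1
  rw [← h2]
  exact h5.trans h3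

omit [Finite G] in
/-- `Dat` -/
theorem dat (wc : WC (S : Subgroup G) B) (hBH : normalizer (B : Set G) ≤ H)
    (hVN : normalizer (B : Set G) ≤ normalizer (V : Set G)) (ZV : zc (S : Subgroup G) ≤ V)
    (sq : ∀ v ∈ V, v ^ 2 = 1) (BV : B ≤ centralizer (V : Set G)) (hc : V ≤ centralizer (V : Set G))
    (Fa : Fam (MU hc) (im h (normalizer (B : Set G))) 𝒴) : Dat (S : Subgroup G) B (RG h B 𝒴) V where
  wc := wc
  BR := fun b hb => by
    have hbN : b ∈ normalizer (B : Set G) := Subgroup.le_normalizer hb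
    refine ⟨hbN, hBH hbN, ?_⟩
    rw [(pr_eq_one h).2 (BV hb)]
    exact one_mem _
  RM := fun _ hg => hg.1
  NR := by
    have key : ∀ n ∈ normalizer (B : Set G), ∀ g ∈ RG h B 𝒴, n * g * n⁻¹ ∈ RG h B 𝒴 := by
      rintro n hn g ⟨h1, h2, h3⟩
      refine ⟨mul_mem (mul_mem hn h1) (inv_mem hn), mul_mem (mul_mem (hBH hn) h2) (inv_mem (hBH hn)), ?_⟩
      have h4 : RR 𝒴 ≤ (RR 𝒴).comap (MulAut.conj (pr h ⟨n, hBH hn⟩)).toMonoidHom := by
        refine sSup_le fun Y' hY' y' hy' => ?_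
        have h5 := Fa.conj Y' hY' (pr h ⟨n, hBH hn⟩) ⟨⟨n, hBH hn⟩, hn, rfl⟩
        exact (le_sSup h5 : _ ≤ RR 𝒴) ⟨y', hy', rfl⟩
      have e : pr h ⟨n * g * n⁻¹, mul_mem (mul_mem (hBH hn) h2) (inv_mem (hBH hn))⟩ =
          pr h ⟨n, hBH hn⟩ * pr h ⟨g, h2⟩ * (pr h ⟨n, hBH hn⟩)⁻¹ := by
        rw [← map_inv, ← map_mul, ← map_mul]; rfl
      rw [e]
      exact h4 h3
    intro n hn
    rw [mem_normalizer_iff]
    refine fun g => ⟨fun hg => key n hn g hg, fun hg => ?_⟩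
    have h1 := key n⁻¹ (inv_mem hn) _ hg
    have e : n⁻¹ * (n * g * n⁻¹) * n⁻¹⁻¹ = g := by group
    rwa [e] at h1
  NV := hVN
  ZV := ZV
  ab := hc
  sq := sq
  BV := BV

theorem mem_fx_iff (wc : WC (S : Subgroup G) B) (w : MU hc) :
    w ∈ fx (MU hc) (im h (S : Subgroup G) ⊓ RR 𝒴) ↔ val w ∈ Zo (S : Subgroup G) (RG h B 𝒴) V := by
  constructor
  · intro hw
    refine ⟨val_mem w, mem_centralizer_iff.2 ?_⟩
    rintro s ⟨hs, hs1, hs2, hs3⟩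
    have h1 := hw _ ⟨⟨⟨s, hs2⟩, hs, rfl⟩, hs3⟩
    exact (pr_smul_eq_iff' h).1 h1
  · rintro hw t ⟨⟨a, ha, rfl⟩, ht⟩
    refine (pr_smul_eq_iff' h).2 ?_
    exact mem_centralizer_iff.1 hw.2 _ ⟨ha, Exit.wc_S_le wc ha, a.2, ht⟩

/-- **(2) of END5.** -/
theorem key (wc : WC (S : Subgroup G) B) (hBH : normalizer (B : Set G) ≤ H)
    (hVN : normalizer (B : Set G) ≤ normalizer (V : Set G)) (ZV : zc (S : Subgroup G) ≤ V)
    (sq : ∀ v ∈ V, v ^ 2 = 1) (BV : B ≤ centralizer (V : Set G))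
    (Fa : Fam (MU hc) (im h (normalizer (B : Set G))) 𝒴)
    (gas : ∀ w : MU hc, ∃ a ∈ sm' (MU hc) 𝒴, ∃ c : MU hc, (∀ r ∈ RR 𝒴, r • c = c) ∧ w = a + c)
    (tr : ∀ Y ∈ 𝒴, ∀ Y' ∈ 𝒴, ∃ t ∈ im h (S : Subgroup G), Y.map (MulAut.conj t).toMonoidHom = Y')
    {P : Subgroup G} (hSP : (S : Subgroup G) ≤ P)
    (hPZ : ¬ P ≤ normalizer (Zo (S : Subgroup G) (RG h B 𝒴) V : Set G))
    (hPe : (P ⊓ RG h B 𝒴) ⊔ (S : Subgroup G) = P) : RG h B 𝒴 ≤ P ⊔ CZ (S : Subgroup G) := by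
  have d := dat wc hBH hVN ZV sq BV hc Fa
  have hZ := zc_le_Zo (S := (S : Subgroup G)) (RR := RG h B 𝒴) ZV
  -- an element of `P ∩ RG` moving `Z₁`
  have hex : ∃ p ∈ P ⊓ RG h B 𝒴, p ∉ normalizer (Zo (S : Subgroup G) (RG h B 𝒴) V : Set G) := by
    by_contra hcon
    push Not at hcon
    apply hPZ
    rw [← hPe]
    exact sup_le hcon d.S_Zo
  obtain ⟨p, ⟨hpP, hpN, hpH, hpR⟩, hp⟩ := hex
  have hex2 : ∃ z ∈ Zo (S : Subgroup G) (RG h B 𝒴) V, p * z * p⁻¹ ∉ Zo (S : Subgroup G) (RG h B 𝒴) V := by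
    by_contra hcon
    push Not at hcon
    apply hp
    rw [mem_normalizer_iff_cj]
    refine eq_of_le_of_card_ge ?_ (card_cj _ _).ge
    rintro _ ⟨z, hz, rfl⟩
    exact hcon z hz
  obtain ⟨z, hz, hpz⟩ := hex2
  have hle : RR 𝒴 ≤ im h (P ⊔ CZ (S : Subgroup G)) := by
    refine BasePt.MoveTop.le_of_move Fa gas (T := im h (S : Subgroup G)) (x := pr h ⟨p, hpH⟩) (z := mk hc hz.1)
      (Exit.LocBar.isPGroup_im h S.isPGroup') (fun Y hY => odd wc hBH Fa hY) ?_ tr ?_ ?_ hpR ?_ ?_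
    · rintro _ ⟨a, ha, rfl⟩
      exact ⟨a, (hSP.trans le_sup_left) ha, rfl⟩
    · intro r hr hrz
      obtain ⟨a, rfl⟩ := pr_surjective h r
      refine ⟨a, ?_, rfl⟩
      refine (le_sup_right : CZ (S : Subgroup G) ≤ _) (mem_centralizer_iff.2 fun x hx => ?_)
      have h1 := hrz (mk hc (ZV hx)) ((mem_fx_iff wc _).2 (hZ hx))
      exact ((pr_smul_eq_iff' h).1 h1).symm
    · exact ⟨⟨p, hpH⟩, (le_sup_left : P ≤ _) hpP, rfl⟩
    · exact (mem_fx_iff wc _).2 hz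
    · intro h1
      exact hpz ((mem_fx_iff wc _).1 h1)
  rintro g ⟨hg1, hg2, hg3⟩
  obtain ⟨a, ha, hag⟩ := hle hg3
  have h1 : pr h (a⁻¹ * ⟨g, hg2⟩) = 1 := by
    rw [map_mul, map_inv, hag, inv_mul_cancel]
  have h2 : ((a⁻¹ * ⟨g, hg2⟩ : H) : G) ∈ centralizer (V : Set G) := (pr_eq_one h).1 h1
  have h3 : ((a : G)⁻¹ * g) ∈ P ⊔ CZ (S : Subgroup G) :=
    (le_sup_right : CZ (S : Subgroup G) ≤ _) (centralizer_le ZV h2)
  have h4 := mul_mem (show (a : G) ∈ P ⊔ CZ (S : Subgroup G) from ha) h3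
  rwa [mul_inv_cancel_left] at h4

/-- **END5 over the blocks.** -/
theorem false_of (hne : (S : Subgroup G) ≠ ⊥) {M₀ : Subgroup G} (hG : HypG S M₀) (D : Data (S : Subgroup G))
    (hM : M₀ ≤ normalizer (B : Set G)) (wc : WC (S : Subgroup G) B) (hBH : normalizer (B : Set G) ≤ H)
    (hVN : normalizer (B : Set G) ≤ normalizer (V : Set G)) (ZV : zc (S : Subgroup G) ≤ V)
    (sq : ∀ v ∈ V, v ^ 2 = 1) (BV : B ≤ centralizer (V : Set G))
    (Fa : Fam (MU hc) (im h (normalizer (B : Set G))) 𝒴)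
    (gas : ∀ w : MU hc, ∃ a ∈ sm' (MU hc) 𝒴, ∃ c : MU hc, (∀ r ∈ RR 𝒴, r • c = c) ∧ w = a + c)
    (tr : ∀ Y ∈ 𝒴, ∀ Y' ∈ 𝒴, ∃ t ∈ im h (S : Subgroup G), Y.map (MulAut.conj t).toMonoidHom = Y')
    (hC : CZ (S : Subgroup G) ≤ normalizer (Zo (S : Subgroup G) (RG h B 𝒴) V : Set G)) : False :=
  (dat wc hBH hVN ZV sq BV hc Fa).false_of_hypG hne hG D hM hC fun _ hP _ hPZ hPe =>
    key wc hBH hVN ZV sq BV Fa gas tr hP.le hPZ hPe

end Cfsg.Agent.Omega.NOThreeL.EndFiveKey
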