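import Cfsg.Agent.Omega.NOThreeL.Merge

/-!
# The common socket `NotFFG` = one member of `P*(S)` (NO-3S) + several members (NO-3L)

`NO3S.NotFF K` asks that no nonlocal `P` has `V_P` FF; `Node.NO3SLevel.InL.jc` (NO-3S) uses the common socket
`Merge.NotFFG K` for ONE `P` with `V_P` not FF, the other members may be FF.

* `NotFFP K` : `HypG S P`, `P ∈ P*(S)` (one minimal parabolic): what NO-3S needs;
* `NotFFM K` : `HypG S M` when no `P ∈ P*(S)` has `HypG S P`: the rest, for NO-3L (several `P`);
* `notFFG_of_single` : `NotFFP K → NotFFM K → NotFFG K`; `NotFFG.p`, `NotFFG.m` : the converses.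

Author: helper111.
-/

set_option autoImplicit false

namespace Cfsg.Agent.Omega.NOThreeL.Merge

open Subgroup Cfsg
open Cfsg.Agent.Omega.MinPar Cfsg.Agent.Omega.Frame Cfsg.Agent.Omega.FrameNOFF

universe u

variable (K : Cls.{u})

/-- **One member of `P*(S)` with `V_P` not FF.** -/
def NotFFP : Prop :=
  ∀ (G : Type u) [Group G] [Finite G], K G → ∀ (S : Sylow 2 G) (P : Subgroup G), HypG S P →
    IsParS (S : Subgroup G) P → IsKnownSimple' G

/-- **The rest for NO-3L**: no single member of `P*(S)` has `HypG S P`. -/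
def NotFFM : Prop :=
  ∀ (G : Type u) [Group G] [Finite G], K G → ∀ (S : Sylow 2 G) (M : Subgroup G), HypG S M →
    (∀ P : Subgroup G, IsParS (S : Subgroup G) P → ¬ HypG S P) → IsKnownSimple' G

variable {K}

/-- **The common socket** = one member + the rest. -/
theorem notFFG_of_single (h1 : NotFFP K) (h2 : NotFFM K) : NotFFG K := by
  intro G _ _ hK S M hyp
  by_cases h : ∃ P : Subgroup G, IsParS (S : Subgroup G) P ∧ HypG S P
  · obtain ⟨P, hP, hyp'⟩ := h
    exact h1 G hK S P hyp' hP
  · push Not at h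
    exact h2 G hK S M hyp h

theorem NotFFG.p (h : NotFFG K) : NotFFP K := fun G _ _ hK S P hyp _ => h G hK S P hyp

theorem NotFFG.m (h : NotFFG K) : NotFFM K := fun G _ _ hK S M hyp _ => h G hK S M hyp

end Cfsg.Agent.Omega.NOThreeL.Merge
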