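import Cfsg.Agent.Omega.Node.NO3L

/-!
# `DataLow`: the part `noff`, `low` of `Data S`

Case (A) of NO-3L uses only the fields `noff` and `low` of `Data S`; both hold in NO-3S (`HypC.noFF`, `HypC.low`), so
the (A)-theorems hold there too.  `Data S` is coerced to `DataLow S`.
-/

set_option autoImplicit false

namespace Cfsg.Agent.Omega.Node.NO3L

open Subgroup Cfsg Cfsg.Agent.ZN Cfsg.Agent.Omega.MinPar Cfsg.Agent.Omega.Frame Cfsg.Agent.Omega.FrameNOFF


universe u

/-- No mutual pair of lines; the lines of `S` lie in `O₂(C_G(Z))`. -/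
structure DataLow {G : Type u} [Group G] (S : Subgroup G) : Prop where
  noff : ¬ FF S
  low : ∀ P : Subgroup G, IsParS S P → zl S P ≤ o2 (CZ S)

theorem Data.toLow {G : Type u} [Group G] {S : Subgroup G} (D : Data S) : DataLow S := ⟨D.noff, D.low⟩

instance {G : Type u} [Group G] {S : Subgroup G} : Coe (Data S) (DataLow S) := ⟨Data.toLow⟩

end Cfsg.Agent.Omega.Node.NO3L
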