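import Cfsg.Agent.Omega.NOThreeL.Main

/-!
# NO-3L, leaf A3: `V_P` of type `S_{2^m+1}^k`

`M : SymK S P V ⊥ k m`.

* `exists_perm`, `odd_pow` : a `2^m`-cycle of the nonzero points, odd powers;
* `const` : `Z = Ω₁(Z(S))` is constant on the nonzero points of every component;
* `false_of` : a transposition induced by an abelian group normalised by `C_P(Z)` is impossible;
* `a3` : the leaf A3.
-/

set_option autoImplicit false

namespace Cfsg.Agent.Omega.NOThreeL.AThree

open Subgroup Cfsg Cfsg.Agent.ZN Cfsg.Agent.Omega.MinPar Cfsg.Agent.Omega.Frame Cfsg.Agent.Omega.FrameNOFF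
open Cfsg.Agent.ZN.ChoiceBase Cfsg.Agent.ZN.ChoiceSit
open Cfsg.Agent.Omega.Node.NO3L Cfsg.Agent.Omega.NOThreeL.Basic
open Cfsg.Agent.Omega.FFThm (Off SymK ActsSym)
open Cfsg.Agent.MinSimple.VModule (le_normalizer_zl)

universe u

/-! ### Permutations -/

theorem exists_perm {n : ℕ} (hn : 0 < n) : ∃ π : Equiv.Perm (Fin (n + 1)),
    π 0 = 0 ∧ π ^ n = 1 ∧ ∀ x y, x ≠ 0 → y ≠ 0 → ∃ j : ℕ, (π ^ j) x = y := by
  obtain ⟨N, rfl⟩ : ∃ N, n = N + 1 := ⟨n - 1, by omega⟩
  let π : Equiv.Perm (Fin (N + 1 + 1)) := Equiv.Perm.decomposeFin.symm (0, finRotate (N + 1))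
  have h0 : π 0 = 0 := Equiv.Perm.decomposeFin_symm_apply_zero 0 _
  have h1 : ∀ x : Fin (N + 1), π x.succ = (x + 1).succ := by
    intro x
    have := Equiv.Perm.decomposeFin_symm_apply_succ (finRotate (N + 1)) 0 x
    rw [Equiv.swap_self, Equiv.refl_apply, finRotate_apply] at this
    exact this
  have h3 : ∀ j : ℕ, Fin.ofNat (N + 1) (j + 1) = Fin.ofNat (N + 1) j + 1 := by
    intro j
    ext
    simp [Fin.ofNat, Fin.val_add, Nat.add_mod]
  have h2 : ∀ (j : ℕ) (x : Fin (N + 1)), (π ^ j) x.succ = (x + Fin.ofNat (N + 1) j).succ := by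
    intro j
    induction j with
    | zero => intro x; simp
    | succ j ih =>
      intro x
      rw [pow_succ', Equiv.Perm.mul_apply, ih, h1, h3]
      exact congrArg Fin.succ (add_assoc x _ 1)
  refine ⟨π, h0, ?_, ?_⟩
  · ext x : 1
    induction x using Fin.cases with
    | zero =>
      have : ∀ j : ℕ, (π ^ j) 0 = 0 := by
        intro j
        induction j with
        | zero => rfl
        | succ j ih => rw [pow_succ', Equiv.Perm.mul_apply, ih, h0]
      rw [this]; rfl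
    | succ x =>
      rw [h2]
      have : Fin.ofNat (N + 1) (N + 1) = 0 := by ext; simp [Fin.ofNat]
      rw [this, add_zero]; rfl
  · intro x y hx hy
    obtain ⟨x, rfl⟩ := Fin.exists_succ_eq.2 hx
    obtain ⟨y, rfl⟩ := Fin.exists_succ_eq.2 hy
    refine ⟨(y - x : Fin (N + 1)).val, ?_⟩
    have h4 : Fin.ofNat (N + 1) (y - x : Fin (N + 1)).val = y - x := by
      ext
      simp [Fin.ofNat, Nat.mod_eq_of_lt (y - x).2]
    rw [h2, h4]
    congr 1
    abel

/-- A function invariant under an odd power of a 2-element is invariant. -/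
theorem odd_pow {α β : Type*} {π : Equiv.Perm α} {a r : ℕ} (ha : π ^ 2 ^ a = 1) (hr : Odd r) {f : α → β}
    (hf : ∀ x, f ((π ^ r) x) = f x) (x : α) : f (π x) = f x := by
  have h1 : r.Coprime (orderOf π) :=
    (Nat.Coprime.pow_right a (Nat.coprime_two_right.2 hr)).coprime_dvd_right (orderOf_dvd_of_pow_eq_one ha)
  obtain ⟨s, hs⟩ := exists_pow_eq_self_of_coprime h1
  have h2 : ∀ (s : ℕ) (x : α), f (((π ^ r) ^ s) x) = f x := by
    intro s
    induction s with
    | zero => intro x; rfl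
    | succ s ih => intro x; rw [pow_succ', Equiv.Perm.mul_apply, hf, ih]
  have h3 := h2 s x
  rwa [hs] at h3

theorem ai {α : Type*} (f : Equiv.Perm α) (x : α) : f (f⁻¹ x) = x := f.apply_symm_apply x

theorem ia {α : Type*} (f : Equiv.Perm α) (x : α) : f⁻¹ (f x) = x := f.symm_apply_apply x

variable {G : Type u} [Group G]

/-! ### Actions -/

theorem acts_mul {k n : ℕ} {e : G → Fin k → Fin n → ZMod 2} {V : Subgroup G} {g h : G}
    {τ τ' : Fin k → Equiv.Perm (Fin n)} (hh : h ∈ normalizer (V : Set G)) (h1 : ActsSym e V g 1 τ)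
    (h2 : ActsSym e V h 1 τ') : ActsSym e V (g * h) 1 (τ * τ') := by
  intro v hv i x
  have e1 : g * h * v * (g * h)⁻¹ = g * (h * v * h⁻¹) * g⁻¹ := by group
  rw [e1, ← h2 v hv i x]
  exact h1 _ ((mem_normalizer_iff.1 hh v).1 hv) i (τ' i x)

theorem acts_inv {k n : ℕ} {e : G → Fin k → Fin n → ZMod 2} {V : Subgroup G} {g : G}
    {τ : Fin k → Equiv.Perm (Fin n)} (hg : g ∈ normalizer (V : Set G)) (h1 : ActsSym e V g 1 τ) :
    ActsSym e V g⁻¹ 1 τ⁻¹ := by
  intro v hv i x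
  have h2 : g⁻¹ * v * g⁻¹⁻¹ ∈ V := (mem_normalizer_iff.1 (inv_mem hg) v).1 hv
  have h3 := h1 _ h2 i (τ⁻¹ i x)
  have e1 : g * (g⁻¹ * v * g⁻¹⁻¹) * g⁻¹ = v := by group
  rw [e1] at h3
  have e2 : τ i (τ⁻¹ i x) = x := ai (τ i) x
  rw [e2] at h3
  exact h3.symm

theorem acts_pow {k n : ℕ} {e : G → Fin k → Fin n → ZMod 2} {V : Subgroup G} {g : G}
    {τ : Fin k → Equiv.Perm (Fin n)} (hg : g ∈ normalizer (V : Set G)) (h : ActsSym e V g 1 τ) (r : ℕ) :
    ActsSym e V (g ^ r) 1 (τ ^ r) := by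
  induction r with
  | zero =>
    intro v _ i x
    have e1 : g ^ 0 * v * (g ^ 0)⁻¹ = v := by simp
    rw [e1]; rfl
  | succ r ih =>
    rw [pow_succ' g, pow_succ' τ]
    exact acts_mul (pow_mem hg r) h ih

theorem e_one {T P V : Subgroup G} {k m : ℕ} (M : SymK T P V ⊥ k m) : M.e 1 = 0 :=
  (M.ker 1 V.one_mem).2 (one_mem _)

theorem e_inj {T P V : Subgroup G} {k m : ℕ} (M : SymK T P V ⊥ k m) {v w : G} (hv : v ∈ V) (hw : w ∈ V)
    (he : M.e v = M.e w) : v = w := by
  have h1 : M.e (v * w⁻¹) = 0 := by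
    have h2 := M.mul (v * w⁻¹) (mul_mem hv (inv_mem hw)) w hw
    rw [inv_mul_cancel_right, he] at h2
    exact right_eq_add.mp h2
  have h4 := (M.ker _ (mul_mem hv (inv_mem hw))).1 h1
  rw [mem_bot, mul_inv_eq_one] at h4
  exact h4

theorem exists_ne {m : ℕ} (hm : 2 ≤ m) (x y : Fin (2 ^ m + 1)) : ∃ w, w ≠ 0 ∧ w ≠ x ∧ w ≠ y := by
  have h1 : ({0, x, y} : Finset (Fin (2 ^ m + 1))).card < Fintype.card (Fin (2 ^ m + 1)) := by
    have h2 : ({0, x, y} : Finset (Fin (2 ^ m + 1))).card ≤ 3 := Finset.card_le_three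
    have h3 : 2 ^ 2 ≤ 2 ^ m := Nat.pow_le_pow_right (by norm_num) hm
    rw [Fintype.card_fin]
    omega
  obtain ⟨w, hw⟩ := Finset.exists_mem_notMem_of_card_lt_card (s := {0, x, y}) (t := Finset.univ) (by
    rwa [Finset.card_univ])
  have h2 := hw.2
  simp only [Finset.mem_insert, Finset.mem_singleton, not_or] at h2
  exact ⟨w, h2⟩

section fin

variable [Finite G]

/-- **`Z` is constant on the nonzero points.** -/
theorem const (S : Sylow 2 G) {P V : Subgroup G} {k m : ℕ} (hm : 1 ≤ m) (hSP : (S : Subgroup G) ≤ P)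
    (hPV : P ≤ normalizer (V : Set G)) (M : SymK (S : Subgroup G) P V ⊥ k m) {z : G} (hzV : z ∈ V)
    (hz : ∀ s ∈ (S : Subgroup G), s * z = z * s) (i : Fin k) {x y : Fin (2 ^ m + 1)} (hx : x ≠ 0)
    (hy : y ≠ 0) : M.e z i x = M.e z i y := by
  classical
  have hN : ∀ {g : G}, g ∈ P → ∀ v ∈ V, g * v * g⁻¹ ∈ V := fun hg v hv =>
    (mem_normalizer_iff.1 (hPV hg) v).1 hv
  have h2m : 0 < 2 ^ m := by positivity
  obtain ⟨π, hπ0, hπn, hπ⟩ := exists_perm h2m
  obtain ⟨g, hg, hact, -⟩ := M.lift (Function.update 1 i π)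
  -- the 2-part
  obtain ⟨a, r, hr, ho⟩ := Nat.exists_eq_two_pow_mul_odd (n := orderOf g) (orderOf_pos g).ne'
  have hp : IsPGroup 2 (zpowers (g ^ r)) := by
    rintro ⟨u, hu⟩
    obtain ⟨j, rfl⟩ := mem_zpowers_iff.1 hu
    refine ⟨a, Subtype.ext ?_⟩
    have h1 : (g ^ r) ^ 2 ^ a = 1 := by
      rw [← pow_mul, mul_comm, ← ho, pow_orderOf_eq_one]
    change ((g ^ r) ^ j) ^ 2 ^ a = 1
    rw [← zpow_natCast, ← zpow_mul, mul_comm, zpow_mul, zpow_natCast, h1, one_zpow]
  obtain ⟨n, hn, hnS⟩ := FFThm.exists_conj_le S hSP hp (zpowers_le.2 (pow_mem hg r))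
  have hS : n * g ^ r * n⁻¹ ∈ (S : Subgroup G) := hnS (by
    rw [mem_cj]
    have : n⁻¹ * (n * g ^ r * n⁻¹) * n = g ^ r := by group
    rw [this]
    exact mem_zpowers _)
  have hgr := acts_pow (hPV hg) hact r
  obtain ⟨σ, τ, hστ⟩ := M.perm n hn
  -- the action of `n g^r n⁻¹`
  have hconj : ActsSym M.e V (n * g ^ r * n⁻¹) 1
      (fun l => τ (σ⁻¹ l) * ((Function.update 1 i π : Fin k → Equiv.Perm (Fin (2 ^ m + 1))) ^ r) (σ⁻¹ l) *
        (τ (σ⁻¹ l))⁻¹) := by
    intro v hv l u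
    obtain ⟨j, rfl⟩ := σ.surjective l
    obtain ⟨u, rfl⟩ := (τ j).surjective u
    have hw : n⁻¹ * v * n ∈ V := by
      have := (mem_normalizer_iff.1 (inv_mem (hPV hn)) v).1 hv
      rwa [inv_inv] at this
    have e1 : n * g ^ r * n⁻¹ * v * (n * g ^ r * n⁻¹)⁻¹ = n * (g ^ r * (n⁻¹ * v * n) * (g ^ r)⁻¹) * n⁻¹ := by
      group
    have e2 : n * (n⁻¹ * v * n) * n⁻¹ = v := by group
    have h3 := hστ _ (hN (pow_mem hg r) _ hw) j
      (((Function.update 1 i π : Fin k → Equiv.Perm (Fin (2 ^ m + 1))) ^ r) j u)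
    have h4 := hgr _ hw j u
    have h5 := hστ _ hw j u
    rw [e2] at h5
    rw [e1]
    simp only [Equiv.Perm.one_apply, ia, Equiv.Perm.mul_apply] at h3 h4 h5 ⊢
    rw [h3, h4, h5]
  have hfix := M.fix0 _ hS _ _ hconj (σ i)
  simp only [ia, Equiv.Perm.mul_apply, Pi.pow_apply, Function.update_self] at hfix
  -- `τ i` fixes `0`
  have hπr : (π ^ r) ((τ i)⁻¹ 0) = (τ i)⁻¹ 0 := by
    have := congrArg (⇑(τ i)⁻¹) hfix
    rwa [ia] at this
  have hτ0 : (τ i)⁻¹ 0 = 0 := by
    by_contra hne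
    have h1 : π ((τ i)⁻¹ 0) = (τ i)⁻¹ 0 := by
      have := odd_pow hπn hr (f := fun x => x = (τ i)⁻¹ 0) (fun x => by
        apply propext
        constructor
        · intro h
          rw [← hπr] at h
          exact (π ^ r).injective h
        · rintro rfl
          exact hπr) ((τ i)⁻¹ 0)
      simpa using this
    have h2 : ∀ j : ℕ, (π ^ j) ((τ i)⁻¹ 0) = (τ i)⁻¹ 0 := by
      intro j
      induction j with
      | zero => rfl
      | succ j ih => rw [pow_succ', Equiv.Perm.mul_apply, ih, h1]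
    have h3 : ∀ y : Fin (2 ^ m + 1), y ≠ 0 → y = (τ i)⁻¹ 0 := by
      intro y hy
      obtain ⟨j, hj⟩ := hπ _ y hne hy
      rw [← hj, h2]
    have h4 : 2 ^ 1 ≤ 2 ^ m := Nat.pow_le_pow_right (by norm_num) hm
    have h5 : (⟨1, by omega⟩ : Fin (2 ^ m + 1)) = ⟨2, by omega⟩ := by
      rw [h3 ⟨1, by omega⟩ (by simp [Fin.ext_iff]), ← h3 ⟨2, by omega⟩ (by simp [Fin.ext_iff])]
    simp [Fin.ext_iff] at h5
  -- `w = n⁻¹ z n`
  have hw : n⁻¹ * z * n ∈ V := by
    have := (mem_normalizer_iff.1 (inv_mem (hPV hn)) z).1 hzV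
    rwa [inv_inv] at this
  have hwfix : g ^ r * (n⁻¹ * z * n) * (g ^ r)⁻¹ = n⁻¹ * z * n := by
    have h1 := hz _ hS
    have e1 : g ^ r * (n⁻¹ * z * n) * (g ^ r)⁻¹ =
        n⁻¹ * ((n * g ^ r * n⁻¹) * z) * (n * g ^ r * n⁻¹)⁻¹ * n := by group
    rw [e1, h1]
    group
  have hwc : ∀ x y : Fin (2 ^ m + 1), x ≠ 0 → y ≠ 0 →
      M.e (n⁻¹ * z * n) i x = M.e (n⁻¹ * z * n) i y := by
    have h1 : ∀ x, M.e (n⁻¹ * z * n) i ((π ^ r) x) = M.e (n⁻¹ * z * n) i x := by
      intro x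
      have h2 := hgr _ hw i x
      rw [hwfix] at h2
      simpa using h2
    have h2 : ∀ x, M.e (n⁻¹ * z * n) i (π x) = M.e (n⁻¹ * z * n) i x := odd_pow hπn hr h1
    intro x y hx hy
    obtain ⟨j, rfl⟩ := hπ x y hx hy
    clear hy
    induction j with
    | zero => rfl
    | succ j ih => rw [pow_succ', Equiv.Perm.mul_apply, h2, ih]
  have hzc : ∀ x y : Fin (2 ^ m + 1), x ≠ 0 → y ≠ 0 → M.e z (σ i) x = M.e z (σ i) y := by
    have h1 : ∀ x, M.e z (σ i) (τ i x) = M.e (n⁻¹ * z * n) i x := by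
      intro x
      have h2 := hστ _ hw i x
      have e2 : n * (n⁻¹ * z * n) * n⁻¹ = z := by group
      rwa [e2] at h2
    have h0 : τ i 0 = 0 := by
      have := congrArg (τ i) hτ0
      rw [ai] at this
      exact this.symm
    intro x y hx hy
    obtain ⟨x, rfl⟩ := (τ i).surjective x
    obtain ⟨y, rfl⟩ := (τ i).surjective y
    rw [h1, h1]
    exact hwc x y (fun h => hx (by rw [h, h0])) fun h => hy (by rw [h, h0])
  obtain ⟨t, ht, σ', τ', hact', hσ'⟩ := M.trans i (σ i)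
  have h1 : ∀ x, M.e z (σ i) (τ' i x) = M.e z i x := by
    intro x
    have h2 := hact' z hzV i x
    have e2 : t * z * t⁻¹ = z := by rw [hz t ht]; group
    rwa [e2, hσ'] at h2
  have h0 : τ' i 0 = 0 := M.fix0 t ht σ' τ' hact' i
  rw [← h1, ← h1]
  exact hzc _ _ (fun h => hx ((τ' i).injective (h.trans h0.symm))) fun h =>
    hy ((τ' i).injective (h.trans h0.symm))

/-- **No transposition is induced by an abelian group normalised by `C_P(Z)`.** -/
theorem false_of (S : Sylow 2 G) {P V Z A : Subgroup G} {k m : ℕ} (hm : 2 ≤ m)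
    (hSP : (S : Subgroup G) ≤ P) (hPV : P ≤ normalizer (V : Set G)) (M : SymK (S : Subgroup G) P V ⊥ k m)
    (hZV : Z ≤ V) (hZ : ∀ s ∈ (S : Subgroup G), ∀ z ∈ Z, s * z = z * s) (hAS : A ≤ (S : Subgroup G))
    (hA : ∀ a ∈ A, ∀ b ∈ A, a * b = b * a) (hn : ∀ g ∈ P, (∀ z ∈ Z, g * z = z * g) → g ∈ normalizer (A : Set G))
    {i : Fin k} {x y : Fin (2 ^ m + 1)} (hxy : x ≠ y) {b : G} (hb : b ∈ A)
    (hact : ActsSym M.e V b 1 (Function.update 1 i (Equiv.swap x y))) : False := by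
  classical
  have hN : ∀ {g : G}, g ∈ P → ∀ v ∈ V, g * v * g⁻¹ ∈ V := fun hg v hv =>
    (mem_normalizer_iff.1 (hPV hg) v).1 hv
  have hf := M.fix0 b (hAS hb) _ _ hact i
  rw [Function.update_self] at hf
  have hx : x ≠ 0 := by
    rintro rfl
    rw [Equiv.swap_apply_left] at hf
    exact hxy hf.symm
  have hy : y ≠ 0 := by
    rintro rfl
    rw [Equiv.swap_apply_right] at hf
    exact hxy hf
  obtain ⟨w, hw0, hwx, hwy⟩ := exists_ne hm x y
  obtain ⟨g, hg, hgact, -⟩ := M.lift (Function.update 1 i (Equiv.swap y w))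
  -- `g` centralises `Z`
  have hgZ : ∀ z ∈ Z, g * z = z * g := by
    intro z hz
    have hzV := hZV hz
    have hc := fun (j : Fin k) {x y : Fin (2 ^ m + 1)} => const S (by omega) hSP hPV M hzV
      (fun s hs => hZ s hs z hz) j (x := x) (y := y)
    have h1 : g * z * g⁻¹ = z := by
      refine e_inj M (hN hg z hzV) hzV ?_
      funext j u
      by_cases hj : j = i
      · subst hj
        have h2 := hgact z hzV j (Equiv.swap y w u)
        rw [Function.update_self, Equiv.swap_apply_self] at h2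
        simp only [Equiv.Perm.one_apply] at h2
        rw [h2]
        by_cases h3 : u = y
        · rw [h3, Equiv.swap_apply_left]
          exact hc j hw0 hy
        · by_cases h4 : u = w
          · rw [h4, Equiv.swap_apply_right]
            exact hc j hy hw0
          · rw [Equiv.swap_apply_of_ne_of_ne h3 h4]
      · have h2 := hgact z hzV j u
        rw [Function.update_of_ne hj] at h2
        simpa using h2
    calc g * z = g * z * g⁻¹ * g := by group
      _ = z * g := by rw [h1]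
  have hb' : g * b * g⁻¹ ∈ A := (mem_normalizer_iff.1 (hn g hg hgZ) b).1 hb
  have hbP : b ∈ P := hSP (hAS hb)
  have hact' := acts_mul (inv_mem (hPV hg)) (acts_mul (hPV hbP) hgact hact) (acts_inv (hPV hg) hgact)
  set b' := g * b * g⁻¹ with hbdef
  have hb'P : b' ∈ P := mul_mem (mul_mem hg hbP) (inv_mem hg)
  have hτ : ∀ u, (((Function.update 1 i (Equiv.swap y w) : Fin k → Equiv.Perm (Fin (2 ^ m + 1))) *
      (Function.update 1 i (Equiv.swap x y) : Fin k → Equiv.Perm (Fin (2 ^ m + 1))) *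
      (Function.update 1 i (Equiv.swap y w) : Fin k → Equiv.Perm (Fin (2 ^ m + 1)))⁻¹) i) u =
      Equiv.swap y w (Equiv.swap x y (Equiv.swap y w u)) := by
    intro u
    simp [Pi.mul_apply, Pi.inv_apply, Equiv.Perm.mul_apply]
  -- a vector
  obtain ⟨v, hv, hve⟩ := M.surj (Function.update 0 i (fun u => if u = x ∨ u = 0 then 1 else 0)) (by
    intro j
    by_cases hj : j = i
    · subst hj
      rw [Function.update_self]
      have h1 : ∀ u : Fin (2 ^ m + 1), (if u = x ∨ u = 0 then (1 : ZMod 2) else 0) =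
          (if u = x then 1 else 0) + if u = 0 then 1 else 0 := by
        intro u
        by_cases h2 : u = x
        · have : u ≠ 0 := h2 ▸ hx
          simp [h2, hx]
        · simp [h2]
      rw [Finset.sum_congr rfl fun u _ => h1 u, Finset.sum_add_distrib]
      simp only [Finset.sum_ite_eq', Finset.mem_univ, if_true]
      exact CharTwo.add_self_eq_zero _
    · rw [Function.update_of_ne hj]
      simp)
  have hvi : ∀ u, M.e v i u = if u = x ∨ u = 0 then 1 else 0 := fun u => by rw [hve, Function.update_self]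
  -- `b`
  have kb : ∀ v ∈ V, ∀ u, M.e (b * v * b⁻¹) i (Equiv.swap x y u) = M.e v i u := by
    intro v hv u
    have := hact v hv i u
    rwa [Function.update_self] at this
  have kb' : ∀ v ∈ V, ∀ u, M.e (b' * v * b'⁻¹) i (Equiv.swap y w (Equiv.swap x y (Equiv.swap y w u))) =
      M.e v i u := by
    intro v hv u
    have := hact' v hv i u
    rwa [hτ] at this
  have e1 : M.e (b' * (b * v * b⁻¹) * b'⁻¹) i y = 1 := by
    have h1 := kb' _ (hN hbP v hv) y
    rw [Equiv.swap_apply_left, Equiv.swap_apply_of_ne_of_ne hwx hwy, Equiv.swap_apply_right] at h1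
    rw [h1]
    have h2 := kb v hv x
    rw [Equiv.swap_apply_left] at h2
    rw [h2, hvi]
    simp
  have e2 : M.e (b * (b' * v * b'⁻¹) * b⁻¹) i y = 0 := by
    have h1 := kb _ (hN hb'P v hv) x
    rw [Equiv.swap_apply_left] at h1
    rw [h1]
    have h2 := kb' v hv w
    rw [Equiv.swap_apply_right, Equiv.swap_apply_right, Equiv.swap_apply_of_ne_of_ne hxy hwx.symm] at h2
    rw [h2, hvi]
    simp [hwx, hw0]
  have e3 : b' * (b * v * b⁻¹) * b'⁻¹ = b * (b' * v * b'⁻¹) * b⁻¹ := by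
    have h1 := hA b' hb' b hb
    calc b' * (b * v * b⁻¹) * b'⁻¹ = (b' * b) * v * (b' * b)⁻¹ := by group
      _ = (b * b') * v * (b * b')⁻¹ := by rw [h1]
      _ = b * (b' * v * b'⁻¹) * b⁻¹ := by group
  rw [e3, e2] at e1
  exact zero_ne_one e1

end fin

/-- **The leaf A3.** -/
theorem a3 (K : Cls.{u}) : Main.A3 K := by
  intro G _ _ hG _ S hF D P H hE k m _ hm M
  exfalso
  have hcv : FrameFF.cv (S : Subgroup G) P = ⊥ := D.cv_eq hG.char2 hE.par
  rw [hcv] at M
  have hAS : zl (S : Subgroup G) H ≤ (S : Subgroup G) := IsLong.zl_le_S hG.char2 hE.long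
  have hPV : P ≤ normalizer (zl (S : Subgroup G) P : Set G) := le_normalizer_zl _ _
  obtain ⟨-, h1⟩ := M.off _ hAS hE.off
  have h2 := hE.off.ne
  rw [SetLike.not_le_iff_exists] at h2
  obtain ⟨a, ha, hac⟩ := h2
  obtain ⟨τ, hact, hτ⟩ := h1 a ha
  have h3 : ∃ i x, τ i x ≠ x := by
    by_contra hcon
    push Not at hcon
    apply hac
    rw [mem_centralizer_iff]
    intro v hv
    have hav : a * v * a⁻¹ ∈ zl (S : Subgroup G) P :=
      (mem_normalizer_iff.1 (hPV (hE.par.le (hAS ha))) v).1 hv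
    have h4 : a * v * a⁻¹ = v := by
      refine e_inj M hav hv ?_
      funext i x
      have h5 := hact v hv i x
      rw [hcon] at h5
      exact h5
    calc v * a = a * v * a⁻¹ * a := by rw [h4]
      _ = a * v := by group
  obtain ⟨i, x, hx⟩ := h3
  obtain ⟨-, b, hb, hbact⟩ := hτ i x hx
  refine false_of S hm hE.par.le hPV M (MinSimple.VModule.zc_le_zl _ _)
    (fun s hs z hz => (MinSimple.VModule.mem_zc.1 hz).2.1 s hs) hAS
    (fun a ha b hb => ?_) (fun g hg hgz => ?_) hx.symm hb hbact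
  · exact congrArg Subtype.val (hE.off.elem.1.is_comm.comm ⟨a, ha⟩ ⟨b, hb⟩)
  · refine le_normalizer_zl _ _ (hE.long.cz ?_)
    rw [mem_centralizer_iff]
    intro z hz
    exact (hgz z hz).symm

end Cfsg.Agent.Omega.NOThreeL.AThree
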