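import Cfsg.Agent.Omega.NOThreeL.Basic
import Cfsg.Agent.Omega.NOThreeL.AdjTransv

/-!
# NO-3L, piece B1, `|Z| = 2`: the plug of THEOREM TV (helper905)

`S` a Sylow 2-subgroup, `Z = zc S` of order 2, `H`, `K` long.

* `exists_par` : a long `K` with `U_K ≠ Z` contains some `P ∈ P*(S)`;
* `adj` : the abstract pair `Adj z U_H U_K H K S`;
* `false_of_index` : not (A), `[U_H, U_K] ≠ 1` and `|U_H : C_{U_H}(U_K)| = 2` is impossible;
* `false_of_index'` : the same with the index of the centraliser.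
-/

set_option autoImplicit false

namespace Cfsg.Agent.Omega.NOThreeL.AdjTransv

open Subgroup Cfsg Cfsg.Agent.ZN Cfsg.Agent.Omega.MinPar Cfsg.Agent.Omega.Frame Cfsg.Agent.Omega.FrameNOFF
open Cfsg.Agent.Omega.Node.NO3L Cfsg.Agent.Omega.NOThreeL.Basic
open Cfsg.Agent.MinSimple.VModule (zl_le le_normalizer_zl zc_le_zl zc_le mem_zc normalizer_le_normalizer_zc
  le_centralizer_zc)

universe u

variable {G : Type u} [Group G] [Finite G] {S : Sylow 2 G}

omit [Finite G] in
/-- a group of order 2 is `{1, z}` -/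
theorem exists_z (h2 : Nat.card (zc (S : Subgroup G)) = 2) :
    ∃ z ∈ zc (S : Subgroup G), z ≠ 1 ∧ ∀ x ∈ zc (S : Subgroup G), x = 1 ∨ x = z := by
  obtain ⟨y, hy, hu⟩ := (Nat.card_eq_two_iff' (1 : zc (S : Subgroup G))).mp h2
  refine ⟨y, y.2, fun h => hy (Subtype.ext h), fun x hx => ?_⟩
  by_cases h1 : x = 1
  · exact Or.inl h1
  · exact Or.inr (congrArg Subtype.val (hu ⟨x, hx⟩ fun h => h1 (congrArg Subtype.val h)))

omit [Finite G] in
/-- `N_G(Z) ≤ C_G(Z)` -/
theorem norm_le_cent (h2 : Nat.card (zc (S : Subgroup G)) = 2) :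
    normalizer (zc (S : Subgroup G) : Set G) ≤ CZ (S : Subgroup G) := by
  obtain ⟨z, hz, hz1, hu⟩ := exists_z h2
  intro g hg
  rw [mem_centralizer_iff]
  intro x hx
  rcases hu x hx with rfl | rfl
  · rw [one_mul, mul_one]
  · rcases hu _ ((mem_normalizer_iff.1 hg x).1 hx) with h | h
    · exact absurd (conj_eq_one_iff.1 h) hz1
    · exact (mul_inv_eq_iff_eq_mul.1 h).symm

/-- A long group `K` with `K ≰ C_G(Z)` contains some `P ∈ P*(S)`. -/
theorem exists_par (h2 : Nat.card (zc (S : Subgroup G)) = 2) {K : Subgroup G}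
    (hK : IsLong (S : Subgroup G) K) (hne : ¬ K ≤ CZ (S : Subgroup G)) :
    ∃ P, IsParS (S : Subgroup G) P ∧ P ≤ K := by
  by_contra hcon
  push Not at hcon
  apply hne
  refine hK.loc.le_of_forall S ?_ fun P hP hPK => par_le_CZ S hP fun h => hcon P h hPK
  exact inf_le_right.trans ((normalizer_le_normalizer_zc _).trans (norm_le_cent h2))

/-- The abstract pair. -/
theorem adj (hc : IsCharacteristicTwoType G) {H K : Subgroup G} (hH : IsLong (S : Subgroup G) H)
    (hK : IsLong (S : Subgroup G) K) {z : G} (hz : z ∈ zc (S : Subgroup G)) (hz1 : z ≠ 1)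
    (hu : ∀ x ∈ zc (S : Subgroup G), x = 1 ∨ x = z) :
    Adj z (zl (S : Subgroup G) H) (zl (S : Subgroup G) K) H K (S : Subgroup G) := by
  have hcz : ∀ g, g * z = z * g → g ∈ CZ (S : Subgroup G) := by
    intro g hg
    rw [mem_centralizer_iff]
    intro x hx
    rcases hu x hx with rfl | rfl
    · rw [one_mul, mul_one]
    · exact hg.symm
  have hn : ∀ {L : Subgroup G}, ∀ h ∈ L, ∀ u ∈ zl (S : Subgroup G) L, h * u * h⁻¹ ∈ zl (S : Subgroup G) L :=
    fun {L} h hh u hu => (mem_normalizer_iff.1 (le_normalizer_zl (S : Subgroup G) L hh) u).1 hu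
  have hgen : ∀ {L : Subgroup G}, IsLong (S : Subgroup G) L →
      zl (S : Subgroup G) L ≤ Subgroup.closure {x | ∃ h ∈ L, x = h * z * h⁻¹} := by
    intro L hL
    refine zl_le ?_ ?_
    · intro x hx
      rcases hu x hx with rfl | rfl
      · exact one_mem _
      · exact subset_closure ⟨1, L.one_mem, by simp⟩
    · have key : ∀ l ∈ L, ∀ x ∈ Subgroup.closure {x | ∃ h ∈ L, x = h * z * h⁻¹},
          l * x * l⁻¹ ∈ Subgroup.closure {x | ∃ h ∈ L, x = h * z * h⁻¹} := by
        intro l hl x hx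
        have h1 : Subgroup.closure {x | ∃ h ∈ L, x = h * z * h⁻¹} ≤
            (Subgroup.closure {x | ∃ h ∈ L, x = h * z * h⁻¹}).comap (MulAut.conj l).toMonoidHom := by
          refine (closure_le _).2 ?_
          rintro y ⟨h, hh, rfl⟩
          change l * (h * z * h⁻¹) * l⁻¹ ∈ Subgroup.closure _
          exact subset_closure ⟨l * h, L.mul_mem hl hh, by group⟩
        exact h1 hx
      intro l hl
      rw [mem_normalizer_iff]
      intro x
      refine ⟨key l hl x, fun h => ?_⟩
      have := key l⁻¹ (L.inv_mem hl) _ h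
      simpa [mul_assoc] using this
  have hsq : ∀ {L : Subgroup G}, IsLong (S : Subgroup G) L → ∀ u ∈ zl (S : Subgroup G) L, u * u = 1 :=
    fun hL u hu => by rw [← pow_two]; exact (FFThm.elem_zl hc S hL.loc).2 u hu
  have hfix : ∀ {L : Subgroup G}, IsLong (S : Subgroup G) L → ∀ u ∈ zl (S : Subgroup G) L,
      (∀ s ∈ (S : Subgroup G), s * u * s⁻¹ = u) → u = 1 ∨ u = z := by
    intro L hL u huL h
    refine hu u (mem_zc.2 ⟨IsLong.zl_le_S hc hL huL, fun b hb => mul_inv_eq_iff_eq_mul.1 (h b hb), ?_⟩)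
    exact (FFThm.elem_zl hc S hL.loc).2 u huL
  exact
    { z1 := hz1
      zU := zc_le_zl _ _ hz
      zW := zc_le_zl _ _ hz
      sqU := hsq hH
      sqW := hsq hK
      nU := hn
      nW := hn
      cH := fun g hg => hH.cz (hcz g hg)
      cK := fun g hg => hK.cz (hcz g hg)
      genU := hgen hH
      genW := hgen hK
      pS := S.isPGroup'
      cS := fun s hs => ((mem_zc.1 hz).2.1 s hs)
      fixU := hfix hH
      fixW := hfix hK }

/-- **THEOREM TV, plugged**: not (A), `|Z| = 2`, `[U_H, U_K] ≠ 1`, `|U_H : C_{U_H}(U_K)| = 2` is impossible. -/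
theorem false_of_index (hc : IsCharacteristicTwoType G) (hA : ¬ CaseA (S : Subgroup G))
    (h2 : Nat.card (zc (S : Subgroup G)) = 2) {H K : Subgroup G} (hH : IsLong (S : Subgroup G) H)
    (hK : IsLong (S : Subgroup G) K)
    (hne : ¬ zl (S : Subgroup G) H ≤ centralizer (zl (S : Subgroup G) K : Set G))
    (hidx : ∀ u ∈ zl (S : Subgroup G) H, ∀ v ∈ zl (S : Subgroup G) H,
      u ∉ centralizer (zl (S : Subgroup G) K : Set G) → v ∉ centralizer (zl (S : Subgroup G) K : Set G) →
      u * v ∈ centralizer (zl (S : Subgroup G) K : Set G)) : False := by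
  obtain ⟨z, hz, hz1, hu⟩ := exists_z h2
  have hadj := adj hc hH hK hz hz1 hu
  have t : Tv z (zl (S : Subgroup G) H) (zl (S : Subgroup G) K) H K (S : Subgroup G) :=
    { hadj with
      ne := by
        by_contra hcon
        push Not at hcon
        exact hne hcon
      idx := hidx }
  have hKC : ¬ K ≤ CZ (S : Subgroup G) := by
    intro h
    apply hne
    have h1 : zl (S : Subgroup G) K ≤ zc (S : Subgroup G) :=
      zl_le le_rfl (h.trans (centralizer_le_normalizer _))
    refine le_trans ?_ (centralizer_le h1)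
    exact (IsLong.zl_le_S hc hH).trans (le_centralizer_zc _)
  obtain ⟨P, hP, hPK⟩ := exists_par h2 hK hKC
  refine t.false_of (P := P) hP.le hPK (fun p hp => ?_) ?_
  · have h1 : zl (S : Subgroup G) P ≤ centralizer (zl (S : Subgroup G) H : Set G) := by
      by_contra h
      exact hA ⟨P, H, hP, hH, h⟩
    exact h1 ((mem_normalizer_iff.1 (le_normalizer_zl (S : Subgroup G) P hp) z).1 (zc_le_zl _ _ hz))
  · by_contra hcon
    push Not at hcon
    refine hP.not_zc (le_trans (fun p hp => ?_) (centralizer_le_normalizer _))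
    rw [mem_centralizer_iff]
    intro x hx
    rcases hu x hx with rfl | rfl
    · rw [one_mul, mul_one]
    · exact (hcon p hp).symm

/-- The same with the index. -/
theorem false_of_index' (hc : IsCharacteristicTwoType G) (hA : ¬ CaseA (S : Subgroup G))
    (h2 : Nat.card (zc (S : Subgroup G)) = 2) {H K : Subgroup G} (hH : IsLong (S : Subgroup G) H)
    (hK : IsLong (S : Subgroup G) K)
    (hidx : (centralizer (zl (S : Subgroup G) K : Set G)).relIndex (zl (S : Subgroup G) H) = 2) : False := by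
  have h3 : ((centralizer (zl (S : Subgroup G) K : Set G)).subgroupOf (zl (S : Subgroup G) H)).index = 2 := hidx
  refine false_of_index hc hA h2 hH hK (fun h => ?_) fun u hu v hv h4 h5 => ?_
  · rw [relIndex_eq_one.2 h] at hidx
    omega
  · have h6 := (mul_mem_iff_of_index_two h3 (a := ⟨u, hu⟩) (b := ⟨v, hv⟩))
    rw [mem_subgroupOf, mem_subgroupOf, mem_subgroupOf] at h6
    exact h6.2 (iff_of_false h4 h5)

end Cfsg.Agent.Omega.NOThreeL.AdjTransv
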