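import Cfsg.Agent.Omega.NOThreeL.Plug
import Cfsg.Agent.Omega.FrameNOFF

/-!
# NO-3L, the adjacent case in the frame (#12384 (2), (3), (4))

`S` a Sylow 2-subgroup, `Z = Ω₁(Z(S))`, `C = C_G(Z)`, `H ∈ L(S)` with `C ≤ H`, `U_H = zl S H`.

* `W S H = ⟨V_P^c : P ∈ P*(S), P ≤ H, c ∈ C⟩ ≤ U_H`;
* `comm_W` : in NOFF, `[U_H, U_K] ≤ Z` implies `[W_H, W_K] = 1`;
* `irr_false` : if moreover `C` acts irreducibly on `U_H / Z` and on `U_K / Z` then `[U_H, U_K] = 1`;
* `adjacent` : `|Z| = 2`, `⟨H, K⟩` nonlocal, `H` (resp. `K`) transitive on `U_H^#` (resp. `U_K^#`):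
  `[U_H, U_K] ≠ 1`;
* `sp_false_frame` : (4) in the frame.
-/

set_option autoImplicit false

namespace Cfsg.Agent.Omega.NOThreeL

open Subgroup MulAction Pointwise Cfsg Cfsg.Agent.ZN Cfsg.Agent.MinSimple
open Cfsg.Agent.Omega.NoFF.Basic (conj_conj mem_conj conj_le_iff conj_le_centralizer comm_symm
  comm_mono)
open Cfsg.Agent.Omega.MinPar (IsPar IsParS IsLoc NonLoc)
open Cfsg.Agent.Omega.FrameNOFF (CZ)
open Cfsg.Agent.MinSimple.VModule (le_o2 mem_zc zc_le zc_le_zl zl_le_zc zl_comm zl_sq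
  le_normalizer_zl zl_le inf_centralizer_zl o2_le_centralizer_zl normalizer_le_normalizer_zc)
open scoped commutatorElement

universe u v

variable {G : Type u} [Group G]

theorem le_normalizer_of_commutator {A B : Subgroup G} (h : ⁅A, B⁆ ≤ B) :
    A ≤ normalizer (B : Set G) := by
  refine le_normalizer_of fun u hu w hw => ?_
  have h1 : ⁅u, w⁆ * w ∈ B := mul_mem (h (commutator_mem_commutator hu hw)) hw
  have h2 : u * w * u⁻¹ = ⁅u, w⁆ * w := by
    rw [commutatorElement_def]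
    group
  rwa [h2]

/-- In the case NOFF, conjugates `V_P^a`, `V_{P'}^b` (`a, b ∈ N_G(Z)`) with `[V_P^a, V_{P'}^b] ≤ Z`
commute. -/
theorem comm_of_not_FF {S : Subgroup G} (hF : ¬ FF S) {P P' : Subgroup G} (hP : IsParS S P)
    (hP' : IsParS S P') {a b : G} (ha : a ∈ normalizer (zc S : Set G))
    (hb : b ∈ normalizer (zc S : Set G))
    (h : ⁅MulAut.conj a • zl S P, MulAut.conj b • zl S P'⁆ ≤ zc S) :
    ⁅MulAut.conj a • zl S P, MulAut.conj b • zl S P'⁆ = ⊥ := by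
  have h1 : ⁅zl S P, MulAut.conj (a⁻¹ * b) • zl S P'⁆ ≤ zc S := by
    have h2 := (conj_le_iff (g := a⁻¹)).2 h
    rw [conj_smul_commutator, conj_conj, conj_conj, inv_mul_cancel, map_one, one_smul,
      Pair.conj_eq_of_mem (inv_mem ha)] at h2
    exact h2
  have h3 : ⁅zl S P, MulAut.conj (a⁻¹ * b) • zl S P'⁆ = ⊥ := by
    by_contra h4
    refine hF ⟨P, P', a⁻¹ * b, hP, hP', ?_, ?_, h4⟩
    · refine le_normalizer_of_commutator (h1.trans ?_)
      rw [← Pair.conj_eq_of_mem (mul_mem (inv_mem ha) hb)]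
      exact conj_le_iff.2 (zc_le_zl _ _)
    · rw [commutator_comm] at h1
      exact le_normalizer_of_commutator (h1.trans (zc_le_zl _ _))
  have h5 : MulAut.conj a • ⁅zl S P, MulAut.conj (a⁻¹ * b) • zl S P'⁆ =
      ⁅MulAut.conj a • zl S P, MulAut.conj b • zl S P'⁆ := by
    rw [conj_smul_commutator, conj_conj, mul_inv_cancel_left]
  rw [← h5, h3, Subgroup.smul_bot]

/-- `W_H = ⟨V_P^c : P ∈ P*(S), P ≤ H, c ∈ C_G(Z)⟩`. -/
def W (S H : Subgroup G) : Subgroup G :=
  ⨆ (P : {P : Subgroup G // IsParS S P ∧ P ≤ H}) (c : CZ S), MulAut.conj (c : G) • zl S (P : Subgroup G)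

theorem le_W {S H P : Subgroup G} (hP : IsParS S P) (hPH : P ≤ H) {c : G} (hc : c ∈ CZ S) :
    MulAut.conj c • zl S P ≤ W S H :=
  (le_iSup (fun c : CZ S => MulAut.conj (c : G) • zl S P) ⟨c, hc⟩).trans
    (le_iSup (fun P : {P : Subgroup G // IsParS S P ∧ P ≤ H} =>
      ⨆ c : CZ S, MulAut.conj (c : G) • zl S (P : Subgroup G)) ⟨P, hP, hPH⟩)

theorem zl_le_W {S H P : Subgroup G} (hP : IsParS S P) (hPH : P ≤ H) : zl S P ≤ W S H := by
  have h := le_W hP hPH (one_mem (CZ S))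
  rwa [map_one, one_smul] at h

theorem W_le {S H A : Subgroup G}
    (h : ∀ P, IsParS S P → P ≤ H → ∀ c ∈ CZ S, MulAut.conj c • zl S P ≤ A) : W S H ≤ A :=
  iSup_le fun P => iSup_le fun c => h P P.2.1 P.2.2 c c.2

theorem zl_mono {S H K : Subgroup G} (h : H ≤ K) : zl S H ≤ zl S K :=
  zl_le (zc_le_zl S K) (h.trans (le_normalizer_zl S K))

theorem W_le_zl {S H : Subgroup G} (hC : CZ S ≤ H) : W S H ≤ zl S H :=
  W_le fun P _ hPH c hc => by
    have h1 : MulAut.conj c • zl S P ≤ MulAut.conj c • zl S H := conj_le_iff.2 (zl_mono hPH)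
    rwa [Pair.conj_eq_of_mem (le_normalizer_zl S H (hC hc))] at h1

theorem CZ_le_normalizer_W (S H : Subgroup G) : CZ S ≤ normalizer (W S H : Set G) := by
  refine le_normalizer_of fun u hu w hw => ?_
  have h1 : W S H ≤ MulAut.conj u⁻¹ • W S H := by
    refine W_le fun P hP hPH c hc => ?_
    have h2 := le_W hP hPH (mul_mem hu hc)
    have h3 := (conj_le_iff (g := u⁻¹)).2 h2
    rwa [conj_conj, inv_mul_cancel_left] at h3
  have h2 := h1 hw
  rw [mem_conj, inv_inv] at h2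
  exact h2

/-- In the case NOFF, `[U_H, U_K] ≤ Z` implies `[W_H, W_K] = 1`. -/
theorem comm_W {S H K : Subgroup G} (hF : ¬ FF S) (hCH : CZ S ≤ H) (hCK : CZ S ≤ K)
    (h : ⁅zl S H, zl S K⁆ ≤ zc S) : W S H ≤ centralizer (W S K : Set G) := by
  refine W_le fun P hP hPH a ha => ?_
  rw [Subgroup.le_centralizer_iff]
  refine W_le fun P' hP' hPK b hb => ?_
  rw [Subgroup.le_centralizer_iff, ← commutator_eq_bot_iff_le_centralizer]
  refine comm_of_not_FF hF hP hP' (centralizer_le_normalizer _ ha)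
    (centralizer_le_normalizer _ hb) (le_trans ?_ h)
  refine commutator_mono ?_ ?_
  · exact (le_W hP hPH ha).trans (W_le_zl hCH)
  · exact (le_W hP' hPK hb).trans (W_le_zl hCK)

variable [Finite G]

/-- `W_H > Z` for `H ∈ L(S)` not normalising `Z`. -/
theorem W_not_le (S : Sylow 2 G) {H : Subgroup G} (hH : IsLoc (S : Subgroup G) H)
    (hn : ¬ H ≤ normalizer (zc (S : Subgroup G) : Set G)) :
    zc (S : Subgroup G) ≤ W (S : Subgroup G) H ∧
      ¬ W (S : Subgroup G) H ≤ zc (S : Subgroup G) := by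
  obtain ⟨P, hP, hPH, hPn⟩ := hH.exists_not_le S
    (inf_le_right.trans (normalizer_le_normalizer_zc _)) hn
  have hPs : IsParS (S : Subgroup G) P := ⟨hP, hPn⟩
  refine ⟨(zc_le_zl _ _).trans (zl_le_W hPs hPH), fun h => hPn ?_⟩
  have h1 : zl (S : Subgroup G) P = zc (S : Subgroup G) :=
    le_antisymm ((zl_le_W hPs hPH).trans h) (zc_le_zl _ _)
  rw [← h1]
  exact le_normalizer_zl _ _

/-- `C_G(Z)` acts irreducibly on `U_H / Z`. -/
def Irr (S H : Subgroup G) : Prop :=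
  ∀ A : Subgroup G, zc S ≤ A → A ≤ zl S H → CZ S ≤ normalizer (A : Set G) →
    A = zc S ∨ A = zl S H

theorem W_eq (S : Sylow 2 G) {H : Subgroup G} (hH : IsLoc (S : Subgroup G) H)
    (hC : CZ (S : Subgroup G) ≤ H) (hn : ¬ H ≤ normalizer (zc (S : Subgroup G) : Set G))
    (hi : Irr (S : Subgroup G) H) : W (S : Subgroup G) H = zl (S : Subgroup G) H := by
  obtain ⟨h1, h2⟩ := W_not_le S hH hn
  rcases hi _ h1 (W_le_zl hC) (CZ_le_normalizer_W _ _) with h3 | h3
  · exact absurd h3.le h2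
  · exact h3

/-- NOFF, `[U_H, U_K] ≤ Z`, `C_G(Z)` irreducible on `U_H / Z` and `U_K / Z`: `[U_H, U_K] = 1`. -/
theorem irr_comm (S : Sylow 2 G) (hF : ¬ FF (S : Subgroup G)) {H K : Subgroup G}
    (hH : IsLoc (S : Subgroup G) H) (hK : IsLoc (S : Subgroup G) K)
    (hCH : CZ (S : Subgroup G) ≤ H) (hCK : CZ (S : Subgroup G) ≤ K)
    (hnH : ¬ H ≤ normalizer (zc (S : Subgroup G) : Set G))
    (hnK : ¬ K ≤ normalizer (zc (S : Subgroup G) : Set G))
    (hiH : Irr (S : Subgroup G) H) (hiK : Irr (S : Subgroup G) K)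
    (h : ⁅zl (S : Subgroup G) H, zl (S : Subgroup G) K⁆ ≤ zc (S : Subgroup G)) :
    ⁅zl (S : Subgroup G) H, zl (S : Subgroup G) K⁆ = ⊥ := by
  have h1 := comm_W hF hCH hCK h
  rw [W_eq S hH hCH hnH hiH, W_eq S hK hCK hnK hiK] at h1
  exact commutator_eq_bot_iff_le_centralizer.mpr h1

/-- `H` is transitive on `U_H^#` (`|Z| = 2`). -/
def Trans (S H : Subgroup G) : Prop :=
  ∀ v ∈ zl S H, v ≠ 1 → ∃ g ∈ normalizer (zl S H : Set G), v ∈ MulAut.conj g • zc S

section bool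

variable {S : Sylow 2 G} {H : Bool → Subgroup G}

/-- The geometry of two overgroups of `C_G(Z)`. -/
theorem geo_frame (hG : IsCharacteristicTwoType G) (hH : ∀ i, IsLoc (S : Subgroup G) (H i))
    (hC : ∀ i, CZ (S : Subgroup G) ≤ H i) :
    Geo (orb (CZ (S : Subgroup G)) (zc (S : Subgroup G)))
      (fun i => orb (CZ (S : Subgroup G)) (zl (S : Subgroup G) (H i))) :=
  geo le_rfl (centralizer_le_normalizer _) (fun _ => zc_le_zl _ _)
    (fun i => (Pair.zl_abel hG S (hH i)).1) (fun i => (hC i).trans (le_normalizer_zl _ _))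

/-- `|Z| = 2`, `H_i` transitive on `U_i^#`. -/
theorem twoData_frame (hG : IsCharacteristicTwoType G) (hH : ∀ i, IsLoc (S : Subgroup G) (H i))
    (hC : ∀ i, CZ (S : Subgroup G) ≤ H i) (hc : Nat.card (zc (S : Subgroup G)) = 2)
    (ht : ∀ i, Trans (S : Subgroup G) (H i)) :
    TwoData (orb (CZ (S : Subgroup G)) (zc (S : Subgroup G)))
      (fun i => orb (CZ (S : Subgroup G)) (zl (S : Subgroup G) (H i))) :=
  twoData le_rfl (centralizer_le_normalizer _) (fun _ => zc_le_zl _ _)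
    (fun i => (Pair.zl_abel hG S (hH i)).1) (fun i => (hC i).trans (le_normalizer_zl _ _)) hc ht

/-- **The adjacent case** (#12384 (1), (2)): `|Z| = 2`, `H_i` transitive on `U_i^#`, `⟨H_1, H_2⟩`
nonlocal: `[U_1, U_2] ≠ 1`. -/
theorem adjacent (hG : IsCharacteristicTwoType G) (hH : ∀ i, IsLoc (S : Subgroup G) (H i))
    (hC : ∀ i, CZ (S : Subgroup G) ≤ H i) (hc : Nat.card (zc (S : Subgroup G)) = 2)
    (ht : ∀ i, Trans (S : Subgroup G) (H i)) (core : o2 (⨆ i, H i) = ⊥) :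
    ⁅zl (S : Subgroup G) (H false), zl (S : Subgroup G) (H true)⁆ ≠ ⊥ := by
  obtain ⟨i, j, x, -, h1, h2, h3⟩ := Pair.exists_mutual_loc hG S hH hC core
  obtain ⟨hij, h4⟩ := not_comm (Z := zc (S : Subgroup G)) (C := CZ (S : Subgroup G))
    (U := fun i => zl (S : Subgroup G) (H i)) le_rfl (centralizer_le_normalizer _)
    (fun _ => zc_le_zl _ _) (fun i => (Pair.zl_abel hG S (hH i)).1)
    (fun i => (hC i).trans (le_normalizer_zl _ _)) hc ht h1 h2
    (fun h => h3 (commutator_eq_bot_iff_le_centralizer.mpr h))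
  intro h5
  rw [commutator_eq_bot_iff_le_centralizer] at h5
  rcases i with _ | _ <;> rcases j with _ | _
  · exact hij rfl
  · exact h4 h5
  · exact h4 (comm_symm h5)
  · exact hij rfl

/-- **(4) in the frame**: `|Z| = 2`, `H_i` transitive on `U_i^#`, `⟨H_1, H_2⟩` nonlocal,
`[U_1, U_2] ≤ Z`, `|U_2 : C_{U_2}(U_1)| ≤ 2`, `C_{U_1}(U_2) > Z` or `C_{U_2}(U_1) > Z`:
contradiction. -/
theorem sp_false_frame (hG : IsCharacteristicTwoType G) (hH : ∀ i, IsLoc (S : Subgroup G) (H i))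
    (hC : ∀ i, CZ (S : Subgroup G) ≤ H i) (hc : Nat.card (zc (S : Subgroup G)) = 2)
    (ht : ∀ i, Trans (S : Subgroup G) (H i)) (core : o2 (⨆ i, H i) = ⊥)
    (hcom : ⁅zl (S : Subgroup G) (H false), zl (S : Subgroup G) (H true)⁆ ≤ zc (S : Subgroup G))
    (hone : ∀ w ∈ zl (S : Subgroup G) (H true), ∀ w' ∈ zl (S : Subgroup G) (H true),
      w ∉ centralizer (zl (S : Subgroup G) (H false) : Set G) →
      w' ∉ centralizer (zl (S : Subgroup G) (H false) : Set G) →
      w⁻¹ * w' ∈ centralizer (zl (S : Subgroup G) (H false) : Set G))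
    (hbig : ¬ zl (S : Subgroup G) (H false) ⊓
        centralizer (zl (S : Subgroup G) (H true) : Set G) ≤ zc (S : Subgroup G) ∨
      ¬ zl (S : Subgroup G) (H true) ⊓
        centralizer (zl (S : Subgroup G) (H false) : Set G) ≤ zc (S : Subgroup G)) : False := by
  have h1 := adjacent hG hH hC hc ht core
  exact sp_false (Z := zc (S : Subgroup G)) (C := CZ (S : Subgroup G))
    (U := fun i => zl (S : Subgroup G) (H i)) le_rfl (centralizer_le_normalizer _)
    (fun _ => zc_le_zl _ _) (fun i => (Pair.zl_abel hG S (hH i)).1)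
    (fun i => (hC i).trans (le_normalizer_zl _ _)) hc ht hcom
    (fun h => h1 (commutator_eq_bot_iff_le_centralizer.mpr h)) hone hbig

/-- **(3), irreducible case, in the frame**: NOFF, `|Z| = 2`, `H_i` transitive on `U_i^#`,
`⟨H_1, H_2⟩` nonlocal, `[U_1, U_2] ≤ Z`, `C_G(Z)` irreducible on `U_i / Z` (`SL_n(2)`):
contradiction. -/
theorem irr_false_frame (hG : IsCharacteristicTwoType G) (hF : ¬ FF (S : Subgroup G))
    (hH : ∀ i, IsLoc (S : Subgroup G) (H i))
    (hC : ∀ i, CZ (S : Subgroup G) ≤ H i) (hc : Nat.card (zc (S : Subgroup G)) = 2)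
    (ht : ∀ i, Trans (S : Subgroup G) (H i)) (core : o2 (⨆ i, H i) = ⊥)
    (hcom : ⁅zl (S : Subgroup G) (H false), zl (S : Subgroup G) (H true)⁆ ≤ zc (S : Subgroup G))
    (hi : ∀ i, Irr (S : Subgroup G) (H i)) : False := by
  have h1 := adjacent hG hH hC hc ht core
  have hn : ∀ i, ¬ H i ≤ normalizer (zc (S : Subgroup G) : Set G) := by
    intro i h2
    have h3 : zl (S : Subgroup G) (H i) = zc (S : Subgroup G) :=
      le_antisymm (zl_le le_rfl h2) (zc_le_zl _ _)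
    apply h1
    rw [commutator_eq_bot_iff_le_centralizer]
    rcases i with _ | _
    · rw [h3]
      exact comm_symm (((Pair.zl_abel hG S (hH true)).1).trans (centralizer_le (zc_le_zl _ _)))
    · rw [h3]
      exact ((Pair.zl_abel hG S (hH false)).1).trans (centralizer_le (zc_le_zl _ _))
  exact h1 (irr_comm S hF (hH false) (hH true) (hC false) (hC true) (hn false) (hn true)
    (hi false) (hi true) hcom)

end bool

end Cfsg.Agent.Omega.NOThreeL
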