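import Cfsg.Agent.Omega.NOThreeL.Pair
import Cfsg.Agent.Omega.NOThreeL.Two

/-!
# NO-3L: the points `Z^g` and the two modules `U_i = ⟨Z^(H_i)⟩`, `|Z| = 2`

`C` is `C_G(Z)` or `N_G(Z)`, `C ≤ N_G(U_i)`, `U_i` abelian, `Z ≤ U_i`. The points are the elements of
`G / C`.

* `geo` : the hypotheses `Geo` of `Omega/NOThreeL/Geo.lean` (all `|Z|`);
* `not_comm` : `|Z| = 2`, `N_G(U_i)` transitive on `U_i^#`; a mutual noncommuting pair of conjugates of
  `U_i`, `U_j` gives `i ≠ j` and `[U_1, U_2] ≠ 1` (the adjacent case);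
* `sp_false` : `[U_1, U_2] ≤ Z`, `≠ 1`, `|U_2 : C_{U_2}(U_1)| = 2`, `C_{U_1}(U_2) > Z` or
  `C_{U_2}(U_1) > Z` is impossible (#12384 (4)).
-/

set_option autoImplicit false

namespace Cfsg.Agent.Omega.NOThreeL

open Subgroup MulAction Pointwise
open Cfsg.Agent.Omega.NoFF.Basic (conj_conj mem_conj conj_le_iff conj_le_centralizer comm_symm
  comm_mono)
open scoped commutatorElement

universe u v

section coset

variable {G : Type u} [Group G]

/-- the conjugate of `A` belonging to `x ∈ G / C`. -/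
noncomputable def orb (C A : Subgroup G) (x : G ⧸ C) : Subgroup G := MulAut.conj x.out • A

theorem orb_mk {C A : Subgroup G} (h : C ≤ normalizer (A : Set G)) (g : G) :
    orb C A (g : G ⧸ C) = MulAut.conj g • A := by
  obtain ⟨c, hc⟩ := QuotientGroup.mk_out_eq_mul C g
  rw [orb, hc, ← conj_conj, Pair.conj_eq_of_mem (h c.2)]

theorem orb_one {C A : Subgroup G} (h : C ≤ normalizer (A : Set G)) :
    orb C A ((1 : G) : G ⧸ C) = A := by
  rw [orb_mk h, map_one, one_smul]

theorem orb_smul {C A : Subgroup G} (h : C ≤ normalizer (A : Set G)) (g : G) (x : G ⧸ C) :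
    orb C A (g • x) = MulAut.conj g • orb C A x := by
  obtain ⟨a, rfl⟩ := QuotientGroup.mk_surjective x
  have h1 : g • (QuotientGroup.mk a : G ⧸ C) = QuotientGroup.mk (g * a) := rfl
  rw [h1]
  rw [orb_mk h (g * a)]
  rw [orb_mk h a, conj_conj]

theorem orb_mono {C A B : Subgroup G} (h : A ≤ B) (x : G ⧸ C) : orb C A x ≤ orb C B x :=
  (conj_le_iff (g := x.out)).2 h

theorem orb_inf {C A B : Subgroup G} (x : G ⧸ C) : orb C (A ⊓ B) x = orb C A x ⊓ orb C B x :=
  Subgroup.smul_inf _ _ _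

theorem orb_le_iff {C A B : Subgroup G} (x : G ⧸ C) : orb C A x ≤ orb C B x ↔ A ≤ B :=
  conj_le_iff (g := x.out)

theorem orb_comm {C A B : Subgroup G} (h : A ≤ centralizer (B : Set G)) (x : G ⧸ C) :
    orb C A x ≤ centralizer (orb C B x : Set G) :=
  conj_le_centralizer (g := x.out) h

theorem conj_centralizer (g : G) (A : Subgroup G) :
    centralizer ((MulAut.conj g • A : Subgroup G) : Set G) = MulAut.conj g • centralizer (A : Set G) := by
  apply le_antisymm
  · intro y hy
    rw [mem_conj, mem_centralizer_iff]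
    intro u hu
    have h1 := mem_centralizer_iff.mp hy (g * u * g⁻¹) (by
      change _ ∈ MulAut.conj g • A
      rw [mem_conj]
      simpa [mul_assoc] using hu)
    have h2 := congrArg (fun t => g⁻¹ * t * g) h1
    simpa [mul_assoc] using h2
  · exact conj_le_centralizer le_rfl

theorem orb_centralizer {C A : Subgroup G} (x : G ⧸ C) :
    orb C (centralizer (A : Set G)) x = centralizer (orb C A x : Set G) :=
  (conj_centralizer x.out A).symm

theorem mem_orb {C A : Subgroup G} (x : G ⧸ C) {g : G} :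
    g ∈ orb C A x ↔ x.out⁻¹ * g * x.out ∈ A := mem_conj

theorem orb_commutator {C A B : Subgroup G} (x : G ⧸ C) :
    orb C ⁅A, B⁆ x = ⁅orb C A x, orb C B x⁆ := Subgroup.map_commutator _ _ _

theorem card_orb {C A : Subgroup G} (x : G ⧸ C) : Nat.card (orb C A x) = Nat.card A :=
  Nat.card_congr (Subgroup.equivSMul (MulAut.conj x.out) A).toEquiv.symm

/-- A group of order 2 is centralised by its normaliser. -/
theorem normalizer_le_centralizer {Z : Subgroup G} (hc : Nat.card Z = 2) :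
    normalizer (Z : Set G) ≤ centralizer (Z : Set G) := by
  intro g hg
  rw [mem_centralizer_iff]
  intro a ha
  by_cases ha1 : a = 1
  · rw [ha1, one_mul, mul_one]
  obtain ⟨y, -, hy⟩ := (Nat.card_eq_two_iff' (1 : Z)).mp hc
  have h1 : g * a * g⁻¹ ∈ Z := (mem_normalizer_iff.mp hg a).mp ha
  have h2 : g * a * g⁻¹ ≠ 1 := fun h3 => ha1 (by
    have h4 := congrArg (fun t => g⁻¹ * t * g) h3
    simpa [mul_assoc] using h4)
  have h3 := hy ⟨a, ha⟩ fun h => ha1 (congrArg Subtype.val h)
  have h4 := hy ⟨g * a * g⁻¹, h1⟩ fun h => h2 (congrArg Subtype.val h)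
  have h5 : g * a * g⁻¹ = a := congrArg Subtype.val (h4.trans h3.symm)
  calc a * g = g * a * g⁻¹ * g := by rw [h5]
    _ = g * a := by group

theorem mk_smul_eq {C : Subgroup G} {g a : G} (h : a⁻¹ * g * a ∈ C) :
    g • (QuotientGroup.mk a : G ⧸ C) = QuotientGroup.mk a := by
  have h1 : g • (QuotientGroup.mk a : G ⧸ C) = QuotientGroup.mk (g * a) := rfl
  rw [h1, eq_comm, QuotientGroup.eq]
  rwa [← mul_assoc]

variable {Z C : Subgroup G} {U : Bool → Subgroup G}

/-- The geometry of the points `Z^g`. -/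
theorem geo (hC : centralizer (Z : Set G) ≤ C) (hCZ : C ≤ normalizer (Z : Set G))
    (hZ : ∀ i, Z ≤ U i) (hU : ∀ i, U i ≤ centralizer (U i : Set G))
    (hN : ∀ i, C ≤ normalizer (U i : Set G)) :
    Geo (orb C Z) (fun i => orb C (U i)) where
  eqv_z g x := orb_smul hCZ g x
  eqv_U i g x := orb_smul (hN i) g x
  le i x := orb_mono (hZ i) x
  abel i x := orb_comm (hU i) x
  cent := by
    intro x g hg
    obtain ⟨a, rfl⟩ := QuotientGroup.mk_surjective x
    rw [orb_mk hCZ, conj_centralizer, mem_conj] at hg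
    exact mk_smul_eq (hC hg)

/-- The geometry for `|Z| = 2`, `N_G(U_i)` transitive on `U_i^#`. -/
theorem twoData (hC : centralizer (Z : Set G) ≤ C) (hCZ : C ≤ normalizer (Z : Set G))
    (hZ : ∀ i, Z ≤ U i) (hU : ∀ i, U i ≤ centralizer (U i : Set G))
    (hN : ∀ i, C ≤ normalizer (U i : Set G)) (hc : Nat.card Z = 2)
    (ht : ∀ i, ∀ v ∈ U i, v ≠ 1 → ∃ g ∈ normalizer (U i : Set G), v ∈ MulAut.conj g • Z) :
    TwoData (orb C Z) (fun i => orb C (U i)) where
  toGeo := geo hC hCZ hZ hU hN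
  card x := (card_orb x).trans hc
  inj := by
    intro x y hxy
    obtain ⟨a, rfl⟩ := QuotientGroup.mk_surjective x
    obtain ⟨b, rfl⟩ := QuotientGroup.mk_surjective y
    rw [orb_mk hCZ, orb_mk hCZ] at hxy
    rw [QuotientGroup.eq]
    apply hC
    apply normalizer_le_centralizer hc
    apply mem_normalizer_of_conj_eq
    rw [← conj_conj, ← hxy, conj_conj, inv_mul_cancel, map_one, one_smul]
  pt := by
    intro i x v hv hv1
    obtain ⟨a, rfl⟩ := QuotientGroup.mk_surjective x
    rw [orb_mk (hN i), mem_conj] at hv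
    obtain ⟨g, hg, hgv⟩ := ht i _ hv fun h => hv1 (by
      have h4 := congrArg (fun t => a * t * a⁻¹) h
      simpa [mul_assoc] using h4)
    refine ⟨QuotientGroup.mk (a * g), ?_, ?_⟩
    · rw [orb_mk hCZ, mem_conj]
      rw [mem_conj] at hgv
      simpa [mul_assoc] using hgv
    · rw [orb_mk (hN i), orb_mk (hN i), ← conj_conj, Pair.conj_eq_of_mem hg]

/-- (2): the adjacent case. -/
theorem not_comm (hC : centralizer (Z : Set G) ≤ C) (hCZ : C ≤ normalizer (Z : Set G))
    (hZ : ∀ i, Z ≤ U i) (hU : ∀ i, U i ≤ centralizer (U i : Set G))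
    (hN : ∀ i, C ≤ normalizer (U i : Set G)) (hc : Nat.card Z = 2)
    (ht : ∀ i, ∀ v ∈ U i, v ≠ 1 → ∃ g ∈ normalizer (U i : Set G), v ∈ MulAut.conj g • Z)
    {i j : Bool} {x : G}
    (h1 : U i ≤ normalizer ((MulAut.conj x • U j : Subgroup G) : Set G))
    (h2 : MulAut.conj x • U j ≤ normalizer (U i : Set G))
    (h3 : ¬ U i ≤ centralizer ((MulAut.conj x • U j : Subgroup G) : Set G)) :
    i ≠ j ∧ ¬ U i ≤ centralizer (U j : Set G) := by
  have D := twoData hC hCZ hZ hU hN hc ht
  have e1 : orb C (U i) (QuotientGroup.mk 1) = U i := orb_one (hN i)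
  have e2 : orb C (U j) (QuotientGroup.mk x) = MulAut.conj x • U j := orb_mk (hN j) x
  obtain ⟨hij, p, -, -, hp⟩ := D.exists_point (i := i) (j := j) (x := QuotientGroup.mk 1)
    (y := QuotientGroup.mk x) (by rw [e1, e2]; exact h1) (by rw [e1, e2]; exact h2)
    (by rw [e1, e2]; exact h3)
  exact ⟨hij, fun h4 => hp (orb_comm h4 p)⟩

/-- **(4), `q = 2`**: `(Sp_2n(2), Sp_2m(2))` with `(n, m) ≠ (1, 1)` is impossible. -/
theorem sp_false (hC : centralizer (Z : Set G) ≤ C) (hCZ : C ≤ normalizer (Z : Set G))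
    (hZ : ∀ i, Z ≤ U i) (hU : ∀ i, U i ≤ centralizer (U i : Set G))
    (hN : ∀ i, C ≤ normalizer (U i : Set G)) (hc : Nat.card Z = 2)
    (ht : ∀ i, ∀ v ∈ U i, v ≠ 1 → ∃ g ∈ normalizer (U i : Set G), v ∈ MulAut.conj g • Z)
    (hcom : ⁅U false, U true⁆ ≤ Z) (hne : ¬ U false ≤ centralizer (U true : Set G))
    (hone : ∀ w ∈ U true, ∀ w' ∈ U true, w ∉ centralizer (U false : Set G) →
      w' ∉ centralizer (U false : Set G) → w⁻¹ * w' ∈ centralizer (U false : Set G))
    (hbig : ¬ U false ⊓ centralizer (U true : Set G) ≤ Z ∨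
      ¬ U true ⊓ centralizer (U false : Set G) ≤ Z) : False := by
  have D := twoData hC hCZ hZ hU hN hc ht
  have R : Rank1 (orb C Z) (fun i => orb C (U i)) :=
    { toTwoData := D
      com := fun x => by
        rw [← orb_commutator]
        exact orb_mono hcom x
      nonc := fun x h => hne (by
        rw [← orb_centralizer] at h
        exact (orb_le_iff x).mp h)
      one := fun x w hw w' hw' h1 h2 => by
        rw [← orb_centralizer] at h1 h2 ⊢
        rw [mem_orb] at hw hw' h1 h2 ⊢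
        have h3 := hone _ hw _ hw' h1 h2
        have h4 : (x.out⁻¹ * w * x.out)⁻¹ * (x.out⁻¹ * w' * x.out) =
            x.out⁻¹ * (w⁻¹ * w') * x.out := by group
        rwa [h4] at h3 }
  refine R.false_of ?_ (QuotientGroup.mk 1)
  rcases hbig with h | h
  · left
    intro x h1
    rw [← orb_centralizer, ← orb_inf, orb_le_iff] at h1
    exact h h1
  · right
    intro x h1
    rw [← orb_centralizer, ← orb_inf, orb_le_iff] at h1
    exact h h1

end coset

end Cfsg.Agent.Omega.NOThreeL
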