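import Cfsg.Agent.Omega.NOThreeL.ClosureFrame
import Cfsg.Agent.Omega.NOThreeL.Plug

/-!
# NO-3L B1: an adjacent noncommuting pair has `C_{U_H}(C_S(U_K)) > Z` (helper535, OMEGA #15130)

K-free. `G` of characteristic 2 type, `S` a Sylow 2-subgroup, `Z = Ω₁Z(S)` of order 2, `C = C_G(Z)`,
`H, K ∈ L(S)` containing `C`, `E = U_H = ⟨Z^H⟩`, `F = U_K = ⟨Z^K⟩`.

* `closure_ref` : the closure argument (helper83) with the choice made visible: if `U` does not centralise
  `M`, some `w ∈ W^h ∖ C(M)`, `Z^h ≤ C_U(M)`, has no admissible point;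
* `exists_moved` : `S ≤ R`, `M = ⟨Z^R⟩`, `T₀ = C_S(M)`, `[E, M] ≠ 1`: some `w ∈ W^h ∖ C(M)`,
  `Z^h ≤ C_E(M)`, such that every point `Z^g`, `g ∈ R`, moved by `w` has
  `E^g ∩ E^(wg) ∩ Z(T₀) ≠ 1` or `E ∩ E^g ∩ Z(T₀) ≠ 1`;
* `exists_mem` : then `C_E(T₀) > Z`;
* `normal_of_par` : `T₀ ⊴ P'` for `P' ∈ P*(S)`, `P' ≤ R`;
* `chain` : `Z ≤ [E, F] ≤ E ∩ F ≤ C_E(C_G(F)) ≤ C_E(T₀) ≤ C_E(F)`;
* `odd_or` : `O²(C_G(F))` acts nontrivially on `E`, or `O²(C_G(E))` nontrivially on `F`, or
  `C_G(E) = O₂(H)` and `C_G(F) = O₂(K)`.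
-/

set_option autoImplicit false

namespace Cfsg.Agent.Omega.NOThreeL.BOneA

open Subgroup MulAction Pointwise Cfsg Cfsg.Agent.ZN Cfsg.Agent.MinSimple
open Cfsg.Agent.Omega.NOThreeL.ThmT (conj_eq_of_mem_normalizer conj_mem_centralizer card_conj
  conj_centralizer_eq)
open Cfsg.Agent.Omega.NoFF.Basic (conj_conj mem_conj conj_le_iff conj_le_centralizer comm_symm
  comm_mono)
open Cfsg.Agent.Omega.MinPar (IsPar IsParS IsLoc NonLoc)
open Cfsg.Agent.Omega.FrameNOFF (CZ)

universe u

variable {G : Type u} [Group G]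

/-! ### The closure argument, refined -/

/-- `[Y_c, Y_x] = 1` -/
theorem comm_of {U U' M : Subgroup G} (h1 : centralizer (M : Set G) ≤ normalizer (U : Set G))
    (h2 : centralizer (M : Set G) ≤ normalizer (U' : Set G))
    (hi : U ⊓ U' ⊓ centralizer (M : Set G) = ⊥) {a b : G}
    (ha : a ∈ U ⊓ centralizer (M : Set G)) (hb : b ∈ U' ⊓ centralizer (M : Set G)) :
    a * b = b * a := by
  have ha2 : a ∈ normalizer (U' : Set G) := h2 ha.2
  have hb2 : b ∈ normalizer (U : Set G) := h1 hb.2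
  have h3 : a * b * a⁻¹ * b⁻¹ ∈ U ⊓ U' ⊓ centralizer (M : Set G) := by
    refine ⟨⟨?_, ?_⟩, ?_⟩
    · have h5 : a * b * a⁻¹ * b⁻¹ = a * (b * a⁻¹ * b⁻¹) := by group
      rw [h5]
      exact mul_mem ha.1 ((mem_normalizer_iff.mp hb2 _).mp (inv_mem ha.1))
    · exact U'.mul_mem ((mem_normalizer_iff.mp ha2 _).mp hb.1) (U'.inv_mem hb.1)
    · exact (centralizer _).mul_mem ((centralizer _).mul_mem ((centralizer _).mul_mem ha.2 hb.2)
        ((centralizer _).inv_mem ha.2)) ((centralizer _).inv_mem hb.2)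
  rw [hi, mem_bot] at h3
  have h4 := congrArg (fun t => t * b * a) h3
  simpa [mul_assoc] using h4

/-- `[u, Y_x] = Y_c` -/
theorem star_of [Finite G] {U U' M : Subgroup G}
    (h1 : centralizer (M : Set G) ≤ normalizer (U : Set G)) {u : G} (hu : u ∈ U)
    (huM : u ∈ normalizer (M : Set G))
    (hi : U' ⊓ MulAut.conj u • U' ⊓ centralizer (M : Set G) = ⊥)
    (hc : Nat.card (U ⊓ centralizer (M : Set G) : Subgroup G) ≤
      Nat.card (U' ⊓ centralizer (M : Set G) : Subgroup G))
    {y : G} (hy : y ∈ U ⊓ centralizer (M : Set G)) :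
    ∃ t ∈ U' ⊓ centralizer (M : Set G), t⁻¹ * u * t = u * y := by
  have hmem : ∀ t : (U' ⊓ centralizer (M : Set G) : Subgroup G),
      u⁻¹ * ((t : G)⁻¹ * u * t) ∈ U ⊓ centralizer (M : Set G) := by
    intro t
    have h2 : (t : G) ∈ normalizer (U : Set G) := h1 t.2.2
    refine mem_inf.mpr ⟨?_, ?_⟩
    · refine mul_mem (inv_mem hu) ?_
      have h3 := (mem_normalizer_iff.mp (inv_mem h2) u).mp hu
      simpa using h3
    · have h3 : u⁻¹ * ((t : G)⁻¹ * u * t) = u⁻¹ * (t : G)⁻¹ * u * t := by group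
      rw [h3]
      exact mul_mem (conj_mem_centralizer huM (inv_mem (mem_inf.mp t.2).2))
        (mem_inf.mp t.2).2
  let f : (U' ⊓ centralizer (M : Set G) : Subgroup G) →
      (U ⊓ centralizer (M : Set G) : Subgroup G) := fun t => ⟨_, hmem t⟩
  have hinj : Function.Injective f := by
    intro s t hst
    have h1 : u⁻¹ * ((s : G)⁻¹ * u * s) = u⁻¹ * ((t : G)⁻¹ * u * t) := congrArg Subtype.val hst
    have h2 : (s : G)⁻¹ * u * s = (t : G)⁻¹ * u * t := mul_left_cancel h1
    have h3 : u * ((t : G) * (s : G)⁻¹) = (t : G) * (s : G)⁻¹ * u := by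
      calc u * ((t : G) * (s : G)⁻¹) = (t : G) * ((t : G)⁻¹ * u * t) * (s : G)⁻¹ := by group
        _ = (t : G) * ((s : G)⁻¹ * u * s) * (s : G)⁻¹ := by rw [h2]
        _ = (t : G) * (s : G)⁻¹ * u := by group
    have h40 : (t : G) * (s : G)⁻¹ ∈ U' :=
      mul_mem (mem_inf.mp t.2).1 (inv_mem (mem_inf.mp s.2).1)
    have h41 : (t : G) * (s : G)⁻¹ ∈ centralizer (M : Set G) :=
      mul_mem (mem_inf.mp t.2).2 (inv_mem (mem_inf.mp s.2).2)
    have h4 : (t : G) * (s : G)⁻¹ ∈ U' ⊓ MulAut.conj u • U' ⊓ centralizer (M : Set G) := by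
      refine mem_inf.mpr ⟨mem_inf.mpr ⟨h40, ?_⟩, h41⟩
      rw [mem_conj]
      have h5 : u⁻¹ * ((t : G) * (s : G)⁻¹) * u = (t : G) * (s : G)⁻¹ := by
        rw [mul_assoc, ← h3, inv_mul_cancel_left]
      rw [h5]
      exact h40
    rw [hi, mem_bot] at h4
    exact Subtype.ext (mul_inv_eq_one.mp h4).symm
  have hbij := hinj.bijective_of_nat_card_le hc
  obtain ⟨t, ht⟩ := hbij.2 ⟨y, hy⟩
  refine ⟨t, t.2, ?_⟩
  have h1 : u⁻¹ * ((t : G)⁻¹ * u * t) = y := congrArg Subtype.val ht
  rw [← h1, mul_inv_cancel_left]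

/-- **The closure argument**, with the choice made visible. `C` is a subgroup normalising `Z`, `U`, `W`
and containing `C_G(Z)`. -/
theorem closure_ref [Finite G] {Z C U W M : Subgroup G} (hC : centralizer (Z : Set G) ≤ C)
    (hCU : C ≤ normalizer (U : Set G)) (hCW : C ≤ normalizer (W : Set G)) (hZM : Z ≤ M)
    (hUM : U ≤ normalizer (M : Set G)) (hWU : W ≤ U) (hWM : W ≤ centralizer (M : Set G))
    (hZW : Z ≤ W)
    (hconn : ∀ A : Subgroup G, Z ≤ A →
      (∀ h ∈ normalizer (U : Set G), MulAut.conj h • Z ≤ A → MulAut.conj h • W ≤ A) → U ≤ A)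
    (hne : ¬ U ≤ centralizer (M : Set G)) :
    ∃ h ∈ normalizer (U : Set G), MulAut.conj h • Z ≤ U ⊓ centralizer (M : Set G) ∧
      ∃ w ∈ MulAut.conj h • W, w ∈ U ∧ w ∉ centralizer (M : Set G) ∧
        ∀ g : G, MulAut.conj g • Z ≤ M →
          Nat.card (U ⊓ centralizer (M : Set G) : Subgroup G) ≤
            Nat.card (MulAut.conj g • U ⊓ centralizer (M : Set G) : Subgroup G) →
          MulAut.conj g • U ⊓ MulAut.conj (w * g) • U ⊓ centralizer (M : Set G) ≠ ⊥ ∨
          U ⊓ MulAut.conj g • U ⊓ centralizer (M : Set G) ≠ ⊥ := by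
  by_contra hcon
  push Not at hcon
  have hfix : ∀ g : G, MulAut.conj g • Z ≤ M →
      centralizer (M : Set G) ≤ normalizer ((MulAut.conj g • U : Subgroup G) : Set G) := by
    intro g hg x hx
    have h1 : g⁻¹ * x * g ∈ normalizer (U : Set G) := by
      refine hCU (hC (mem_centralizer_iff.mpr fun z hz => ?_))
      have h2 := mem_centralizer_iff.mp hx (g * z * g⁻¹) (hg (by
        rw [mem_conj]
        simpa [mul_assoc] using hz))
      have h3 := congrArg (fun t => g⁻¹ * t * g) h2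
      simpa [mul_assoc] using h3
    refine mem_normalizer_of_conj_eq ?_
    have h2 : MulAut.conj x • MulAut.conj g • U = MulAut.conj g • MulAut.conj (g⁻¹ * x * g) • U := by
      rw [conj_conj, conj_conj]
      congr 2
      group
    rw [h2, conj_eq_of_mem_normalizer h1]
  have hfix1 : centralizer (M : Set G) ≤ normalizer (U : Set G) := by
    have h1 := hfix 1 (by rwa [map_one, one_smul])
    rwa [map_one, one_smul] at h1
  refine hne ((hconn (U ⊓ centralizer (M : Set G)) (hZW.trans (le_inf hWU hWM)) ?_).trans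
    inf_le_right)
  intro h hh hz
  have hWU' : MulAut.conj h • W ≤ U := by
    have h1 := conj_le_iff (g := h) |>.2 hWU
    rwa [conj_eq_of_mem_normalizer hh] at h1
  refine le_inf hWU' fun w hw => ?_
  by_contra hwM
  obtain ⟨g, hx, hc, hi1, hi2⟩ := hcon h hh hz w hw (hWU' hw) hwM
  have hYW : U ⊓ centralizer (M : Set G) ≤ MulAut.conj h • W := by
    intro y hy
    obtain ⟨t, ht, hty⟩ := star_of hfix1 (hWU' hw) (hUM (hWU' hw)) (by rw [conj_conj]; exact hi1)
      hc hy
    have h1 : t ∈ centralizer ((MulAut.conj h • Z : Subgroup G) : Set G) :=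
      mem_centralizer_iff.mpr fun b hb => comm_of hfix1 (hfix g hx) hi2 (hz hb) ht
    have h2 : t ∈ normalizer ((MulAut.conj h • W : Subgroup G) : Set G) := by
      have h3 : h⁻¹ * t * h ∈ normalizer (W : Set G) := by
        refine hCW (hC (mem_centralizer_iff.mpr fun z hz => ?_))
        have h2 := mem_centralizer_iff.mp h1 (h * z * h⁻¹) (by
          change _ ∈ MulAut.conj h • Z
          rw [mem_conj]
          simpa [mul_assoc] using hz)
        have h3 := congrArg (fun t => h⁻¹ * t * h) h2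
        simpa [mul_assoc] using h3
      refine mem_normalizer_of_conj_eq ?_
      have h4 : MulAut.conj t • MulAut.conj h • W = MulAut.conj h • MulAut.conj (h⁻¹ * t * h) • W := by
        rw [conj_conj, conj_conj]
        congr 2
        group
      rw [h4, conj_eq_of_mem_normalizer h3]
    have h3 := (mem_normalizer_iff.mp (inv_mem h2) w).mp hw
    have h4 : y = w⁻¹ * (t⁻¹ * w * t) := by rw [hty, inv_mul_cancel_left]
    rw [h4]
    refine mul_mem (inv_mem hw) ?_
    simpa using h3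
  have h5 : Nat.card (MulAut.conj h • W : Subgroup G) ≤
      Nat.card (U ⊓ centralizer (M : Set G) : Subgroup G) := by
    rw [card_conj]
    exact Nat.card_le_card_of_injective _ (Subgroup.inclusion_injective (le_inf hWU hWM))
  have h6 := Subgroup.eq_of_le_of_card_ge hYW h5
  rw [← h6] at hw
  exact hwM hw.2

/-! ### Elementary facts -/

theorem exists_mul_of_sup {A B : Subgroup G} (h : B ≤ normalizer (A : Set G)) {x : G}
    (hx : x ∈ A ⊔ B) : ∃ b ∈ B, ∃ a ∈ A, x = b * a := by
  let K : Subgroup G :=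
    { carrier := {x | ∃ b ∈ B, ∃ a ∈ A, x = b * a}
      mul_mem' := by
        rintro _ _ ⟨b, hb, a, ha, rfl⟩ ⟨b', hb', a', ha', rfl⟩
        refine ⟨b * b', mul_mem hb hb', b'⁻¹ * a * b' * a', mul_mem ?_ ha', by group⟩
        have h1 := (mem_normalizer_iff.mp (h (inv_mem hb')) a).mp ha
        simpa using h1
      one_mem' := ⟨1, one_mem _, 1, one_mem _, (mul_one 1).symm⟩
      inv_mem' := by
        rintro _ ⟨b, hb, a, ha, rfl⟩
        refine ⟨b⁻¹, inv_mem hb, b * a⁻¹ * b⁻¹,
          (mem_normalizer_iff.mp (h hb) _).mp (inv_mem ha), by group⟩ }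
  have h1 : A ⊔ B ≤ K := sup_le (fun a ha => ⟨1, one_mem _, a, ha, (one_mul a).symm⟩)
    (fun b hb => ⟨b, hb, 1, one_mem _, (mul_one b).symm⟩)
  exact h1 hx

/-- two groups of order 2 with a common nontrivial element are equal. -/
theorem eq_of_card_two [Finite G] {A B : Subgroup G} (hA : Nat.card A = 2) (hB : Nat.card B = 2)
    {x : G} (hxA : x ∈ A) (hxB : x ∈ B) (hx : x ≠ 1) : A = B := by
  have key : ∀ D : Subgroup G, Nat.card D = 2 → x ∈ D → zpowers x = D := by
    intro D hD hxD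
    refine Subgroup.eq_of_le_of_card_ge (zpowers_le.mpr hxD) ?_
    rw [hD, Nat.card_zpowers]
    have h1 : orderOf x ≠ 1 := fun h => hx (orderOf_eq_one_iff.mp h)
    have h2 : 0 < orderOf x := orderOf_pos x
    omega
  rw [← key A hA hxA, key B hB hxB]

/-- a normal subgroup `A ≠ 1` of the 2-group `T` meets `Z(T)`. -/
theorem exists_central [Finite G] {T A : Subgroup G} (hT : IsPGroup 2 T) (hAT : A ≤ T)
    (hTA : T ≤ normalizer (A : Set G)) (hA : A ≠ ⊥) :
    ∃ x ∈ A, x ≠ 1 ∧ x ∈ centralizer (T : Set G) := by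
  have hn : (A.subgroupOf T).Normal := normal_subgroupOf_of_le_normalizer hTA
  have hf : Fact (Nat.Prime 2) := ⟨Nat.prime_two⟩
  have hnil : Group.IsNilpotent T := hT.isNilpotent
  have hb : A.subgroupOf T ≠ ⊥ := by
    intro h
    apply hA
    rw [← inf_eq_left.mpr hAT, ← subgroupOf_map_subtype, h, Subgroup.map_bot]
  have h1 := Lib.NormalAbelian.normal_inf_center_ne_bot (A.subgroupOf T) hb
  obtain ⟨x, hx1⟩ := Subgroup.ne_bot_iff_exists_ne_one.mp h1
  have hx := x.2
  refine ⟨(x : T), (mem_inf.mp hx).1, fun h => hx1 (Subtype.ext (Subtype.ext h)), ?_⟩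
  rw [mem_centralizer_iff]
  intro y hy
  have h2 := mem_center_iff.mp (mem_inf.mp hx).2 ⟨y, hy⟩
  exact congrArg Subtype.val h2

/-- `O²(D) = 1` : `D` is a 2-group. -/
theorem isPGroup_of_oddGen [Finite G] {D : Subgroup G} (h : VModule.oddGen D = ⊥) :
    IsPGroup 2 D := by
  intro x
  obtain ⟨k, m, hm, hkm⟩ := Nat.exists_eq_two_pow_mul_odd (orderOf_pos (x : G)).ne'
  refine ⟨k, Subtype.ext ?_⟩
  have h1 : orderOf ((x : G) ^ 2 ^ k) = m := by
    rw [orderOf_pow' _ (by positivity), hkm, Nat.gcd_eq_right (dvd_mul_right _ _),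
      Nat.mul_div_cancel_left _ (by positivity)]
  have h2 : (x : G) ^ 2 ^ k ∈ VModule.oddGen D :=
    VModule.mem_oddGen (pow_mem x.2 _) (by rw [h1]; exact hm)
  rw [h, mem_bot] at h2
  exact h2

/-! ### `T₀ = C_S(V)` -/

section frame

theorem normalizer_le_normalizer_centralizer (V : Subgroup G) :
    normalizer (V : Set G) ≤ normalizer ((centralizer (V : Set G) : Subgroup G) : Set G) :=
  fun _ hx => mem_normalizer_of_conj_eq (conj_centralizer_eq hx)

variable [Finite G]

omit [Finite G] in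
/-- a 2-subgroup normal in `C_G(V)`, `S ≤ N_G(V)`, lies in `C_S(V)`. -/
theorem le_T (S : Sylow 2 G) {V A : Subgroup G} (hSV : (S : Subgroup G) ≤ normalizer (V : Set G))
    (hA : IsPGroup 2 A) (hAV : A ≤ centralizer (V : Set G))
    (hVA : centralizer (V : Set G) ≤ normalizer (A : Set G)) :
    A ≤ (S : Subgroup G) ⊓ centralizer (V : Set G) := by
  refine le_inf ?_ hAV
  refine (VModule.le_o2 hAV hA hVA).trans
    (Cfsg.Agent.Omega.MinPar.le_of_le_normalizer S (VModule.o2_isPGroup _) ?_)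
  exact hSV.trans ((normalizer_le_normalizer_centralizer V).trans
    (normalizer_le_normalizer_o2' _))

/-- Frattini: every `r ∈ N_G(V)` is `n d` with `n ∈ N_G(V)` normalising `C_S(V)` and `d ∈ C_G(V)`. -/
theorem exists_factor (S : Sylow 2 G) {V : Subgroup G}
    (hSV : (S : Subgroup G) ≤ normalizer (V : Set G)) {r : G} (hr : r ∈ normalizer (V : Set G)) :
    ∃ n ∈ normalizer (((S : Subgroup G) ⊓ centralizer (V : Set G) : Subgroup G) : Set G),
      n ∈ normalizer (V : Set G) ∧ ∃ d ∈ centralizer (V : Set G), r = n * d := by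
  have h1 := Basic.frattini (X := normalizer (V : Set G)) (L := centralizer (V : Set G)) hSV
    S.isPGroup' (Basic.not_dvd_relIndex S hSV) (normalizer_le_normalizer_centralizer V)
  obtain ⟨n, hn, d, hd, rfl⟩ := exists_mul_of_sup
    (inf_le_left.trans (normalizer_le_normalizer_centralizer V)) (h1 hr)
  exact ⟨n, hn.2, hn.1, d, hd, rfl⟩

/-- if `C_E(T₀) ≤ Z` then `C_{E^g}(T₀) ≤ Z^g` for all `g ∈ N_G(V)`, `T₀ = C_S(V)`. -/
theorem mem_conj_of_central (S : Sylow 2 G) {V Z E : Subgroup G}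
    (hSV : (S : Subgroup G) ≤ normalizer (V : Set G))
    (hVE : centralizer (V : Set G) ≤ normalizer (E : Set G))
    (hVZ : centralizer (V : Set G) ≤ normalizer (Z : Set G))
    (hE : ∀ e ∈ E, e ∈ centralizer
      (((S : Subgroup G) ⊓ centralizer (V : Set G) : Subgroup G) : Set G) → e ∈ Z)
    {g : G} (hg : g ∈ normalizer (V : Set G)) {x : G} (hx : x ∈ MulAut.conj g • E)
    (hxT : x ∈ centralizer (((S : Subgroup G) ⊓ centralizer (V : Set G) : Subgroup G) : Set G)) :
    x ∈ MulAut.conj g • Z := by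
  obtain ⟨n, hn, -, d, hd, rfl⟩ := exists_factor S hSV hg
  rw [← conj_conj, conj_eq_of_mem_normalizer (hVE hd), mem_conj] at hx
  rw [← conj_conj, conj_eq_of_mem_normalizer (hVZ hd), mem_conj]
  exact hE _ hx (conj_mem_centralizer hn hxT)

/-- **B1, the finer form.** -/
theorem exists_moved (hG : IsCharacteristicTwoType G) (S : Sylow 2 G) {H R W : Subgroup G}
    (hH : IsLoc (S : Subgroup G) H) (hC : CZ (S : Subgroup G) ≤ H)
    (hZW : zc (S : Subgroup G) ≤ W) (hWU : W ≤ zl (S : Subgroup G) H)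
    (hCW : CZ (S : Subgroup G) ≤ normalizer (W : Set G))
    (hPW : ∀ P, IsParS (S : Subgroup G) P → P ≤ H → zl (S : Subgroup G) P ≤ W)
    (hSR : (S : Subgroup G) ≤ R) (hWR : W ≤ centralizer (zl (S : Subgroup G) R : Set G))
    (hne : ¬ zl (S : Subgroup G) H ≤ centralizer (zl (S : Subgroup G) R : Set G)) :
    ∃ h ∈ normalizer (zl (S : Subgroup G) H : Set G),
      MulAut.conj h • zc (S : Subgroup G) ≤
        zl (S : Subgroup G) H ⊓ centralizer (zl (S : Subgroup G) R : Set G) ∧
      ∃ w ∈ MulAut.conj h • W, w ∈ zl (S : Subgroup G) H ∧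
        w ∉ centralizer (zl (S : Subgroup G) R : Set G) ∧
        ∀ g ∈ R,
          (∃ x ∈ MulAut.conj g • zl (S : Subgroup G) H, x ≠ 1 ∧
            x ∈ MulAut.conj (w * g) • zl (S : Subgroup G) H ∧
            x ∈ (S : Subgroup G) ⊓ centralizer (zl (S : Subgroup G) R : Set G) ∧
            x ∈ centralizer (((S : Subgroup G) ⊓ centralizer (zl (S : Subgroup G) R : Set G) :
              Subgroup G) : Set G)) ∨
          (∃ x ∈ MulAut.conj g • zl (S : Subgroup G) H, x ≠ 1 ∧
            x ∈ zl (S : Subgroup G) H ∧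
            x ∈ (S : Subgroup G) ⊓ centralizer (zl (S : Subgroup G) R : Set G) ∧
            x ∈ centralizer (((S : Subgroup G) ⊓ centralizer (zl (S : Subgroup G) R : Set G) :
              Subgroup G) : Set G)) := by
  have hCU : CZ (S : Subgroup G) ≤ normalizer (zl (S : Subgroup G) H : Set G) :=
    hC.trans (VModule.le_normalizer_zl _ _)
  have hRN : R ≤ normalizer (zl (S : Subgroup G) R : Set G) := VModule.le_normalizer_zl _ _
  have hES : zl (S : Subgroup G) H ≤ (S : Subgroup G) :=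
    (hH.zl_le S hG).trans ((VModule.zc_le _).trans (hH.o2_le S))
  have hVC : centralizer (zl (S : Subgroup G) R : Set G) ≤ CZ (S : Subgroup G) :=
    centralizer_le (VModule.zc_le_zl _ _)
  have hVE : ∀ g ∈ R, centralizer (zl (S : Subgroup G) R : Set G) ≤
      normalizer ((MulAut.conj g • zl (S : Subgroup G) H : Subgroup G) : Set G) := by
    intro g hg
    have h1 := Pair.conj_le_normalizer (g := g) (hVC.trans hCU)
    rwa [conj_centralizer_eq (hRN hg)] at h1
  obtain ⟨h, hh, hhz, w, hw, hwE, hwM, hall⟩ := closure_ref (Z := zc (S : Subgroup G))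
    (C := CZ (S : Subgroup G)) (U := zl (S : Subgroup G) H) (W := W)
    (M := zl (S : Subgroup G) R) le_rfl hCU hCW (VModule.zc_le_zl _ _)
    ((hES.trans hSR).trans hRN) hWU hWR hZW (fun A hA1 hA2 => conn S hH hPW A hA1 hA2) hne
  refine ⟨h, hh, hhz, w, hw, hwE, hwM, fun g hg => ?_⟩
  have hwR : w * g ∈ R := mul_mem (hSR (hES hwE)) hg
  have h1 : MulAut.conj g • zc (S : Subgroup G) ≤ zl (S : Subgroup G) R := by
    have h2 := conj_le_iff (g := g) |>.2 (VModule.zc_le_zl (S : Subgroup G) R)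
    rwa [conj_eq_of_mem_normalizer (hRN hg)] at h2
  have h2 : Nat.card (zl (S : Subgroup G) H ⊓ centralizer (zl (S : Subgroup G) R : Set G) :
      Subgroup G) ≤ Nat.card (MulAut.conj g • zl (S : Subgroup G) H ⊓
        centralizer (zl (S : Subgroup G) R : Set G) : Subgroup G) := by
    rw [← card_conj g (zl (S : Subgroup G) H ⊓ centralizer (zl (S : Subgroup G) R : Set G)),
      Subgroup.smul_inf, conj_centralizer_eq (hRN hg)]
  -- a nontrivial intersection meets `Z(T₀)`
  have key : ∀ A : Subgroup G, A ≤ MulAut.conj g • zl (S : Subgroup G) H →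
      A ≤ centralizer (zl (S : Subgroup G) R : Set G) →
      centralizer (zl (S : Subgroup G) R : Set G) ≤ normalizer (A : Set G) → A ≠ ⊥ →
      ∃ x ∈ A, x ≠ 1 ∧ x ∈ (S : Subgroup G) ⊓ centralizer (zl (S : Subgroup G) R : Set G) ∧
        x ∈ centralizer (((S : Subgroup G) ⊓ centralizer (zl (S : Subgroup G) R : Set G) :
              Subgroup G) : Set G) := by
    intro A hA1 hA2 hA3 hA4
    have h3 : IsPGroup 2 A :=
      ((S.isPGroup'.to_le hES).of_equiv (Subgroup.equivSMul (MulAut.conj g) _)).to_le hA1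
    have h4 := le_T S (hSR.trans hRN) h3 hA2 hA3
    obtain ⟨x, hx, hx1, hxc⟩ := exists_central (S.isPGroup'.to_le inf_le_left) h4
      (inf_le_right.trans hA3) hA4
    exact ⟨x, hx, hx1, h4 hx, hxc⟩
  have hVV : centralizer (zl (S : Subgroup G) R : Set G) ≤ normalizer
      ((centralizer (zl (S : Subgroup G) R : Set G) : Subgroup G) : Set G) := le_normalizer
  have hinf : ∀ A B : Subgroup G, centralizer (zl (S : Subgroup G) R : Set G) ≤
      normalizer (A : Set G) → centralizer (zl (S : Subgroup G) R : Set G) ≤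
      normalizer (B : Set G) → centralizer (zl (S : Subgroup G) R : Set G) ≤
      normalizer ((A ⊓ B ⊓ centralizer (zl (S : Subgroup G) R : Set G) : Subgroup G) : Set G) :=
    fun A B hA hB => (le_inf ((le_inf hA hB).trans inf_normalizer_le_normalizer_inf) hVV).trans
      inf_normalizer_le_normalizer_inf
  rcases hall g h1 h2 with h3 | h3
  · left
    obtain ⟨x, hx, hx1, hxT, hxc⟩ := key _ (inf_le_left.trans inf_le_left) inf_le_right
      (hinf _ _ (hVE g hg) (hVE _ hwR)) h3
    exact ⟨x, hx.1.1, hx1, hx.1.2, hxT, hxc⟩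
  · right
    obtain ⟨x, hx, hx1, hxT, hxc⟩ := key _ (inf_le_left.trans inf_le_right) inf_le_right
      (hinf _ _ (hVC.trans hCU) (hVE _ hg)) h3
    exact ⟨x, hx.1.2, hx1, hx.1.1, hxT, hxc⟩

/-- the same with `W = W_H = ⟨V_P^c : P ∈ P*(S), P ≤ H, c ∈ C⟩`, for `R ≤ K`, `[V_P, U_K] = 1` for all
lines `P` of `H` on `c`. -/
theorem exists_moved_W (hG : IsCharacteristicTwoType G) (S : Sylow 2 G) {H K R : Subgroup G}
    (hH : IsLoc (S : Subgroup G) H) (hK : IsLoc (S : Subgroup G) K)
    (hC : CZ (S : Subgroup G) ≤ H) (hCK : CZ (S : Subgroup G) ≤ K)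
    (hB : ∀ P, IsParS (S : Subgroup G) P → P ≤ H →
      zl (S : Subgroup G) P ≤ centralizer (zl (S : Subgroup G) K : Set G))
    (hSR : (S : Subgroup G) ≤ R) (hRK : R ≤ K)
    (hne : ¬ zl (S : Subgroup G) H ≤ centralizer (zl (S : Subgroup G) R : Set G)) :
    ∃ h ∈ normalizer (zl (S : Subgroup G) H : Set G),
      MulAut.conj h • zc (S : Subgroup G) ≤
        zl (S : Subgroup G) H ⊓ centralizer (zl (S : Subgroup G) R : Set G) ∧
      ∃ w ∈ MulAut.conj h • W (S : Subgroup G) H, w ∈ zl (S : Subgroup G) H ∧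
        w ∉ centralizer (zl (S : Subgroup G) R : Set G) ∧
        ∀ g ∈ R,
          (∃ x ∈ MulAut.conj g • zl (S : Subgroup G) H, x ≠ 1 ∧
            x ∈ MulAut.conj (w * g) • zl (S : Subgroup G) H ∧
            x ∈ (S : Subgroup G) ⊓ centralizer (zl (S : Subgroup G) R : Set G) ∧
            x ∈ centralizer (((S : Subgroup G) ⊓ centralizer (zl (S : Subgroup G) R : Set G) :
              Subgroup G) : Set G)) ∨
          (∃ x ∈ MulAut.conj g • zl (S : Subgroup G) H, x ≠ 1 ∧
            x ∈ zl (S : Subgroup G) H ∧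
            x ∈ (S : Subgroup G) ⊓ centralizer (zl (S : Subgroup G) R : Set G) ∧
            x ∈ centralizer (((S : Subgroup G) ⊓ centralizer (zl (S : Subgroup G) R : Set G) :
              Subgroup G) : Set G)) := by
  have hRK' : centralizer (zl (S : Subgroup G) K : Set G) ≤
      centralizer (zl (S : Subgroup G) R : Set G) := centralizer_le (zl_mono hRK)
  have hKK : K ≤ normalizer ((centralizer (zl (S : Subgroup G) K : Set G) : Subgroup G) : Set G) :=
    (VModule.le_normalizer_zl _ _).trans (normalizer_le_normalizer_centralizer _)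
  have hn : ¬ H ≤ normalizer (zc (S : Subgroup G) : Set G) := by
    intro h
    apply hne
    rw [zl_eq_zc h]
    have h1 := (Pair.zl_abel hG S (H := K) hK).1
    exact comm_mono h1 (VModule.zc_le_zl _ _) (zl_mono hRK)
  refine exists_moved hG S hH hC (W_not_le S hH hn).1 (W_le_zl hC) (CZ_le_normalizer_W _ _)
    (fun P hP hPH => zl_le_W hP hPH) hSR (W_le fun P hP hPH c hc => ?_) hne
  have h1 := conj_le_iff (g := c) |>.2 (hB P hP hPH)
  rw [conj_eq_of_mem_normalizer (hKK (hCK hc))] at h1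
  exact h1.trans hRK'

/-- `C_E(T₀) ≤ Z`: `w ∈ E` centralises `Z^g`, `g ∈ R`, if `E^g ∩ E^(wg) ∩ C(T₀) ≠ 1` or
`E ∩ E^g ∩ C(T₀) ≠ 1`. -/
theorem comm_of_central (hG : IsCharacteristicTwoType G) (S : Sylow 2 G) {H R : Subgroup G}
    (hH : IsLoc (S : Subgroup G) H) (hC : CZ (S : Subgroup G) ≤ H)
    (h2 : Nat.card (zc (S : Subgroup G)) = 2) (hSR : (S : Subgroup G) ≤ R)
    (hE : ∀ e ∈ zl (S : Subgroup G) H, e ∈ centralizer
      (((S : Subgroup G) ⊓ centralizer (zl (S : Subgroup G) R : Set G) : Subgroup G) : Set G) →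
      e ∈ zc (S : Subgroup G)) {w g x : G} (hw : w ∈ zl (S : Subgroup G) H) (hg : g ∈ R)
    (hx : x ∈ MulAut.conj g • zl (S : Subgroup G) H) (hx1 : x ≠ 1)
    (hxT : x ∈ centralizer
      (((S : Subgroup G) ⊓ centralizer (zl (S : Subgroup G) R : Set G) : Subgroup G) : Set G))
    (h : x ∈ MulAut.conj (w * g) • zl (S : Subgroup G) H ∨ x ∈ zl (S : Subgroup G) H) :
    w ∈ centralizer ((MulAut.conj g • zc (S : Subgroup G) : Subgroup G) : Set G) := by
  have hRN : R ≤ normalizer (zl (S : Subgroup G) R : Set G) := VModule.le_normalizer_zl _ _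
  have hES : zl (S : Subgroup G) H ≤ (S : Subgroup G) :=
    (hH.zl_le S hG).trans ((VModule.zc_le _).trans (hH.o2_le S))
  have hVC : centralizer (zl (S : Subgroup G) R : Set G) ≤ CZ (S : Subgroup G) :=
    centralizer_le (VModule.zc_le_zl _ _)
  have hVE : centralizer (zl (S : Subgroup G) R : Set G) ≤
      normalizer (zl (S : Subgroup G) H : Set G) :=
    hVC.trans (hC.trans (VModule.le_normalizer_zl _ _))
  have hVZ : centralizer (zl (S : Subgroup G) R : Set G) ≤
      normalizer (zc (S : Subgroup G) : Set G) := hVC.trans (centralizer_le_normalizer _)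
  have hwR : w * g ∈ R := mul_mem (hSR (hES hw)) hg
  have key : ∀ k ∈ R, x ∈ MulAut.conj k • zl (S : Subgroup G) H →
      x ∈ MulAut.conj k • zc (S : Subgroup G) := fun k hk hxk =>
    mem_conj_of_central S (hSR.trans hRN) hVE hVZ hE (hRN hk) hxk hxT
  have h3 := key g hg hx
  rcases h with h | h
  · have h4 := key (w * g) hwR h
    have h5 : MulAut.conj g • zc (S : Subgroup G) = MulAut.conj (w * g) • zc (S : Subgroup G) :=
      eq_of_card_two ((card_conj _ _).trans h2) ((card_conj _ _).trans h2) h3 h4 hx1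
    have h6 : w ∈ normalizer ((MulAut.conj g • zc (S : Subgroup G) : Subgroup G) : Set G) :=
      mem_normalizer_of_conj_eq (by rw [conj_conj, ← h5])
    exact normalizer_le_centralizer ((card_conj _ _).trans h2) h6
  · have h4 : x ∈ zc (S : Subgroup G) := by
      have h4 := key 1 (one_mem _) (by rwa [map_one, one_smul])
      rwa [map_one, one_smul] at h4
    have h5 : MulAut.conj g • zc (S : Subgroup G) = zc (S : Subgroup G) :=
      eq_of_card_two ((card_conj _ _).trans h2) h2 h3 h4 hx1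
    rw [h5]
    exact ((Pair.zl_abel hG S hH).1.trans (centralizer_le (VModule.zc_le_zl _ _))) hw

/-- **NO-3L B1, FIRST RESULT** (helper535 #15130). `C ≤ H, K` local, `S ≤ R ≤ K`, `[V_P, U_K] = 1` for the
lines `P ≤ H`, `[U_H, ⟨Z^R⟩] ≠ 1`: then `C_{U_H}(C_S(⟨Z^R⟩)) > Z`. -/
theorem exists_mem (hG : IsCharacteristicTwoType G) (S : Sylow 2 G) {H K R : Subgroup G}
    (hH : IsLoc (S : Subgroup G) H) (hK : IsLoc (S : Subgroup G) K)
    (hC : CZ (S : Subgroup G) ≤ H) (hCK : CZ (S : Subgroup G) ≤ K)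
    (h2 : Nat.card (zc (S : Subgroup G)) = 2)
    (hB : ∀ P, IsParS (S : Subgroup G) P → P ≤ H →
      zl (S : Subgroup G) P ≤ centralizer (zl (S : Subgroup G) K : Set G))
    (hSR : (S : Subgroup G) ≤ R) (hRK : R ≤ K)
    (hne : ¬ zl (S : Subgroup G) H ≤ centralizer (zl (S : Subgroup G) R : Set G)) :
    ∃ e ∈ zl (S : Subgroup G) H, e ∈ centralizer
      (((S : Subgroup G) ⊓ centralizer (zl (S : Subgroup G) R : Set G) : Subgroup G) : Set G) ∧
      e ∉ zc (S : Subgroup G) := by
  by_contra hcon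
  have hE : ∀ e ∈ zl (S : Subgroup G) H, e ∈ centralizer
      (((S : Subgroup G) ⊓ centralizer (zl (S : Subgroup G) R : Set G) : Subgroup G) : Set G) →
      e ∈ zc (S : Subgroup G) := fun e he heT => by_contra fun hez => hcon ⟨e, he, heT, hez⟩
  obtain ⟨h, -, -, w, -, hw, hwM, hall⟩ := exists_moved_W hG S hH hK hC hCK hB hSR hRK hne
  apply hwM
  have key : ∀ g ∈ R, w ∈ centralizer
      ((MulAut.conj g • zc (S : Subgroup G) : Subgroup G) : Set G) := by
    intro g hg
    rcases hall g hg with ⟨x, hx, hx1, hx2, -, hxc⟩ | ⟨x, hx, hx1, hx2, -, hxc⟩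
    · exact comm_of_central hG S hH hC h2 hSR hE hw hg hx hx1 hxc (Or.inl hx2)
    · exact comm_of_central hG S hH hC h2 hSR hE hw hg hx hx1 hxc (Or.inr hx2)
  have h3 : zl (S : Subgroup G) R ≤ centralizer {w} := by
    refine iSup_le fun g => ?_
    intro y hy
    rw [mem_centralizer_singleton_iff]
    exact mem_centralizer_iff.mp (key g g.2) y hy
  rw [mem_centralizer_iff]
  intro y hy
  exact mem_centralizer_singleton_iff.mp (h3 hy)

/-- the case `R = K`. -/
theorem exists_mem_self (hG : IsCharacteristicTwoType G) (S : Sylow 2 G) {H K : Subgroup G}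
    (hH : IsLoc (S : Subgroup G) H) (hK : IsLoc (S : Subgroup G) K)
    (hC : CZ (S : Subgroup G) ≤ H) (hCK : CZ (S : Subgroup G) ≤ K)
    (h2 : Nat.card (zc (S : Subgroup G)) = 2)
    (hB : ∀ P, IsParS (S : Subgroup G) P → P ≤ H →
      zl (S : Subgroup G) P ≤ centralizer (zl (S : Subgroup G) K : Set G))
    (hne : ¬ zl (S : Subgroup G) H ≤ centralizer (zl (S : Subgroup G) K : Set G)) :
    ∃ e ∈ zl (S : Subgroup G) H, e ∈ centralizer
      (((S : Subgroup G) ⊓ centralizer (zl (S : Subgroup G) K : Set G) : Subgroup G) : Set G) ∧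
      e ∉ zc (S : Subgroup G) :=
  exists_mem hG S hH hK hC hCK h2 hB hK.le le_rfl hne

/-! ### Corollaries -/

omit [Finite G] in
/-- an odd order element of `D` -/
theorem oddGen_le_oddGen {D D' : Subgroup G} (h : VModule.oddGen D ≤ D') :
    VModule.oddGen D ≤ VModule.oddGen D' := by
  rw [VModule.oddGen_def D, closure_le]
  rintro x ⟨hx, ho⟩
  exact VModule.mem_oddGen (h (VModule.mem_oddGen hx ho)) ho

/-- **(1)** `T₀ = C_S(⟨Z^R⟩)` is normal in every `P ∈ P*(S)`, `P ≤ R`. -/
theorem normal_of_par (S : Sylow 2 G) {P R : Subgroup G} (hP : IsParS (S : Subgroup G) P)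
    (hPR : P ≤ R) : P ≤ normalizer
      (((S : Subgroup G) ⊓ centralizer (zl (S : Subgroup G) R : Set G) : Subgroup G) : Set G) := by
  have hD : P ≤ normalizer
      ((centralizer (zl (S : Subgroup G) R : Set G) : Subgroup G) : Set G) :=
    hPR.trans ((VModule.le_normalizer_zl _ _).trans (normalizer_le_normalizer_centralizer _))
  have hVC : centralizer (zl (S : Subgroup G) R : Set G) ≤
      normalizer (zc (S : Subgroup G) : Set G) :=
    (centralizer_le (VModule.zc_le_zl _ _)).trans (centralizer_le_normalizer _)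
  have hSP : (S : Subgroup G) ≤ P := hP.le
  rcases hP.toIsPar.sup_eq_or_inf_le S (N := P ⊓ centralizer (zl (S : Subgroup G) R : Set G))
    inf_le_left ((le_inf le_normalizer hD).trans inf_normalizer_le_normalizer_inf) with h | h
  · refine absurd ?_ hP.not_zc
    rw [← h]
    exact sup_le (inf_le_right.trans hVC)
      (le_normalizer.trans (VModule.normalizer_le_normalizer_zc _))
  · have h1 : (S : Subgroup G) ⊓ centralizer (zl (S : Subgroup G) R : Set G) =
        o2 P ⊓ centralizer (zl (S : Subgroup G) R : Set G) := by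
      refine le_antisymm (le_inf (le_trans ?_ h) inf_le_right)
        (inf_le_inf_right _ (hP.isLoc.o2_le S))
      exact le_inf inf_le_left (le_inf (inf_le_left.trans hSP) inf_le_right)
    rw [h1]
    exact (le_inf (VModule.le_normalizer_o2 P) hD).trans inf_normalizer_le_normalizer_inf

/-- `Z ≤ [U_H, U_K]` if `[U_H, U_K] ≠ 1`. -/
theorem zc_le_commutator (hG : IsCharacteristicTwoType G) (S : Sylow 2 G) {H K : Subgroup G}
    (hH : IsLoc (S : Subgroup G) H) (hK : IsLoc (S : Subgroup G) K)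
    (h2 : Nat.card (zc (S : Subgroup G)) = 2)
    (hne : ¬ zl (S : Subgroup G) H ≤ centralizer (zl (S : Subgroup G) K : Set G)) :
    zc (S : Subgroup G) ≤ ⁅zl (S : Subgroup G) H, zl (S : Subgroup G) K⁆ ∧
      ⁅zl (S : Subgroup G) H, zl (S : Subgroup G) K⁆ ≤
        zl (S : Subgroup G) H ⊓ zl (S : Subgroup G) K := by
  have hES : zl (S : Subgroup G) H ≤ (S : Subgroup G) :=
    (hH.zl_le S hG).trans ((VModule.zc_le _).trans (hH.o2_le S))
  have hFS : zl (S : Subgroup G) K ≤ (S : Subgroup G) :=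
    (hK.zl_le S hG).trans ((VModule.zc_le _).trans (hK.o2_le S))
  have hSE : (S : Subgroup G) ≤ normalizer (zl (S : Subgroup G) H : Set G) :=
    hH.le.trans (VModule.le_normalizer_zl _ _)
  have hSF : (S : Subgroup G) ≤ normalizer (zl (S : Subgroup G) K : Set G) :=
    hK.le.trans (VModule.le_normalizer_zl _ _)
  have h3 : ⁅zl (S : Subgroup G) H, zl (S : Subgroup G) K⁆ ≤ zl (S : Subgroup G) H :=
    le_normalizer_iff_commutator_le_left.mp (hFS.trans hSE)
  have h4 : ⁅zl (S : Subgroup G) H, zl (S : Subgroup G) K⁆ ≤ zl (S : Subgroup G) K :=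
    le_normalizer_iff_commutator_le_right.mp (hES.trans hSF)
  refine ⟨?_, le_inf h3 h4⟩
  have h5 : (S : Subgroup G) ≤ normalizer
      ((⁅zl (S : Subgroup G) H, zl (S : Subgroup G) K⁆ : Subgroup G) : Set G) := by
    intro s hs
    refine mem_normalizer_of_conj_eq ?_
    rw [conj_smul_commutator, conj_eq_of_mem_normalizer (hSE hs),
      conj_eq_of_mem_normalizer (hSF hs)]
  obtain ⟨x, hx, hx1, hxc⟩ := exists_central S.isPGroup' (h3.trans hES) h5 (fun h =>
    hne (commutator_eq_bot_iff_le_centralizer.mp h))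
  have h6 : x ∈ zc (S : Subgroup G) := VModule.mem_zc.mpr ⟨hES (h3 hx),
    fun y hy => (mem_centralizer_iff.mp hxc y hy), (Pair.zl_abel hG S hH).2 x (h3 hx)⟩
  have h7 : zpowers x = zc (S : Subgroup G) := by
    refine Subgroup.eq_of_le_of_card_ge (zpowers_le.mpr h6) ?_
    rw [h2, Nat.card_zpowers]
    have h1 : orderOf x ≠ 1 := fun h => hx1 (orderOf_eq_one_iff.mp h)
    have h2 : 0 < orderOf x := orderOf_pos x
    omega
  rw [← h7, zpowers_le]
  exact hx

/-- **(2)** `Z ≤ [E, F] ≤ E ∩ F ≤ C_E(C_G(F)) ≤ C_E(T₀) ≤ C_E(F)`. -/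
theorem chain (hG : IsCharacteristicTwoType G) (S : Sylow 2 G) {H K : Subgroup G}
    (hH : IsLoc (S : Subgroup G) H) (hK : IsLoc (S : Subgroup G) K)
    (h2 : Nat.card (zc (S : Subgroup G)) = 2)
    (hne : ¬ zl (S : Subgroup G) H ≤ centralizer (zl (S : Subgroup G) K : Set G)) :
    zc (S : Subgroup G) ≤ ⁅zl (S : Subgroup G) H, zl (S : Subgroup G) K⁆ ∧
      ⁅zl (S : Subgroup G) H, zl (S : Subgroup G) K⁆ ≤
        zl (S : Subgroup G) H ⊓ zl (S : Subgroup G) K ∧
      zl (S : Subgroup G) H ⊓ zl (S : Subgroup G) K ≤ zl (S : Subgroup G) H ⊓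
        centralizer ((centralizer (zl (S : Subgroup G) K : Set G) : Subgroup G) : Set G) ∧
      zl (S : Subgroup G) H ⊓
        centralizer ((centralizer (zl (S : Subgroup G) K : Set G) : Subgroup G) : Set G) ≤
        zl (S : Subgroup G) H ⊓ centralizer
          (((S : Subgroup G) ⊓ centralizer (zl (S : Subgroup G) K : Set G) : Subgroup G) : Set G) ∧
      zl (S : Subgroup G) H ⊓ centralizer
          (((S : Subgroup G) ⊓ centralizer (zl (S : Subgroup G) K : Set G) : Subgroup G) : Set G) ≤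
        zl (S : Subgroup G) H ⊓ centralizer (zl (S : Subgroup G) K : Set G) := by
  have hFS : zl (S : Subgroup G) K ≤ (S : Subgroup G) :=
    (hK.zl_le S hG).trans ((VModule.zc_le _).trans (hK.o2_le S))
  obtain ⟨h3, h4⟩ := zc_le_commutator hG S hH hK h2 hne
  refine ⟨h3, h4, inf_le_inf_left _ ?_, inf_le_inf_left _ (centralizer_le inf_le_right),
    inf_le_inf_left _ (centralizer_le (le_inf hFS (Pair.zl_abel hG S hK).1))⟩
  rw [Subgroup.le_centralizer_iff]

/-- a subgroup `X` normal in `H ∈ L(S)` with `O₂(X) = 1` is trivial. -/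
theorem eq_bot_of_o2 (hG : IsCharacteristicTwoType G) (S : Sylow 2 G) {H X : Subgroup G}
    (hH : IsLoc (S : Subgroup G) H) (hXH : X ≤ H) (hHX : H ≤ normalizer (X : Set G))
    (h : o2 X = ⊥) : X = ⊥ := by
  have h1 : X ⊓ o2 H ≤ o2 X := VModule.le_o2 inf_le_left
    ((VModule.o2_isPGroup H).to_le inf_le_right)
    ((le_inf le_normalizer (hXH.trans (VModule.le_normalizer_o2 H))).trans
      inf_normalizer_le_normalizer_inf)
  have h2 : ⁅X, o2 H⁆ = ⊥ := by
    rw [← le_bot_iff, ← h]
    refine le_trans (le_inf ?_ ?_) h1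
    · exact le_normalizer_iff_commutator_le_left.mp ((VModule.o2_le H).trans hHX)
    · exact le_normalizer_iff_commutator_le_right.mp (hXH.trans (VModule.le_normalizer_o2 H))
  have h3 : X ≤ o2 H := (le_inf hXH (commutator_eq_bot_iff_le_centralizer.mp h2)).trans
    (hH.char2 S hG)
  rw [← le_bot_iff, ← h]
  exact VModule.le_o2 le_rfl ((VModule.o2_isPGroup H).to_le h3) le_normalizer

/-- **(3)** `O²(C_G(F))` acts nontrivially on `E`, or `O²(C_G(E))` nontrivially on `F`, or
`C_G(E) = O₂(H)` and `C_G(F) = O₂(K)`. -/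
theorem odd_or (hG : IsCharacteristicTwoType G) (S : Sylow 2 G) {H K : Subgroup G}
    (hH : IsLoc (S : Subgroup G) H) (hK : IsLoc (S : Subgroup G) K)
    (hC : CZ (S : Subgroup G) ≤ H) (hCK : CZ (S : Subgroup G) ≤ K) (core : NonLoc H K) :
    (¬ VModule.oddGen (centralizer (zl (S : Subgroup G) K : Set G)) ≤
      centralizer (zl (S : Subgroup G) H : Set G)) ∨
    (¬ VModule.oddGen (centralizer (zl (S : Subgroup G) H : Set G)) ≤
      centralizer (zl (S : Subgroup G) K : Set G)) ∨
    (centralizer (zl (S : Subgroup G) H : Set G) = o2 H ∧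
      centralizer (zl (S : Subgroup G) K : Set G) = o2 K) := by
  by_contra hcon
  push Not at hcon
  obtain ⟨h1, h2, h3⟩ := hcon
  have h4 := le_antisymm (oddGen_le_oddGen h2) (oddGen_le_oddGen h1)
  have hN : ∀ L : Subgroup G, L ≤ normalizer
      ((VModule.oddGen (centralizer (zl (S : Subgroup G) L : Set G)) : Subgroup G) : Set G) :=
    fun L => (VModule.le_normalizer_zl _ _).trans
      ((normalizer_le_normalizer_centralizer _).trans
        (VModule.normalizer_le_normalizer_oddGen _))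
  have hDC : ∀ L : Subgroup G, centralizer (zl (S : Subgroup G) L : Set G) ≤
      CZ (S : Subgroup G) := fun L => centralizer_le (VModule.zc_le_zl _ _)
  have h5 : o2 (VModule.oddGen (centralizer (zl (S : Subgroup G) H : Set G))) = ⊥ := by
    refine core _ (VModule.o2_isPGroup _) ((hN H).trans (normalizer_le_normalizer_o2' _)) ?_
    rw [h4]
    exact (hN K).trans (normalizer_le_normalizer_o2' _)
  have h6 := eq_bot_of_o2 hG S hH ((VModule.oddGen_le _).trans ((hDC H).trans hC)) (hN H) h5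
  have key : ∀ L : Subgroup G, IsLoc (S : Subgroup G) L → CZ (S : Subgroup G) ≤ L →
      VModule.oddGen (centralizer (zl (S : Subgroup G) L : Set G)) = ⊥ →
      centralizer (zl (S : Subgroup G) L : Set G) = o2 L := by
    intro L hL hCL hb
    refine le_antisymm (VModule.le_o2 ((hDC L).trans hCL) (isPGroup_of_oddGen hb)
      ((VModule.le_normalizer_zl _ _).trans (normalizer_le_normalizer_centralizer _))) ?_
    rw [Subgroup.le_centralizer_iff]
    exact (hL.zl_le S hG).trans (VModule.zc_le_centralizer _)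
  exact h3 (key H hH hC h6) (key K hK hCK (by rw [← h4]; exact h6))

end frame

end Cfsg.Agent.Omega.NOThreeL.BOneA
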