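import Cfsg.Agent.Omega.NOThreeL.Main
import Cfsg.Agent.Omega.NO3L.Tools

/-!
# NO-3L: the dictionary `Omega/NOThreeL/Basic.lean` (helper303) = `Omega/NO3L/{Cut,Tools}.lean` (helper396)

`IsLong S H ↔ H ∈ HH S`, `WP S = WW S`, the two `F_H` and the two case distinctions agree; so every theorem of
`Omega/NO3L/{Cut,Tools,Min}.lean` applies to the sockets of `Omega/NOThreeL/Main.lean`.
-/

set_option autoImplicit false

namespace Cfsg.Agent.Omega.NOThreeL.Bridge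

open Subgroup Cfsg Cfsg.Agent.ZN Cfsg.Agent.Omega.MinPar Cfsg.Agent.Omega.Frame Cfsg.Agent.Omega.FrameNOFF
open Cfsg.Agent.Omega.Node.NO3L
open Cfsg.Agent.Omega.NoFF.Basic (V conj_conj mem_conj conj_le_iff conj_le_centralizer comm_symm comm_mono)
open scoped Pointwise

universe u

variable {G : Type u} [Group G] {S : Subgroup G}

theorem mem_HH {H : Subgroup G} : H ∈ NO3L.Cut.HH S ↔ IsLong S H :=
  ⟨fun h => ⟨h.1, h.2⟩, fun h => ⟨h.loc, h.cz⟩⟩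

theorem low (D : Data S) : NO3L.Cut.Low S := D.low

theorem WW_eq : NO3L.Cut.WW S = Basic.WP S := rfl

theorem FH_eq (S H : Subgroup G) : NO3L.Cut.FH S H = Basic.FH S H :=
  le_antisymm (NO3L.Cut.FH_le fun _ hx => Basic.conj_WP_le_FH S hx)
    (Basic.FH_le fun _ hx => NO3L.Cut.V_le_FH hx)

theorem caseA : NO3L.Cut.CaseA S ↔ Basic.CaseA S :=
  ⟨fun ⟨P, H, h1, h2, h3⟩ => ⟨P, H, h1, mem_HH.1 h2, h3⟩, fun ⟨P, H, h1, h2, h3⟩ => ⟨P, H, h1, mem_HH.2 h2, h3⟩⟩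

theorem caseB1 : Basic.CaseB1 S ↔ ¬ NO3L.Cut.CaseA S ∧ NO3L.Tools.CaseB1 S := by
  rw [caseA]
  exact ⟨fun ⟨h, H, K, h1, h2, h3⟩ => ⟨h, H, mem_HH.2 h1, K, mem_HH.2 h2, h3⟩,
    fun ⟨h, H, h1, K, h2, h3⟩ => ⟨h, H, K, mem_HH.1 h1, mem_HH.1 h2, h3⟩⟩

theorem caseB2 : Basic.CaseB2 S ↔ ¬ NO3L.Cut.CaseA S ∧ NO3L.Tools.CaseB2 S := by
  rw [caseA]
  constructor
  · rintro ⟨h, hcom, H, K, h1, h2, h3⟩
    refine ⟨h, fun H hH K hK => hcom H K (mem_HH.1 hH) (mem_HH.1 hK), H, mem_HH.2 h1, K, mem_HH.2 h2, ?_⟩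
    by_contra hcon
    push Not at hcon
    apply h3
    refine comm_symm (Basic.FH_le fun x hx => ?_)
    rw [Subgroup.pointwise_smul_subset_iff]
    refine Basic.WP_le fun P hP c hc => ?_
    rw [← Subgroup.pointwise_smul_subset_iff, conj_conj]
    exact comm_symm (hcon P hP (x * c) (mul_mem hx (h2.cz hc)))
  · rintro ⟨h, hcom, H, hH, K, hK, P, hP, k, hk, hne⟩
    refine ⟨h, fun H K hH hK => hcom H (mem_HH.2 hH) K (mem_HH.2 hK), H, K, mem_HH.1 hH, mem_HH.1 hK,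
      fun hcon => hne (hcon.trans (centralizer_le ?_))⟩
    exact (conj_le_iff.2 (Basic.zl_le_WP hP)).trans (Basic.conj_WP_le_FH S hk)

theorem caseB3 : Basic.CaseB3 S ↔ ¬ NO3L.Cut.CaseA S ∧ NO3L.Tools.CaseB3 S := by
  rw [caseA]
  constructor
  · rintro ⟨h, h1⟩
    refine ⟨h, fun H hH K hK => ?_⟩
    rw [FH_eq]
    exact h1 H K (mem_HH.1 hH) (mem_HH.1 hK)
  · rintro ⟨h, h1⟩
    refine ⟨h, fun H K hH hK => ?_⟩
    rw [← FH_eq]
    exact h1 H (mem_HH.2 hH) K (mem_HH.2 hK)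

end Cfsg.Agent.Omega.NOThreeL.Bridge
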