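import Cfsg.Agent.Omega.NOThreeL.MinOver
import Cfsg.Agent.Omega.NOThreeL.JQ
import Cfsg.Agent.Omega.NOThreeL.Conn
import Cfsg.Agent.Omega.NO3L.NullTools

/-!
# NO-3L: the chain of best offenders (text bb OMEGA 14891 (CH), (ii), (iii), helper750; wording of (ii) and proof of
(iii) by helper872, 15195; LEMMA Q, 15456, helper861)

Abstract part. `U`, `A` subgroups of a finite group, `U` abelian; `ff U B = |B| |C_U(B)|`.

* `BB U A B` : `C_A(U) ≤ B ≤ A` and `ff U B` is maximal; `exists_BB`; `BB.sup_inf` : closed under joins and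
  intersections; `BB.off` : `|B : C_B(U)| ≥ |U : C_U(B)|`;
* `BB.line` : `V ≤ U` with `|B : C_B(V)| ≤ |V : C_V(B)|`: `C_B(V)` is a member and `C_U(C_B(V)) = V C_U(B)`;
* `BB.lines` : the same for the product `W` of a set of such `V`;
* `BB.min` : a minimal nontrivial member `B` centralises `V` or `U = V C_U(B)` and `C_B(V) = C_A(U)`;
* `two_sides` : `[U, A] ≠ 1`, `[W, W'] = 1`: on at least one side a nontrivial member centralises the lines.

NO-3L.

* `Star.off_or` : **(ii)** for a pair `Star S H K x`;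
* `lemQ` : **LEMMA Q**; `exists_move` : **(iii)** a subgroup of `Q` which centralises the lines of `H` on `Z`, but not
  `U_H`, lies in some `Q^h`, `h ∈ H`, centralises the lines of `H` on `Z^h`, but not those on a collinear point;
* `exists_jq_line` : THEOREM JQ with LEMMA Q.
-/

set_option autoImplicit false

namespace Cfsg.Agent.Omega.NOThreeL.Chain

open Subgroup Cfsg Cfsg.Agent.ZN Cfsg.Agent.Omega.MinPar Cfsg.Agent.Omega.Frame Cfsg.Agent.Omega.FrameNOFF
open Cfsg.Agent.Omega.Node.NO3L Cfsg.Agent.Omega.NOThreeL.Basic Cfsg.Agent.Omega.NOThreeL.MinOver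
open Cfsg.Agent.Omega.NoFF.Basic (V conj_conj mem_conj conj_le_iff conj_le_centralizer comm_symm comm_mono
  Z_le_V V_le conj_V_mul)
open Cfsg.Agent.Omega.NOThreeL.Pair (conj_eq_of_mem conj_le_normalizer zl_abel)
open Cfsg.Agent.Omega.NoFF.ThmJFam (Ex card_sup_inf)
open Cfsg.Agent.Omega.NoFF.ThmJQ (MxIn)
open Cfsg.Agent.MinSimple.VModule (zl_le le_normalizer_zl zc_le_zl zc_le zl_le_zc o2_isPGroup le_normalizer_o2
  mem_zc le_o2)
open scoped Pointwise

universe u

variable {G : Type u} [Group G]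

/-! ### Abstract part -/

/-- `|B| |C_U(B)|` -/
noncomputable def ff (U B : Subgroup G) : ℕ := Nat.card B * Nat.card (U ⊓ centralizer (B : Set G) : Subgroup G)

/-- `C_A(U) ≤ B ≤ A` with `|B| |C_U(B)|` maximal -/
structure BB (U A B : Subgroup G) : Prop where
  ge : A ⊓ centralizer (U : Set G) ≤ B
  le : B ≤ A
  max : ∀ B' : Subgroup G, A ⊓ centralizer (U : Set G) ≤ B' → B' ≤ A → ff U B' ≤ ff U B

section abs

variable [Finite G] {U A B : Subgroup G}

theorem exists_BB (U A : Subgroup G) : ∃ B, BB U A B := by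
  obtain ⟨B, hB, hmax⟩ := Set.exists_max_image {B : Subgroup G | A ⊓ centralizer (U : Set G) ≤ B ∧ B ≤ A}
    (fun B => ff U B) (Set.toFinite _) ⟨A, inf_le_left, le_rfl⟩
  exact ⟨B, hB.1, hB.2, fun B' h1 h2 => hmax B' ⟨h1, h2⟩⟩

omit [Finite G] in
theorem BB.of_le (h : BB U A B) {B' : Subgroup G} (h1 : A ⊓ centralizer (U : Set G) ≤ B') (h2 : B' ≤ A)
    (h3 : ff U B ≤ ff U B') : BB U A B' :=
  ⟨h1, h2, fun _ h4 h5 => (h.max _ h4 h5).trans h3⟩

omit [Finite G] in
theorem inf_centralizer_sup (B B' : Subgroup G) :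
    centralizer ((B ⊔ B' : Subgroup G) : Set G) = centralizer (B : Set G) ⊓ centralizer (B' : Set G) := by
  apply le_antisymm
  · exact le_inf (centralizer_le (SetLike.coe_subset_coe.2 le_sup_left))
      (centralizer_le (SetLike.coe_subset_coe.2 le_sup_right))
  · rw [le_centralizer_iff]
    exact sup_le (le_centralizer_iff.1 inf_le_left) (le_centralizer_iff.1 inf_le_right)

/-- **Closed under joins and intersections.** -/
theorem BB.sup_inf (hU : U ≤ centralizer (U : Set G)) (hA : A ≤ centralizer (A : Set G)) {B' : Subgroup G}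
    (h : BB U A B) (h' : BB U A B') : BB U A (B ⊔ B') ∧ BB U A (B ⊓ B') := by
  have e1 : Nat.card (B ⊔ B' : Subgroup G) * Nat.card (B ⊓ B' : Subgroup G) = Nat.card B * Nat.card B' :=
    card_sup_inf (h.le.trans (hA.trans (centralizer_le h'.le)))
  have e2 : Nat.card ((U ⊓ centralizer (B : Set G)) ⊔ (U ⊓ centralizer (B' : Set G)) : Subgroup G) *
      Nat.card ((U ⊓ centralizer (B : Set G)) ⊓ (U ⊓ centralizer (B' : Set G)) : Subgroup G) =
      Nat.card (U ⊓ centralizer (B : Set G) : Subgroup G) * Nat.card (U ⊓ centralizer (B' : Set G) : Subgroup G) :=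
    card_sup_inf (inf_le_left.trans (hU.trans (centralizer_le inf_le_left)))
  have e3 : (U ⊓ centralizer (B : Set G)) ⊓ (U ⊓ centralizer (B' : Set G)) =
      U ⊓ centralizer ((B ⊔ B' : Subgroup G) : Set G) := by
    rw [inf_centralizer_sup]
    exact (inf_inf_distrib_left _ _ _).symm
  have e4 : Nat.card ((U ⊓ centralizer (B : Set G)) ⊔ (U ⊓ centralizer (B' : Set G)) : Subgroup G) ≤
      Nat.card (U ⊓ centralizer ((B ⊓ B' : Subgroup G) : Set G) : Subgroup G) :=
    Subgroup.card_le_of_le (sup_le (inf_le_inf_left _ (centralizer_le inf_le_left))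
      (inf_le_inf_left _ (centralizer_le inf_le_right)))
  rw [e3] at e2
  have h1 := h.max (B ⊔ B') (h.ge.trans le_sup_left) (sup_le h.le h'.le)
  have h2 := h'.max (B ⊓ B') (le_inf h.ge h'.ge) (inf_le_left.trans h.le)
  have h3 : ff U B * ff U B' ≤ ff U (B ⊔ B') * ff U (B ⊓ B') := by
    unfold ff
    calc Nat.card B * Nat.card (U ⊓ centralizer (B : Set G) : Subgroup G) *
          (Nat.card B' * Nat.card (U ⊓ centralizer (B' : Set G) : Subgroup G))
        = (Nat.card B * Nat.card B') * (Nat.card (U ⊓ centralizer (B : Set G) : Subgroup G) *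
          Nat.card (U ⊓ centralizer (B' : Set G) : Subgroup G)) := by ring
      _ = (Nat.card (B ⊔ B' : Subgroup G) * Nat.card (B ⊓ B' : Subgroup G)) *
          (Nat.card ((U ⊓ centralizer (B : Set G)) ⊔ (U ⊓ centralizer (B' : Set G)) : Subgroup G) *
            Nat.card (U ⊓ centralizer ((B ⊔ B' : Subgroup G) : Set G) : Subgroup G)) := by rw [e1, e2]
      _ ≤ (Nat.card (B ⊔ B' : Subgroup G) * Nat.card (B ⊓ B' : Subgroup G)) *
          (Nat.card (U ⊓ centralizer ((B ⊓ B' : Subgroup G) : Set G) : Subgroup G) *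
            Nat.card (U ⊓ centralizer ((B ⊔ B' : Subgroup G) : Set G) : Subgroup G)) :=
          Nat.mul_le_mul_left _ (Nat.mul_le_mul_right _ e4)
      _ = _ := by ring
  have hpos : ∀ X : Subgroup G, 0 < ff U X := fun X => Nat.mul_pos Nat.card_pos Nat.card_pos
  constructor
  · refine h.of_le (h.ge.trans le_sup_left) (sup_le h.le h'.le) ?_
    by_contra hlt
    have h4 : ff U (B ⊔ B') * ff U (B ⊓ B') < ff U B * ff U B' :=
      Nat.mul_lt_mul_of_lt_of_le (not_le.1 hlt) h2 (hpos _)
    omega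
  · refine h'.of_le (le_inf h.ge h'.ge) (inf_le_left.trans h.le) ?_
    by_contra hlt
    have h4 : ff U (B ⊔ B') * ff U (B ⊓ B') < ff U B * ff U B' :=
      Nat.mul_lt_mul_of_le_of_lt h1 (not_le.1 hlt) (hpos _)
    omega

omit [Finite G] in
/-- A member is an offender (or trivial): `|U| |C_A(U)| ≤ |B| |C_U(B)|`. -/
theorem BB.off (h : BB U A B) : Nat.card U * Nat.card (A ⊓ centralizer (U : Set G) : Subgroup G) ≤ ff U B := by
  have h1 := h.max _ le_rfl inf_le_left
  have h2 : U ⊓ centralizer ((A ⊓ centralizer (U : Set G) : Subgroup G) : Set G) = U :=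
    inf_eq_left.2 (le_centralizer_iff.1 inf_le_right)
  unfold ff at h1
  rw [h2, Nat.mul_comm] at h1
  exact h1

/-- **(CH), one line.** -/
theorem BB.line (hU : U ≤ centralizer (U : Set G)) (h : BB U A B) {V : Subgroup G} (hV : V ≤ U)
    (hn : Nat.card B * Nat.card (V ⊓ centralizer (B : Set G) : Subgroup G) ≤
      Nat.card V * Nat.card (B ⊓ centralizer (V : Set G) : Subgroup G)) :
    BB U A (B ⊓ centralizer (V : Set G)) ∧
      U ⊓ centralizer ((B ⊓ centralizer (V : Set G) : Subgroup G) : Set G) = V ⊔ U ⊓ centralizer (B : Set G) := by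
  set D := B ⊓ centralizer (V : Set G) with hD
  set X := U ⊓ centralizer (B : Set G) with hX
  have h1 : V ⊔ X ≤ U ⊓ centralizer (D : Set G) :=
    le_inf (sup_le hV inf_le_left) (sup_le (le_centralizer_iff.1 inf_le_right)
      (inf_le_right.trans (centralizer_le inf_le_left)))
  have h2 : Nat.card (V ⊔ X : Subgroup G) * Nat.card (V ⊓ X : Subgroup G) = Nat.card V * Nat.card X :=
    card_sup_inf (hV.trans (hU.trans (centralizer_le inf_le_left)))
  have h3 : V ⊓ X = V ⊓ centralizer (B : Set G) := by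
    rw [hX, ← inf_assoc, inf_eq_left.2 hV]
  rw [h3] at h2
  have hge : A ⊓ centralizer (U : Set G) ≤ D :=
    le_inf h.ge (inf_le_right.trans (centralizer_le hV))
  have hle : D ≤ A := inf_le_left.trans h.le
  have h4 := h.max D hge hle
  have h5 : Nat.card (V ⊔ X : Subgroup G) ≤ Nat.card (U ⊓ centralizer (D : Set G) : Subgroup G) :=
    Subgroup.card_le_of_le h1
  have hp : 0 < Nat.card (V ⊓ centralizer (B : Set G) : Subgroup G) := Nat.card_pos
  have h6 : Nat.card B * Nat.card X ≤ Nat.card D * Nat.card (V ⊔ X : Subgroup G) := by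
    refine Nat.le_of_mul_le_mul_right ?_ hp
    calc Nat.card B * Nat.card X * Nat.card (V ⊓ centralizer (B : Set G) : Subgroup G)
        = (Nat.card B * Nat.card (V ⊓ centralizer (B : Set G) : Subgroup G)) * Nat.card X := by ring
      _ ≤ (Nat.card V * Nat.card D) * Nat.card X := Nat.mul_le_mul_right _ hn
      _ = Nat.card D * (Nat.card V * Nat.card X) := by ring
      _ = Nat.card D * (Nat.card (V ⊔ X : Subgroup G) *
            Nat.card (V ⊓ centralizer (B : Set G) : Subgroup G)) := by rw [h2]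
      _ = _ := by ring
  have h7 : Nat.card D * Nat.card (U ⊓ centralizer (D : Set G) : Subgroup G) ≤
      Nat.card D * Nat.card (V ⊔ X : Subgroup G) := le_trans h4 h6
  have h8 : Nat.card (U ⊓ centralizer (D : Set G) : Subgroup G) ≤ Nat.card (V ⊔ X : Subgroup G) :=
    Nat.le_of_mul_le_mul_left h7 Nat.card_pos
  refine ⟨h.of_le hge hle ?_, (Subgroup.eq_of_le_of_card_ge h1 h8).symm⟩
  exact h6.trans (Nat.mul_le_mul_left _ h5)

/-- **(CH)** for a set of lines: `C_B(W)` is a member, `C_U(C_B(W)) = W C_U(B)`. -/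
theorem BB.lines (hU : U ≤ centralizer (U : Set G)) (h : BB U A B) {L : Set (Subgroup G)} (hL : ∀ V ∈ L, V ≤ U)
    (hn : ∀ V ∈ L, ∀ B' ≤ A, Nat.card B' * Nat.card (V ⊓ centralizer (B' : Set G) : Subgroup G) ≤
      Nat.card V * Nat.card (B' ⊓ centralizer (V : Set G) : Subgroup G)) :
    BB U A (B ⊓ centralizer ((sSup L : Subgroup G) : Set G)) ∧
      U ⊓ centralizer ((B ⊓ centralizer ((sSup L : Subgroup G) : Set G) : Subgroup G) : Set G) =
        sSup L ⊔ U ⊓ centralizer (B : Set G) := by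
  set W := sSup L with hW
  have hWU : W ≤ U := sSup_le hL
  let s : Set (Subgroup G) := {B' | BB U A B' ∧ B' ≤ B ∧ B ⊓ centralizer (W : Set G) ≤ B' ∧
    U ⊓ centralizer (B' : Set G) ≤ W ⊔ U ⊓ centralizer (B : Set G)}
  obtain ⟨B', hB', hmin⟩ := Set.exists_min_image s (fun B' => Nat.card B') (Set.toFinite s)
    ⟨B, h, le_rfl, inf_le_left, le_sup_right⟩
  obtain ⟨hb1, hb2, hb3, hb4⟩ := hB'
  have h1 : ∀ V ∈ L, B' ≤ centralizer (V : Set G) := by
    intro V hV
    obtain ⟨h2, h3⟩ := hb1.line hU (hL V hV) (hn V hV B' hb1.le)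
    have h4 : B' ⊓ centralizer (V : Set G) ∈ s := by
      refine ⟨h2, inf_le_left.trans hb2, le_inf hb3 (inf_le_right.trans (centralizer_le (le_sSup hV))), ?_⟩
      rw [h3]
      exact sup_le ((le_sSup hV).trans le_sup_left) hb4
    have h5 := hmin _ h4
    have h6 : B' ⊓ centralizer (V : Set G) = B' := Subgroup.eq_of_le_of_card_ge inf_le_left h5
    exact inf_eq_left.1 h6
  have h2 : B' ≤ centralizer (W : Set G) := by
    rw [le_centralizer_iff]
    exact sSup_le fun V hV => le_centralizer_iff.1 (h1 V hV)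
  have h3 : B' = B ⊓ centralizer (W : Set G) := le_antisymm (le_inf hb2 h2) hb3
  rw [← h3]
  refine ⟨hb1, le_antisymm hb4 (sup_le (le_inf hWU (le_centralizer_iff.1 h2)) ?_)⟩
  exact inf_le_inf_left _ (centralizer_le hb2)

/-- **(i)**: a minimal nontrivial member centralises `V`, or `C_B(V) = C_A(U)` and `U = V C_U(B)`. -/
theorem BB.min (hU : U ≤ centralizer (U : Set G)) (h : BB U A B)
    (hmin : ∀ B', BB U A B' → B' ≤ B → B' = A ⊓ centralizer (U : Set G) ∨ B' = B) {V : Subgroup G} (hV : V ≤ U)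
    (hn : Nat.card B * Nat.card (V ⊓ centralizer (B : Set G) : Subgroup G) ≤
      Nat.card V * Nat.card (B ⊓ centralizer (V : Set G) : Subgroup G)) :
    B ≤ centralizer (V : Set G) ∨
      (B ⊓ centralizer (V : Set G) = A ⊓ centralizer (U : Set G) ∧ V ⊔ U ⊓ centralizer (B : Set G) = U) := by
  obtain ⟨h1, h2⟩ := h.line hU hV hn
  rcases hmin _ h1 inf_le_left with h3 | h3
  · right
    refine ⟨h3, ?_⟩
    rw [h3, inf_eq_left.2 (le_centralizer_iff.1 inf_le_right)] at h2
    exact h2.symm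
  · left
    exact inf_eq_left.1 h3

/-- The one-sided form of (ii): no nontrivial member centralises the lines. -/
theorem one_side (hU : U ≤ centralizer (U : Set G)) {L : Set (Subgroup G)} (hL : ∀ V ∈ L, V ≤ U)
    (hn : ∀ V ∈ L, ∀ B' ≤ A, Nat.card B' * Nat.card (V ⊓ centralizer (B' : Set G) : Subgroup G) ≤
      Nat.card V * Nat.card (B' ⊓ centralizer (V : Set G) : Subgroup G))
    (hno : ∀ B, BB U A B → B ≤ centralizer ((sSup L : Subgroup G) : Set G) → B ≤ centralizer (U : Set G)) :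
    (∀ B, BB U A B → sSup L ⊔ U ⊓ centralizer (B : Set G) = U) ∧
      ∀ B, BB U A B → ff U B = Nat.card U * Nat.card (A ⊓ centralizer (U : Set G) : Subgroup G) := by
  have key : ∀ B, BB U A B → B ⊓ centralizer ((sSup L : Subgroup G) : Set G) = A ⊓ centralizer (U : Set G) := by
    intro B hB
    obtain ⟨h1, -⟩ := hB.lines hU hL hn
    exact le_antisymm (le_inf h1.le (hno _ h1 inf_le_right)) h1.ge
  have h0 : BB U A (A ⊓ centralizer (U : Set G)) := by
    obtain ⟨B, hB⟩ := exists_BB U A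
    have := (hB.lines hU hL hn).1
    rwa [key B hB] at this
  have e0 : U ⊓ centralizer ((A ⊓ centralizer (U : Set G) : Subgroup G) : Set G) = U :=
    inf_eq_left.2 (le_centralizer_iff.1 inf_le_right)
  refine ⟨fun B hB => ?_, fun B hB => ?_⟩
  · have h1 := (hB.lines hU hL hn).2
    rw [key B hB, e0] at h1
    exact h1.symm
  · have h1 := hB.max _ h0.ge h0.le
    have h2 := h0.max _ hB.ge hB.le
    have h3 : ff U (A ⊓ centralizer (U : Set G)) =
        Nat.card U * Nat.card (A ⊓ centralizer (U : Set G) : Subgroup G) := by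
      unfold ff
      rw [e0, Nat.mul_comm]
    omega

/-- **(ii)**: on at least one side a nontrivial member centralises the lines. -/
theorem two_sides (hU : U ≤ centralizer (U : Set G)) (hA : A ≤ centralizer (A : Set G))
    (hne : ¬ U ≤ centralizer (A : Set G)) {L L' : Set (Subgroup G)} (hL : ∀ V ∈ L, V ≤ U) (hL' : ∀ V ∈ L', V ≤ A)
    (hn : ∀ V ∈ L, ∀ B ≤ A, Nat.card B * Nat.card (V ⊓ centralizer (B : Set G) : Subgroup G) ≤
      Nat.card V * Nat.card (B ⊓ centralizer (V : Set G) : Subgroup G))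
    (hn' : ∀ V ∈ L', ∀ B ≤ U, Nat.card B * Nat.card (V ⊓ centralizer (B : Set G) : Subgroup G) ≤
      Nat.card V * Nat.card (B ⊓ centralizer (V : Set G) : Subgroup G))
    (hcom : ∀ V ∈ L, ∀ V' ∈ L', V ≤ centralizer (V' : Set G)) :
    (∃ B, BB U A B ∧ B ≤ centralizer ((sSup L : Subgroup G) : Set G) ∧ ¬ B ≤ centralizer (U : Set G)) ∨
      ∃ B, BB A U B ∧ B ≤ centralizer ((sSup L' : Subgroup G) : Set G) ∧ ¬ B ≤ centralizer (A : Set G) := by
  by_contra hcon
  push Not at hcon
  obtain ⟨h1, h2⟩ := hcon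
  obtain ⟨a1, a2⟩ := one_side hU hL hn h1
  obtain ⟨b1, b2⟩ := one_side hA hL' hn' h2
  -- `A` and `U` are members
  obtain ⟨B, hB⟩ := exists_BB U A
  obtain ⟨B', hB'⟩ := exists_BB A U
  have h3 := hB'.max U inf_le_left le_rfl
  have h4 := hB.max A inf_le_left le_rfl
  rw [b2 B' hB'] at h3
  rw [a2 B hB] at h4
  have hmemA : BB U A A := by
    refine hB.of_le inf_le_left le_rfl ?_
    rw [a2 B hB]
    exact h3
  have hmemU : BB A U U := by
    refine hB'.of_le inf_le_left le_rfl ?_
    rw [b2 B' hB']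
    exact h4
  have e1 := a1 A hmemA
  have e2 := b1 U hmemU
  have h5 : sSup L ≤ centralizer (A : Set G) := by
    rw [← e2, inf_centralizer_sup]
    refine le_inf (sSup_le fun V hV => ?_) ((sSup_le hL).trans (le_centralizer_iff.1 inf_le_right))
    rw [le_centralizer_iff]
    exact sSup_le fun V' hV' => le_centralizer_iff.1 (hcom V hV V' hV')
  apply hne
  rw [← e1]
  exact sup_le h5 inf_le_right

/-! ### Conjugation -/

omit [Finite G] in
theorem card_conj (g : G) (A : Subgroup G) : Nat.card (MulAut.conj g • A : Subgroup G) = Nat.card A :=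
  Nat.card_congr (Subgroup.equivSMul (MulAut.conj g) A).symm.toEquiv

omit [Finite G] in
theorem conj_inf_centralizer (g : G) (U B : Subgroup G) :
    MulAut.conj g • (U ⊓ centralizer (B : Set G)) =
      MulAut.conj g • U ⊓ centralizer ((MulAut.conj g • B : Subgroup G) : Set G) := by
  rw [Subgroup.smul_inf, Cfsg.Agent.Omega.NO3L.NullTools.conj_centralizer]

omit [Finite G] in
theorem ff_conj (g : G) (U B : Subgroup G) : ff (MulAut.conj g • U) (MulAut.conj g • B) = ff U B := by
  unfold ff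
  rw [← conj_inf_centralizer, card_conj, card_conj]

omit [Finite G] in
theorem BB.conj (h : BB U A B) (g : G) : BB (MulAut.conj g • U) (MulAut.conj g • A) (MulAut.conj g • B) := by
  refine ⟨?_, conj_le_iff.2 h.le, fun B' h1 h2 => ?_⟩
  · rw [← conj_inf_centralizer]
    exact conj_le_iff.2 h.ge
  · obtain ⟨B', rfl⟩ : ∃ C : Subgroup G, B' = MulAut.conj g • C := ⟨MulAut.conj g⁻¹ • B', (conj_conj_inv g B').symm⟩
    rw [← conj_inf_centralizer] at h1
    rw [ff_conj, ff_conj]
    exact h.max _ (conj_le_iff.1 h1) (conj_le_iff.1 h2)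

end abs

/-! ### Points and lines of a long group -/

section pts

variable [Finite G] (S : Sylow 2 G) {H K : Subgroup G} {x : G}

omit [Finite G] in
theorem normalizer_zc_le (S : Subgroup G) : normalizer (zc S : Set G) ≤ normalizer (o2 (CZ S) : Set G) :=
  (NoFF.LinesPlug.normalizer_le_normalizer_centralizer' _).trans (normalizer_le_normalizer_o2' _)

/-- `N_H(Z)` normalises the product of the lines of `H` on `Z`. -/
theorem normW (hC : CZ (S : Subgroup G) ≤ H) :
    H ⊓ normalizer (zc (S : Subgroup G) : Set G) ≤ normalizer (W (S : Subgroup G) H : Set G) := by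
  have hSC : (S : Subgroup G) ≤ CZ (S : Subgroup G) := le_CZ S
  refine Cfsg.Agent.Omega.NO3L.NullTools.le_normalizer_of_conj fun y hy => ?_
  have h1 : MulAut.conj y • (S : Subgroup G) ≤ CZ (S : Subgroup G) := by
    have h2 : MulAut.conj y • CZ (S : Subgroup G) = CZ (S : Subgroup G) := by
      unfold CZ
      rw [← Cfsg.Agent.Omega.NO3L.NullTools.conj_centralizer, conj_eq_of_mem hy.2]
    rw [← h2]
    exact conj_le_iff.2 hSC
  obtain ⟨c, hc, h2⟩ := NoFF.Main.exists_le_conj S hSC
    (S.isPGroup'.map (MulAut.conj y).toMonoidHom) h1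
  have h3 : MulAut.conj y • (S : Subgroup G) = MulAut.conj c • (S : Subgroup G) := by
    refine Subgroup.eq_of_le_of_card_ge h2 ?_
    rw [card_conj]
    exact (card_conj y _).ge
  have h4 : MulAut.conj (c⁻¹ * y) • (S : Subgroup G) = (S : Subgroup G) := by
    rw [← conj_conj, h3, conj_conj, inv_mul_cancel, map_one, one_smul]
  have hn : c⁻¹ * y ∈ H := H.mul_mem (H.inv_mem (hC hc)) hy.1
  have h5 : MulAut.conj (c⁻¹ * y) • W (S : Subgroup G) H ≤ W (S : Subgroup G) H := by
    rw [Subgroup.pointwise_smul_subset_iff]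
    refine W_le fun P hP hPH d hd => ?_
    rw [← Subgroup.pointwise_smul_subset_iff, conj_conj]
    have e : c⁻¹ * y * d = (c⁻¹ * y * d * (c⁻¹ * y)⁻¹) * (c⁻¹ * y) := by group
    have h6 : c⁻¹ * y ∈ normalizer (zc (S : Subgroup G) : Set G) :=
      mul_mem (inv_mem (centralizer_le_normalizer _ hc)) hy.2
    have h7 : c⁻¹ * y * d * (c⁻¹ * y)⁻¹ ∈ CZ (S : Subgroup G) :=
      (mem_normalizer_iff.1 (NoFF.LinesPlug.normalizer_le_normalizer_centralizer' _ h6) d).1 hd
    rw [e, ← conj_conj, ← Cfsg.Agent.Omega.NO3L.NullTools.zl_conj, h4]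
    refine le_W ?_ ?_ h7
    · have := Cfsg.Agent.Omega.NO3L.NullTools.isParS_conj hP (c⁻¹ * y)
      rwa [h4] at this
    · rw [← Cfsg.Agent.Omega.NO3L.NullTools.conj_eq_of_mem hn]
      exact conj_le_iff.2 hPH
  have h6 := conj_le_iff (g := c) |>.2 h5
  rw [conj_conj, mul_inv_cancel_left, conj_eq_of_mem (CZ_le_normalizer_W _ _ hc)] at h6
  exact h6

omit [Finite G] in
/-- **LEMMA Q** (helper861): `B ≤ Q`, `B` centralises `W` and `W^p`, `V_P ≤ W`, `p ∈ P`, `C ≤ N(W)`: `B ≤ Q^p`. -/
theorem lemQ {W B P : Subgroup G} (hW : CZ (S : Subgroup G) ≤ normalizer (W : Set G))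
    (hP : zl (S : Subgroup G) P ≤ W) (hB : B ≤ o2 (CZ (S : Subgroup G))) (h : B ≤ centralizer (zl (S : Subgroup G) P : Set G))
    {p : G} (hp : p ∈ P) (h' : B ≤ centralizer ((MulAut.conj p • W : Subgroup G) : Set G)) :
    B ≤ o2 (centralizer (zl (S : Subgroup G) P : Set G)) ∧ B ≤ MulAut.conj p • o2 (CZ (S : Subgroup G)) := by
  have hVC : centralizer (zl (S : Subgroup G) P : Set G) ≤ CZ (S : Subgroup G) :=
    centralizer_le (zc_le_zl _ _)
  have h1 : o2 (CZ (S : Subgroup G)) ⊓ centralizer (zl (S : Subgroup G) P : Set G) ≤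
      o2 (centralizer (zl (S : Subgroup G) P : Set G)) := by
    refine le_o2 inf_le_right ((o2_isPGroup _).to_le inf_le_left) fun y hy => ?_
    have h2 := le_normalizer_o2 _ (hVC hy)
    rw [mem_normalizer_iff] at h2 ⊢
    intro z
    rw [mem_inf, mem_inf, h2 z]
    refine and_congr_right fun _ => ?_
    exact (mem_normalizer_iff.1 (le_normalizer hy) z)
  have hB1 := (le_inf hB h).trans h1
  refine ⟨hB1, ?_⟩
  -- `C_G(W^p) ≤ C_G(V_P)`
  have hVp : zl (S : Subgroup G) P ≤ MulAut.conj p • W := by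
    rw [← conj_eq_of_mem (le_normalizer_zl (S : Subgroup G) P hp)]
    exact conj_le_iff.2 hP
  have h3 : centralizer ((MulAut.conj p • W : Subgroup G) : Set G) ≤ centralizer (zl (S : Subgroup G) P : Set G) :=
    centralizer_le hVp
  have h4 : B ≤ o2 (centralizer ((MulAut.conj p • W : Subgroup G) : Set G)) := by
    refine (le_inf hB1 h').trans (le_o2 inf_le_right ((o2_isPGroup _).to_le inf_le_left) fun y hy => ?_)
    have h2 := le_normalizer_o2 _ (h3 hy)
    rw [mem_normalizer_iff] at h2 ⊢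
    intro z
    rw [mem_inf, mem_inf, h2 z]
    refine and_congr_right fun _ => ?_
    exact (mem_normalizer_iff.1 (le_normalizer hy) z)
  refine h4.trans ?_
  -- `O₂(C_G(W)) ≤ O₂(C_G(Z))`
  have hZW : zc (S : Subgroup G) ≤ W := (zc_le_zl _ _).trans hP
  have h5 : o2 (centralizer (W : Set G)) ≤ o2 (CZ (S : Subgroup G)) := by
    refine le_o2 ((MinSimple.VModule.o2_le _).trans (centralizer_le hZW)) (o2_isPGroup _) ?_
    exact (hW.trans (NoFF.LinesPlug.normalizer_le_normalizer_centralizer' _)).trans (normalizer_le_normalizer_o2' _)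
  have h6 : o2 (centralizer ((MulAut.conj p • W : Subgroup G) : Set G)) = MulAut.conj p • o2 (centralizer (W : Set G)) := by
    rw [Cfsg.Agent.Omega.NO3L.NullTools.conj_centralizer]
    exact o2_map_equiv (MulAut.conj p) _
  rw [h6]
  exact conj_le_iff.2 h5

omit [Finite G] in
theorem o2_conj' (g : G) (A : Subgroup G) : o2 (MulAut.conj g • A) = MulAut.conj g • o2 A :=
  o2_map_equiv (MulAut.conj g) A

omit [Finite G] in
theorem zl_le_W' {S P : Subgroup G} (hP : IsParS S P) (hPH : P ≤ H) : zl S P ≤ W S H := by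
  have := le_W hP hPH (one_mem (CZ S))
  rwa [map_one, one_smul] at this

/-- **(iii)** (helper872): a subgroup `B ≤ Q` centralising the lines of `H` on `Z`, but not `U_H`, moves along to the
first point where it does not centralise the lines. -/
theorem exists_move (hH : IsLong (S : Subgroup G) H) {B : Subgroup G} (hB : B ≤ o2 (CZ (S : Subgroup G)))
    (hBW : B ≤ centralizer (W (S : Subgroup G) H : Set G)) (hn : ¬ B ≤ centralizer (zl (S : Subgroup G) H : Set G)) :
    ∃ h ∈ H, ∃ P, IsParS (S : Subgroup G) P ∧ P ≤ H ∧ ∃ p ∈ P,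
      B ≤ MulAut.conj h • o2 (CZ (S : Subgroup G)) ∧
      B ≤ centralizer ((MulAut.conj h • W (S : Subgroup G) H : Subgroup G) : Set G) ∧
      B ≤ o2 (centralizer ((MulAut.conj h • zl (S : Subgroup G) P : Subgroup G) : Set G)) ∧
      ¬ B ≤ centralizer ((MulAut.conj (h * p) • W (S : Subgroup G) H : Subgroup G) : Set G) := by
  by_contra hcon
  push Not at hcon
  -- the good elements of `H`
  let good : G → Prop := fun h => h ∈ H ∧ B ≤ MulAut.conj h • o2 (CZ (S : Subgroup G)) ∧
    B ≤ centralizer ((MulAut.conj h • W (S : Subgroup G) H : Subgroup G) : Set G)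
  have hWn := normW S hH.cz
  -- one line
  have step : ∀ P, IsParS (S : Subgroup G) P → P ≤ H → ∀ p ∈ P, ∀ h, good h → good (h * p) := by
    rintro P hP hPH p hp h ⟨hh, h1, h2⟩
    have hPW : zl (S : Subgroup G) P ≤ W (S : Subgroup G) H := zl_le_W' hP hPH
    have h1' : MulAut.conj h⁻¹ • B ≤ o2 (CZ (S : Subgroup G)) := by
      have := (conj_le_iff (g := h⁻¹)).2 h1
      rwa [conj_inv_conj] at this
    have h2' : MulAut.conj h⁻¹ • B ≤ centralizer (W (S : Subgroup G) H : Set G) := by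
      have := conj_le_centralizer (g := h⁻¹) h2
      rwa [conj_inv_conj] at this
    have h3' : MulAut.conj h⁻¹ • B ≤ centralizer (zl (S : Subgroup G) P : Set G) :=
      h2'.trans (centralizer_le hPW)
    have h4 : B ≤ centralizer ((MulAut.conj (h * p) • W (S : Subgroup G) H : Subgroup G) : Set G) := by
      by_contra h5
      refine h5 (hcon h hh P hP hPH p hp h1 h2 ?_)
      have h6 := (lemQ S (p := 1) (P := P) (CZ_le_normalizer_W _ _) hPW h1' h3' P.one_mem
        (by rw [map_one, one_smul]; exact h2')).1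
      have h7 := (conj_le_iff (g := h)).2 h6
      rw [conj_conj_inv] at h7
      rwa [← o2_conj', ← Cfsg.Agent.Omega.NO3L.NullTools.conj_centralizer] at h7
    refine ⟨H.mul_mem hh (hPH hp), ?_, h4⟩
    have h5 : MulAut.conj h⁻¹ • B ≤ centralizer ((MulAut.conj p • W (S : Subgroup G) H : Subgroup G) : Set G) := by
      have := conj_le_centralizer (g := h⁻¹) h4
      rwa [conj_conj, inv_mul_cancel_left] at this
    have h6 := (lemQ S (CZ_le_normalizer_W _ _) hPW h1' h3' hp h5).2
    have h7 := (conj_le_iff (g := h)).2 h6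
    rwa [conj_conj_inv, conj_conj] at h7
  -- the normaliser of `Z`
  have fix : ∀ y ∈ H ⊓ normalizer (zc (S : Subgroup G) : Set G), ∀ h, good h → good (h * y) := by
    rintro y hy h ⟨hh, h1, h2⟩
    refine ⟨H.mul_mem hh hy.1, ?_, ?_⟩
    · rw [← conj_conj, conj_eq_of_mem (normalizer_zc_le _ hy.2)]
      exact h1
    · rw [← conj_conj, conj_eq_of_mem (hWn hy)]
      exact h2
  let Y : Subgroup G :=
    { carrier := {y | y ∈ H ∧ ∀ h, good h ↔ good (h * y)}
      one_mem' := ⟨H.one_mem, fun h => by rw [mul_one]⟩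
      mul_mem' := by
        rintro a b ⟨ha, ha'⟩ ⟨hb, hb'⟩
        refine ⟨H.mul_mem ha hb, fun h => ?_⟩
        rw [← mul_assoc, ha' h]
        exact hb' (h * a)
      inv_mem' := by
        rintro a ⟨ha, ha'⟩
        refine ⟨H.inv_mem ha, fun h => ?_⟩
        have h1 := ha' (h * a⁻¹)
        rw [inv_mul_cancel_right] at h1
        exact h1.symm }
  have leY : ∀ P : Subgroup G, P ≤ H → (∀ y ∈ P, ∀ h, good h → good (h * y)) → P ≤ Y := by
    intro P hPH h1 y hy
    refine ⟨hPH hy, fun h => ⟨h1 y hy h, fun h2 => ?_⟩⟩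
    have h3 := h1 y⁻¹ (P.inv_mem hy) _ h2
    rwa [mul_inv_cancel_right] at h3
  have hHY : H ≤ Y := by
    refine hH.loc.le_of_forall S ?_ fun P hP hPH => ?_
    · refine leY _ inf_le_left fun y hy => fix y ⟨hy.1, ?_⟩
      exact MinSimple.VModule.normalizer_le_normalizer_zc _ hy.2
    · by_cases hPs : P ≤ normalizer (zc (S : Subgroup G) : Set G)
      · exact leY _ hPH fun y hy => fix y ⟨hPH hy, hPs hy⟩
      · exact leY _ hPH fun y hy => step P ⟨hP, hPs⟩ hPH y hy
  have h1 : good 1 := ⟨H.one_mem, by rwa [map_one, one_smul], by rwa [map_one, one_smul]⟩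
  have h2 : ∀ h ∈ H, good h := fun h hh => by
    have := ((hHY hh).2 1).1 h1
    rwa [one_mul] at this
  apply hn
  rw [le_centralizer_iff]
  refine iSup_le fun h => ?_
  rw [le_centralizer_iff]
  refine ((h2 h h.2).2.1.trans (conj_le_iff.2 (MinSimple.VModule.o2_le _))).trans ?_
  exact conj_le_centralizer le_rfl

end pts

/-! ### (ii) -/

section two

variable [Finite G] {S : Sylow 2 G} {H K : Subgroup G} {x : G}

/-- No over-offender on a translate of a line. -/
theorem bhs_conj (hFF : FFThm.Stmt.{u}) (hc : IsCharacteristicTwoType G) (S : Sylow 2 G) {P : Subgroup G}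
    (hP : IsParS (S : Subgroup G) P) {g : G} {B : Subgroup G} (hB : B ≤ MulAut.conj g • (S : Subgroup G)) (hE : Ex B) :
    Nat.card B * Nat.card (MulAut.conj g • zl (S : Subgroup G) P ⊓ centralizer (B : Set G) : Subgroup G) ≤
      Nat.card (MulAut.conj g • zl (S : Subgroup G) P : Subgroup G) *
        Nat.card (B ⊓ centralizer ((MulAut.conj g • zl (S : Subgroup G) P : Subgroup G) : Set G) : Subgroup G) := by
  obtain ⟨B, rfl⟩ : ∃ C : Subgroup G, B = MulAut.conj g • C := ⟨MulAut.conj g⁻¹ • B, (conj_conj_inv g B).symm⟩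
  have hE' : Ex B := by
    have := hE.conj g⁻¹
    rwa [conj_inv_conj] at this
  rw [← conj_inf_centralizer, ← conj_inf_centralizer, card_conj, card_conj, card_conj, card_conj]
  exact JQ.bhs hFF hc S hP (conj_le_iff.1 hB) hE'

/-- The lines of `H` on `Z`. -/
def LL (S H : Subgroup G) : Set (Subgroup G) :=
  {V | ∃ P, IsParS S P ∧ P ≤ H ∧ ∃ c ∈ CZ S, V = MulAut.conj c • zl S P}

omit [Finite G] in
theorem sSup_LL (S H : Subgroup G) : sSup (LL S H) = W S H := by
  apply le_antisymm
  · refine sSup_le ?_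
    rintro _ ⟨P, hP, hPH, c, hc, rfl⟩
    exact le_W hP hPH hc
  · exact W_le fun P hP hPH c hc => le_sSup ⟨P, hP, hPH, c, hc, rfl⟩

omit [Finite G] in
theorem sSup_conj_LL (S H : Subgroup G) (x : G) :
    sSup {V | ∃ V' ∈ LL S H, V = MulAut.conj x • V'} = MulAut.conj x • W S H := by
  apply le_antisymm
  · refine sSup_le ?_
    rintro _ ⟨V', hV', rfl⟩
    rw [← sSup_LL]
    exact conj_le_iff.2 (le_sSup hV')
  · rw [Subgroup.pointwise_smul_subset_iff]
    refine W_le fun P hP hPH c hc => ?_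
    rw [← Subgroup.pointwise_smul_subset_iff]
    exact le_sSup ⟨_, ⟨P, hP, hPH, c, hc, rfl⟩, rfl⟩

/-- The conclusion of (ii) on the side of `U_H`: a nontrivial member of `BB` centralises the lines of `H` on `Z`. -/
structure Side (S H K : Subgroup G) (x : G) (B : Subgroup G) : Prop where
  bb : BB (zl S H) (MulAut.conj x • zl S K) B
  comm : B ≤ centralizer (W S H : Set G)
  ne : ¬ B ≤ centralizer (zl S H : Set G)

/-- **(ii)**: on at least one side a nontrivial member of `BB` centralises the lines on the point. -/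
theorem Star.exists_side (hFF : FFThm.Stmt.{u}) (hc : IsCharacteristicTwoType G) (D : Data (S : Subgroup G))
    (h : Star (S : Subgroup G) H K x) :
    (∃ B, Side (S : Subgroup G) H K x B) ∨ ∃ B, Side (S : Subgroup G) K H x⁻¹ B := by
  have hS : (S : Subgroup G) ≠ ⊥ := by
    intro h0
    have h2 : Fact (Nat.Prime 2) := ⟨Nat.prime_two⟩
    have h1 := S.not_dvd_index
    rw [h0, index_bot] at h1
    exact h1 hc.1.two_dvd
  have hQS : o2 (CZ (S : Subgroup G)) ≤ (S : Subgroup G) := (isLoc_centralizer_zc S hS).o2_le S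
  have hQc : ∀ c ∈ CZ (S : Subgroup G), o2 (CZ (S : Subgroup G)) ≤ MulAut.conj c • (S : Subgroup G) := by
    intro c hcc
    rw [← conj_eq_of_mem (le_normalizer_o2 _ hcc)]
    exact conj_le_iff.2 hQS
  have hU := zl_abel hc S h.long₁.loc
  have hK := zl_abel hc S h.long₂.loc
  have hEU : Ex (zl (S : Subgroup G) H) := hU.2
  have hEA : Ex (MulAut.conj x • zl (S : Subgroup G) K) := Ex.conj hK.2 x
  have hlineH : ∀ V ∈ LL (S : Subgroup G) H, V ≤ zl (S : Subgroup G) H := fun V hV => by
    have := le_sSup hV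
    rw [sSup_LL] at this
    exact this.trans (W_le_zl h.long₁.cz)
  have hlineK : ∀ V ∈ LL (S : Subgroup G) K, V ≤ zl (S : Subgroup G) K := fun V hV => by
    have := le_sSup hV
    rw [sSup_LL] at this
    exact this.trans (W_le_zl h.long₂.cz)
  have k1 : ∀ V ∈ {V | ∃ V' ∈ LL (S : Subgroup G) K, V = MulAut.conj x • V'}, V ≤ MulAut.conj x • zl (S : Subgroup G) K := by
    rintro _ ⟨V', hV', rfl⟩
    exact conj_le_iff.2 (hlineK V' hV')
  have k2 : ∀ V ∈ LL (S : Subgroup G) H, ∀ B ≤ MulAut.conj x • zl (S : Subgroup G) K,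
      Nat.card B * Nat.card (V ⊓ centralizer (B : Set G) : Subgroup G) ≤
        Nat.card V * Nat.card (B ⊓ centralizer (V : Set G) : Subgroup G) := by
    rintro _ ⟨P, hP, hPH, c, hcc, rfl⟩ B hB
    exact bhs_conj hFF hc S hP ((hB.trans h.le₂).trans (hQc c hcc)) (hEA.mono hB)
  have k3 : ∀ V ∈ {V | ∃ V' ∈ LL (S : Subgroup G) K, V = MulAut.conj x • V'}, ∀ B ≤ zl (S : Subgroup G) H,
      Nat.card B * Nat.card (V ⊓ centralizer (B : Set G) : Subgroup G) ≤
        Nat.card V * Nat.card (B ⊓ centralizer (V : Set G) : Subgroup G) := by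
    rintro _ ⟨_, ⟨P, hP, hPH, c, hcc, rfl⟩, rfl⟩ B hB
    rw [conj_conj]
    refine bhs_conj hFF hc S hP ((hB.trans h.le₁).trans ?_) (hEU.mono hB)
    rw [← conj_conj]
    exact conj_le_iff.2 (hQc c hcc)
  have k4 : ∀ V ∈ LL (S : Subgroup G) H, ∀ V' ∈ {V | ∃ V' ∈ LL (S : Subgroup G) K, V = MulAut.conj x • V'},
      V ≤ centralizer (V' : Set G) := by
    rintro _ ⟨P, hP, hPH, c, hcc, rfl⟩ _ ⟨_, ⟨P', hP', hPK, d, hd, rfl⟩, rfl⟩
    rw [conj_conj]
    exact h.lines_comm hc D hP (zl_mono hPH) hP' (zl_mono hPK) hcc hd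
  rcases two_sides hEU.comm hEA.comm h.ne hlineH k1 k2 k3 k4 with ⟨B, h1, h2, h3⟩ | ⟨B, h1, h2, h3⟩
  · rw [sSup_LL] at h2
    exact Or.inl ⟨B, h1, h2, h3⟩
  · rw [sSup_conj_LL] at h2
    refine Or.inr ⟨MulAut.conj x⁻¹ • B, ?_, ?_, ?_⟩
    · have := h1.conj x⁻¹
      rwa [conj_inv_conj] at this
    · have := conj_le_centralizer (g := x⁻¹) h2
      rwa [conj_inv_conj] at this
    · intro h4
      have := conj_le_centralizer (g := x) h4
      rw [conj_conj_inv] at this
      exact h3 this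

/-- **(CH)** for the pair: a member, cut down by the lines of `H` on `Z`. -/
theorem Star.bb_lines (hFF : FFThm.Stmt.{u}) (hc : IsCharacteristicTwoType G)
    (h : Star (S : Subgroup G) H K x) {B : Subgroup G} (hB : BB (zl (S : Subgroup G) H) (MulAut.conj x • zl (S : Subgroup G) K) B) :
    BB (zl (S : Subgroup G) H) (MulAut.conj x • zl (S : Subgroup G) K) (B ⊓ centralizer (W (S : Subgroup G) H : Set G)) ∧
      zl (S : Subgroup G) H ⊓ centralizer ((B ⊓ centralizer (W (S : Subgroup G) H : Set G) : Subgroup G) : Set G) =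
        W (S : Subgroup G) H ⊔ zl (S : Subgroup G) H ⊓ centralizer (B : Set G) := by
  have hS : (S : Subgroup G) ≠ ⊥ := by
    intro h0
    have h2 : Fact (Nat.Prime 2) := ⟨Nat.prime_two⟩
    have h1 := S.not_dvd_index
    rw [h0, index_bot] at h1
    exact h1 hc.1.two_dvd
  have hQS : o2 (CZ (S : Subgroup G)) ≤ (S : Subgroup G) := (isLoc_centralizer_zc S hS).o2_le S
  have hEU : Ex (zl (S : Subgroup G) H) := (zl_abel hc S h.long₁.loc).2
  have hEA : Ex (MulAut.conj x • zl (S : Subgroup G) K) := Ex.conj (zl_abel hc S h.long₂.loc).2 x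
  have h1 := BB.lines hEU.comm hB (L := LL (S : Subgroup G) H) (fun V hV => by
    have := le_sSup hV
    rw [sSup_LL] at this
    exact this.trans (W_le_zl h.long₁.cz)) (by
    rintro _ ⟨P, hP, hPH, c, hcc, rfl⟩ B hB
    refine bhs_conj hFF hc S hP ((hB.trans h.le₂).trans ?_) (hEA.mono hB)
    rw [← conj_eq_of_mem (le_normalizer_o2 _ hcc)]
    exact conj_le_iff.2 hQS)
  rwa [sSup_LL] at h1

omit [Finite G] in
/-- The members are in `Q`. -/
theorem Side.le_Q (h : Star (S : Subgroup G) H K x) {B : Subgroup G} (hB : Side (S : Subgroup G) H K x B) :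
    B ≤ o2 (CZ (S : Subgroup G)) := hB.bb.le.trans h.le₂

/-- **(ii) + (iii)**: the member moves along to a point where it does not centralise the lines. -/
theorem Side.exists_move (h : Star (S : Subgroup G) H K x) {B : Subgroup G} (hB : Side (S : Subgroup G) H K x B) :
    ∃ g ∈ H, ∃ P, IsParS (S : Subgroup G) P ∧ P ≤ H ∧ ∃ p ∈ P,
      B ≤ MulAut.conj g • o2 (CZ (S : Subgroup G)) ∧
      B ≤ centralizer ((MulAut.conj g • W (S : Subgroup G) H : Subgroup G) : Set G) ∧
      B ≤ o2 (centralizer ((MulAut.conj g • zl (S : Subgroup G) P : Subgroup G) : Set G)) ∧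
      ¬ B ≤ centralizer ((MulAut.conj (g * p) • W (S : Subgroup G) H : Subgroup G) : Set G) :=
  Chain.exists_move S h.long₁ (hB.le_Q h) hB.comm hB.ne

/-- **THEOREM JQ with LEMMA Q**: some `A ≤ Q` of maximal order contains all lines on `Z`, but does not centralise the
lines on a point `Z^p` collinear with `Z`. -/
theorem exists_jq_line (hFF : FFThm.Stmt.{u}) (h : Ctx G) (S : Sylow 2 G) (hF : Full (S : Subgroup G))
    (D : Data (S : Subgroup G)) : ∃ A : Subgroup G, MxIn (o2 (CZ (S : Subgroup G))) A ∧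
      WP (S : Subgroup G) ≤ A ∧ ∃ P : Subgroup G, IsParS (S : Subgroup G) P ∧ ∃ p ∈ P,
        A ≤ o2 (centralizer (zl (S : Subgroup G) P : Set G)) ∧
        ¬ A ≤ centralizer ((MulAut.conj p • WP (S : Subgroup G) : Subgroup G) : Set G) := by
  obtain ⟨A, hA, hW, P, hP, p, hp, hn⟩ := NoFF.ThmJQ.thmJQ (Basic.geo h.char2 D) (h.exists_isParS hF)
    (MinSimple.Basic.zc_ne_bot S.isPGroup' (h.sylow_ne_bot S)) (fun U hU h1 h2 => eq_bot_of_norm h S hF hU h1 h2)
    (JQ.nrm hFF h S D)
  have hWn : CZ (S : Subgroup G) ≤ normalizer (WP (S : Subgroup G) : Set G) :=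
    Cfsg.Agent.Omega.NO3L.NullTools.le_normalizer_of_conj fun c hc => (conj_WP hc).le
  have hAV : A ≤ centralizer (zl (S : Subgroup G) P : Set G) :=
    hA.1.comm.trans (centralizer_le ((zl_le_WP hP).trans hW))
  refine ⟨A, hA, hW, P, hP, p, hp, ?_, fun hcen => hn ?_⟩
  · refine (lemQ S (p := 1) hWn (zl_le_WP hP) hA.2.1 hAV P.one_mem ?_).1
    rw [map_one, one_smul]
    exact hA.1.comm.trans (centralizer_le hW)
  · exact (lemQ S hWn (zl_le_WP hP) hA.2.1 hAV hp hcen).2

end two

end Cfsg.Agent.Omega.NOThreeL.Chain
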