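import Mathlib.GroupTheory.Index
import Mathlib.GroupTheory.GroupAction.ConjAct
import Mathlib.GroupTheory.Coset.Card
import Mathlib.Algebra.Group.Subgroup.Pointwise
import Mathlib.Data.Set.Card
import Mathlib.Data.Nat.Prime.Basic
import Mathlib.Tactic.Ring
import Mathlib.Tactic.Group

/-!
# (DIV): the number of incident points divides the length of every orbit of conjugates of `Z`

K-free. `H` is a subgroup with `C_G(Z) ≤ H` (a point stabilizer), `R = Z^g` an arbitrary conjugate of `Z`.
Then `C_H(R) ≤ C_G(R)`, so `|C_H(R)|` divides `|C_G(Z)|` and `|H : C_G(Z)|` divides `|H : C_H(R)|`.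

* `index_dvd` : subgroups `Z`;
* `orb H x` : the orbit of `x` under conjugation by `H`; `card_orb_dvd` : the same for an element `z`;
* `card_cent_dvd` : `|C_H(r)|` divides `|C_G(z)|`;
* `eq_zero_of_pow_dvd`, `supp_dvd`, `one_of_dvd` : the numerical consequences for `k = 2 ^ s` components.
-/

set_option autoImplicit false

namespace Cfsg.Agent.Omega.NOThreeL.Div

open Subgroup
open scoped Pointwise

variable {G : Type*} [Group G]

theorem centralizer_conj (g : G) (Z : Subgroup G) :
    centralizer ((MulAut.conj g • Z : Subgroup G) : Set G) = MulAut.conj g • centralizer (Z : Set G) := by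
  ext x
  rw [Subgroup.mem_pointwise_smul_iff_inv_smul_mem, ← map_inv, MulAut.smul_def, MulAut.conj_apply, inv_inv,
    mem_centralizer_iff, mem_centralizer_iff]
  constructor
  · intro h y hy
    have h1 := h (g * y * g⁻¹) (Subgroup.smul_mem_pointwise_smul y (MulAut.conj g) Z hy)
    have e1 : y * (g⁻¹ * x * g) = g⁻¹ * (g * y * g⁻¹ * x) * g := by group
    have e2 : g⁻¹ * x * g * y = g⁻¹ * (x * (g * y * g⁻¹)) * g := by group
    rw [e1, e2, h1]
  · rintro h y hy
    have hy' : g⁻¹ * y * g ∈ Z := by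
      have h2 := Subgroup.mem_pointwise_smul_iff_inv_smul_mem.mp hy
      rwa [← map_inv, MulAut.smul_def, MulAut.conj_apply, inv_inv] at h2
    have h1 := h _ hy'
    have e1 : y * x = g * (g⁻¹ * y * g * (g⁻¹ * x * g)) * g⁻¹ := by group
    have e2 : x * y = g * (g⁻¹ * x * g * (g⁻¹ * y * g)) * g⁻¹ := by group
    rw [e1, e2, h1]

theorem card_conj (g : G) (A : Subgroup G) :
    Nat.card (MulAut.conj g • A : Subgroup G) = Nat.card A :=
  (Nat.card_congr (Subgroup.equivSMul (MulAut.conj g) A).toEquiv).symm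

/-- `|C_H(Z^g)|` divides `|C_G(Z)|`. -/
theorem card_inf_dvd (H Z : Subgroup G) (g : G) :
    Nat.card (H ⊓ centralizer ((MulAut.conj g • Z : Subgroup G) : Set G) : Subgroup G) ∣
      Nat.card (centralizer (Z : Set G)) := by
  refine (Subgroup.card_dvd_of_le inf_le_right).trans ?_
  rw [centralizer_conj, card_conj]

variable [Finite G]

/-- **(DIV)** for subgroups: `|H : C_G(Z)|` divides `|H : C_H(R)|` for every conjugate `R` of `Z`. -/
theorem index_dvd {H Z : Subgroup G} (hZ : centralizer (Z : Set G) ≤ H) (g : G) :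
    (centralizer (Z : Set G)).relIndex H ∣
      (H ⊓ centralizer ((MulAut.conj g • Z : Subgroup G) : Set G)).relIndex H := by
  have h1 := Subgroup.relIndex_mul_relIndex (⊥ : Subgroup G) (centralizer (Z : Set G)) H bot_le hZ
  have h2 := Subgroup.relIndex_mul_relIndex (⊥ : Subgroup G)
    (H ⊓ centralizer ((MulAut.conj g • Z : Subgroup G) : Set G)) H bot_le inf_le_left
  rw [relIndex_bot_left, relIndex_bot_left] at h1 h2
  obtain ⟨c, hc⟩ := card_inf_dvd H Z g
  have h3 : Nat.card (H ⊓ centralizer ((MulAut.conj g • Z : Subgroup G) : Set G) : Subgroup G) *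
      (c * (centralizer (Z : Set G)).relIndex H) =
      Nat.card (H ⊓ centralizer ((MulAut.conj g • Z : Subgroup G) : Set G) : Subgroup G) *
      (H ⊓ centralizer ((MulAut.conj g • Z : Subgroup G) : Set G)).relIndex H := by
    rw [h2, ← h1, hc]
    ring
  have h4 := Nat.eq_of_mul_eq_mul_left Nat.card_pos h3
  exact ⟨c, by rw [← h4]; ring⟩

/-! ### Elements -/

/-- The orbit of `x` under conjugation by `H`. -/
def orb (H : Subgroup G) (x : G) : Set G := {y | ∃ h ∈ H, y = h * x * h⁻¹}

omit [Finite G] in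
theorem mem_orb_self (H : Subgroup G) (x : G) : x ∈ orb H x := ⟨1, H.one_mem, by group⟩

omit [Finite G] in
/-- `|x^H| |C_H(x)| = |H|` -/
theorem card_orb (H : Subgroup G) (x : G) :
    Nat.card (orb H x) * Nat.card (H ⊓ centralizer ({x} : Set G) : Subgroup G) = Nat.card H := by
  classical
  let f : H ⧸ (centralizer ({x} : Set G)).subgroupOf H → orb H x :=
    Quotient.lift (fun h : H => (⟨(h : G) * x * (h : G)⁻¹, h, h.2, rfl⟩ : orb H x)) (by
      intro a b hab
      have h1 : a⁻¹ * b ∈ (centralizer ({x} : Set G)).subgroupOf H := QuotientGroup.leftRel_apply.mp hab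
      rw [mem_subgroupOf, mem_centralizer_singleton_iff] at h1
      apply Subtype.ext
      have h2 : (a : G)⁻¹ * b * x = x * ((a : G)⁻¹ * b) := h1
      calc (a : G) * x * (a : G)⁻¹ = (a : G) * (x * ((a : G)⁻¹ * b)) * (b : G)⁻¹ := by group
        _ = (a : G) * ((a : G)⁻¹ * b * x) * (b : G)⁻¹ := by rw [h2]
        _ = (b : G) * x * (b : G)⁻¹ := by group)
  have hf : Function.Bijective f := by
    constructor
    · intro a b
      induction a using QuotientGroup.induction_on with | _ a =>
      induction b using QuotientGroup.induction_on with | _ b =>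
      intro hab
      have h1 : (a : G) * x * (a : G)⁻¹ = (b : G) * x * (b : G)⁻¹ := congrArg Subtype.val hab
      rw [QuotientGroup.eq, mem_subgroupOf, mem_centralizer_singleton_iff]
      change (a : G)⁻¹ * b * x = x * ((a : G)⁻¹ * b)
      calc (a : G)⁻¹ * b * x = (a : G)⁻¹ * ((b : G) * x * (b : G)⁻¹) * b := by group
        _ = (a : G)⁻¹ * ((a : G) * x * (a : G)⁻¹) * b := by rw [h1]
        _ = x * ((a : G)⁻¹ * b) := by group
    · rintro ⟨y, h, hh, rfl⟩
      exact ⟨QuotientGroup.mk ⟨h, hh⟩, rfl⟩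
  have h1 : Nat.card (orb H x) = Nat.card (H ⧸ (centralizer ({x} : Set G)).subgroupOf H) :=
    (Nat.card_congr (Equiv.ofBijective f hf)).symm
  have h2 : Nat.card (H ⊓ centralizer ({x} : Set G) : Subgroup G) =
      Nat.card ((centralizer ({x} : Set G)).subgroupOf H) := by
    rw [← Subgroup.inf_subgroupOf_left]
    exact (Nat.card_congr (subgroupOfEquivOfLe (inf_le_left : H ⊓ centralizer ({x} : Set G) ≤ H)).toEquiv).symm
  rw [h1, h2]
  exact (Subgroup.card_eq_card_quotient_mul_card_subgroup _).symm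

theorem card_orb_pos (H : Subgroup G) (x : G) : 0 < Nat.card (orb H x) := by
  have : Nonempty (orb H x) := ⟨⟨x, mem_orb_self H x⟩⟩
  exact Nat.card_pos

omit [Finite G] in
theorem centralizer_conj_singleton (g z : G) :
    Nat.card (centralizer ({g * z * g⁻¹} : Set G)) = Nat.card (centralizer ({z} : Set G)) := by
  refine (Nat.card_congr (Equiv.subtypeEquiv (MulAut.conj g).toEquiv fun x => ?_)).symm
  change x ∈ centralizer ({z} : Set G) ↔ g * x * g⁻¹ ∈ centralizer ({g * z * g⁻¹} : Set G)
  rw [mem_centralizer_singleton_iff, mem_centralizer_singleton_iff]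
  constructor
  · intro h
    calc g * x * g⁻¹ * (g * z * g⁻¹) = g * (x * z) * g⁻¹ := by group
      _ = g * (z * x) * g⁻¹ := by rw [h]
      _ = g * z * g⁻¹ * (g * x * g⁻¹) := by group
  · intro h
    calc x * z = g⁻¹ * (g * x * g⁻¹ * (g * z * g⁻¹)) * g := by group
      _ = g⁻¹ * (g * z * g⁻¹ * (g * x * g⁻¹)) * g := by rw [h]
      _ = z * x := by group

omit [Finite G] in
/-- `|C_H(r)|` divides `|C_G(z)|` for every conjugate `r` of `z`. -/
theorem card_cent_dvd (H : Subgroup G) {z r : G} (hr : IsConj z r) :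
    Nat.card (H ⊓ centralizer ({r} : Set G) : Subgroup G) ∣ Nat.card (centralizer ({z} : Set G)) := by
  obtain ⟨g, rfl⟩ := isConj_iff.mp hr
  rw [← centralizer_conj_singleton g z]
  exact Subgroup.card_dvd_of_le inf_le_right

/-- **(DIV)** `|z^H|` divides `|r^H|` if `C_G(z) ≤ H` and `r` is a conjugate of `z`. -/
theorem card_orb_dvd {H : Subgroup G} {z r : G} (hz : centralizer ({z} : Set G) ≤ H)
    (hr : IsConj z r) : Nat.card (orb H z) ∣ Nat.card (orb H r) := by
  have h1 := card_orb H z
  have h2 := card_orb H r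
  rw [inf_eq_right.mpr hz] at h1
  obtain ⟨c, hc⟩ := card_cent_dvd H hr
  refine ⟨c, ?_⟩
  have h3 : Nat.card (H ⊓ centralizer ({r} : Set G) : Subgroup G) * Nat.card (orb H r) =
      Nat.card (H ⊓ centralizer ({r} : Set G) : Subgroup G) * (Nat.card (orb H z) * c) := by
    rw [mul_comm _ (Nat.card (orb H r)), h2, ← h1, hc]
    ring
  exact Nat.eq_of_mul_eq_mul_left Nat.card_pos h3

/-- In particular an orbit of conjugates of `z` is at least as long as `z^H`, and equality implies
`C_G(r) ≤ H`. -/
theorem card_orb_le {H : Subgroup G} {z r : G} (hz : centralizer ({z} : Set G) ≤ H)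
    (hr : IsConj z r) : Nat.card (orb H z) ≤ Nat.card (orb H r) :=
  Nat.le_of_dvd (card_orb_pos H r) (card_orb_dvd hz hr)

theorem centralizer_le_of_card_eq {H : Subgroup G} {z r : G} (hz : centralizer ({z} : Set G) ≤ H)
    (hr : IsConj z r) (h : Nat.card (orb H z) = Nat.card (orb H r)) :
    centralizer ({r} : Set G) ≤ H := by
  have h1 := card_orb H z
  have h2 := card_orb H r
  rw [inf_eq_right.mpr hz] at h1
  rw [← h, ← h1] at h2
  have h3 := Nat.eq_of_mul_eq_mul_left (card_orb_pos H z) h2
  obtain ⟨g, rfl⟩ := isConj_iff.mp hr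
  rw [← centralizer_conj_singleton g z] at h3
  have h4 : ((H ⊓ centralizer ({g * z * g⁻¹} : Set G) : Subgroup G) : Set G) =
      (centralizer ({g * z * g⁻¹} : Set G) : Set G) := by
    refine Set.eq_of_subset_of_ncard_le (fun x hx => hx.2) ?_ (Set.toFinite _)
    rw [← Nat.card_coe_set_eq, ← Nat.card_coe_set_eq]
    exact h3.ge
  exact inf_eq_right.mp (SetLike.coe_injective h4)

/-! ### Numerical consequences -/

omit [Finite G] in
/-- an odd number `N > 1` has no power `> 1` dividing a power of 2 -/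
theorem eq_zero_of_pow_dvd {N j s : ℕ} (hN : Odd N) (h1 : 1 < N) (h : N ^ j ∣ 2 ^ s) : j = 0 := by
  by_contra hj
  have h2 : N ∣ 2 ^ s := (dvd_pow_self N hj).trans h
  have h3 : Nat.Coprime N (2 ^ s) := Nat.Coprime.pow_right s (Nat.coprime_two_right.mpr hN)
  have h4 : N = 1 := Nat.Coprime.eq_one_of_dvd h3 h2
  omega

omit [Finite G] in
/-- `k` components with `N` points each, an orbit of length `m N^i` of vectors with support of size `i`:
`N^(k-i)` divides the number `m` of supports. -/
theorem supp_dvd {N k i m : ℕ} (hN : 0 < N) (hi : i ≤ k) (h : N ^ k ∣ m * N ^ i) : N ^ (k - i) ∣ m := by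
  obtain ⟨d, rfl⟩ := Nat.exists_eq_add_of_le hi
  rw [Nat.add_sub_cancel_left]
  rw [pow_add, mul_comm m] at h
  exact Nat.dvd_of_mul_dvd_mul_left (pow_pos hN i) h

omit [Finite G] in
/-- One component carries the conjugate: `N^k` divides `k c` where `k = 2 ^ s` is the number of components,
`N` odd the number of points and `c` the number of vectors of the type in one component; if `c` is a
divisor of `2 ^ b * N` then `k = 1`. -/
theorem one_of_dvd {N s c b : ℕ} (hN : Odd N) (h1 : 1 < N) (hc : c ∣ 2 ^ b * N)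
    (h : N ^ (2 ^ s) ∣ 2 ^ s * c) : s = 0 := by
  by_contra hs
  have h2 : 2 ≤ 2 ^ s := by
    calc 2 = 2 ^ 1 := by norm_num
      _ ≤ 2 ^ s := Nat.pow_le_pow_right (by norm_num) (by omega)
  have h3 : N ^ (2 ^ s) ∣ 2 ^ (s + b) * N ^ 1 := by
    refine h.trans ((Nat.mul_dvd_mul_left (2 ^ s) hc).trans ?_)
    rw [pow_add, pow_one, mul_assoc]
  have h4 := supp_dvd (by omega) (by omega : 1 ≤ 2 ^ s) h3
  have h5 := eq_zero_of_pow_dvd hN h1 h4
  omega

end Cfsg.Agent.Omega.NOThreeL.Div
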