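import Cfsg.Agent.Omega.NOThreeL.EndFiveKey
import Cfsg.Agent.Omega.NO3b.BasePt.MoveFix

/-!
# END5 (#23013): `S` is transitive on the blocks if `C_Z(P) = 1`

Notation of `EndFiveKey.lean`.

* `trans_of` : `P ∈ P(S)`, `P ≤ M`, `P ≰ N_G(Z₁)`, `P = (P ∩ RG)S`, `Z ∩ C(P) = 1`: `S` is transitive on `𝒴`;
* `false_of_dataZ` : **END5 under `DataZ`** (no hypothesis on the transitivity of `S`).
-/

set_option autoImplicit false

namespace Cfsg.Agent.Omega.NOThreeL.EndFiveKey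

open Subgroup Cfsg
open Cfsg.Agent.ZN (o2 zc zl)
open Cfsg.Agent.ZN.ChoiceBase hiding mem_zc
open Cfsg.Agent.ZN.ChoiceSit (syl_not_dvd)
open Cfsg.Agent.MinSimple.EmptyTI (syl_of_le)
open Cfsg.Agent.Omega.MinPar Cfsg.Agent.Omega.Frame Cfsg.Agent.Omega.FrameNOFF
open Cfsg.Agent.Omega.Node.NO3L
open Cfsg.Agent.Omega.NO3b.Wc (WC)
open Cfsg.Agent.Omega.NOThreeL.Merge (HypG)
open Cfsg.Agent.Omega.NOThreeL.Basic (DataZ)
open Cfsg.Agent.Omega.NOThreeL.EndFive (Zo Dat zc_le_Zo mem_norm_inf)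
open Cfsg.Agent.MinSimple.VModule (zc_le_zl le_normalizer_zl zl_le zc_le mem_zc le_centralizer_zc le_normalizer_o2)
open Cfsg.Agent.Omega.FF.Basic (fx)
open Cfsg.Agent.Omega.FFBr (XX pr im mem_im pr_eq_one pr_surjective)
open Cfsg.Agent.Omega.NO3b.Exit.Bridge (MU val mk val_mk val_mem val_inj val_smul pr_smul_eq_iff')
open Cfsg.Agent.Omega.NO3b.BasePt (Fam RR cm)
open Cfsg.Agent.Omega.NO3b.BasePt.MoveTop (sm')
open Cfsg.Agent.Omega.NO3b

universe u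

variable {G : Type u} [Group G] {H V : Subgroup G} {h : H ≤ normalizer (V : Set G)} {B : Subgroup G}
  {𝒴 : Set (Subgroup (XX h))} {hc : V ≤ centralizer (V : Set G)}

/-- an element of `M` which permutes `𝒳` normalises `RG 𝒳` -/
theorem mem_norm_RG {𝒳 : Set (Subgroup (XX h))} {n : G} (hn : n ∈ normalizer (B : Set G)) (hnH : n ∈ H)
    (h1 : ∀ Y ∈ 𝒳, Y.map (MulAut.conj (pr h ⟨n, hnH⟩)).toMonoidHom ∈ 𝒳)
    (h2 : ∀ Y ∈ 𝒳, Y.map (MulAut.conj (pr h ⟨n, hnH⟩)⁻¹).toMonoidHom ∈ 𝒳) :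
    n ∈ normalizer (RG h B 𝒳 : Set G) := by
  have key : ∀ n ∈ normalizer (B : Set G), ∀ hnH : n ∈ H,
      (∀ Y ∈ 𝒳, Y.map (MulAut.conj (pr h ⟨n, hnH⟩)).toMonoidHom ∈ 𝒳) → ∀ g ∈ RG h B 𝒳, n * g * n⁻¹ ∈ RG h B 𝒳 := by
    rintro n hn hnH h1 g ⟨h3, h4, h5⟩
    refine ⟨mul_mem (mul_mem hn h3) (inv_mem hn), mul_mem (mul_mem hnH h4) (inv_mem hnH), ?_⟩
    have h6 : RR 𝒳 ≤ (RR 𝒳).comap (MulAut.conj (pr h ⟨n, hnH⟩)).toMonoidHom := by
      refine sSup_le fun Y' hY' y' hy' => ?_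
      exact (le_sSup (h1 Y' hY') : _ ≤ RR 𝒳) ⟨y', hy', rfl⟩
    have e : pr h ⟨n * g * n⁻¹, mul_mem (mul_mem hnH h4) (inv_mem hnH)⟩ =
        pr h ⟨n, hnH⟩ * pr h ⟨g, h4⟩ * (pr h ⟨n, hnH⟩)⁻¹ := by
      rw [← map_inv, ← map_mul, ← map_mul]; rfl
    rw [e]
    exact h6 h5
  rw [mem_normalizer_iff]
  refine fun g => ⟨fun hg => key n hn hnH h1 g hg, fun hg => ?_⟩
  have e1 : pr h ⟨n⁻¹, inv_mem hnH⟩ = (pr h ⟨n, hnH⟩)⁻¹ := map_inv (pr h) ⟨n, hnH⟩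
  have h3 := key n⁻¹ (inv_mem hn) (inv_mem hnH) (by rw [e1]; exact h2) _ hg
  have e : n⁻¹ * (n * g * n⁻¹) * n⁻¹⁻¹ = g := by group
  rwa [e] at h3

/-- the orbit of `Y` under `T` -/
def orb (T : Subgroup (XX h)) (Y : Subgroup (XX h)) : Set (Subgroup (XX h)) :=
  {Y' | ∃ t ∈ T, Y.map (MulAut.conj t).toMonoidHom = Y'}

theorem map_conj_mul (Y : Subgroup (XX h)) (a b : XX h) :
    (Y.map (MulAut.conj b).toMonoidHom).map (MulAut.conj a).toMonoidHom = Y.map (MulAut.conj (a * b)).toMonoidHom := by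
  rw [Subgroup.map_map, map_mul]
  rfl

theorem self_mem_orb (T : Subgroup (XX h)) (Y : Subgroup (XX h)) : Y ∈ orb T Y := by
  refine ⟨1, one_mem _, ?_⟩
  rw [map_one]
  exact Subgroup.map_id Y

theorem map_mem_orb {T : Subgroup (XX h)} {Y Y' : Subgroup (XX h)} {t : XX h} (ht : t ∈ T) (hY : Y' ∈ orb T Y) :
    Y'.map (MulAut.conj t).toMonoidHom ∈ orb T Y := by
  obtain ⟨s, hs, rfl⟩ := hY
  exact ⟨t * s, mul_mem ht hs, (map_conj_mul Y t s).symm⟩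

theorem orb_symm {T : Subgroup (XX h)} {Y Y' : Subgroup (XX h)} (hY : Y' ∈ orb T Y) : Y ∈ orb T Y' := by
  obtain ⟨s, hs, rfl⟩ := hY
  refine ⟨s⁻¹, inv_mem hs, ?_⟩
  rw [map_conj_mul, inv_mul_cancel, map_one]
  exact Subgroup.map_id Y

theorem orb_trans {T : Subgroup (XX h)} {Y Y' Y'' : Subgroup (XX h)} (h1 : Y' ∈ orb T Y) (h2 : Y'' ∈ orb T Y') :
    Y'' ∈ orb T Y := by
  obtain ⟨s, hs, rfl⟩ := h2
  exact map_mem_orb hs h1

variable [Finite G] {S : Sylow 2 G}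

theorem orb_sub (wc : WC (S : Subgroup G) B) (Fa : Fam (MU hc) (im h (normalizer (B : Set G))) 𝒴)
    {Y : Subgroup (XX h)} (hY : Y ∈ 𝒴) : orb (im h (S : Subgroup G)) Y ⊆ 𝒴 := by
  rintro _ ⟨t, ⟨a, ha, rfl⟩, rfl⟩
  exact Fa.conj Y hY _ ⟨a, Exit.wc_S_le wc ha, rfl⟩

omit [Finite G] in
/-- an element of `RR` normalises every block -/
theorem map_eq_of_RR (Fa : Fam (MU hc) (im h (normalizer (B : Set G))) 𝒴) {Y : Subgroup (XX h)} (hY : Y ∈ 𝒴)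
    {r : XX h} (hr : r ∈ RR 𝒴) : Y.map (MulAut.conj r).toMonoidHom = Y := by
  let N : Subgroup (XX h) := normalizer (Y : Set (XX h))
  have hN : RR 𝒴 ≤ N := by
    refine sSup_le fun Y' hY' y' hy' => ?_
    rw [mem_normalizer_iff]
    refine fun y => ⟨fun hy => conj_mem Fa hY' hY hy' hy, fun hy => ?_⟩
    have h1 := conj_mem Fa hY' hY (inv_mem hy') hy
    have e : y'⁻¹ * (y' * y * y'⁻¹) * y'⁻¹⁻¹ = y := by group
    rwa [e] at h1
  have h1 := mem_normalizer_iff.1 (hN hr)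
  ext y
  constructor
  · rintro ⟨x, hx, rfl⟩
    exact (h1 x).1 hx
  · intro hy
    refine ⟨r⁻¹ * y * r, ?_, ?_⟩
    · have h2 := (h1 (r⁻¹ * y * r)).2
      have e : r * (r⁻¹ * y * r) * r⁻¹ = y := by group
      rw [e] at h2
      exact h2 hy
    · change r * (r⁻¹ * y * r) * r⁻¹ = y
      group

/-- `P` normalises `RG (orb Y)` -/
theorem le_norm_orb (wc : WC (S : Subgroup G) B) (hBH : normalizer (B : Set G) ≤ H)
    (Fa : Fam (MU hc) (im h (normalizer (B : Set G))) 𝒴) {P : Subgroup G}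
    (hPe : (P ⊓ RG h B 𝒴) ⊔ (S : Subgroup G) = P) {Y : Subgroup (XX h)} (hY : Y ∈ 𝒴) :
    P ≤ normalizer (RG h B (orb (im h (S : Subgroup G)) Y) : Set G) := by
  have hsub := orb_sub (S := S) wc Fa hY
  rw [← hPe]
  refine sup_le ?_ ?_
  · rintro p ⟨-, h1, h2, h3⟩
    refine mem_norm_RG h1 h2 (fun Y' hY' => ?_) fun Y' hY' => ?_
    · rw [map_eq_of_RR Fa (hsub hY') h3]; exact hY'
    · rw [map_eq_of_RR Fa (hsub hY') (inv_mem h3)]; exact hY'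
  · intro s hs
    have h1 := Exit.wc_S_le wc hs
    refine mem_norm_RG h1 (hBH h1) (fun Y' hY' => ?_) fun Y' hY' => ?_
    · exact map_mem_orb ⟨⟨s, hBH h1⟩, hs, rfl⟩ hY'
    · exact map_mem_orb (inv_mem ⟨⟨s, hBH h1⟩, hs, rfl⟩) hY'

/-- **`S` is transitive on the blocks.** -/
theorem trans_of (wc : WC (S : Subgroup G) B) (hBH : normalizer (B : Set G) ≤ H)
    (VS : V ≤ (S : Subgroup G)) (sq : ∀ v ∈ V, v ^ 2 = 1)
    (Fa : Fam (MU hc) (im h (normalizer (B : Set G))) 𝒴)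
    (gas : ∀ w : MU hc, ∃ a ∈ sm' (MU hc) 𝒴, ∃ c : MU hc, (∀ r ∈ RR 𝒴, r • c = c) ∧ w = a + c)
    {P : Subgroup G} (hP : IsPar (S : Subgroup G) P)
    (hPZ : ¬ P ≤ normalizer (Zo (S : Subgroup G) (RG h B 𝒴) V : Set G))
    (hPe : (P ⊓ RG h B 𝒴) ⊔ (S : Subgroup G) = P) (hS : (S : Subgroup G) ≤
      normalizer (Zo (S : Subgroup G) (RG h B 𝒴) V : Set G))
    (cz : zc (S : Subgroup G) ⊓ centralizer (P : Set G) = ⊥) :
    ∀ Y ∈ 𝒴, ∀ Y' ∈ 𝒴, ∃ t ∈ im h (S : Subgroup G), Y.map (MulAut.conj t).toMonoidHom = Y' := by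
  have : Fact (Nat.Prime 2) := ⟨Nat.prime_two⟩
  by_contra hcon
  push Not at hcon
  obtain ⟨Y₀, hY₀, Y₁, hY₁, hne⟩ := hcon
  set T := im h (S : Subgroup G) with hT
  have hT2 : IsPGroup 2 T := Exit.LocBar.isPGroup_im h S.isPGroup'
  -- the dichotomy for the orbits
  have hN : ∀ Y ∈ 𝒴, P ≤ normalizer ((P ⊓ RG h B (orb T Y) : Subgroup G) : Set G) := fun Y hY p hp =>
    mem_norm_inf (Subgroup.le_normalizer hp) (le_norm_orb wc hBH Fa hPe hY hp)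
  have hRsub : ∀ Y ∈ 𝒴, RR (orb T Y) ≤ RR 𝒴 := fun Y hY => sSup_le_sSup (orb_sub wc Fa hY)
  by_cases hex : ∃ Y ∈ 𝒴, (P ⊓ RG h B (orb T Y)) ⊔ (S : Subgroup G) = P
  · -- `P = N_o S`
    obtain ⟨Y₂, hY₂, hP2⟩ := hex
    have hY₃ : ∃ Y₃ ∈ 𝒴, Y₃ ∉ orb T Y₂ := by
      by_contra hcon
      push Not at hcon
      obtain ⟨t, ht, e⟩ := orb_trans (orb_symm (hcon Y₀ hY₀)) (hcon Y₁ hY₁)
      exact hne t ht e
    obtain ⟨Y₃, hY₃, hY₃n⟩ := hY₃
    set A : AddSubgroup (MU hc) := ⨆ Y ∈ orb T Y₃, cm (MU hc) Y with hA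
    have hAT : ∀ t ∈ T, ∀ v ∈ A, t • v ∈ A := by
      intro t ht v hv
      have h1 : A ≤ A.comap (DistribSMul.toAddMonoidHom (MU hc) t) := by
        refine iSup_le fun Y => iSup_le fun hY => ?_
        have h2 : Y.map (MulAut.conj t).toMonoidHom ∈ orb T Y₃ := map_mem_orb ht hY
        refine le_trans ?_ (AddSubgroup.comap_mono (le_iSup_of_le _ (le_iSup_of_le h2 le_rfl)))
        refine (AddSubgroup.closure_le _).2 ?_
        rintro _ ⟨y, hy, w, rfl⟩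
        refine AddSubgroup.subset_closure ⟨t * y * t⁻¹, ⟨y, hy, rfl⟩, t • w, ?_⟩
        change t • (y • w - w) = (t * y * t⁻¹) • t • w - t • w
        rw [smul_sub, mul_smul, mul_smul, inv_smul_smul]
      exact h1 hv
    have hAne : A ≠ ⊥ := by
      intro e
      apply BasePt.MoveTop.cm_ne_bot (Fa.blk Y₃ hY₃)
      rw [eq_bot_iff, ← e]
      exact le_iSup_of_le Y₃ (le_iSup_of_le (self_mem_orb T Y₃) le_rfl)
    obtain ⟨z, hzA, hz0, hz⟩ := Exit.Descent.exists_fix hT2 Fa.two hAT hAne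
    -- `z` is centralised by `P`
    have hfix : ∀ r ∈ RR (orb T Y₂), r • z = z := by
      intro r hr
      have h1 : A ≤ fx (MU hc) (RR (orb T Y₂)) := by
        refine iSup_le fun Y => iSup_le fun hY v hv => ?_
        have h2 : RR (orb T Y₂) ≤ Exit.TT.cf (XX h) (cm (MU hc) Y) := by
          refine sSup_le fun Y' hY' y' hy' => Exit.TT.mem_cf.2 fun u hu => ?_
          refine Fa.triv Y' (orb_sub wc Fa hY₂ hY') Y (orb_sub wc Fa hY₃ hY) ?_ y' hy' u hu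
          rintro rfl
          exact hY₃n (orb_trans hY' (orb_symm hY))
        exact fun r hr => Exit.TT.mem_cf.1 (h2 hr) v hv
      exact h1 hzA r hr
    have hzS : ∀ s ∈ (S : Subgroup G), s * val z = val z * s := by
      intro s hs
      have h1 := hBH (Exit.wc_S_le wc hs)
      exact (pr_smul_eq_iff' h).1 (hz (pr h ⟨s, h1⟩) ⟨⟨s, h1⟩, hs, rfl⟩)
    have hzP : val z ∈ centralizer (P : Set G) := by
      rw [mem_centralizer_iff]
      have h1 : P ≤ centralizer ({val z} : Set G) := by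
        rw [← hP2]
        refine sup_le ?_ fun s hs => mem_centralizer_singleton_iff.2 (hzS s hs)
        rintro p ⟨-, h1, h2, h3⟩
        exact mem_centralizer_singleton_iff.2 ((pr_smul_eq_iff' h).1 (hfix _ h3))
      exact fun p hp => mem_centralizer_singleton_iff.1 (h1 hp)
    have h1 : val z ∈ zc (S : Subgroup G) ⊓ centralizer (P : Set G) :=
      ⟨mem_zc.2 ⟨VS (val_mem z), fun s hs => hzS s hs, sq _ (val_mem z)⟩, hzP⟩
    rw [cz, mem_bot] at h1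
    exact hz0 (val_inj h1)
  · -- all orbits are 2-closed in `P`
    push Not at hex
    apply hPZ
    rw [← hPe]
    refine sup_le ?_ hS
    have hcl : ∀ Y ∈ 𝒴, P ≤ normalizer (((S : Subgroup G) ⊓ RG h B (orb T Y) : Subgroup G) : Set G) := by
      intro Y hY
      rcases hP.toIsMinPar.sup_eq_or_inf_le S.isPGroup' (syl_not_dvd (syl_of_le hP.le)) inf_le_left (hN Y hY)
        with h1 | h1
      · exact absurd h1 (hex Y hY)
      · have h2 : (S : Subgroup G) ⊓ RG h B (orb T Y) = o2 P ⊓ RG h B (orb T Y) := by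
          apply le_antisymm
          · exact le_inf ((le_inf inf_le_left (le_inf (inf_le_left.trans hP.le) inf_le_right)).trans h1) inf_le_right
          · exact inf_le_inf_right _ (hP.isLoc.o2_le S)
        intro p hp
        rw [h2]
        exact mem_norm_inf (le_normalizer_o2 P hp) (le_norm_orb wc hBH Fa hPe hY hp)
    have hmv : ∀ p ∈ P ⊓ RG h B 𝒴, ∀ z ∈ Zo (S : Subgroup G) (RG h B 𝒴) V,
        p * z * p⁻¹ ∈ Zo (S : Subgroup G) (RG h B 𝒴) V := by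
      rintro p ⟨hpP, hpN, hpH, hpR⟩ z hz
      have h1 := BasePt.MoveTop.smul_mem Fa gas hT2 (fun Y hY => odd wc hBH Fa hY) (x := pr h ⟨p, hpH⟩) hpR ?_
        (z := mk hc hz.1) ((mem_fx_iff wc _).2 hz)
      · exact (mem_fx_iff wc _).1 h1
      · rintro Y hY t ⟨a, ha, rfl⟩ htY
        have h2 : (a : G) ∈ (S : Subgroup G) ⊓ RG h B (orb T Y) :=
          ⟨ha, Exit.wc_S_le wc ha, a.2, (le_sSup (self_mem_orb T Y) : Y ≤ RR (orb T Y)) htY⟩
        have h3 := (mem_normalizer_iff.1 (inv_mem (hcl Y hY hpP)) (a : G)).1 h2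
        rw [inv_inv] at h3
        refine ⟨⟨p, hpH⟩⁻¹ * a * ⟨p, hpH⟩, h3.1, ?_⟩
        rw [map_mul, map_mul, map_inv]
    intro p hp
    rw [mem_normalizer_iff_cj]
    refine eq_of_le_of_card_ge ?_ (card_cj _ _).ge
    rintro _ ⟨z, hz, rfl⟩
    exact hmv p hp z hz

/-- **END5 under `DataZ`.** -/
theorem false_of_dataZ (hne : (S : Subgroup G) ≠ ⊥) {M₀ : Subgroup G} (hG : HypG S M₀) (D : DataZ (S : Subgroup G))
    (hM : M₀ ≤ normalizer (B : Set G)) (wc : WC (S : Subgroup G) B) (hBH : normalizer (B : Set G) ≤ H)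
    (hVN : normalizer (B : Set G) ≤ normalizer (V : Set G)) (ZV : zc (S : Subgroup G) ≤ V)
    (VS : V ≤ (S : Subgroup G)) (sq : ∀ v ∈ V, v ^ 2 = 1) (BV : B ≤ centralizer (V : Set G))
    (Fa : Fam (MU hc) (im h (normalizer (B : Set G))) 𝒴)
    (gas : ∀ w : MU hc, ∃ a ∈ sm' (MU hc) 𝒴, ∃ c : MU hc, (∀ r ∈ RR 𝒴, r • c = c) ∧ w = a + c)
    (hC : CZ (S : Subgroup G) ≤ normalizer (Zo (S : Subgroup G) (RG h B 𝒴) V : Set G)) : False := by
  have d := dat wc hBH hVN ZV sq BV hc Fa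
  exact d.false_of_hypG hne hG D.toData hM hC fun P hP _ hPZ hPe =>
    key wc hBH hVN ZV sq BV Fa gas (trans_of wc hBH VS sq Fa gas hP.toIsPar hPZ hPe d.S_Zo
      (D.cz P hP)) hP.le hPZ hPe

end Cfsg.Agent.Omega.NOThreeL.EndFiveKey
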