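import Cfsg.Agent.Omega.NOThreeL.Basic

/-!
# NO-3L: the tree of leaves (#13890, #14283, helper863, helper111; FF theorem: `FFThm.Stmt`)

All sockets are relative to a class `K` and contain `Ctx G`, `K G`, `Full S`, `Data S` (`¬ FF S`, all
`V_P ≤ O₂(C_G(Z))`, all `⟨P, C_G(Z)⟩` local); all but `R` contain `DataZ S` (`C_Z(P) = 1` for all `P ∈ P*(S)`).
`H`, `K` are long groups (local, `≥ C_G(Z)`), `U_H = zl S H`, `F_H = FH S H`.

* `R` : `C_Z(P) ≠ 1` for some `P ∈ P*(S)` (helper858, helper691);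
* `A1` : `[V_P, U_H] ≠ 1`, `U_H` is an exact offender on `V_P`, one natural factor (THEOREM T, helper863);
* `A2` : the same, `k ≥ 2` natural factors (helper900, helper850);
* `A3` : the same, `V_P` of type `S_{2^m+1}^k` (helper823, helper378);
* `A4` : `[V_P, U_H] ≠ 1` and `|U_H : C(V_P)| < |V_P : C(U_H)|` (helper9, helper455);
* `B1` : not (A), `[U_H, U_K] ≠ 1` (helper535, helper133);
* `B2` : not (A), all `U_H` commute, `[U_H, F_K] ≠ 1` (helper985, helper83, helper42);
* `B3` : not (A), all `U_H`, `F_K` commute (helper111, helper908, helper855);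
* `nodeNO3L` : `FFThm.Stmt` and the sockets imply `FrameNOFF.NodeNO3L K`; `caseB_of` : `B1`, `B2`, `B3` give
  `CaseB` (not (A)), the goal of the minimal pairs (MP, helper28, helper707).
-/

set_option autoImplicit false

namespace Cfsg.Agent.Omega.NOThreeL.Main

open Subgroup Cfsg Cfsg.Agent.ZN Cfsg.Agent.Omega.MinPar Cfsg.Agent.Omega.Frame Cfsg.Agent.Omega.FrameNOFF
open Cfsg.Agent.Omega.Node.NO3L Cfsg.Agent.Omega.NOThreeL.Basic
open Cfsg.Agent.Omega.FFThm (Off NoOver Concl NatK SymK)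
open Cfsg.Agent.Omega.FrameFF (cv)

universe u

/-- Case (A), `U_H` offends on `V_P`: everything the FF theorem gives. -/
structure Exact {G : Type u} [Group G] (S P H : Subgroup G) : Prop extends PairA S P H where
  off : Off (zl S P) (zl S H)
  off' : Off (zl S H) (zl S P)
  noOver : NoOver (zl S P) P
  /-- `|V_P : C_{V_P}(U_H)| = |U_H : C_{U_H}(V_P)|` -/
  eq : Nat.card (zl S P) * Nat.card ↥(zl S H ⊓ centralizer (zl S P : Set G)) =
    Nat.card (zl S H) * Nat.card ↥(zl S P ⊓ centralizer (zl S H : Set G))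

section sockets

variable (K : Cls.{u})

/-- **R**: `C_Z(P) ≠ 1` for some `P ∈ P*(S)`. -/
def R : Prop :=
  ∀ (G : Type u) [Group G] [Finite G], Ctx G → K G → ∀ (S : Sylow 2 G), Full (S : Subgroup G) →
    Data (S : Subgroup G) → ∀ P : Subgroup G, IsParS (S : Subgroup G) P →
      zc (S : Subgroup G) ⊓ centralizer (P : Set G) ≠ ⊥ → IsKnownSimple' G

/-- **A1**: one natural factor. -/
def A1 : Prop :=
  ∀ (G : Type u) [Group G] [Finite G], Ctx G → K G → ∀ (S : Sylow 2 G), Full (S : Subgroup G) →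
    DataZ (S : Subgroup G) → ∀ P H : Subgroup G, Exact (S : Subgroup G) P H →
      ∀ (F : Type) [Field F] [Finite F] [CharP F 2],
        NatK F (S : Subgroup G) P (zl (S : Subgroup G) P) (cv (S : Subgroup G) P) 1 → IsKnownSimple' G

/-- **A2**: `k ≥ 2` natural factors. -/
def A2 : Prop :=
  ∀ (G : Type u) [Group G] [Finite G], Ctx G → K G → ∀ (S : Sylow 2 G), Full (S : Subgroup G) →
    DataZ (S : Subgroup G) → ∀ P H : Subgroup G, Exact (S : Subgroup G) P H →
      ∀ (F : Type) [Field F] [Finite F] [CharP F 2] (k : ℕ), 2 ≤ k →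
        NatK F (S : Subgroup G) P (zl (S : Subgroup G) P) (cv (S : Subgroup G) P) k → IsKnownSimple' G

/-- **A3**: type `S_{2^m+1}^k`. -/
def A3 : Prop :=
  ∀ (G : Type u) [Group G] [Finite G], Ctx G → K G → ∀ (S : Sylow 2 G), Full (S : Subgroup G) →
    DataZ (S : Subgroup G) → ∀ P H : Subgroup G, Exact (S : Subgroup G) P H →
      ∀ k m : ℕ, 0 < k → 2 ≤ m →
        SymK (S : Subgroup G) P (zl (S : Subgroup G) P) (cv (S : Subgroup G) P) k m → IsKnownSimple' G

/-- **A4**: `U_H` does not offend on `V_P`: `|U_H : C_{U_H}(V_P)| < |V_P : C_{V_P}(U_H)|`. -/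
def A4 : Prop :=
  ∀ (G : Type u) [Group G] [Finite G], Ctx G → K G → ∀ (S : Sylow 2 G), Full (S : Subgroup G) →
    DataZ (S : Subgroup G) → ∀ P H : Subgroup G, PairA (S : Subgroup G) P H →
      Off (zl (S : Subgroup G) H) (zl (S : Subgroup G) P) →
      Nat.card (zl (S : Subgroup G) H) *
          Nat.card ↥(zl (S : Subgroup G) P ⊓ centralizer (zl (S : Subgroup G) H : Set G)) <
        Nat.card (zl (S : Subgroup G) P) *
          Nat.card ↥(zl (S : Subgroup G) H ⊓ centralizer (zl (S : Subgroup G) P : Set G)) →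
      IsKnownSimple' G

/-- **B1** -/
def B1 : Prop :=
  ∀ (G : Type u) [Group G] [Finite G], Ctx G → K G → ∀ (S : Sylow 2 G), Full (S : Subgroup G) →
    DataZ (S : Subgroup G) → CaseB1 (S : Subgroup G) → IsKnownSimple' G

/-- **B2** -/
def B2 : Prop :=
  ∀ (G : Type u) [Group G] [Finite G], Ctx G → K G → ∀ (S : Sylow 2 G), Full (S : Subgroup G) →
    DataZ (S : Subgroup G) → CaseB2 (S : Subgroup G) → IsKnownSimple' G

/-- **B3** -/
def B3 : Prop :=
  ∀ (G : Type u) [Group G] [Finite G], Ctx G → K G → ∀ (S : Sylow 2 G), Full (S : Subgroup G) →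
    DataZ (S : Subgroup G) → CaseB3 (S : Subgroup G) → IsKnownSimple' G

/-- Case (A). -/
def CaseAS : Prop :=
  ∀ (G : Type u) [Group G] [Finite G], Ctx G → K G → ∀ (S : Sylow 2 G), Full (S : Subgroup G) →
    DataZ (S : Subgroup G) → CaseA (S : Subgroup G) → IsKnownSimple' G

/-- Not (A): the goal of B1, B2, B3 and of the minimal pairs (MP). -/
def CaseB : Prop :=
  ∀ (G : Type u) [Group G] [Finite G], Ctx G → K G → ∀ (S : Sylow 2 G), Full (S : Subgroup G) →
    DataZ (S : Subgroup G) → ¬ CaseA (S : Subgroup G) → IsKnownSimple' G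

end sockets

variable {K : Cls.{u}}

/-- **Case (A) from its leaves.** -/
theorem caseA_of (hFF : FFThm.Stmt.{u}) (h1 : A1 K) (h2 : A2 K) (h3 : A3 K) (h4 : A4 K) : CaseAS K := by
  intro G _ _ hG hcl S hF D hA
  obtain ⟨P, H, hPH⟩ := caseA_iff.1 hA
  by_cases hoff : Off (zl (S : Subgroup G) P) (zl (S : Subgroup G) H)
  · obtain ⟨hn, hC, hoff', he⟩ := PairA.off_of hG.char2 hFF hPH hoff
    have hE : Exact (S : Subgroup G) P H := ⟨hPH, hoff, hoff', hn, he⟩
    rcases hC with ⟨F, _, _, _, k, hk, ⟨M⟩⟩ | ⟨k, m, hk, hm, ⟨M⟩⟩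
    · rcases Nat.lt_or_ge k 2 with h | h
      · obtain rfl : k = 1 := by omega
        exact h1 G hG hcl S hF D P H hE F M
      · exact h2 G hG hcl S hF D P H hE F k h M
    · exact h3 G hG hcl S hF D P H hE k m hk hm M
  · have hoff' := (PairA.off_or hG.char2 hPH).resolve_left hoff
    refine h4 G hG hcl S hF D P H hPH hoff' ?_
    by_contra hcon
    exact hoff ⟨FFThm.elem_zl hG.char2 S hPH.long.loc, hPH.ne', not_lt.1 hcon⟩

/-- **Not (A) from its leaves.** -/
theorem caseB_of (h1 : B1 K) (h2 : B2 K) (h3 : B3 K) : CaseB K := by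
  intro G _ _ hG hcl S hF D hA
  rcases Basic.cases (S : Subgroup G) with h | h | h | h
  · exact absurd h hA
  · exact h1 G hG hcl S hF D h
  · exact h2 G hG hcl S hF D h
  · exact h3 G hG hcl S hF D h

/-- **The leaf NO-3L from R, (A) and not (A).** -/
theorem nodeNO3L_of (hR : R K) (hA : CaseAS K) (hB : CaseB K) : FrameNOFF.NodeNO3L K := by
  intro G _ _ hG hcl S hF hm hlow hloc
  have D := Data.mk' S hm hlow hloc
  by_cases hz : ∀ P : Subgroup G, IsParS (S : Subgroup G) P →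
      zc (S : Subgroup G) ⊓ centralizer (P : Set G) = ⊥
  · have D' : DataZ (S : Subgroup G) := ⟨D, hz⟩
    by_cases h : CaseA (S : Subgroup G)
    · exact hA G hG hcl S hF D' h
    · exact hB G hG hcl S hF D' h
  · push Not at hz
    obtain ⟨P, hP, h⟩ := hz
    exact hR G hG hcl S hF D P hP h

/-- **The leaf NO-3L from its sockets.** -/
theorem nodeNO3L (hFF : FFThm.Stmt.{u}) (hR : R K) (a1 : A1 K) (a2 : A2 K) (a3 : A3 K) (a4 : A4 K)
    (b1 : B1 K) (b2 : B2 K) (b3 : B3 K) : FrameNOFF.NodeNO3L K :=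
  nodeNO3L_of hR (caseA_of hFF a1 a2 a3 a4) (caseB_of b1 b2 b3)

end Cfsg.Agent.Omega.NOThreeL.Main
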