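import Cfsg.Agent.Omega.NO3b.BasePt.FamG
import Cfsg.Agent.Omega.NO3b.BasePt.FldLoc
import Cfsg.Agent.Omega.NOThreeL.EndFiveTr
import Cfsg.Agent.Omega.NOThreeL.Low.Final
import Cfsg.Agent.Omega.NOThreeL.Main

/-!
# NO-3L with `C_Z(P) = 1` for all `P ∈ P*(S)`, not (A): no group (END5)

K-free, without (ML): no flag `(S₁, Z₁, V₍₂₎)`, no exact end, no node groups, no `P`-modules.

* `locG_false` : `HypG S M`, `DataZ S`, `LocG S M B` are incompatible;
* `hypG_false` : `HypG S M` and `DataZ S` are incompatible;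
* `caseB_five` : **the socket `Main.CaseB K` for every `K`**.
-/

set_option autoImplicit false

namespace Cfsg.Agent.Omega.NOThreeL.EndFiveLoc

open Subgroup Cfsg
open Cfsg.Agent.ZN (o2 zc zl)
open Cfsg.Agent.Omega.MinPar Cfsg.Agent.Omega.Frame Cfsg.Agent.Omega.FrameNOFF
open Cfsg.Agent.Omega.Node.NO3L
open Cfsg.Agent.Omega.NOThreeL.Basic (DataZ)
open Cfsg.Agent.Omega.NOThreeL.Merge (HypG MZ)
open Cfsg.Agent.Omega.NOThreeL.HypGFrame (LocG exists_locG)
open Cfsg.Agent.Omega.NO3b.BasePt (exists_famG)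
open Cfsg.Agent.Omega.NO3b.BasePt.Fld (cz_le)
open Cfsg.Agent.Omega.NOThreeL.EndFiveKey (false_of_dataZ)

universe u

variable {G : Type u} [Group G] [Finite G] {S : Sylow 2 G} {M B : Subgroup G}

/-- **END5 for the local exit.** -/
theorem locG_false (hG : HypG S M) (D : DataZ (S : Subgroup G)) (hL : LocG S M B) : False := by
  have hc := hG.ctx.char2
  have hne := hG.ctx.sylow_ne_bot S
  have hl := hL.adm.lines
  obtain ⟨𝒴, Fa, gas, fl⟩ := exists_famG hL hc hne (N := normalizer (NO3b.Exit.VB (S : Subgroup G) B : Set G))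
    le_rfl hl.comm hl.NJ
  exact false_of_dataZ hne hG D hL.le hL.adm.wc hl.NJ hl.NJ hl.ZV (hL.adm.low.trans
    (ZN.ChoiceSit.o2_le_syl (MinSimple.EmptyTI.syl_of_le (MinSimple.VModule.le_centralizer_zc _)))) hl.sq hl.JV Fa gas
    (cz_le hL hl.NJ Fa gas fl hc hne)

/-- **`HypG` and `DataZ` are incompatible.** -/
theorem hypG_false (hG : HypG S M) (D : DataZ (S : Subgroup G)) : False := by
  obtain ⟨B, hB⟩ := exists_locG hG.ctx.char2 (hG.ctx.sylow_ne_bot S) (HypGFrame.HypG.nfRoot hG)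
  exact locG_false hG D hB

/-- **NO-3L with `C_Z(P) = 1` for all `P ∈ P*(S)`, not (A).** -/
theorem caseB_five (K : Cls.{u}) : Main.CaseB K := by
  intro G _ _ hG _ S hF D hA
  exact (hypG_false (Merge.HypG.of_data hG hF D.toData (Low.zl_MZ_le hG hF D) (NF.vf G hG S hF D)) D).elim

end Cfsg.Agent.Omega.NOThreeL.EndFiveLoc
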