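import Cfsg.Agent.Omega.NOThreeL.Basic
import Cfsg.Agent.Omega.NOThreeL.RTwo
import Cfsg.Agent.Omega.NO3L.LemP

/-!
# NO-3L, socket R: (R3) of #15623 (helper691)

Not (A). `z ∈ Z - 1`, `C_z = C_G(z)` is a long group (`isLong_cent`), `F_z = FH S C_z`.

* `conj_WP_of_normalizer` : `N_G(Z)` normalises `W = WP S`, so `W_x` depends only on `Z_x`;
* `exists_mem` : the points `Z^g` containing `z` are the `Z^c`, `c ∈ C_z`; `conj_WP_le_F` : `W^g ≤ F_z` for
  `z ∈ Z^g`;
* `comm_of_inf` : **`Z^x ∩ Z^y ≠ 1` implies `[W^x, W^y] = 1`**;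
* `data` : the hypotheses of LEMMA P for the graph of the involutions of the points (`H z = C_z`, `U z = F_z`,
  `R z = O₂(C_z)`), so `LemP.Data.le_R` etc. apply;
* `exists_crit` : if every `P ∈ P*(S)` has `C_Z(P) ≠ 1`, there is a critical pair: `F_z^g ≤ O₂(C_t) ≤ Q`,
  `F_y ≤ O₂(C_s)^g ≤ Q^g`, `z, y, s, t ∈ Z - 1`, `t ≠ y`, `s ≠ z`, `[F_z^g, F_t] = 1`, `[F_y, F_s^g] = 1`,
  `[F_z^g, F_y] ≠ 1`; in particular `F_z^g` centralises `W` and `F_y` centralises `W^g`.
-/

set_option autoImplicit false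

namespace Cfsg.Agent.Omega.NO3L.LemP

open Subgroup MulAction Pointwise Cfsg
open Cfsg.Agent.Omega.NoFF.Basic (conj_conj mem_conj conj_le_iff conj_le_centralizer comm_symm
  comm_mono)

universe u v

variable {G : Type u} [Group G] {ι : Type v} {Z C Q : Subgroup G} {H U R : ι → Subgroup G}

/-- `Data.last`, together with the fact that `U_a` centralises the last but one module. -/
theorem Data.last_comm (h : Data Z C Q H U R) {n : ℕ} (hd : Comm H U (n + 1)) {a b : ι × G}
    (hab : Near H (n + 1) a b) (hne : ¬ vx U a ≤ centralizer (vx U b : Set G)) :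
    ∃ (k : ι) (x : G), k ≠ b.1 ∧ b.2⁻¹ * x ∈ H b.1 ∧ vx U a ≤ MulAut.conj x • R k ∧
      vx U a ≤ centralizer ((MulAut.conj x • U k : Subgroup G) : Set G) := by
  obtain ⟨e, h1, h2⟩ := hab
  have hkb : e.1 ≠ b.1 := by
    intro he
    apply hne
    have h3 := hd.of_near h1
    rwa [vx_same h.HU (h2.same he)] at h3
  obtain ⟨x, h3, h4⟩ := h2
  refine ⟨e.1, x, hkb, h4, ?_, ?_⟩
  · rw [← vx_eq h.HR h3]
    exact h.le_R hd n (Nat.lt_succ_self n) a e h1
  · rw [← vx_eq h.HU h3]
    exact hd.of_near h1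

/-- `Data.exists_crit_of`, together with the commuting relations of the neighbours. -/
theorem Data.exists_crit_comm (h : Data Z C Q H U R) {n : ℕ} (hd : Comm H U (n + 1)) {a b : ι × G}
    (hab : Near H (n + 1) a b) (hne : ¬ vx U a ≤ centralizer (vx U b : Set G)) :
    ∃ (k l : ι) (g : G), Crit Q H U R a.1 b.1 k l g ∧ Near H (n + 1) (a.1, g) (b.1, 1) ∧
      MulAut.conj g • U a.1 ≤ centralizer (U k : Set G) ∧
      U b.1 ≤ centralizer ((MulAut.conj g • U l : Subgroup G) : Set G) := by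
  obtain ⟨k, x, h1, h2, h3, hk⟩ := h.last_comm hd hab hne
  obtain ⟨l, y, h4, h5, h6, hl⟩ := h.last_comm hd hab.symm fun h7 => hne (comm_symm h7)
  have hU1 : vx U a = MulAut.conj y • U a.1 := vx_eq h.HU h5
  have hU2 : vx U b = MulAut.conj x • U b.1 := vx_eq h.HU h2
  have e1 : MulAut.conj x • MulAut.conj (x⁻¹ * y) • U a.1 = vx U a := by
    rw [conj_conj, mul_inv_cancel_left, hU1]
  have e2 : MulAut.conj x • MulAut.conj (x⁻¹ * y) • R l = MulAut.conj y • R l := by
    rw [conj_conj, mul_inv_cancel_left]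
  have e3 : MulAut.conj x • MulAut.conj (x⁻¹ * y) • U l = MulAut.conj y • U l := by
    rw [conj_conj, mul_inv_cancel_left]
  have hN : Near H (n + 1) (a.1, x⁻¹ * y) (b.1, 1) := by
    have h8 : Same H a (a.1, y) := ⟨rfl, h5⟩
    have h9 : Same H b (b.1, x) := ⟨rfl, h2⟩
    have h10 : Near H (n + 1) (a.1, y) (b.1, x) := by
      obtain ⟨e, h11, h12⟩ := hab
      refine ⟨e, ?_, h9.trans_adj h12⟩
      cases n with
      | zero => exact h8.symm.trans h11
      | succ n =>
        have h13 := h11.symm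
        obtain ⟨f, h14, h15⟩ := h13
        have h16 : Near H (n + 1) e (a.1, y) := ⟨f, h14, h8.trans_adj h15⟩
        exact h16.symm
    have h11 := h10.smul x⁻¹
    simpa using h11
  refine ⟨k, l, x⁻¹ * y, ⟨?_, h1, h4, ?_, ?_, ?_⟩, hN, ?_, ?_⟩
  · have h8 := hN.symm.mem
    simpa using h8
  · rw [← conj_le_iff (g := x), e1]
    exact h3
  · rw [← conj_le_iff (g := x), e2, ← hU2]
    exact h6
  · intro h7
    apply hne
    rw [← e1, hU2]
    exact conj_comm_iff.2 h7
  · rw [← conj_comm_iff (g := x), e1]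
    exact hk
  · rw [← conj_comm_iff (g := x), e3, ← hU2]
    exact hl

/-- LEMMA P, COROLLARY, with the commuting relations. -/
theorem Data.exists_crit_comm' (h : Data Z C Q H U R) (hab : ∀ i, U i ≤ centralizer (U i : Set G))
    (hne : ¬ ∀ i j, ∀ x ∈ (⨆ i, H i : Subgroup G),
      U i ≤ centralizer ((MulAut.conj x • U j : Subgroup G) : Set G)) :
    ∃ n, Comm H U (n + 1) ∧
      (∀ m ≤ n, ∀ a c : ι × G, Near H m a c → vx U a ≤ vx R c) ∧
      ∃ (i j k l : ι) (g : G), Crit Q H U R i j k l g ∧ Near H (n + 1) (i, g) (j, 1) ∧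
        MulAut.conj g • U i ≤ centralizer (U k : Set G) ∧
        U j ≤ centralizer ((MulAut.conj g • U l : Subgroup G) : Set G) := by
  classical
  have hex : ∃ n, ∃ a b : ι × G, Near H n a b ∧ ¬ vx U a ≤ centralizer (vx U b : Set G) := by
    push Not at hne
    obtain ⟨i, j, x, hx, h1⟩ := hne
    obtain ⟨n, hn⟩ := exists_near i j hx
    refine ⟨n, (i, 1), (j, x), hn, ?_⟩
    rwa [vx_mk, vx_mk, map_one, one_smul]
  obtain ⟨a, b, h1, h2⟩ := Nat.find_spec hex
  have hmin : Comm H U (Nat.find hex) := by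
    intro m hm a b hab
    by_contra h3
    exact Nat.find_min hex hm ⟨a, b, hab, h3⟩
  cases hn : Nat.find hex with
  | zero =>
    exfalso
    rw [hn] at h1
    apply h2
    rw [vx_same h.HU h1]
    exact conj_comm_iff.2 (hab b.1)
  | succ n =>
    rw [hn] at h1 hmin
    obtain ⟨k, l, g, h3, h4, h5⟩ := h.exists_crit_comm hmin h1 h2
    exact ⟨n, hmin, fun m hm => h.le_R hmin m (Nat.lt_succ_of_le hm), a.1, b.1, k, l, g, h3, h4, h5⟩

end Cfsg.Agent.Omega.NO3L.LemP

namespace Cfsg.Agent.Omega.NOThreeL.RThree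

open Subgroup Cfsg Cfsg.Agent.ZN Cfsg.Agent.Omega.MinPar Cfsg.Agent.Omega.Frame Cfsg.Agent.Omega.FrameNOFF
open Cfsg.Agent.Omega.Node.NO3L Cfsg.Agent.Omega.NOThreeL.Basic
open Cfsg.Agent.Omega.NoFF.Basic (V conj_conj mem_conj conj_le_iff conj_le_centralizer comm_symm comm_mono
  Z_le_V V_le conj_V_mul)
open Cfsg.Agent.Omega.NOThreeL.Pair (conj_eq_of_mem conj_le_normalizer zl_abel)
open Cfsg.Agent.MinSimple.VModule (zl_le le_normalizer_zl zc_le_zl zc_le zl_le_zc o2_isPGroup le_normalizer_o2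
  mem_zc zc_sq normalizer_le_normalizer_zc le_centralizer_zc)
open Cfsg.Agent.Omega.NO3L.LemP (vx vx_mk Near Comm Crit)
open scoped Pointwise

universe u

variable {G : Type u} [Group G]

section one

variable [Finite G] (S : Sylow 2 G)

omit [Finite G] in
/-- `C_G(z)`, `z ∈ Z - 1`, is a long group. -/
theorem isLong_cent {z : G} (hz : z ∈ zc (S : Subgroup G)) (hz1 : z ≠ 1) :
    IsLong (S : Subgroup G) (centralizer ({z} : Set G)) := by
  refine ⟨isLoc_centralizer S (zc_sq _ z hz) hz1 (RTwo.le_centralizer S hz), ?_⟩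
  exact centralizer_le (Set.singleton_subset_iff.2 hz)

omit [Finite G] in
/-- `N_G(S)` normalises the product `W` of the lines on `Z`. -/
theorem conj_WP_of_normalizer_S {n : G} (hn : n ∈ normalizer ((S : Subgroup G) : Set G)) :
    MulAut.conj n • WP (S : Subgroup G) = WP (S : Subgroup G) := by
  have key : ∀ n ∈ normalizer ((S : Subgroup G) : Set G),
      MulAut.conj n • WP (S : Subgroup G) ≤ WP (S : Subgroup G) := by
    intro n hn
    refine NoFF.Lines.conj_W_le fun P hP c hc => ?_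
    have hnC : n * c * n⁻¹ ∈ CZ (S : Subgroup G) := by
      have h1 := NOThreeL.ThmT.conj_mem_centralizer
        (inv_mem (normalizer_le_normalizer_zc _ hn)) hc
      rwa [inv_inv] at h1
    have hnP : IsParS (S : Subgroup G) (MulAut.conj n • P) := (inv S).nF n hn P hP
    have h2 : MulAut.conj n • V (zc (S : Subgroup G)) P =
        V (zc (S : Subgroup G)) (MulAut.conj n • P) := by
      have h3 := zl_map (MulAut.conj n).toMonoidHom (MulAut.conj n).injective (S : Subgroup G) P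
      have h4 : (S : Subgroup G).map (MulAut.conj n).toMonoidHom = S := (inv S).nS n hn
      rw [h4] at h3
      exact h3.symm
    have e : n * c = n * c * n⁻¹ * n := by group
    rw [e, ← conj_conj, h2]
    exact line_le_WP hnP hnC
  refine le_antisymm (key n hn) ?_
  have h1 := (conj_le_iff (g := n)).2 (key n⁻¹ (inv_mem hn))
  rwa [conj_conj, mul_inv_cancel, map_one, one_smul] at h1

/-- a point `Z^g` whose Sylow group lies in `X ≥ S`: `Z^g = Z^c`, `W^g = W^c` for some `c ∈ X`. -/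
theorem exists_conj_of_le {X : Subgroup G} (hX : (S : Subgroup G) ≤ X) {g : G}
    (hg : MulAut.conj g • (S : Subgroup G) ≤ X) :
    ∃ c ∈ X, ∃ n ∈ normalizer ((S : Subgroup G) : Set G), g = c * n := by
  obtain ⟨c, hc, he⟩ := NO3S.PT.exists_conj (T := g • S) hX hg
  have h2 : MulAut.conj (c⁻¹ * g) • (S : Subgroup G) = S := by
    have h3 : MulAut.conj c • (S : Subgroup G) = MulAut.conj g • (S : Subgroup G) := he
    rw [← conj_conj, ← h3, conj_conj, inv_mul_cancel, map_one, one_smul]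
  exact ⟨c, hc, c⁻¹ * g, mem_normalizer_of_conj_eq h2, by group⟩

/-- `N_G(Z)` normalises the product `W` of the lines on `Z`. -/
theorem conj_WP_of_normalizer {g : G} (hg : g ∈ normalizer (zc (S : Subgroup G) : Set G)) :
    MulAut.conj g • WP (S : Subgroup G) = WP (S : Subgroup G) := by
  have h1 : MulAut.conj g • (S : Subgroup G) ≤ CZ (S : Subgroup G) := by
    have h2 := (conj_le_iff (g := g)).2 (le_CZ S)
    rwa [NOThreeL.ThmT.conj_centralizer_eq hg] at h2
  obtain ⟨c, hc, n, hn, rfl⟩ := exists_conj_of_le S (le_CZ S) h1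
  rw [← conj_conj, conj_WP_of_normalizer_S S hn, conj_WP hc]

/-- `W_x` depends only on `Z_x`. -/
theorem conj_WP_congr {x y : G}
    (h : MulAut.conj x • zc (S : Subgroup G) = MulAut.conj y • zc (S : Subgroup G)) :
    MulAut.conj x • WP (S : Subgroup G) = MulAut.conj y • WP (S : Subgroup G) := by
  have h1 : y⁻¹ * x ∈ normalizer (zc (S : Subgroup G) : Set G) := by
    apply mem_normalizer_of_conj_eq
    rw [← conj_conj, h, conj_conj, inv_mul_cancel, map_one, one_smul]
  have h2 := conj_WP_of_normalizer S h1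
  have h3 : MulAut.conj y • MulAut.conj (y⁻¹ * x) • WP (S : Subgroup G) =
      MulAut.conj y • WP (S : Subgroup G) := by rw [h2]
  rwa [conj_conj, mul_inv_cancel_left] at h3

/-- **The points containing `z`** are the `Z^c`, `c ∈ C_G(z)`. -/
theorem exists_mem {z g : G} (hz : z ∈ zc (S : Subgroup G))
    (hzg : z ∈ MulAut.conj g • zc (S : Subgroup G)) : ∃ c ∈ centralizer ({z} : Set G),
      MulAut.conj g • zc (S : Subgroup G) = MulAut.conj c • zc (S : Subgroup G) ∧
      MulAut.conj g • WP (S : Subgroup G) = MulAut.conj c • WP (S : Subgroup G) := by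
  rw [mem_conj] at hzg
  have h1 : MulAut.conj g • (S : Subgroup G) ≤ centralizer ({z} : Set G) := by
    intro s hs
    rw [mem_conj] at hs
    rw [mem_centralizer_singleton_iff]
    have h2 := (mem_zc.1 hzg).2.1 _ hs
    have h3 := congrArg (fun t => g * t * g⁻¹) h2
    simpa [mul_assoc] using h3
  obtain ⟨c, hc, n, hn, rfl⟩ := exists_conj_of_le S (RTwo.le_centralizer S hz) h1
  refine ⟨c, hc, ?_, ?_⟩
  · rw [← conj_conj, (inv S).nZ n hn]
  · rw [← conj_conj, conj_WP_of_normalizer_S S hn]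

/-- `F_z`: the product of all lines on the points containing `z`. -/
theorem conj_WP_le_F {z g : G} (hz : z ∈ zc (S : Subgroup G))
    (hzg : z ∈ MulAut.conj g • zc (S : Subgroup G)) :
    MulAut.conj g • WP (S : Subgroup G) ≤ FH (S : Subgroup G) (centralizer ({z} : Set G)) := by
  obtain ⟨c, hc, -, h2⟩ := exists_mem S hz hzg
  rw [h2]
  exact conj_WP_le_FH _ hc

variable {S}

/-- **(R3)** not (A): `Z^x ∩ Z^y ≠ 1` implies `[W^x, W^y] = 1`. -/
theorem comm_of_inf (hc : IsCharacteristicTwoType G) (D : Data (S : Subgroup G))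
    (hA : ¬ CaseA (S : Subgroup G)) {x y : G}
    (h : MulAut.conj x • zc (S : Subgroup G) ⊓ MulAut.conj y • zc (S : Subgroup G) ≠ ⊥) :
    MulAut.conj x • WP (S : Subgroup G) ≤
      centralizer ((MulAut.conj y • WP (S : Subgroup G) : Subgroup G) : Set G) := by
  obtain ⟨⟨z, hz⟩, hz1⟩ := Subgroup.ne_bot_iff_exists_ne_one.1 h
  have hz1' : z ≠ 1 := fun h0 => hz1 (Subtype.ext h0)
  obtain ⟨hx, hy⟩ := mem_inf.1 hz
  rw [mem_conj] at hx
  set w := x⁻¹ * z * x with hw
  have hw1 : w ≠ 1 := by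
    intro h0
    apply hz1'
    have e : z = x * w * x⁻¹ := by rw [hw]; group
    rw [e, h0, mul_one, mul_inv_cancel]
  have hyw : w ∈ MulAut.conj (x⁻¹ * y) • zc (S : Subgroup G) := by
    rw [mem_conj] at hy ⊢
    have e : (x⁻¹ * y)⁻¹ * w * (x⁻¹ * y) = y⁻¹ * z * y := by rw [hw]; group
    rwa [e]
  have h1 : WP (S : Subgroup G) ≤ FH (S : Subgroup G) (centralizer ({w} : Set G)) := WP_le_FH _ _
  have h2 := conj_WP_le_F S hx hyw
  have h3 := comm_mono (NotA.FH_comm hc D hA (isLong_cent S hx hw1)) h1 h2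
  have h4 := conj_le_centralizer (g := x) h3
  rwa [conj_conj, mul_inv_cancel_left] at h4

/-- noncommuting `W_x`, `W_y` have `Z_x ∩ Z_y = 1`. -/
theorem inf_eq_bot (hc : IsCharacteristicTwoType G) (D : Data (S : Subgroup G))
    (hA : ¬ CaseA (S : Subgroup G)) {x y : G} (h : ¬ MulAut.conj x • WP (S : Subgroup G) ≤
      centralizer ((MulAut.conj y • WP (S : Subgroup G) : Subgroup G) : Set G)) :
    MulAut.conj x • zc (S : Subgroup G) ⊓ MulAut.conj y • zc (S : Subgroup G) = ⊥ := by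
  by_contra h1
  exact h (comm_of_inf hc D hA h1)

/-- the involutions of `Z` -/
def Inv' (S : Subgroup G) : Type u := {z : G // z ∈ zc S ∧ z ≠ 1}

/-- `C_z` -/
def Cz (S : Subgroup G) (z : Inv' S) : Subgroup G := centralizer ({z.1} : Set G)

/-- `F_z` -/
def Fz (S : Subgroup G) (z : Inv' S) : Subgroup G := FH S (Cz S z)

/-- `O₂(C_z)` -/
def Rz (S : Subgroup G) (z : Inv' S) : Subgroup G := o2 (Cz S z)

omit [Finite G] in
theorem isLong_Cz (z : Inv' (S : Subgroup G)) : IsLong (S : Subgroup G) (Cz (S : Subgroup G) z) :=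
  isLong_cent S z.2.1 z.2.2

/-- `z ∈ Z^g`: `W^g ≤ F_z` -/
theorem conj_WP_le_Fz (z : Inv' (S : Subgroup G)) {g : G}
    (hg : z.1 ∈ MulAut.conj g • zc (S : Subgroup G)) :
    MulAut.conj g • WP (S : Subgroup G) ≤ Fz (S : Subgroup G) z := conj_WP_le_F S z.2.1 hg

omit [Finite G] in
theorem WP_le_Fz (z : Inv' (S : Subgroup G)) : WP (S : Subgroup G) ≤ Fz (S : Subgroup G) z :=
  WP_le_FH _ _

/-- **LEMMA P for the involutions of the points.** -/
theorem data (h : Ctx G) (hF : Full (S : Subgroup G)) (D : Data (S : Subgroup G))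
    (hA : ¬ CaseA (S : Subgroup G)) :
    NO3L.LemP.Data (zc (S : Subgroup G)) (CZ (S : Subgroup G)) (o2 (CZ (S : Subgroup G)))
      (Cz (S : Subgroup G)) (Fz (S : Subgroup G)) (Rz (S : Subgroup G)) where
  cen := le_rfl
  CH z := (isLong_Cz z).cz
  ZU z := (zc_le_WP h hF).trans (WP_le_Fz z)
  HU _ := le_normalizer_FH _ _
  HR _ := le_normalizer_o2 _
  UR z := NotA.FH_le_o2 D hA (isLong_Cz z)
  RQ z := (isLong_Cz z).o2_le S
  QR z := PointStab.inf_le_o2 ((zc_le_WP h hF).trans (WP_le_Fz z)) (isLong_Cz z).cz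
    (le_normalizer_FH _ _)

/-- If all members of `P*(S)` centralise an involution of `Z`, some `F_z`, `F_y^x` do not commute. -/
theorem exists_ne (h : Ctx G) (hF : Full (S : Subgroup G)) (D : Data (S : Subgroup G))
    (hA : ¬ CaseA (S : Subgroup G)) (hP : ∀ P : Subgroup G, IsParS (S : Subgroup G) P →
      zc (S : Subgroup G) ⊓ centralizer (P : Set G) ≠ ⊥) :
    ¬ ∀ i j, ∀ x ∈ (⨆ i, Cz (S : Subgroup G) i : Subgroup G), Fz (S : Subgroup G) i ≤
      centralizer ((MulAut.conj x • Fz (S : Subgroup G) j : Subgroup G) : Set G) := by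
  intro hcom
  set Y : Subgroup G := ⨆ i, Cz (S : Subgroup G) i with hY
  let I := Y × Inv' (S : Subgroup G)
  let B : I → Subgroup G := fun i => MulAut.conj (i.1 : G) • Fz (S : Subgroup G) i.2
  set A : Subgroup G := ⨆ i, B i with hAd
  have hBA : ∀ i, B i ≤ A := fun i => le_iSup B i
  have hYA : ∀ y ∈ Y, MulAut.conj y • A ≤ A := by
    intro y hy
    rw [Subgroup.pointwise_smul_subset_iff]
    refine iSup_le fun i => ?_
    rw [← Subgroup.pointwise_smul_subset_iff]
    change MulAut.conj y • MulAut.conj (i.1 : G) • Fz (S : Subgroup G) i.2 ≤ A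
    rw [conj_conj]
    exact hBA (⟨y * i.1, mul_mem hy i.1.2⟩, i.2)
  have hYN : Y ≤ normalizer (A : Set G) := ThmT.mem_normalizer_of_forall hYA
  have hAA : A ≤ centralizer (A : Set G) := by
    refine iSup_le fun i => ?_
    rw [le_centralizer_iff]
    refine iSup_le fun j => ?_
    rw [le_centralizer_iff]
    have h1 := hcom i.2 j.2 ((i.1 : G)⁻¹ * (j.1 : G)) (mul_mem (inv_mem i.1.2) j.1.2)
    have h2 := conj_le_centralizer (g := (i.1 : G)) h1
    rwa [conj_conj, mul_inv_cancel_left] at h2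
  have hsq : ∀ a ∈ A, a ^ 2 = 1 := NoFF.Lines.Geo.sq_of_comm hAA hBA le_rfl fun i =>
    NoFF.Lines.Geo.conj_sq (NotA.FH_sq h.char2 D hA (isLong_Cz i.2)) (i.1 : G)
  have hpA : IsPGroup 2 A := fun a => ⟨1, Subtype.ext (by
    rw [pow_one]
    exact hsq a a.2)⟩
  obtain ⟨P, hPS⟩ := h.exists_isParS hF
  obtain ⟨⟨z, hz⟩, hz1⟩ := Subgroup.ne_bot_iff_exists_ne_one.1 (hP P hPS)
  let z' : Inv' (S : Subgroup G) := ⟨z, (mem_inf.1 hz).1, fun h0 => hz1 (Subtype.ext h0)⟩
  have hA1 : A = ⊥ := by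
    refine eq_bot_of_norm h S hF hpA (fun P hPS => ?_) ?_
    · obtain ⟨⟨w, hw⟩, hw1⟩ := Subgroup.ne_bot_iff_exists_ne_one.1 (hP P hPS)
      let w' : Inv' (S : Subgroup G) := ⟨w, (mem_inf.1 hw).1, fun h0 => hw1 (Subtype.ext h0)⟩
      refine le_trans ?_ hYN
      refine le_trans ?_ (le_iSup (Cz (S : Subgroup G)) w')
      intro p hp
      change p ∈ centralizer ({w} : Set G)
      rw [mem_centralizer_singleton_iff]
      exact mem_centralizer_iff.1 (mem_inf.1 hw).2 p hp
    · exact ((isLong_Cz z').cz.trans (le_iSup (Cz (S : Subgroup G)) z')).trans hYN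
  have h1 : z ∈ A := by
    have h2 := hBA (1, z')
    change MulAut.conj ((1 : Y) : G) • Fz (S : Subgroup G) z' ≤ A at h2
    rw [Subgroup.coe_one, map_one, one_smul] at h2
    exact h2 ((zc_le_WP h hF).trans (WP_le_Fz z') (mem_inf.1 hz).1)
  rw [hA1, mem_bot] at h1
  exact hz1 (Subtype.ext h1)

/-- **(R3), the critical pair.** -/
theorem exists_crit (h : Ctx G) (hF : Full (S : Subgroup G)) (D : Data (S : Subgroup G))
    (hA : ¬ CaseA (S : Subgroup G)) (hP : ∀ P : Subgroup G, IsParS (S : Subgroup G) P →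
      zc (S : Subgroup G) ⊓ centralizer (P : Set G) ≠ ⊥) :
    ∃ n, Comm (Cz (S : Subgroup G)) (Fz (S : Subgroup G)) (n + 1) ∧
      (∀ m ≤ n, ∀ a c : Inv' (S : Subgroup G) × G, Near (Cz (S : Subgroup G)) m a c →
        vx (Fz (S : Subgroup G)) a ≤ vx (Rz (S : Subgroup G)) c) ∧
      ∃ (z y t s : Inv' (S : Subgroup G)) (g : G),
        Crit (o2 (CZ (S : Subgroup G))) (Cz (S : Subgroup G)) (Fz (S : Subgroup G))
          (Rz (S : Subgroup G)) z y t s g ∧
        Near (Cz (S : Subgroup G)) (n + 1) (z, g) (y, 1) ∧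
        MulAut.conj g • Fz (S : Subgroup G) z ≤ centralizer (Fz (S : Subgroup G) t : Set G) ∧
        Fz (S : Subgroup G) y ≤
          centralizer ((MulAut.conj g • Fz (S : Subgroup G) s : Subgroup G) : Set G) :=
  (data h hF D hA).exists_crit_comm' (fun z => NotA.FH_comm h.char2 D hA (isLong_Cz z))
    (exists_ne h hF D hA hP)

end one

end Cfsg.Agent.Omega.NOThreeL.RThree
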