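import Cfsg.Agent.Omega.NOThreeL.NatLineOf
import Cfsg.Agent.Omega.NOThreeL.StarEnd
import Cfsg.Agent.Omega.NOThreeL.RThree
import Cfsg.Agent.Omega.NO3b.NoEmp

/-!
# NO-3L, (LOW), FF lines: exactness (RANK LEMMA)

`S` a Sylow 2-subgroup, `Z = Ω₁(Z(S))`, `P ∈ P*(S)`, `V = (V_P)^x ≤ Q = O₂(C_G(Z))`, `U = U_H` with
`U^(x⁻¹) ≤ S`, `[V, U] ≠ 1` (`Ex S P H x`).

* `Ex.of` : a counterexample to (L) (`MutLine.NullF`) gives such an `x`;
* `TI S P` : conjugates of `V_P` with nontrivial intersection commute; `ti_of_natKM` : `TI` for natural modules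
  with one summand (not (A), `C_Z(P) = 1`);
* `Ex.surj` : `[v, U] = V ∩ U` for `v ∈ V - C(U)`; `Ex.rank` : `|V : C_V(U)| ≤ |U : C_U(V)|`;
* `Ex.off` : `U^(x⁻¹)` is an offender in `S` on `V_P`, `Ex.exact` : `|V : C_V(U)| = |U : C_U(V)|`.
* `Ex.rt` : `k = 1`: `U^(x⁻¹)` acts on `V_P` as the full root group; `Ex.inf_eq` : `V ∩ U = C_V(U) = R^x`.
-/

set_option autoImplicit false
set_option linter.unusedSectionVars false
set_option linter.unusedVariables false

namespace Cfsg.Agent.Omega.NOThreeL.Exact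

open Subgroup Cfsg Cfsg.Agent.Omega.MinPar Cfsg.Agent.Omega.Frame Cfsg.Agent.Omega.FrameNOFF
open Cfsg.Agent.ZN (zl zc o2)
open Cfsg.Agent.Omega.Node.NO3L
open Cfsg.Agent.ZN.ChoiceBase (cj mem_cj cj_mono cj_cj cj_centralizer cj_inf card_cj cj_one cj_le_iff)
open Cfsg.Agent.Omega.NOThreeL.Basic (CaseA DataZ WP zl_le_WP IsLong.zl_le_S NotA.FH_comm WP_le_FH)
open Cfsg.Agent.Omega.NoFF.Basic (conj_conj mem_conj conj_le_iff conj_le_centralizer comm_mono)
open Cfsg.Agent.Omega.NOThreeL.Pair (conj_eq_of_mem conj_le_normalizer zl_abel)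
open Cfsg.Agent.Omega.NOThreeL.MutLine (NullF)
open Cfsg.Agent.Omega.FFThm (ElemM OffM NoOverM ConclM NatKM ActsSL relIndex_le_iff)
open Cfsg.Agent.Omega.NO3b.NoEmp (comm_mem exists_swap surj_of relIndex_le_of_pairing pgroup_of_sq)
open Cfsg.Agent.Omega.NOThreeL.NF.NatR (ln Rt)
open Cfsg.Agent.MinSimple.VModule (zl_le le_normalizer_zl zc_le_zl zc_le zl_le_zc o2_isPGroup le_normalizer_o2
  mem_zc le_o2 o2_le le_centralizer_zc zc_sq)
open scoped Pointwise commutatorElement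

universe u

variable {G : Type u} [Group G]

/-! ### The rank lemma -/

/-- `V` and `U ⊴ X` are elementary abelian and normalise each other, noncommuting conjugates of `V` in `X` are
disjoint. -/
structure Mut (X V U : Subgroup G) : Prop where
  VX : V ≤ X
  Vc : ∀ a ∈ V, ∀ b ∈ V, a * b = b * a
  V2 : ∀ a ∈ V, a ^ 2 = 1
  Uc : ∀ a ∈ U, ∀ b ∈ U, a * b = b * a
  XU : X ≤ normalizer (U : Set G)
  UV : U ≤ normalizer (V : Set G)
  V0 : V ⊓ o2 X ≤ centralizer (U : Set G)
  ti : ∀ a ∈ X, ∀ b ∈ X, ¬ cj a V ≤ centralizer ((cj b V : Subgroup G) : Set G) → cj a V ⊓ cj b V = ⊥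

namespace Mut

variable [Finite G] {X V U : Subgroup G} (D : Mut X V U)
include D

theorem surj {v : G} (hv : v ∈ V) (hvU : v ∉ centralizer (U : Set G)) {b : G} (hb : b ∈ V ⊓ U) :
    ∃ u ∈ U, ⁅v, u⁆ = b := by
  have hvo : v ∉ o2 X := fun h => hvU (D.V0 ⟨hv, h⟩)
  obtain ⟨g, hg, hgn⟩ := exists_swap D.VX D.V2 hv hvo
  obtain ⟨u, hu, d, hd, h⟩ := surj_of (D := ⊥) D.VX D.Uc D.XU D.UV bot_le bot_le
    (by rw [Subgroup.le_centralizer_iff]; exact bot_le) hv hg
    (D.ti g hg (v * g) (mul_mem (D.VX hv) hg) hgn).le hb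
  rw [mem_bot.1 hd, mul_one] at h
  exact ⟨u, hu, h⟩

/-- the RANK LEMMA -/
theorem rank (hne : ¬ V ≤ centralizer (U : Set G)) :
    (centralizer (U : Set G)).relIndex V ≤ (centralizer (V : Set G)).relIndex U := by
  have hVU : V ≤ normalizer (U : Set G) := D.VX.trans D.XU
  obtain ⟨b, hb, hb1⟩ : ∃ b ∈ V ⊓ U, b ≠ 1 := by
    obtain ⟨v, hv, hvU⟩ := SetLike.not_le_iff_exists.1 hne
    by_contra hcon
    push Not at hcon
    apply hvU
    rw [mem_centralizer_iff]
    intro u hu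
    exact (commutatorElement_eq_one_iff_mul_comm.1 (hcon _ (comm_mem D.UV hVU hv hu))).symm
  let _ : CommGroup (V ⊓ U : Subgroup G) := { (inferInstance : Group (V ⊓ U : Subgroup G)) with
    mul_comm := fun a b => Subtype.ext (D.Vc a a.2.1 b b.2.1) }
  obtain ⟨χ, hχ⟩ := CommGroup.exists_apply_ne_one_of_hasEnoughRootsOfUnity
    (V ⊓ U : Subgroup G) ℂ (a := (⟨b, hb⟩ : (V ⊓ U : Subgroup G)))
    (fun h0 => hb1 (congrArg Subtype.val h0))
  refine relIndex_le_of_pairing D.Uc D.Vc D.UV hVU χ ?_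
  intro v hv hall
  by_contra hvU
  obtain ⟨u, hu, h⟩ := D.surj hv hvU hb
  apply hχ
  have e : (⟨b, hb⟩ : (V ⊓ U : Subgroup G)) = ⟨⁅v, u⁆, comm_mem D.UV hVU hv hu⟩ := Subtype.ext h.symm
  rw [e, hall u hu]

end Mut

/-! ### The situation -/

/-- `V = (V_P)^x ≤ Q`, `U^(x⁻¹) ≤ S`, `[V, U] ≠ 1`, `U = U_H`. -/
structure Ex (S P H : Subgroup G) (x : G) : Prop where
  par : IsParS S P
  long : IsLong S H
  low : MulAut.conj x • zl S P ≤ o2 (CZ S)
  US : MulAut.conj x⁻¹ • zl S H ≤ S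
  ne : ¬ MulAut.conj x • zl S P ≤ centralizer (zl S H : Set G)

/-- Conjugates of `V_P` with nontrivial intersection commute. -/
def TI (S P : Subgroup G) : Prop :=
  ∀ a b : G, MulAut.conj a • zl S P ⊓ MulAut.conj b • zl S P ≠ ⊥ →
    MulAut.conj a • zl S P ≤ centralizer ((MulAut.conj b • zl S P : Subgroup G) : Set G)

variable [Finite G] {S : Sylow 2 G}

theorem exists_adj (hc : IsCharacteristicTwoType G) {P H : Subgroup G}
    (hP : IsParS (S : Subgroup G) P) (hH : IsLong (S : Subgroup G) H) {g : G}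
    (h2 : zl (S : Subgroup G) H ≤ normalizer ((MulAut.conj g • zl (S : Subgroup G) P : Subgroup G) : Set G)) :
    ∃ x : G, MulAut.conj x • zl (S : Subgroup G) P = MulAut.conj g • zl (S : Subgroup G) P ∧
      MulAut.conj x⁻¹ • zl (S : Subgroup G) H ≤ (S : Subgroup G) := by
  have hUS : zl (S : Subgroup G) H ≤ (S : Subgroup G) := IsLong.zl_le_S hc hH
  have hU2 : IsPGroup 2 (MulAut.conj g⁻¹ • zl (S : Subgroup G) H : Subgroup G) :=
    (S.isPGroup'.to_le hUS).map (MulAut.conj g⁻¹).toMonoidHom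
  have h4 := conj_le_normalizer (g := g⁻¹) h2
  rw [conj_conj, inv_mul_cancel, map_one, one_smul] at h4
  obtain ⟨n, hn, hnS⟩ := LNqPlug.exists_conj_le S (hP.le.trans (le_normalizer_zl _ _)) hU2 h4
  refine ⟨g * n⁻¹, ?_, ?_⟩
  · rw [← conj_conj, conj_eq_of_mem (inv_mem hn)]
  · intro u hu
    rw [mem_conj, inv_inv] at hu
    have h5 := hnS (g⁻¹ * ((g * n⁻¹) * u * (g * n⁻¹)⁻¹) * g) (mem_conj.2 (by
      simpa [mul_assoc] using hu))
    have e : n * (g⁻¹ * ((g * n⁻¹) * u * (g * n⁻¹)⁻¹) * g) * n⁻¹ = u := by group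
    rwa [e] at h5

/-- A counterexample to (L). -/
theorem Ex.of (hc : IsCharacteristicTwoType G) {F : Set (Subgroup G)} (hF : F ⊆ PS (S : Subgroup G))
    (h : ¬ NullF (S : Subgroup G) F) : ∃ P ∈ F, ∃ H x, Ex (S : Subgroup G) P H x := by
  unfold NullF at h
  push Not at h
  obtain ⟨P, H, g, hP, hH, h1, h2, h3⟩ := h
  obtain ⟨x, hx, hxS⟩ := exists_adj hc (hF hP) hH h2
  exact ⟨P, hP, H, x, hF hP, hH, hx ▸ h1, hxS, hx ▸ h3⟩

/-- (L) from the nonexistence of `Ex`. -/
theorem nullF_of (hc : IsCharacteristicTwoType G) {F : Set (Subgroup G)} (hF : F ⊆ PS (S : Subgroup G))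
    (h : ∀ P ∈ F, ∀ H x, ¬ Ex (S : Subgroup G) P H x) : NullF (S : Subgroup G) F := by
  by_contra hcon
  obtain ⟨P, hP, H, x, hE⟩ := Ex.of hc hF hcon
  exact h P hP H x hE

namespace Ex

variable {P H : Subgroup G} {x : G} (E : Ex (S : Subgroup G) P H x) (hc : IsCharacteristicTwoType G)
include E hc

omit hc in
theorem U_norm : zl (S : Subgroup G) H ≤
    normalizer ((MulAut.conj x • zl (S : Subgroup G) P : Subgroup G) : Set G) := by
  have h1 : MulAut.conj x⁻¹ • zl (S : Subgroup G) H ≤ normalizer (zl (S : Subgroup G) P : Set G) :=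
    E.US.trans (E.par.le.trans (le_normalizer_zl _ _))
  have h2 := conj_le_normalizer (g := x) h1
  rwa [conj_conj, mul_inv_cancel, map_one, one_smul] at h2

theorem V_comm : ∀ a ∈ MulAut.conj x • zl (S : Subgroup G) P, ∀ b ∈ MulAut.conj x • zl (S : Subgroup G) P,
    a * b = b * a := by
  have h1 := conj_le_centralizer (g := x) (zl_abel hc S E.par.isLoc).1
  exact fun a ha b hb => mem_centralizer_iff.1 (h1 hb) a ha

theorem V_sq : ∀ a ∈ MulAut.conj x • zl (S : Subgroup G) P, a ^ 2 = 1 := by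
  intro a ha
  have h1 := (zl_abel hc S E.par.isLoc).2 _ (mem_conj.1 ha)
  have e : a ^ 2 = x * (x⁻¹ * a * x) ^ 2 * x⁻¹ := by rw [pow_two, pow_two]; group
  rw [e, h1]; group

theorem U_comm : ∀ a ∈ zl (S : Subgroup G) H, ∀ b ∈ zl (S : Subgroup G) H, a * b = b * a :=
  fun a ha b hb => mem_centralizer_iff.1 ((zl_abel hc S E.long.loc).1 hb) a ha

omit hc in
theorem V_le_H : MulAut.conj x • zl (S : Subgroup G) P ≤ H :=
  E.low.trans ((o2_le _).trans E.long.cz)

theorem toMut (ti : TI (S : Subgroup G) P) :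
    Mut H (MulAut.conj x • zl (S : Subgroup G) P) (zl (S : Subgroup G) H) where
  VX := E.V_le_H
  Vc := E.V_comm hc
  V2 := E.V_sq hc
  Uc := E.U_comm hc
  XU := le_normalizer_zl _ _
  UV := E.U_norm
  V0 := by
    refine inf_le_right.trans ?_
    intro a ha
    rw [mem_centralizer_iff]
    intro u hu
    exact ((mem_zc.1 (E.long.loc.zl_le S hc hu)).2.1 a ha).symm
  ti := by
    intro a _ b _ hab
    by_contra h0
    apply hab
    have h1 := ti (a * x) (b * x) (by rw [← conj_conj, ← conj_conj]; exact h0)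
    rw [← conj_conj, ← conj_conj] at h1
    exact h1

/-- `[v, U] = V ∩ U` -/
theorem surj (ti : TI (S : Subgroup G) P) {v : G} (hv : v ∈ MulAut.conj x • zl (S : Subgroup G) P)
    (hvU : v ∉ centralizer (zl (S : Subgroup G) H : Set G)) {b : G}
    (hb : b ∈ MulAut.conj x • zl (S : Subgroup G) P ⊓ zl (S : Subgroup G) H) :
    ∃ u ∈ zl (S : Subgroup G) H, ⁅v, u⁆ = b := (E.toMut hc ti).surj hv hvU hb

/-- the RANK LEMMA -/
theorem rank (ti : TI (S : Subgroup G) P) :
    (centralizer (zl (S : Subgroup G) H : Set G)).relIndex (MulAut.conj x • zl (S : Subgroup G) P) ≤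
      (centralizer ((MulAut.conj x • zl (S : Subgroup G) P : Subgroup G) : Set G)).relIndex
        (zl (S : Subgroup G) H) := (E.toMut hc ti).rank E.ne

omit hc E in
theorem relIndex_conj (x : G) (A B : Subgroup G) :
    (centralizer ((MulAut.conj x • A : Subgroup G) : Set G)).relIndex B =
      (centralizer (A : Set G)).relIndex (MulAut.conj x⁻¹ • B) := by
  have h1 : centralizer ((MulAut.conj x • A : Subgroup G) : Set G) = MulAut.conj x • centralizer (A : Set G) :=
    (cj_centralizer x A).symm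
  have h2 : B = MulAut.conj x • MulAut.conj x⁻¹ • B := by
    rw [conj_conj, mul_inv_cancel, map_one, one_smul]
  rw [h1]
  conv_lhs => rw [h2]
  exact Subgroup.relIndex_pointwise_smul _ _ _

/-- **`U^(x⁻¹)` is an offender in `S` on `V_P`.** -/
theorem off (ti : TI (S : Subgroup G) P) :
    OffM (zl (S : Subgroup G) P) (MulAut.conj x⁻¹ • zl (S : Subgroup G) H) := by
  have hU := zl_abel hc S E.long.loc
  refine ⟨⟨?_, ?_⟩, ?_, ?_⟩
  · intro a ha
    have h1 := hU.2 _ (mem_conj.1 ha)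
    rw [inv_inv] at h1
    have e : a ^ 2 = x⁻¹ * (x * a * x⁻¹) ^ 2 * x := by rw [pow_two, pow_two]; group
    rw [e, h1, mul_one, inv_mul_cancel]
    exact one_mem _
  · intro a ha b hb
    rw [mem_conj, inv_inv] at ha hb
    have h1 := E.U_comm hc _ ha _ hb
    have e : a * b * a⁻¹ * b⁻¹ = 1 := by
      have e2 : a * b = b * a := by
        have h3 : x⁻¹ * (x * a * x⁻¹ * (x * b * x⁻¹)) * x = x⁻¹ * (x * b * x⁻¹ * (x * a * x⁻¹)) * x := by rw [h1]
        simpa [mul_assoc] using h3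
      rw [e2]; group
    rw [e]; exact one_mem _
  · intro h
    apply E.ne
    have h1 := conj_le_centralizer (g := x) h
    rw [conj_conj, mul_inv_cancel, map_one, one_smul] at h1
    exact Subgroup.le_centralizer_iff.1 h1
  · rw [relIndex_le_iff]
    have h1 := E.rank hc ti
    rw [relIndex_conj] at h1
    have h2 : (centralizer ((MulAut.conj x⁻¹ • zl (S : Subgroup G) H : Subgroup G) : Set G)).relIndex
        (zl (S : Subgroup G) P) =
        (centralizer (zl (S : Subgroup G) H : Set G)).relIndex (MulAut.conj x • zl (S : Subgroup G) P) := by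
      rw [relIndex_conj, inv_inv]
    rw [h2]
    exact h1

/-- the FF theorem for `P` -/
theorem ff (ti : TI (S : Subgroup G) P) : NoOverM (zl (S : Subgroup G) P) P ∧ ConclM (S : Subgroup G) P :=
  StarEnd.stmtM G (S : Subgroup G) P (MinSimple.EmptyTI.syl_of_le E.par.le) E.par.toIsMinPar
    (E.par.isLoc.char2 S hc) ⟨_, E.US.trans E.par.le, E.off hc ti⟩

/-- **exactness** -/
theorem exact (ti : TI (S : Subgroup G) P) :
    (centralizer (zl (S : Subgroup G) H : Set G)).relIndex (MulAut.conj x • zl (S : Subgroup G) P) =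
      (centralizer ((MulAut.conj x • zl (S : Subgroup G) P : Subgroup G) : Set G)).relIndex
        (zl (S : Subgroup G) H) := by
  refine le_antisymm (E.rank hc ti) ?_
  have h1 := (E.ff hc ti).1 _ (E.US.trans E.par.le) (E.off hc ti).toElemM
  have h2 := relIndex_le_iff.1 h1
  rwa [← relIndex_conj, relIndex_conj x⁻¹, inv_inv] at h2

end Ex

/-! ### Natural modules with one summand -/

section nat

variable {F : Type} [Field F] {P : Subgroup G}

/-- **TI for natural lines** (`k = 1`), not (A), `C_Z(P) = 1`. -/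
theorem ti_of_natKM (hc : IsCharacteristicTwoType G) (D : DataZ (S : Subgroup G)) (hA : ¬ CaseA (S : Subgroup G))
    (hS : zc (S : Subgroup G) ≠ ⊥) {H : Subgroup G} (hH : IsLong (S : Subgroup G) H)
    (hP : IsParS (S : Subgroup G) P) (M : NatKM F S P (zl (S : Subgroup G) P) ⊥ 1) : TI (S : Subgroup G) P := by
  obtain ⟨⟨z, hz⟩, hz1⟩ := Subgroup.ne_bot_iff_exists_ne_one.1 hS
  have hz1' : z ≠ 1 := fun h => hz1 (Subtype.ext h)
  have hzV : z ∈ zl (S : Subgroup G) P := zc_le_zl _ _ hz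
  have hPW := le_normalizer_zl (S : Subgroup G) P
  have hWP : WP (S : Subgroup G) ≤ centralizer (WP (S : Subgroup G) : Set G) :=
    comm_mono (NotA.FH_comm hc D.toData hA hH) (WP_le_FH _ _) (WP_le_FH _ _)
  -- every vector lies in a point
  have pt : ∀ (a v : G), v ∈ MulAut.conj a • zl (S : Subgroup G) P → v ≠ 1 →
      ∃ p ∈ P, v ∈ MulAut.conj (a * p) • zc (S : Subgroup G) := by
    intro a v hv hv1
    obtain ⟨p, hp, he⟩ := NatLineOf.exists_conj M hPW hzV (mem_conj.1 hv) hz1' (by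
      intro h0
      apply hv1
      have e : v = a * (a⁻¹ * v * a) * a⁻¹ := by group
      rw [e, h0]; group)
    refine ⟨p, hp, ?_⟩
    rw [mem_conj]
    have e : (a * p)⁻¹ * v * (a * p) = p⁻¹ * (a⁻¹ * v * a) * p := by group
    rw [e, he]
    have e2 : p⁻¹ * (p * z * p⁻¹) * p = z := by group
    rw [e2]; exact hz
  intro a b hab
  obtain ⟨⟨v, hv⟩, hv1⟩ := Subgroup.ne_bot_iff_exists_ne_one.1 hab
  have hv1' : v ≠ 1 := fun h => hv1 (Subtype.ext h)
  obtain ⟨p, hp, hvp⟩ := pt a v (mem_inf.1 hv).1 hv1'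
  obtain ⟨p', hp', hvp'⟩ := pt b v (mem_inf.1 hv).2 hv1'
  have hn : (a * p)⁻¹ * (b * p') ∈ normalizer (zc (S : Subgroup G) : Set G) := by
    refine RTwo.ti S D.cz ?_
    rw [Subgroup.ne_bot_iff_exists_ne_one]
    refine ⟨⟨(a * p)⁻¹ * v * (a * p), mem_inf.2 ⟨mem_conj.1 hvp, ?_⟩⟩, ?_⟩
    · rw [mem_conj]
      have h1 := mem_conj.1 hvp'
      have e : ((a * p)⁻¹ * (b * p'))⁻¹ * ((a * p)⁻¹ * v * (a * p)) * ((a * p)⁻¹ * (b * p')) =
        (b * p')⁻¹ * v * (b * p') := by group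
      rw [e]; exact h1
    · intro h0
      apply hv1'
      have h1 : (a * p)⁻¹ * v * (a * p) = 1 := congrArg Subtype.val h0
      have e : v = (a * p) * ((a * p)⁻¹ * v * (a * p)) * (a * p)⁻¹ := by group
      rw [e, h1]; group
  have h1 : MulAut.conj a • zl (S : Subgroup G) P ≤ MulAut.conj (a * p) • WP (S : Subgroup G) := by
    have h2 : MulAut.conj (a * p) • zl (S : Subgroup G) P = MulAut.conj a • zl (S : Subgroup G) P := by
      rw [← conj_conj, conj_eq_of_mem (hPW hp)]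
    rw [← h2]
    exact conj_le_iff.2 (zl_le_WP hP)
  have h2 : MulAut.conj b • zl (S : Subgroup G) P ≤ MulAut.conj (a * p) • WP (S : Subgroup G) := by
    have h3 : MulAut.conj (b * p') • zl (S : Subgroup G) P = MulAut.conj b • zl (S : Subgroup G) P := by
      rw [← conj_conj, conj_eq_of_mem (hPW hp')]
    have h4 : MulAut.conj (b * p') • WP (S : Subgroup G) = MulAut.conj (a * p) • WP (S : Subgroup G) := by
      have h5 : MulAut.conj (a * p) • MulAut.conj ((a * p)⁻¹ * (b * p')) • WP (S : Subgroup G) =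
        MulAut.conj (a * p) • WP (S : Subgroup G) := by rw [RThree.conj_WP_of_normalizer S hn]
      rwa [conj_conj, mul_inv_cancel_left] at h5
    rw [← h3, ← h4]
    exact conj_le_iff.2 (zl_le_WP hP)
  exact comm_mono (conj_le_centralizer hWP) h1 h2

variable [Finite F] [CharP F 2] {H : Subgroup G} {x : G}

/-- **`U^(x⁻¹)` acts on `V_P` as the full root group.** -/
theorem Ex.rt (hc : IsCharacteristicTwoType G) (E : Ex (S : Subgroup G) P H x)
    (M : NatKM F S P (zl (S : Subgroup G) P) ⊥ 1) (ti : TI (S : Subgroup G) P) :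
    Rt M 0 (MulAut.conj x⁻¹ • zl (S : Subgroup G) H) := by
  have hoff := E.off hc ti
  obtain ⟨I, h1, h2⟩ := M.offM _ E.US hoff
  have hI : (0 : Fin 1) ∈ I := by
    by_contra h0
    refine hoff.ne fun a ha => ?_
    obtain ⟨b, hb, hac⟩ := h1 a ha
    refine NF.NatR.cent_of_ac (M := M) (le_normalizer_zl _ _) (E.par.le (E.US ha)) fun v hv j => ?_
    have hj : j = 0 := Subsingleton.elim j 0
    have h3 : Cfsg.Agent.Lib.SL2Mat.up (b j) = 1 := by
      rw [hj, hb 0 h0, Cfsg.Agent.Lib.SL2Mat.up_zero]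
    exact (hac.1 v hv j).trans (congrArg (fun t => Cfsg.Agent.Omega.NatPair.ap t (M.e v j)) h3)
  have key : ∀ b : Fin 1 → F, (fun i => Cfsg.Agent.Lib.SL2Mat.up (b i)) =
      (Pi.mulSingle 0 (Cfsg.Agent.Lib.SL2Mat.up (b 0)) : Fin 1 → Matrix.SpecialLinearGroup (Fin 2) F) := by
    intro b
    funext j
    have hj : j = 0 := Subsingleton.elim j 0
    rw [hj, Pi.mulSingle_eq_same]
  refine ⟨E.US, fun a ha => ?_, fun c => ?_⟩
  · obtain ⟨b, -, hac⟩ := h1 a ha
    exact ⟨b 0, by rw [← key b]; exact hac.1⟩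
  · obtain ⟨a, ha, hac⟩ := h2 (fun _ => c) fun i hi => absurd (Subsingleton.elim 0 i ▸ hI) hi
    exact ⟨a, ha, by have := key fun _ => c; rw [← this]; exact hac.1⟩

/-- `V ∩ U = R^x` -/
theorem Ex.inf_eq (hc : IsCharacteristicTwoType G) (E : Ex (S : Subgroup G) P H x)
    (M : NatKM F S P (zl (S : Subgroup G) P) ⊥ 1) (ti : TI (S : Subgroup G) P) :
    MulAut.conj x • zl (S : Subgroup G) P ⊓ zl (S : Subgroup G) H = MulAut.conj x • ln M {0} ∧
      MulAut.conj x • zl (S : Subgroup G) P ⊓ centralizer (zl (S : Subgroup G) H : Set G) =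
        MulAut.conj x • ln M {0} := by
  have hr := E.rt hc M ti
  have hPW := le_normalizer_zl (S : Subgroup G) P
  have h1 : MulAut.conj x • zl (S : Subgroup G) P ⊓ centralizer (zl (S : Subgroup G) H : Set G) ≤
      MulAut.conj x • ln M {0} := by
    rintro v ⟨hv, hvc⟩
    rw [mem_conj]
    have h2 := mem_conj.1 hv
    rw [NatLineOf.mem_R]
    refine ⟨h2, hr.zero_of_cent h2 ?_⟩
    rw [mem_centralizer_iff]
    intro a ha
    rw [SetLike.mem_coe, mem_conj, inv_inv] at ha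
    have h3 := mem_centralizer_iff.1 hvc _ ha
    have h4 : x⁻¹ * (x * a * x⁻¹ * v) * x = x⁻¹ * (v * (x * a * x⁻¹)) * x := by rw [h3]
    simpa [mul_assoc] using h4
  have h2 : MulAut.conj x • zl (S : Subgroup G) P ⊓ zl (S : Subgroup G) H ≤
      MulAut.conj x • zl (S : Subgroup G) P ⊓ centralizer (zl (S : Subgroup G) H : Set G) :=
    inf_le_inf_left _ (zl_abel hc S E.long.loc).1
  have h3 : MulAut.conj x • ln M {0} ≤ MulAut.conj x • zl (S : Subgroup G) P ⊓ zl (S : Subgroup G) H := by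
    have h4 := hr.comm_eq hPW E.par.le
    have h5 : MulAut.conj x • ln M {0} =
        ⁅MulAut.conj x • zl (S : Subgroup G) P, zl (S : Subgroup G) H⁆ := by
      rw [← h4]
      have h6 : MulAut.conj x • ⁅zl (S : Subgroup G) P, MulAut.conj x⁻¹ • zl (S : Subgroup G) H⁆ =
        ⁅MulAut.conj x • zl (S : Subgroup G) P, MulAut.conj x • MulAut.conj x⁻¹ • zl (S : Subgroup G) H⁆ :=
        Subgroup.map_commutator _ _ _
      rw [h6, conj_conj, mul_inv_cancel, map_one, one_smul]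
    rw [h5]
    refine Subgroup.commutator_le.2 fun v hv u hu => comm_mem E.U_norm (E.V_le_H.trans (le_normalizer_zl _ _)) hv hu
  exact ⟨le_antisymm (h2.trans h1) h3, le_antisymm h1 (h3.trans h2)⟩

end nat

end Cfsg.Agent.Omega.NOThreeL.Exact
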