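import Cfsg.Agent.Omega.NOThreeL.Conn
import Cfsg.Agent.Omega.NOThreeL.Basic
import Cfsg.Agent.Omega.NOThreeL.ThmT
import Cfsg.Agent.Omega.NTwo.Nat

/-!
# NO-3L: the FULL lemma and case (A) for generating pairs (text bb OMEGA 14839, helper929; 14538, helper644)

`S` a Sylow 2-subgroup, `C = C_G(Z) ≤ H ∈ L(S)`, `U = U_H = zl S H`.
* `full` : a subgroup `X ≤ U`, `Z ≤ X`, `W_H ≤ X`, such that `X ≤ [u, C_G(X)]` for all `u ∈ U - X`, is `U`;
* `WP_comm` : the lines on `Z` commute (NOFF);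
* `PairA.false_of` : case (A) is impossible for `P` with `C_Z(P) = 1` and `(GEN)`: some `p ∈ P` has
  `O²(P) ≤ ⟨w, U^p⟩ O₂(P)` for all `w ∈ U - O₂(P)`;
* `PairA.false_of_card` : case (A) is impossible for `P` with `C_Z(P) = 1` and `|S : O₂(P)| = 2`
  (in particular for `|V_P| = 4`, `|Z| = 2`).
-/

set_option autoImplicit false

namespace Cfsg.Agent.Omega.NOThreeL.Gen

open Subgroup MulAction Pointwise Cfsg Cfsg.Agent.ZN Cfsg.Agent.MinSimple
open Cfsg.Agent.Omega.NoFF.Basic (conj_conj mem_conj conj_le_iff conj_le_centralizer comm_symm comm_mono)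
open Cfsg.Agent.Omega.NoFF.LinesPlug (exists_fixed oddGen_sup)
open Cfsg.Agent.Omega.MinPar (IsPar IsParS IsLoc NonLoc)
open Cfsg.Agent.Omega.FrameNOFF (CZ)
open Cfsg.Agent.Omega.Node.NO3L (Data IsLong)
open Cfsg.Agent.Omega.NOThreeL.Basic (WP PairA)
open Cfsg.Agent.MinSimple.VModule (oddGen oddGen_le le_o2 mem_zc zc_le zc_le_zl zl_le_zc le_normalizer_zl le_normalizer_o2
  o2_le o2_isPGroup normalizer_le_normalizer_zc le_normalizer_oddGen)

universe u

variable {G : Type u} [Group G]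

theorem mem_conj_smul {g x : G} {A : Subgroup G} (hx : x ∈ A) : g * x * g⁻¹ ∈ MulAut.conj g • A := by
  rw [mem_conj]
  have e : g⁻¹ * (g * x * g⁻¹) * g = x := by group
  rwa [e]

theorem conj_mem {g x : G} {A : Subgroup G} (hg : g ∈ normalizer (A : Set G)) (hx : x ∈ A) : g * x * g⁻¹ ∈ A :=
  (mem_normalizer_iff.1 hg x).1 hx

theorem conj_mem' {g x : G} {A : Subgroup G} (hg : g ∈ normalizer (A : Set G)) (hx : x ∈ A) :
    g⁻¹ * x * g ∈ A := by
  have := conj_mem (inv_mem hg) hx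
  rwa [inv_inv] at this

variable [Finite G]

/-- **The FULL lemma.** -/
theorem full (S : Sylow 2 G) {H X : Subgroup G} (hH : IsLoc (S : Subgroup G) H)
    (hC : CZ (S : Subgroup G) ≤ H) (hZX : zc (S : Subgroup G) ≤ X) (hWX : W (S : Subgroup G) H ≤ X)
    (hXU : X ≤ zl (S : Subgroup G) H)
    (hf : ∀ u ∈ zl (S : Subgroup G) H, u ∉ X →
      X ≤ closure {a | ∃ y ∈ centralizer (X : Set G), a = u⁻¹ * (y⁻¹ * u * y)}) :
    X = zl (S : Subgroup G) H := by
  refine le_antisymm hXU (conn_W S hH X hZX fun g hg hgZ => ?_)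
  by_contra hcon
  obtain ⟨a, ha, haX⟩ := SetLike.not_le_iff_exists.1 hcon
  obtain ⟨w, hw, rfl⟩ : ∃ w ∈ W (S : Subgroup G) H, a = g * w * g⁻¹ :=
    ⟨g⁻¹ * a * g, mem_conj.1 ha, by group⟩
  have huU : g * w * g⁻¹ ∈ zl (S : Subgroup G) H := conj_mem hg (W_le_zl hC hw)
  have h1 := hf _ huU haX
  have h2 : MulAut.conj g⁻¹ • X ≤ W (S : Subgroup G) H := by
    intro x hx
    rw [mem_conj, inv_inv] at hx
    have h3 : ∀ z ∈ closure {a | ∃ y ∈ centralizer (X : Set G),
        a = (g * w * g⁻¹)⁻¹ * (y⁻¹ * (g * w * g⁻¹) * y)}, g⁻¹ * z * g ∈ W (S : Subgroup G) H := by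
      intro z hz
      induction hz using closure_induction with
      | mem z hz =>
        obtain ⟨y, hy, rfl⟩ := hz
        have h4 : g⁻¹ * y * g ∈ CZ (S : Subgroup G) := by
          rw [mem_centralizer_iff]
          intro z hz
          have h5 := mem_centralizer_iff.1 hy _ (hgZ (mem_conj_smul hz))
          calc z * (g⁻¹ * y * g) = g⁻¹ * ((g * z * g⁻¹) * y) * g := by group
            _ = g⁻¹ * (y * (g * z * g⁻¹)) * g := by rw [h5]
            _ = g⁻¹ * y * g * z := by group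
        have h6 := conj_mem' (CZ_le_normalizer_W _ _ h4) hw
        have e : g⁻¹ * ((g * w * g⁻¹)⁻¹ * (y⁻¹ * (g * w * g⁻¹) * y)) * g =
            w⁻¹ * ((g⁻¹ * y * g)⁻¹ * w * (g⁻¹ * y * g)) := by group
        rw [e]
        exact mul_mem (inv_mem hw) h6
      | one => simp
      | mul a b _ _ iha ihb =>
        have e : g⁻¹ * (a * b) * g = (g⁻¹ * a * g) * (g⁻¹ * b * g) := by group
        rw [e]; exact mul_mem iha ihb
      | inv a _ iha =>
        have e : g⁻¹ * a⁻¹ * g = (g⁻¹ * a * g)⁻¹ := by group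
        rw [e]; exact inv_mem iha
    have h4 := h3 _ (h1 hx)
    have e : g⁻¹ * (g * x * g⁻¹) * g = x := by group
    rwa [e] at h4
  have h3 : MulAut.conj g⁻¹ • X = X := by
    refine eq_of_le_of_card_ge (h2.trans hWX) (le_of_eq ?_)
    exact (ThmT.card_conj g⁻¹ X).symm
  apply haX
  have h5 : w ∈ MulAut.conj g⁻¹ • X := by
    rw [h3]; exact hWX hw
  rw [mem_conj, inv_inv] at h5
  exact h5

/-- the lines on `Z` commute. -/
theorem WP_comm (hG : IsCharacteristicTwoType G) (S : Sylow 2 G) (D : Data (S : Subgroup G)) :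
    WP (S : Subgroup G) ≤ centralizer (WP (S : Subgroup G) : Set G) := by
  have h1 := Basic.WP_le_Q D
  have h2 := Basic.comm_of_le hG D (x := 1) (y := 1) (by rwa [map_one, one_smul, one_smul])
    (by rwa [map_one, one_smul, one_smul])
  rwa [map_one, one_smul] at h2

omit [Finite G] in
theorem W_le_WP (S H : Subgroup G) : W S H ≤ WP S :=
  W_le fun _ hP _ _ hc => Basic.line_le_WP hP hc

/-- `W_H` centralises all `V_P`. -/
theorem W_comm (hG : IsCharacteristicTwoType G) (S : Sylow 2 G) (D : Data (S : Subgroup G)) {P H : Subgroup G}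
    (hP : IsParS (S : Subgroup G) P) :
    W (S : Subgroup G) H ≤ centralizer (zl (S : Subgroup G) P : Set G) :=
  (W_le_WP _ _).trans ((WP_comm hG S D).trans (centralizer_le (Basic.zl_le_WP hP)))

/-- `C_Z(P) = 1`: no nontrivial elementary abelian subgroup of `O₂(P)` is normalised by `O₂(P)` and centralised
by a subgroup `L` with `O²(P) ≤ L O₂(P)`. -/
theorem eq_bot_of_cent (S : Sylow 2 G) {P D L : Subgroup G} (hP : IsPar (S : Subgroup G) P)
    (hcz : zc (S : Subgroup G) ⊓ centralizer (P : Set G) = ⊥) (hD : D ≤ o2 P) (hDs : ∀ x ∈ D, x ^ 2 = 1)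
    (hOD : o2 P ≤ normalizer (D : Set G)) (hLD : L ≤ centralizer (D : Set G)) (hL : oddGen P ≤ L ⊔ o2 P) :
    D = ⊥ := by
  by_contra hne
  obtain ⟨x, hx, hx1, hxO⟩ := exists_fixed (o2_isPGroup P) hD hOD hne
  have hxE : x ∈ zc (o2 P) ⊓ centralizer (oddGen P : Set G) := by
    refine mem_inf.2 ⟨mem_zc.2 ⟨hD hx, hxO, hDs x hx⟩, ?_⟩
    have h1 : L ⊔ o2 P ≤ centralizer ({x} : Set G) := by
      refine sup_le (fun y hy => ?_) (fun y hy => ?_)
      · exact mem_centralizer_singleton_iff.2 (mem_centralizer_iff.1 (hLD hy) x hx).symm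
      · exact mem_centralizer_singleton_iff.2 (hxO y hy)
    rw [mem_centralizer_iff]
    exact fun y hy => mem_centralizer_singleton_iff.1 (h1 (hL hy))
  have hne' : zc (o2 P) ⊓ centralizer (oddGen P : Set G) ≠ ⊥ := fun h0 => hx1 (by
    rw [h0] at hxE; exact hxE)
  have hSP := hP.isLoc.le
  have hOS : o2 P ≤ (S : Subgroup G) := hP.isLoc.o2_le S
  have hn : (S : Subgroup G) ≤ normalizer
      ((zc (o2 P) ⊓ centralizer (oddGen P : Set G) : Subgroup G) : Set G) := by
    have h1 : P ≤ normalizer (zc (o2 P) : Set G) := (le_normalizer_o2 P).trans (normalizer_le_normalizer_zc _)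
    have h2 : P ≤ normalizer ((centralizer (oddGen P : Set G) : Subgroup G) : Set G) :=
      (le_normalizer_oddGen P).trans (NoFF.LinesPlug.normalizer_le_normalizer_centralizer' _)
    intro s hs
    rw [mem_normalizer_iff]
    intro x
    have h3 := mem_normalizer_iff.1 (h1 (hSP hs)) x
    have h4 := mem_normalizer_iff.1 (h2 (hSP hs)) x
    exact ⟨fun hx => ⟨h3.1 hx.1, h4.1 hx.2⟩, fun hx => ⟨h3.2 hx.1, h4.2 hx.2⟩⟩
  obtain ⟨y, hy, hy1, hyS⟩ := exists_fixed S.isPGroup' (inf_le_left.trans ((zc_le _).trans hOS)) hn hne'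
  apply hy1
  have h5 : y ∈ zc (S : Subgroup G) ⊓ centralizer (P : Set G) := by
    obtain ⟨h7, -, h8⟩ := mem_zc.1 hy.1
    refine ⟨mem_zc.2 ⟨hOS h7, hyS, h8⟩, ?_⟩
    have h6 : P ≤ centralizer ({y} : Set G) := by
      conv_lhs => rw [← oddGen_sup hSP (MinSimple.Basic.not_dvd_relIndex S hSP)]
      refine sup_le (fun z hz => ?_) (fun z hz => ?_)
      · exact mem_centralizer_singleton_iff.2 (mem_centralizer_iff.1 hy.2 z hz)
      · exact mem_centralizer_singleton_iff.2 (hyS z hz)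
    exact mem_centralizer_iff.2 fun z hz => mem_centralizer_singleton_iff.1 (h6 hz)
  rw [hcz] at h5
  exact h5

/-- **Case (A) is impossible for generating pairs.** -/
theorem PairA.false_of (hG : IsCharacteristicTwoType G) (S : Sylow 2 G) (D : Data (S : Subgroup G))
    {P H : Subgroup G} (h : PairA (S : Subgroup G) P H)
    (hcz : zc (S : Subgroup G) ⊓ centralizer (P : Set G) = ⊥)
    (gen : ∃ p ∈ P, ∀ w ∈ zl (S : Subgroup G) H, w ∉ o2 P →
      oddGen P ≤ (zpowers w ⊔ MulAut.conj p • zl (S : Subgroup G) H) ⊔ o2 P) : False := by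
  obtain ⟨p, hp, gen⟩ := gen
  have hU := Pair.zl_abel hG S h.long.loc
  set U := zl (S : Subgroup G) H with hUdef
  set O := o2 P with hO
  have hUS : U ≤ (S : Subgroup G) := Basic.IsLong.zl_le_S hG h.long
  have hOS : O ≤ (S : Subgroup G) := h.par.isLoc.o2_le S
  have hSP : (S : Subgroup G) ≤ P := h.par.le
  have hPO : P ≤ normalizer (O : Set G) := le_normalizer_o2 P
  have hOU : O ≤ normalizer (U : Set G) := hOS.trans (h.long.loc.le.trans (le_normalizer_zl _ _))
  have hUc : ∀ a ∈ U, ∀ b ∈ U, a * b = b * a := fun a ha b hb => (mem_centralizer_iff.1 (hU.1 ha) b hb).symm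
  have hcO : MulAut.conj p • O = O := Pair.conj_eq_of_mem (hPO hp)
  set U' := MulAut.conj p • U with hU'
  have hU'c : ∀ a ∈ U', ∀ b ∈ U', a * b = b * a := by
    intro a ha b hb
    have h1 := hUc _ (mem_conj.1 ha) _ (mem_conj.1 hb)
    calc a * b = p * ((p⁻¹ * a * p) * (p⁻¹ * b * p)) * p⁻¹ := by group
      _ = p * ((p⁻¹ * b * p) * (p⁻¹ * a * p)) * p⁻¹ := by rw [h1]
      _ = b * a := by group
  have hU's : ∀ a ∈ U', a ^ 2 = 1 := by
    intro a ha
    have h1 := hU.2 _ (mem_conj.1 ha)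
    calc a ^ 2 = p * ((p⁻¹ * a * p) ^ 2) * p⁻¹ := by rw [pow_two, pow_two]; group
      _ = 1 := by rw [h1]; group
  have hOU' : O ≤ normalizer (U' : Set G) := by
    have h1 := Pair.conj_le_normalizer (g := p) hOU
    rwa [hcO] at h1
  -- `X`, `X'`
  set X := U ⊓ O with hX
  set X' := U' ⊓ O with hX'
  have hX'eq : X' = MulAut.conj p • X := by
    rw [hX, hX', Subgroup.smul_inf, hcO]
  have hcard : Nat.card X' = Nat.card X := by rw [hX'eq]; exact ThmT.card_conj p X
  have norm_inf : ∀ {A : Subgroup G}, O ≤ normalizer (A : Set G) → O ≤ normalizer ((A ⊓ O : Subgroup G) : Set G) := by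
    intro A hA o ho
    rw [mem_normalizer_iff]
    intro x
    rw [mem_inf, mem_inf, ← mem_normalizer_iff.1 (hA ho) x, ← mem_normalizer_iff.1 (le_normalizer ho) x]
  have hOX : O ≤ normalizer (X : Set G) := norm_inf hOU
  have hOX' : O ≤ normalizer (X' : Set G) := norm_inf hOU'
  -- an element of `U - O`
  have hXV : X = U ⊓ centralizer (zl (S : Subgroup G) P : Set G) := by
    have h1 := h.par.inf_centralizer S hG
    rw [hX, hO, ← h1]
    apply le_antisymm
    · exact fun x hx => ⟨hx.1, hx.2.2⟩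
    · exact fun x hx => ⟨hx.1, hUS hx.1, hx.2⟩
  have hUO : ¬ U ≤ O := by
    intro h1
    apply Basic.PairA.ne' h
    have h2 : U ⊓ O = U := inf_eq_left.2 h1
    have h3 : U = U ⊓ centralizer (zl (S : Subgroup G) P : Set G) := h2.symm.trans hXV
    exact inf_eq_left.1 h3.symm
  obtain ⟨w0, hw0, hw0O⟩ := SetLike.not_le_iff_exists.1 hUO
  -- `X ∩ X' = 1`
  have hXX' : X ⊓ X' = ⊥ := by
    refine eq_bot_of_cent S h.par.toIsPar hcz (inf_le_left.trans inf_le_right)
      (fun x hx => hU.2 x hx.1.1) ?_ (L := zpowers w0 ⊔ U') ?_ (gen w0 hw0 hw0O)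
    · intro o ho
      rw [mem_normalizer_iff]
      exact fun x => ⟨fun hx => ⟨(mem_normalizer_iff.1 (hOX ho) x).1 hx.1, (mem_normalizer_iff.1 (hOX' ho) x).1 hx.2⟩,
        fun hx => ⟨(mem_normalizer_iff.1 (hOX ho) x).2 hx.1, (mem_normalizer_iff.1 (hOX' ho) x).2 hx.2⟩⟩
    · refine sup_le ((zpowers_le).2 ?_) fun y hy => ?_
      · exact mem_centralizer_iff.2 fun x hx => hUc x hx.1.1 w0 hw0
      · exact mem_centralizer_iff.2 fun x hx => hU'c x hx.2.1 y hy
  -- `[X, X'] = 1`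
  have hcomm : ∀ x ∈ X, ∀ x' ∈ X', x * x' = x' * x := by
    intro x hx x' hx'
    have h1 : x * x' * x⁻¹ * x'⁻¹ ∈ X ⊓ X' := by
      refine mem_inf.2 ⟨?_, ?_⟩
      · have e : x * x' * x⁻¹ * x'⁻¹ = x * (x' * x⁻¹ * x'⁻¹) := by group
        rw [e]
        exact mul_mem hx (conj_mem (hOX hx'.2) (inv_mem hx))
      · exact mul_mem (conj_mem (hOX' hx.2) hx') (inv_mem hx')
    rw [hXX', mem_bot] at h1
    calc x * x' = x * x' * x⁻¹ * x'⁻¹ * (x' * x) := by group
      _ = x' * x := by rw [h1, one_mul]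
  -- `C_{X'}(w) = 1`
  have hcw : ∀ w ∈ U, w ∉ O → ∀ y ∈ X', y * w = w * y → y = 1 := by
    intro w hw hwO y hy hyw
    have h1 : X' ⊓ centralizer ({w} : Set G) = ⊥ := by
      refine eq_bot_of_cent S h.par.toIsPar hcz (inf_le_left.trans inf_le_right)
        (fun x hx => hU's x hx.1.1) ?_ (L := zpowers w ⊔ U') ?_ (gen w hw hwO)
      · have key : ∀ o ∈ O, ∀ x ∈ X' ⊓ centralizer ({w} : Set G), o * x * o⁻¹ ∈
            X' ⊓ centralizer ({w} : Set G) := by
          intro o ho x hx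
          refine mem_inf.2 ⟨conj_mem (hOX' ho) hx.1, mem_centralizer_singleton_iff.2 ?_⟩
          -- `o⁻¹ w o = w m`, `m ∈ X`
          have hm : w⁻¹ * (o⁻¹ * w * o) ∈ X := by
            refine mem_inf.2 ⟨mul_mem (inv_mem hw) (conj_mem' (hOU ho) hw), ?_⟩
            have e : w⁻¹ * (o⁻¹ * w * o) = (w⁻¹ * o⁻¹ * w) * o := by group
            rw [e]
            exact mul_mem (conj_mem' (hPO (hSP (hUS hw))) (inv_mem ho)) ho
          have h2 := hcomm _ hm _ hx.1
          have h3 := mem_centralizer_singleton_iff.1 hx.2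
          have h4 : (o⁻¹ * w * o) * x = x * (o⁻¹ * w * o) := by
            calc (o⁻¹ * w * o) * x = w * (w⁻¹ * (o⁻¹ * w * o) * x) := by group
              _ = w * (x * (w⁻¹ * (o⁻¹ * w * o))) := by rw [h2]
              _ = (w * x) * (w⁻¹ * (o⁻¹ * w * o)) := by group
              _ = (x * w) * (w⁻¹ * (o⁻¹ * w * o)) := by rw [h3]
              _ = x * (o⁻¹ * w * o) := by group
          calc o * x * o⁻¹ * w = o * (x * (o⁻¹ * w * o)) * o⁻¹ := by group
            _ = o * ((o⁻¹ * w * o) * x) * o⁻¹ := by rw [h4]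
            _ = w * (o * x * o⁻¹) := by group
        intro o ho
        rw [mem_normalizer_iff]
        refine fun x => ⟨key o ho x, fun hx => ?_⟩
        have h2 := key o⁻¹ (inv_mem ho) _ hx
        have e : o⁻¹ * (o * x * o⁻¹) * o⁻¹⁻¹ = x := by group
        rwa [e] at h2
      · refine sup_le ((zpowers_le).2 ?_) fun z hz => ?_
        · exact mem_centralizer_iff.2 fun x hx => mem_centralizer_singleton_iff.1 hx.2
        · exact mem_centralizer_iff.2 fun x hx => hU'c x hx.1.1 z hz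
    have h2 : y ∈ X' ⊓ centralizer ({w} : Set G) := mem_inf.2 ⟨hy, mem_centralizer_singleton_iff.2 hyw⟩
    rw [h1] at h2
    exact h2
  -- the FULL property
  have hfull : ∀ u ∈ U, u ∉ X → X ≤ closure {a | ∃ y ∈ centralizer (X : Set G), a = u⁻¹ * (y⁻¹ * u * y)} := by
    intro u hu huX
    have huO : u ∉ O := fun h1 => huX ⟨hu, h1⟩
    have hmem : ∀ y ∈ X', u⁻¹ * (y⁻¹ * u * y) ∈ X := by
      intro y hy
      refine mem_inf.2 ⟨mul_mem (inv_mem hu) (conj_mem' (hOU hy.2) hu), ?_⟩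
      have e : u⁻¹ * (y⁻¹ * u * y) = (u⁻¹ * y⁻¹ * u) * y := by group
      rw [e]
      exact mul_mem (conj_mem' (hPO (hSP (hUS hu))) (inv_mem hy.2)) hy.2
    let f : X' → X := fun y => ⟨_, hmem y y.2⟩
    have hinj : Function.Injective f := by
      intro y z hyz
      have h1 : u⁻¹ * ((y : G)⁻¹ * u * y) = u⁻¹ * ((z : G)⁻¹ * u * z) := congrArg Subtype.val hyz
      have h2 := mul_left_cancel h1
      have h3 := hcw u hu huO ((y : G) * (z : G)⁻¹) (mul_mem y.2 (inv_mem z.2)) (by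
        calc (y : G) * (z : G)⁻¹ * u = y * ((z : G)⁻¹ * u * z) * (z : G)⁻¹ := by group
          _ = y * ((y : G)⁻¹ * u * y) * (z : G)⁻¹ := by rw [h2]
          _ = u * (y * (z : G)⁻¹) := by group)
      exact Subtype.ext (mul_inv_eq_one.1 h3)
    have hbij : Function.Bijective f :=
      (Nat.bijective_iff_injective_and_card f).2 ⟨hinj, hcard⟩
    intro x hx
    obtain ⟨y, hy⟩ := hbij.2 ⟨x, hx⟩
    refine subset_closure ⟨y, mem_centralizer_iff.2 fun a ha => hcomm a ha y y.2, ?_⟩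
    exact (congrArg Subtype.val hy).symm
  have hZX : zc (S : Subgroup G) ≤ X := by
    rw [hXV]
    refine le_inf (zc_le_zl _ _) fun z hz => mem_centralizer_iff.2 fun v hv => ?_
    exact ((mem_zc.1 hz).2.1 v (Basic.IsParS.zl_le_S hG h.par hv))
  have hWX : W (S : Subgroup G) H ≤ X := by
    rw [hXV]
    exact le_inf (W_le_zl h.long.cz) (W_comm hG S D h.par)
  have h1 := full S h.long.loc h.long.cz hZX hWX inf_le_left hfull
  exact hUO (inf_eq_left.1 h1)

/-- A minimal parabolic with `|S : O₂(P)| = 2` is generated by two conjugates of any `w ∈ S - O₂(P)` and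
`O₂(P)`. -/
theorem exists_gen (S : Sylow 2 G) {P : Subgroup G} (hP : IsPar (S : Subgroup G) P)
    (h2 : ∀ a ∈ (S : Subgroup G), ∀ b ∈ (S : Subgroup G), a ∉ o2 P → b ∉ o2 P → a⁻¹ * b ∈ o2 P) :
    ∃ p ∈ P, ∀ w ∈ (S : Subgroup G), w ∉ o2 P → ∀ w' ∈ (S : Subgroup G), w' ∉ o2 P →
      P ≤ (zpowers w ⊔ zpowers (p * w' * p⁻¹)) ⊔ o2 P := by
  obtain ⟨M, hM, hmax⟩ := hP.exists_max
  obtain ⟨p, hp, hpM⟩ := SetLike.not_le_iff_exists.1 hM.not_ge
  refine ⟨p, hp, fun w hw hwO w' hw' hw'O => ?_⟩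
  set K := (zpowers w ⊔ zpowers (p * w' * p⁻¹)) ⊔ o2 P with hK
  have hwK : w ∈ K := mem_sup_left (mem_sup_left (mem_zpowers w))
  have hw'K : p * w' * p⁻¹ ∈ K := mem_sup_left (mem_sup_right (mem_zpowers _))
  have hOK : o2 P ≤ K := le_sup_right
  have hSP := hP.isLoc.le
  have hKP : K ≤ P := by
    refine sup_le (sup_le ((zpowers_le).2 (hSP hw)) ((zpowers_le).2 ?_)) (o2_le P)
    exact mul_mem (mul_mem hp (hSP hw')) (inv_mem hp)
  have hSK : (S : Subgroup G) ≤ K := by
    intro s hs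
    by_cases h : s ∈ o2 P
    · exact hOK h
    · have h3 := hOK (h2 w hw s hs hwO h)
      have e : s = w * (w⁻¹ * s) := by group
      rw [e]; exact mul_mem hwK h3
  have hSK' : MulAut.conj p • (S : Subgroup G) ≤ K := by
    intro s hs
    rw [mem_conj] at hs
    have e0 : s = p * (p⁻¹ * s * p) * p⁻¹ := by group
    have hOK' : ∀ o ∈ o2 P, p * o * p⁻¹ ∈ K := fun o ho => hOK (conj_mem (le_normalizer_o2 P hp) ho)
    by_cases h : p⁻¹ * s * p ∈ o2 P
    · rw [e0]; exact hOK' _ h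
    · have h3 := hOK' _ (h2 w' hw' _ hs hw'O h)
      have e : s = (p * w' * p⁻¹) * (p * (w'⁻¹ * (p⁻¹ * s * p)) * p⁻¹) := by group
      rw [e]; exact mul_mem hw'K h3
  by_contra hcon
  have hKlt : K < P := lt_of_le_of_ne hKP fun e => hcon (e ▸ le_rfl)
  have hKM : K ≤ M := hmax K hSK hKlt
  have hSM := hSK.trans hKM
  obtain ⟨c, hc, h5, -⟩ := NTwo.exists_conj_le' S hSM (T := MulAut.conj p • (S : Subgroup G))
    (S.isPGroup'.map _) (hSK'.trans hKM)
  obtain ⟨m, hm, rfl⟩ : ∃ m ∈ M, c = m⁻¹ := ⟨c⁻¹, inv_mem hc, (inv_inv c).symm⟩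
  have h6 : MulAut.conj (m * p) • (S : Subgroup G) = S := by
    refine eq_of_le_of_card_ge ?_ (le_of_eq (ThmT.card_conj _ _).symm)
    rw [← conj_conj]
    intro x hx
    rw [mem_conj] at hx
    have h7 := NTwo.mem_smul.1 (h5 hx)
    have e : m⁻¹⁻¹ * (m⁻¹ * x * m) * m⁻¹ = x := by group
    rwa [e] at h7
  have h7 : m * p ∈ normalizer ((S : Subgroup G) : Set G) := mem_normalizer_of_conj_eq h6
  have h8 : P ⊓ normalizer ((S : Subgroup G) : Set G) ≤ M := by
    refine hmax _ (le_inf hSP le_normalizer) (lt_of_le_of_ne inf_le_left fun e => hP.not_le ?_)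
    rw [← e]; exact inf_le_right
  have h9 : m * p ∈ M := h8 ⟨mul_mem (hM.le hm) hp, h7⟩
  exact hpM ((M.mul_mem_cancel_left hm).1 h9)

/-- **Case (A) is impossible for `|S : O₂(P)| = 2`.** -/
theorem PairA.false_of_two (hG : IsCharacteristicTwoType G) (S : Sylow 2 G) (D : Data (S : Subgroup G))
    {P H : Subgroup G} (h : PairA (S : Subgroup G) P H)
    (hcz : zc (S : Subgroup G) ⊓ centralizer (P : Set G) = ⊥)
    (h2 : ∀ a ∈ (S : Subgroup G), ∀ b ∈ (S : Subgroup G), a ∉ o2 P → b ∉ o2 P → a⁻¹ * b ∈ o2 P) : False := by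
  obtain ⟨p, hp, hgen⟩ := exists_gen S h.par.toIsPar h2
  have hUS : zl (S : Subgroup G) H ≤ (S : Subgroup G) := Basic.IsLong.zl_le_S hG h.long
  refine PairA.false_of hG S D h hcz ⟨p, hp, fun w hw hwO => ?_⟩
  refine (oddGen_le P).trans ((hgen w (hUS hw) hwO w (hUS hw) hwO).trans ?_)
  refine sup_le_sup_right (sup_le_sup_left ((zpowers_le).2 (mem_conj_smul hw)) _) _

/-- `|V_P| = 4`: `|S : O₂(P)| = 2` -/
theorem two_of_card (hG : IsCharacteristicTwoType G) (S : Sylow 2 G) {P : Subgroup G}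
    (hP : IsParS (S : Subgroup G) P) (h4 : Nat.card (zl (S : Subgroup G) P) = 4) :
    ∀ a ∈ (S : Subgroup G), ∀ b ∈ (S : Subgroup G), a ∉ o2 P → b ∉ o2 P → a⁻¹ * b ∈ o2 P := by
  have hle : zl (S : Subgroup G) P ≤ zc (o2 P) := hP.isLoc.zl_le S hG
  have hVS : zl (S : Subgroup G) P ≤ (S : Subgroup G) := Basic.IsParS.zl_le_S hG hP
  have hVc : ∀ a ∈ zl (S : Subgroup G) P, ∀ b ∈ zl (S : Subgroup G) P, a * b = b * a := fun a ha b hb =>
    VModule.zc_comm _ _ (hle ha) _ (hle hb)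
  have hVs : ∀ a ∈ zl (S : Subgroup G) P, a * a = 1 := fun a ha => by
    rw [← pow_two]; exact VModule.zc_sq _ _ (hle ha)
  have hSN : (S : Subgroup G) ≤ normalizer (zl (S : Subgroup G) P : Set G) := hP.le.trans (le_normalizer_zl _ _)
  -- `z`, `x`
  have hVne : zl (S : Subgroup G) P ≠ ⊥ := fun h0 => by
    rw [h0, Subgroup.card_bot] at h4; omega
  obtain ⟨z, hz, hz1, hzS⟩ := exists_fixed S.isPGroup' hVS hSN hVne
  have hx : ∃ x ∈ zl (S : Subgroup G) P, x ≠ 1 ∧ x ≠ z := by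
    by_contra hcon
    push Not at hcon
    have h1 : zl (S : Subgroup G) P ≤ zc (S : Subgroup G) := by
      intro v hv
      by_cases hv1 : v = 1
      · rw [hv1]; exact one_mem _
      · rw [hcon v hv hv1]
        exact mem_zc.2 ⟨hVS hz, hzS, by rw [pow_two]; exact hVs z hz⟩
    have h2 : zl (S : Subgroup G) P = zc (S : Subgroup G) := le_antisymm h1 (zc_le_zl _ _)
    exact hP.not_zc (h2 ▸ le_normalizer_zl _ _)
  obtain ⟨x, hx, hx1, hxz⟩ := hx
  have hxz1 : x * z ≠ 1 := fun e => hxz (by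
    calc x = x * z * z := by rw [mul_assoc, hVs z hz, mul_one]
      _ = z := by rw [e, one_mul])
  have hmem : ∀ v ∈ zl (S : Subgroup G) P, v = 1 ∨ v = z ∨ v = x ∨ v = x * z :=
    fun v hv => NTwo.mem_four h4 hz hx (mul_mem hx hz) hz1 hx1 hxz1 (Ne.symm hxz)
      (fun e => hx1 (mul_eq_right.1 e.symm)) (fun e => hz1 (mul_eq_left.1 e.symm)) hv
  have hO := hP.inf_centralizer S hG
  have key : ∀ a ∈ (S : Subgroup G), a ∉ o2 P → a * x * a⁻¹ = x * z := by
    intro a ha haO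
    have h1 : a * x * a⁻¹ ∈ zl (S : Subgroup G) P := conj_mem (hSN ha) hx
    have haz : a * z * a⁻¹ = z := by rw [hzS a ha, mul_inv_cancel_right]
    rcases hmem _ h1 with h2 | h2 | h2 | h2
    · exact absurd (conj_eq_one_iff.1 h2) hx1
    · refine absurd ?_ hxz
      calc x = a⁻¹ * (a * x * a⁻¹) * a := by group
        _ = a⁻¹ * (a * z * a⁻¹) * a := by rw [h2, haz]
        _ = z := by group
    · exfalso
      apply haO
      rw [← hO]
      refine mem_inf.2 ⟨ha, mem_centralizer_iff.2 fun v hv => ?_⟩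
      have hax : x * a = a * x := by
        calc x * a = a * x * a⁻¹ * a := by rw [h2]
          _ = a * x := by group
      rcases hmem v hv with rfl | rfl | rfl | rfl
      · rw [one_mul, mul_one]
      · exact (hzS a ha).symm
      · exact hax
      · calc x * z * a = x * (z * a) := by group
          _ = x * (a * z) := by rw [hzS a ha]
          _ = (x * a) * z := by group
          _ = a * (x * z) := by rw [hax]; group
    · exact h2
  intro a ha b hb haO hbO
  have h1 := key a ha haO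
  have h2 := key b hb hbO
  rw [← hO]
  refine mem_inf.2 ⟨mul_mem (inv_mem ha) hb, mem_centralizer_iff.2 fun v hv => ?_⟩
  have hx' : x * (a⁻¹ * b) = a⁻¹ * b * x := by
    have h3 : b * x = x * z * b := by rw [← h2]; group
    have h4 : a * x = x * z * a := by rw [← h1]; group
    calc x * (a⁻¹ * b) = a⁻¹ * (a * x) * a⁻¹ * b := by group
      _ = a⁻¹ * (x * z * b) := by rw [h4]; group
      _ = a⁻¹ * b * x := by rw [← h3]; group
  have hz' : z * (a⁻¹ * b) = a⁻¹ * b * z := (hzS _ (mul_mem (inv_mem ha) hb)).symm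
  rcases hmem v hv with rfl | rfl | rfl | rfl
  · rw [one_mul, mul_one]
  · exact hz'
  · exact hx'
  · calc x * z * (a⁻¹ * b) = x * (z * (a⁻¹ * b)) := by group
      _ = x * (a⁻¹ * b) * z := by rw [hz']; group
      _ = a⁻¹ * b * (x * z) := by rw [hx']; group

/-- **Case (A) is impossible for `|V_P| = 4`, `C_Z(P) = 1`.** -/
theorem PairA.false_of_card (hG : IsCharacteristicTwoType G) (S : Sylow 2 G) (D : Data (S : Subgroup G))
    {P H : Subgroup G} (h : PairA (S : Subgroup G) P H)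
    (hcz : zc (S : Subgroup G) ⊓ centralizer (P : Set G) = ⊥)
    (h4 : Nat.card (zl (S : Subgroup G) P) = 4) : False :=
  PairA.false_of_two hG S D h hcz (two_of_card hG S h.par h4)

end Cfsg.Agent.Omega.NOThreeL.Gen
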