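import Cfsg.Agent.Omega.NOThreeL.DataLow
import Cfsg.Agent.Omega.NOThreeL.Basic

/-!
# NO-3L : `Basic.geo` from `DataLow`
-/

set_option autoImplicit false

namespace Cfsg.Agent.Omega.NOThreeL.GeoLow

open Subgroup Cfsg Cfsg.Agent.ZN Cfsg.Agent.Omega.MinPar Cfsg.Agent.Omega.Frame Cfsg.Agent.Omega.FrameNOFF
open Cfsg.Agent.Omega.Node.NO3L Cfsg.Agent.Omega.NOThreeL.Basic

universe u

variable {G : Type u} [Group G] [Finite G] {S : Sylow 2 G}

/-- The geometry of lines, from `noff` and `low`. -/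
theorem geo (hc : IsCharacteristicTwoType G) (D : DataLow (S : Subgroup G)) :
    NoFF.Lines.Geo (S : Subgroup G) (zc (S : Subgroup G)) (CZ (S : Subgroup G)) (PS (S : Subgroup G)) := by
  have hG : (S : Subgroup G) ≠ ⊥ := by
    intro h0
    have h2 : Fact (Nat.Prime 2) := ⟨Nat.prime_two⟩
    have h1 := S.not_dvd_index
    rw [h0, index_bot] at h1
    exact h1 hc.1.two_dvd
  exact FrameNOFF.geo hc S D.noff hG D.low

/-- `⟨P, C_G(Z)⟩` is local if `C_Z(P) ≠ 1`. -/
theorem isLong_sup {P : Subgroup G} (hE : zc (S : Subgroup G) ⊓ centralizer (P : Set G) ≠ ⊥) :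
    IsLong (S : Subgroup G) (P ⊔ CZ (S : Subgroup G)) := by
  have hPE : P ⊔ CZ (S : Subgroup G) ≤ centralizer ((zc (S : Subgroup G) ⊓ centralizer (P : Set G) : Subgroup G) : Set G) :=
    sup_le (NoFF.Basic.comm_symm inf_le_right) (centralizer_le inf_le_left)
  exact ⟨isLoc_of_le_normalizer S ((le_CZ S).trans le_sup_right)
    (S.isPGroup'.to_le (inf_le_left.trans (MinSimple.VModule.zc_le _))) hE (hPE.trans (centralizer_le_normalizer _)),
    le_sup_right⟩

end Cfsg.Agent.Omega.NOThreeL.GeoLow
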