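import Cfsg.Agent.Omega.NOThreeL.ThmL

/-!
# NO-3L, A4 for `q = 2` (helper884, #16392 (2)(b), (c))

`X` acts irreducibly on the finite `F_2`-space `M`, the transvections `u ↦ u + f i u • c i` (conjugate under `X`)
are "in `O₂` of the stabiliser of `z = ∑ c i`", and the `c i` are linearly independent.  Then the `f i` are
linearly independent.
-/

set_option autoImplicit false

namespace Cfsg.Agent.Omega.NOThreeL.IndepTwo

open Cfsg.Agent.Omega.NOThreeL.ThmL

variable {X M : Type*} [Group X] [AddCommGroup M] [Module (ZMod 2) M] [DistribMulAction X M]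

/-! ### The dual module -/

/-- The contragredient action. -/
@[reducible] def dAct : DistribMulAction X (M →+ ZMod 2) where
  smul x f := act x f
  one_smul f := by
    change act (1 : X) f = f
    ext u; simp
  mul_smul x y f := by
    change act (x * y) f = act x (act y f)
    ext u; simp [mul_smul]
  smul_zero x := by
    change act x (0 : M →+ ZMod 2) = 0
    ext u; simp
  smul_add x f g := by
    change act x (f + g) = act x f + act x g
    ext u; simp

attribute [local instance] dAct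

omit [Module (ZMod 2) M] in
theorem dsmul (x : X) (f : M →+ ZMod 2) : x • f = act x f := rfl

/-- Evaluation at `e`. -/
def ev (e : M) : (M →+ ZMod 2) →+ ZMod 2 where
  toFun f := f e
  map_zero' := rfl
  map_add' _ _ := rfl

omit [Module (ZMod 2) M] in
@[simp] theorem ev_apply (e : M) (f : M →+ ZMod 2) : ev e f = f e := rfl

omit [Module (ZMod 2) M] in
theorem ev_add (a b : M) : ev (a + b) = ev a + ev b := by
  ext f
  exact map_add f a b

omit [Module (ZMod 2) M] in
theorem ev_act (x : X) (e : M) : act x (ev e) = ev (x • e) := by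
  ext f
  rw [act_apply, ev_apply, ev_apply, dsmul, act_apply, inv_inv]

omit [Group X] [DistribMulAction X M] in
/-- separation -/
theorem exists_functional {e : M} (he : e ≠ 0) : ∃ φ : M →+ ZMod 2, φ e = 1 := by
  by_contra hcon
  push Not at hcon
  have h1 : ∀ φ : Module.Dual (ZMod 2) M, φ e = 0 := by
    intro φ
    exact (z2 _).resolve_right (hcon φ.toAddMonoidHom)
  exact he ((Module.forall_dual_apply_eq_zero_iff (ZMod 2) e).mp h1)

omit [Group X] [DistribMulAction X M] in
theorem ev_inj {a b : M} (h : ev a = ev b) : a = b := by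
  by_contra hne
  obtain ⟨φ, hφ⟩ := exists_functional (sub_ne_zero.mpr hne)
  have h1 : φ a = φ b := DFunLike.congr_fun h φ
  rw [map_sub, h1, sub_self] at hφ
  exact absurd hφ (by decide)

theorem involutive {f : M →+ ZMod 2} {e : M} (h0 : f e = 0) {x : X} (hx : ∀ u : M, x • u = u + f u • e)
    (u : M) : x⁻¹ • u = u + f u • e := by
  rw [inv_smul_eq_iff, hx, map_add]
  have h1 : f (f u • e) = 0 := by rcases z2 (f u) with h | h <;> simp [h, h0]
  rw [h1, add_zero, add_assoc, add_self, add_zero]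

/-- `Y` of the dual at `e` is the set of axes of the transvections with centre `e`. -/
theorem mem_Y_dual {e : M} {f : M →+ ZMod 2} : f ∈ Y X (ev e) ↔ e ∈ Y X f := by
  constructor
  · rintro ⟨h0, x, hx⟩
    rw [ev_apply] at h0
    have key : ∀ u : M, x⁻¹ • u = u + f u • e := by
      intro u
      by_contra hne
      obtain ⟨φ, hφ⟩ := exists_functional (sub_ne_zero.mpr hne)
      have h1 := DFunLike.congr_fun (hx φ) u
      rw [dsmul, act_apply, ev_apply, AddMonoidHom.add_apply] at h1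
      have h2 : φ (f u • e) = (φ e • f) u := by
        rcases z2 (f u) with h | h <;> simp [h]
      rw [map_sub, map_add, h1, h2, sub_self] at hφ
      exact absurd hφ (by decide)
    refine ⟨h0, x, fun u => ?_⟩
    have h1 := involutive h0 key u
    rwa [inv_inv] at h1
  · rintro ⟨h0, x, hx⟩
    refine ⟨h0, x, fun φ => ?_⟩
    ext u
    rw [dsmul, act_apply, involutive h0 hx, map_add, AddMonoidHom.add_apply, ev_apply]
    rcases z2 (f u) with h | h
    · simp [h]
    · simp [h]

/-- the dual of an irreducible module is irreducible -/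
theorem irr_dual [Finite M] (irr : ∀ N : AddSubgroup M, (∀ (x : X), ∀ n ∈ N, x • n ∈ N) → N = ⊥ ∨ N = ⊤)
    (N : AddSubgroup (M →+ ZMod 2)) (hN : ∀ (x : X), ∀ n ∈ N, x • n ∈ N) : N = ⊥ ∨ N = ⊤ := by
  classical
  let K : AddSubgroup M :=
    { carrier := {m | ∀ f ∈ N, f m = 0}
      zero_mem' := fun f _ => map_zero f
      add_mem' := fun {a b} ha hb f hf => by rw [map_add, ha f hf, hb f hf, add_zero]
      neg_mem' := fun {a} ha f hf => by rw [map_neg, ha f hf, neg_zero] }
  have hK : ∀ (x : X), ∀ n ∈ K, x • n ∈ K := by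
    intro x n hn f hf
    have h1 := hn _ (hN x⁻¹ f hf)
    rw [dsmul, act_apply, inv_inv] at h1
    exact h1
  rcases irr K hK with h | h
  · right
    rw [eq_top_iff]
    intro φ _
    let W : Submodule (ZMod 2) (Module.Dual (ZMod 2) M) :=
      { carrier := {g | g.toAddMonoidHom ∈ N}
        zero_mem' := N.zero_mem
        add_mem' := fun {a b} ha hb => N.add_mem ha hb
        smul_mem' := by
          intro c g hg
          rcases z2 c with rfl | rfl
          · rw [zero_smul]; exact N.zero_mem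
          · rw [one_smul]; exact hg }
    have hW : W.dualCoannihilator.dualAnnihilator = W := Subspace.dualCoannihilator_dualAnnihilator_eq
    have h1 : (φ.toZModLinearMap 2 : Module.Dual (ZMod 2) M) ∈ W := by
      rw [← hW, Submodule.mem_dualAnnihilator]
      intro m hm
      rw [Submodule.mem_dualCoannihilator] at hm
      have h2 : m ∈ K := fun f hf => hm (f.toZModLinearMap 2) hf
      rw [h] at h2
      rw [AddSubgroup.mem_bot.mp h2, map_zero]
    exact h1
  · left
    rw [eq_bot_iff]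
    intro f hf
    rw [AddSubgroup.mem_bot]
    ext m
    have : m ∈ K := by rw [h]; trivial
    exact this f hf

/-- The data. -/
structure Dat {ι : Type*} [Fintype ι] (f : ι → (M →+ ZMod 2)) (c : ι → M) (z : M) : Prop where
  irr : ∀ N : AddSubgroup M, (∀ (x : X), ∀ n ∈ N, x • n ∈ N) → N = ⊥ ∨ N = ⊤
  ne : ∀ i, f i ≠ 0
  tv : ∀ i, c i ∈ Y X (f i)
  conj : ∀ i j, ∃ x : X, act x (f i) = f j ∧ x • c i = c j
  ind : ∀ I : Finset ι, I.Nonempty → ∑ i ∈ I, c i ≠ 0
  two : ∀ i, ∀ s : X, s • z = z → ∀ t : X, (∀ u : M, t • u = u + f i u • c i) →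
    ∃ n : ℕ, ∀ u : M, ((s * t * s⁻¹ * t⁻¹) ^ (2 ^ n)) • u = u

namespace Dat

variable {ι : Type*} [Fintype ι] {f : ι → (M →+ ZMod 2)} {c : ι → M} {z : M} (D : Dat (X := X) f c z)
include D

theorem c_ne (i : ι) : c i ≠ 0 := by
  have := D.ind {i} (Finset.singleton_nonempty i)
  rwa [Finset.sum_singleton] at this

/-- the orbit of the functionals -/
def Phi (X : Type*) [Group X] {M : Type*} [AddCommGroup M] [DistribMulAction X M] {ι : Type*}
    (f : ι → (M →+ ZMod 2)) : Set (M →+ ZMod 2) := {g | ∃ (x : X) (i : ι), act x (f i) = g}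


omit D [Module (ZMod 2) M] [Fintype ι] in
theorem act_mul (x y : X) (g : M →+ ZMod 2) : act x (act y g) = act (x * y) g := by
  ext u; simp [mul_smul]

omit D [Module (ZMod 2) M] [Fintype ι] in
theorem act_one (g : M →+ ZMod 2) : act (1 : X) g = g := by
  ext u; simp

omit D [Module (ZMod 2) M] [Fintype ι] in
theorem mem_Phi (i : ι) : f i ∈ Phi X f := ⟨1, i, act_one _⟩

theorem move (i : ι) {g : M →+ ZMod 2} (hg : g ∈ Phi X f) : ∃ x : X, act x (f i) = g := by
  obtain ⟨y, j, rfl⟩ := hg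
  obtain ⟨w, hw, -⟩ := D.conj i j
  exact ⟨y * w, by rw [← act_mul, hw]⟩

theorem data (i : ι) (four : ∃ a ∈ Y X (f i), ∃ b ∈ Y X (f i), a ≠ 0 ∧ b ≠ 0 ∧ a ≠ b) :
    Data (X := X) (Phi X f) where
  inv := by
    rintro x g ⟨y, j, rfl⟩
    exact ⟨x * y, j, (act_mul _ _ _).symm⟩
  trans := by
    intro g hg g' hg'
    obtain ⟨x, rfl⟩ := D.move i hg
    obtain ⟨y, rfl⟩ := D.move i hg'
    refine ⟨y * x⁻¹, ?_⟩
    rw [act_mul, inv_mul_cancel_right]
  ne := by
    rintro g ⟨x, j, rfl⟩ h0
    apply D.ne j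
    have h1 := congrArg (act x⁻¹) h0
    rw [Data.act_inv_act] at h1
    rw [h1]
    ext u; simp
  nonempty := ⟨f i, mem_Phi i⟩
  irr := D.irr
  four := by
    intro g hg
    obtain ⟨x, rfl⟩ := D.move i hg
    obtain ⟨a, ha, b, hb, ha0, hb0, hab⟩ := four
    refine ⟨x • a, smul_mem_Y ha x, x • b, smul_mem_Y hb x, ?_, ?_, ?_⟩
    · rwa [smul_ne_zero_iff_ne]
    · rwa [smul_ne_zero_iff_ne]
    · exact fun h => hab (MulAction.injective x h)

theorem claimA {Φ : Set (M →+ ZMod 2)} {i : ι} {g : M →+ ZMod 2} (hg : Data.Comp X Φ (f i) g)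
    (h1 : g (c i) = 1) (h0 : g z = 0) : False := by
  rcases hg.2 with h2 | ⟨e, ⟨hge, s, hs⟩, he⟩
  · rw [h2, apply_eq_zero (D.tv i)] at h1
    exact absurd h1 (by decide)
  · obtain ⟨hfc, t, ht⟩ := D.tv i
    have hsz : s • z = z := by rw [hs, h0, zero_smul, add_zero]
    obtain ⟨n, hn⟩ := D.two i s hsz t ht
    exact EndData.S3 hs ht hge hfc h1 he (hn e)

theorem claimA' [Finite M] {Φ : Set (M →+ ZMod 2)} (E : Data (X := X) Φ) {i : ι} (hi : f i ∈ Φ)
    {g : M →+ ZMod 2} (hg : Data.Comp X Φ (f i) g) : g (c i) = g z := by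
  rcases z2 (g (c i)) with h1 | h1
  · rcases z2 (g z) with h2 | h2
    · rw [h1, h2]
    · exfalso
      obtain ⟨k, hk, hk1⟩ := E.exists_one (D.c_ne i)
      have hkc : Data.Comp X Φ (f i) k := by
        by_contra hcon
        rw [E.apply_MM hi hk hcon (Data.Y_le_MM (Data.Comp.refl hi) (D.tv i))] at hk1
        exact absurd hk1 (by decide)
      rcases z2 (k z) with h3 | h3
      · exact D.claimA hkc hk1 h3
      · have hne : g ≠ k := by
          rintro rfl
          rw [h1] at hk1
          exact absurd hk1 (by decide)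
        refine D.claimA (E.comp_add' hi hg hkc hne) ?_ ?_
        · rw [AddMonoidHom.add_apply, h1, hk1]; decide
        · rw [AddMonoidHom.add_apply, h2, h3]; decide
  · rcases z2 (g z) with h2 | h2
    · exact (D.claimA hg h1 h2).elim
    · rw [h1, h2]

/-- different `i` belong to different components -/
theorem not_comp [Finite M] [DecidableEq ι] {Φ : Set (M →+ ZMod 2)} (E : Data (X := X) Φ)
    (hf : ∀ i, f i ∈ Φ) {i j : ι} (hij : i ≠ j) : ¬ Data.Comp X Φ (f i) (f j) := by
  intro h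
  have h1 : c i + c j = 0 := by
    refine E.eq_zero_of_MM (hf i) ((Data.MM X Φ (f i)).add_mem (Data.Y_le_MM (Data.Comp.refl (hf i)) (D.tv i))
      (Data.Y_le_MM h (D.tv j))) fun g hg => ?_
    have h2 : Data.Comp X Φ (f j) g := E.comp_trans (hf j) (E.comp_symm (hf i) h) hg
    rw [map_add, D.claimA' E (hf i) hg, D.claimA' E (hf j) h2]
    exact CharTwo.add_self_eq_zero _
  have h2 := D.ind {i, j} (Finset.insert_nonempty _ _)
  rw [Finset.sum_pair hij] at h2
  exact h2 h1

/-- case (b) -/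
theorem indep_of_four [Finite M] {Φ : Set (M →+ ZMod 2)} (E : Data (X := X) Φ) (hf : ∀ i, f i ∈ Φ)
    (I : Finset ι) (hI : I.Nonempty) : ∑ i ∈ I, f i ≠ 0 := by
  classical
  intro h0
  obtain ⟨i, hi⟩ := hI
  have h1 : ∃ k ∈ Φ, ∃ e ∈ Y X k, f i e = 1 := by
    by_contra hcon
    push Not at hcon
    exact D.ne i (E.eq_zero_of fun k hk e he => (z2 _).resolve_right (hcon k hk e he))
  obtain ⟨k, hk, e, he, hfe⟩ := h1
  have h2 : ∀ j ∈ I, j ≠ i → f j e = 0 := by
    intro j _ hji
    refine (z2 _).resolve_right fun h3 => ?_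
    have h4 : Data.Comp X Φ (f i) k := ⟨hk, Or.inr ⟨e, he, hfe⟩⟩
    have h5 : Data.Comp X Φ (f j) k := ⟨hk, Or.inr ⟨e, he, h3⟩⟩
    exact D.not_comp E hf hji.symm (E.comp_trans (hf i) h4 (E.comp_symm (hf j) h5))
  have h3 := DFunLike.congr_fun h0 e
  rw [AddMonoidHom.finsetSum_apply, Finset.sum_eq_single i h2 (fun h => absurd hi h), hfe, AddMonoidHom.zero_apply] at h3
  exact absurd h3 (by decide)

/-! ### case (c) -/

/-- separation by the orbit of the functionals, without `four` -/
theorem exists_one (i : ι) {e : M} (he : e ≠ 0) : ∃ j ∈ Phi X f, j e = 1 := by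
  by_contra hcon
  push Not at hcon
  let N : AddSubgroup M :=
    { carrier := {m | ∀ g ∈ Phi X f, g m = 0}
      zero_mem' := fun g _ => map_zero g
      add_mem' := fun {a b} ha hb g hg => by rw [map_add, ha g hg, hb g hg, add_zero]
      neg_mem' := fun {a} ha g hg => by rw [map_neg, ha g hg, neg_zero] }
  rcases D.irr N (fun x n hn g hg => by
      obtain ⟨y, j, rfl⟩ := hg
      have h1 := hn _ ⟨x⁻¹ * y, j, rfl⟩
      rw [← act_mul, act_apply, inv_inv] at h1
      exact h1) with h | h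
  · apply he
    rw [← AddSubgroup.mem_bot, ← h]
    intro g hg
    exact (z2 _).resolve_right (hcon g hg)
  · apply D.ne i
    ext m
    have : m ∈ N := by rw [h]; trivial
    exact this _ (mem_Phi i)

/-- the dual data -/
theorem dual (i : ι) [Finite M] (hX : ∃ a ∈ Y X (ev (c i)), ∃ b ∈ Y X (ev (c i)), a ≠ 0 ∧ b ≠ 0 ∧ a ≠ b) :
    Data (X := X) {φ : (M →+ ZMod 2) →+ ZMod 2 | ∃ x : X, φ = ev (x • c i)} where
  inv := by
    rintro x φ ⟨y, rfl⟩
    exact ⟨x * y, by rw [ev_act, mul_smul]⟩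
  trans := by
    rintro φ ⟨x, rfl⟩ ψ ⟨y, rfl⟩
    exact ⟨y * x⁻¹, by rw [ev_act, mul_smul, inv_smul_smul]⟩
  ne := by
    rintro φ ⟨x, rfl⟩ h0
    have h1 : ev (x • c i) = ev (0 : M) := by rw [h0]; ext φ; simp
    have h2 := ev_inj h1
    rw [smul_eq_zero_iff_eq] at h2
    exact D.c_ne i h2
  nonempty := ⟨_, 1, rfl⟩
  irr := irr_dual D.irr
  four := by
    rintro φ ⟨x, rfl⟩
    obtain ⟨a, ha, b, hb, ha0, hb0, hab⟩ := hX
    refine ⟨x • a, ?_, x • b, ?_, ?_, ?_, ?_⟩
    · rw [← ev_act]; exact smul_mem_Y ha x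
    · rw [← ev_act]; exact smul_mem_Y hb x
    · rwa [smul_ne_zero_iff_ne]
    · rwa [smul_ne_zero_iff_ne]
    · exact fun h => hab (MulAction.injective x h)

/-- if a centre belongs to two axes, an axis has two centres -/
theorem four_of_dual (i : ι) [Finite M]
    (hX : ∃ a ∈ Y X (ev (c i)), ∃ b ∈ Y X (ev (c i)), a ≠ 0 ∧ b ≠ 0 ∧ a ≠ b) :
    ∃ a ∈ Y X (f i), ∃ b ∈ Y X (f i), a ≠ 0 ∧ b ≠ 0 ∧ a ≠ b := by
  have : Finite (M →+ ZMod 2) := Finite.of_injective (fun g => (g : M → ZMod 2)) DFunLike.coe_injective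
  have E := D.dual i hX
  set Ω : Set ((M →+ ZMod 2) →+ ZMod 2) := {φ : (M →+ ZMod 2) →+ ZMod 2 | ∃ x : X, φ = ev (x • c i)} with hΩ
  have hi : ev (c i) ∈ Ω := ⟨1, by rw [one_smul]⟩
  have hfi : f i ∈ Y X (ev (c i)) := mem_Y_dual.mpr (D.tv i)
  obtain ⟨g, hg, hg0, hgf⟩ : ∃ g ∈ Y X (ev (c i)), g ≠ 0 ∧ g ≠ f i := by
    obtain ⟨a, ha, b, hb, ha0, hb0, hab⟩ := hX
    by_cases h : a = f i
    · exact ⟨b, hb, hb0, fun h1 => hab (by rw [h, h1])⟩
    · exact ⟨a, ha, ha0, h⟩
  -- the component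
  have sep : ∀ h ∈ Y X (ev (c i)), h ≠ 0 → ∃ e : M, Data.Comp X Ω (ev (c i)) (ev e) ∧ h e = 1 := by
    intro h hh h0
    by_contra hcon
    push Not at hcon
    apply h0
    refine E.eq_zero_of_MM hi (Data.Y_le_MM (Data.Comp.refl hi) hh) fun φ hφ => ?_
    obtain ⟨x, rfl⟩ := hφ.1
    exact (z2 _).resolve_right (hcon _ hφ)
  have add : ∀ e e' : M, Data.Comp X Ω (ev (c i)) (ev e) → Data.Comp X Ω (ev (c i)) (ev e') → e ≠ e' →
      Data.Comp X Ω (ev (c i)) (ev (e + e')) := by
    intro e e' h h' hne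
    rw [ev_add]
    exact E.comp_add' hi h h' (fun h1 => hne (ev_inj h1))
  obtain ⟨e, he, hge, hfe⟩ : ∃ e : M, Data.Comp X Ω (ev (c i)) (ev e) ∧ g e = 1 ∧ f i e = 0 := by
    obtain ⟨e2, h2, hg2⟩ := sep g hg hg0
    rcases z2 (f i e2) with h3 | h3
    · exact ⟨e2, h2, hg2, h3⟩
    · have hs : g + f i ≠ 0 := by
        intro h4
        apply hgf
        have h5 : g = -(f i) := eq_neg_of_add_eq_zero_left h4
        rw [h5]
        ext m
        rw [AddMonoidHom.neg_apply]
        rcases z2 (f i m) with h | h <;> rw [h] <;> decide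
      obtain ⟨e3, h4, h5⟩ := sep (g + f i) ((Y X (ev (c i))).add_mem hg hfi) hs
      rw [AddMonoidHom.add_apply] at h5
      rcases z2 (g e3) with h6 | h6
      · rw [h6, zero_add] at h5
        refine ⟨e2 + e3, add _ _ h2 h4 ?_, by rw [map_add, hg2, h6, add_zero], ?_⟩
        · rintro rfl
          rw [hg2] at h6
          exact absurd h6 (by decide)
        · rw [map_add, h3, h5]; decide
      · refine ⟨e3, h4, h6, ?_⟩
        rw [h6] at h5
        rcases z2 (f i e3) with h7 | h7
        · exact h7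
        · rw [h7] at h5; exact absurd h5 (by decide)
  have h1 : Adj X (ev (c i)) (ev e) := ⟨g, hg, hge⟩
  have h2 : f i ∈ Y X (ev e) := E.mem_Y_of hi he.1 h1 hfi hfe
  refine ⟨c i, D.tv i, e, mem_Y_dual.mp h2, D.c_ne i, ?_, ?_⟩
  · rintro rfl
    rw [map_zero] at hge
    exact absurd hge (by decide)
  · intro h3
    have h4 := apply_eq_zero hg
    rw [ev_apply, h3, hge] at h4
    exact absurd h4 (by decide)

/-- **The functionals are linearly independent.** -/
theorem indep [Finite M] (I : Finset ι) (hI : I.Nonempty) : ∑ i ∈ I, f i ≠ 0 := by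
  obtain ⟨i0, -⟩ := id hI
  by_cases hb : ∃ a ∈ Y X (f i0), ∃ b ∈ Y X (f i0), a ≠ 0 ∧ b ≠ 0 ∧ a ≠ b
  · exact D.indep_of_four (D.data i0 hb) mem_Phi I hI
  -- every centre belongs to one axis
  have uniq : ∀ (i : ι) (x : X) (g : M →+ ZMod 2), x • c i ∈ Y X g → g ≠ 0 → g = act x (f i) := by
    intro i x g hg hg0
    by_contra hne
    apply hb
    obtain ⟨w, hw, hwc⟩ := D.conj i i0
    refine D.four_of_dual i0 ⟨f i0, mem_Y_dual.mpr (D.tv i0), act (w * x⁻¹) g, mem_Y_dual.mpr ?_, D.ne i0, ?_,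
      ?_⟩
    · have h1 := smul_mem_Y hg (w * x⁻¹)
      rwa [mul_smul, inv_smul_smul, hwc] at h1
    · intro h1
      apply hg0
      have h2 := congrArg (act (w * x⁻¹)⁻¹) h1
      rw [Data.act_inv_act] at h2
      rw [h2]
      ext u; simp
    · intro h1
      apply hne
      have h2 := congrArg (act (w * x⁻¹)⁻¹) h1
      rw [Data.act_inv_act, ← hw, act_mul, mul_inv_rev, inv_inv, inv_mul_cancel_right] at h2
      exact h2.symm
  have hne : ∀ (i : ι) (x : X), act x (f i) ≠ 0 := by
    intro i x h0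
    apply D.ne i
    have h1 := congrArg (act x⁻¹) h0
    rw [Data.act_inv_act] at h1
    rw [h1]
    ext u; simp
  have half : ∀ (i j : ι) (x y : X), act x (f i) (y • c j) = 0 → act y (f j) (x • c i) = 1 → False := by
    intro i j x y h0 h1
    obtain ⟨-, t, ht⟩ := smul_mem_Y (D.tv i) x
    have hxi : act x (f i) (x • c i) = 0 := apply_eq_zero (smul_mem_Y (D.tv i) x)
    have h2 := smul_mem_Y (smul_mem_Y (D.tv j) y) t
    have h3 : t • y • c j = y • c j := by rw [ht, h0, zero_smul, add_zero]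
    rw [h3] at h2
    have h4 := uniq j y _ h2 (by rw [act_mul]; exact hne j _)
    apply hne i x
    ext u
    have h5 := DFunLike.congr_fun h4 u
    rw [act_apply, involutive hxi ht, map_add] at h5
    have h6 : act y (f j) (act x (f i) u • x • c i) = act x (f i) u := by
      rcases z2 (act x (f i) u) with h | h
      · rw [h, zero_smul, map_zero]
      · rw [h, one_smul, h1]
    rw [h6] at h5
    rw [AddMonoidHom.zero_apply]
    exact add_eq_left.mp h5
  have sym : ∀ (i j : ι) (x y : X), act x (f i) (y • c j) = act y (f j) (x • c i) := by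
    intro i j x y
    rcases z2 (act x (f i) (y • c j)) with h | h <;> rcases z2 (act y (f j) (x • c i)) with h' | h'
    · rw [h, h']
    · exact (half i j x y h h').elim
    · exact (half j i y x h' h).elim
    · rw [h, h']
  intro h0
  obtain ⟨j, ⟨y, k, rfl⟩, hj⟩ := D.exists_one i0 (D.ind I hI)
  rw [map_sum] at hj
  have h1 : ∑ i ∈ I, act y (f k) (c i) = ∑ i ∈ I, f i (y • c k) := by
    refine Finset.sum_congr rfl fun i _ => ?_
    have := sym i k 1 y
    rw [act_one, one_smul] at this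
    exact this.symm
  have h2 := DFunLike.congr_fun h0 (y • c k)
  rw [AddMonoidHom.finsetSum_apply, AddMonoidHom.zero_apply] at h2
  rw [h1, h2] at hj
  exact absurd hj (by decide)

/-- **All values of the functionals occur.** -/
theorem exists_apply [Finite M] (b : ι → ZMod 2) : ∃ u : M, ∀ i, f i u = b i := by
  classical
  let p : Submodule (ZMod 2) (ι → ZMod 2) :=
    { carrier := {b | ∃ u : M, ∀ i, f i u = b i}
      zero_mem' := ⟨0, fun i => map_zero _⟩
      add_mem' := by
        rintro a b ⟨u, hu⟩ ⟨v, hv⟩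
        exact ⟨u + v, fun i => by rw [map_add, hu, hv]; rfl⟩
      smul_mem' := by
        rintro a b ⟨u, hu⟩
        rcases z2 a with rfl | rfl
        · exact ⟨0, fun i => by rw [map_zero, zero_smul]; rfl⟩
        · exact ⟨u, fun i => by rw [one_smul, hu]⟩ }
  change b ∈ p
  by_contra hcon
  obtain ⟨φ, hφb, hφp⟩ := Submodule.exists_dual_map_eq_bot_of_notMem hcon inferInstance
  have hker : ∀ m ∈ p, φ m = 0 := by
    intro m hm
    have : φ m ∈ p.map φ := ⟨m, hm, rfl⟩
    rw [hφp] at this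
    exact (Submodule.mem_bot _).mp this
  have hφ : ∀ b : ι → ZMod 2, φ b = ∑ i, b i * φ (Pi.single i 1) := by
    intro b
    conv_lhs => rw [← Finset.univ_sum_single b]
    rw [map_sum]
    refine Finset.sum_congr rfl fun i _ => ?_
    rcases z2 (b i) with h | h
    · rw [h, Pi.single_zero, map_zero, zero_mul]
    · rw [h, one_mul]
  let I : Finset ι := Finset.univ.filter fun i => φ (Pi.single i 1) = 1
  have hI : I.Nonempty := by
    by_contra hne
    rw [Finset.not_nonempty_iff_eq_empty] at hne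
    apply hφb
    rw [hφ]
    refine Finset.sum_eq_zero fun i _ => ?_
    have h1 : φ (Pi.single i 1) = 0 := by
      refine (z2 _).resolve_right fun h => ?_
      have : i ∈ I := Finset.mem_filter.mpr ⟨Finset.mem_univ _, h⟩
      rw [hne] at this
      exact absurd this (Finset.notMem_empty _)
    rw [h1, mul_zero]
  apply D.indep I hI
  ext u
  have h1 := hker (fun i => f i u) ⟨u, fun i => rfl⟩
  rw [hφ] at h1
  rw [AddMonoidHom.finsetSum_apply, AddMonoidHom.zero_apply, ← h1, Finset.sum_filter]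
  refine Finset.sum_congr rfl fun i _ => ?_
  rcases z2 (φ (Pi.single i 1)) with h | h
  · rw [if_neg (by rw [h]; decide), h, mul_zero]
  · rw [if_pos h, h, mul_one]

end Dat

end Cfsg.Agent.Omega.NOThreeL.IndepTwo
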