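import Cfsg.Agent.Omega.NOThreeL.RTools.Two

/-!
# NO-3L, R ∩ (A), `q = 2`, `k = 1`: dead unless `T^t ≰ I` (#16559 (0)-(3), helper797; referee #16786)

`P ∈ P*(S)`, `H` long, `V = V_P`, `U = U_H`, `[V, U] ≠ 1`.

* `act U J` : the elements of `N_G(U)` acting trivially on `U / J`;
* `exists_cent_conj` : a 2-subgroup `Q` of `act U J ∩ C(J)`, `J ≤ U`, is conjugate under `C_G(U)` into `S`;
* `ut t H = ⟨t^H⟩` (`U^t`), `Two S P H t p` : `[V, U] ≤ ⟨t⟩`, `t ∈ Z`, `p ∈ P` moves the point `Z` and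
  `p u⁻¹ p⁻¹ u p ∈ C` for `u ∈ U - C(V)` (the three points of `V`), `H` is generated by `C` and the
  `P' ∈ P*(S)`, `P' ≤ H`;
* `Two.not_le` : `[U^t, V] ≠ 1`;
* `Two.lemmaW` : (1), LEMMA W;
* `Two.iso` : (2);
* `Two.false_of` : (3), `T^t = U^t ∩ (U^t)^p` is not contained in an `H`-invariant subgroup `I ≤ U^t ∩ C(V)`.
-/

set_option autoImplicit false

namespace Cfsg.Agent.Omega.NOThreeL.RTransv

open Subgroup Cfsg Cfsg.Agent.ZN Cfsg.Agent.Omega.MinPar Cfsg.Agent.Omega.Frame Cfsg.Agent.Omega.FrameNOFF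
open Cfsg.Agent.Omega.Node.NO3L Cfsg.Agent.Omega.NOThreeL.Basic
open Cfsg.Agent.Omega.NoFF.Basic (V conj_conj mem_conj conj_le_iff conj_le_centralizer comm_symm comm_mono
  Z_le_V V_le conj_V_mul)
open Cfsg.Agent.Omega.NOThreeL.Pair (conj_eq_of_mem conj_le_normalizer zl_abel)
open Cfsg.Agent.MinSimple.VModule (zl_le le_normalizer_zl zc_le_zl zc_le mem_zc oddGen oddGen_def
  oddGen_le_of_sup oddGen_le le_normalizer_oddGen mem_oddGen)
open scoped Pointwise

universe u

variable {G : Type u} [Group G]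

/-! ### Elements acting trivially on `U / J` -/

/-- The elements of `N_G(U)` acting trivially on `U / J`. -/
def act (U J : Subgroup G) : Subgroup G where
  carrier := {g | g ∈ normalizer (U : Set G) ∧ ∀ u ∈ U, g * u * g⁻¹ * u⁻¹ ∈ J}
  mul_mem' := by
    rintro g h ⟨hg, hg'⟩ ⟨hh, hh'⟩
    refine ⟨mul_mem hg hh, fun u hu => ?_⟩
    have h1 : h * u * h⁻¹ ∈ U := (mem_normalizer_iff.1 hh u).1 hu
    have h2 := J.mul_mem (hg' _ h1) (hh' u hu)
    have e : g * (h * u * h⁻¹) * g⁻¹ * (h * u * h⁻¹)⁻¹ * (h * u * h⁻¹ * u⁻¹) =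
        g * h * u * (g * h)⁻¹ * u⁻¹ := by group
    rwa [e] at h2
  one_mem' := ⟨one_mem _, fun u _ => by simp⟩
  inv_mem' := by
    rintro g ⟨hg, hg'⟩
    refine ⟨inv_mem hg, fun u hu => ?_⟩
    have h1 : g⁻¹ * u * g ∈ U := by
      have := (mem_normalizer_iff.1 (inv_mem hg) u).1 hu
      rwa [inv_inv] at this
    have h2 := J.inv_mem (hg' _ h1)
    have e : (g * (g⁻¹ * u * g) * g⁻¹ * (g⁻¹ * u * g)⁻¹)⁻¹ = g⁻¹ * u * g⁻¹⁻¹ * u⁻¹ := by group
    rwa [e] at h2

theorem mem_act {U J : Subgroup G} {g : G} :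
    g ∈ act U J ↔ g ∈ normalizer (U : Set G) ∧ ∀ u ∈ U, g * u * g⁻¹ * u⁻¹ ∈ J := Iff.rfl

theorem conj_act {U J : Subgroup G} {g : G} (hU : g ∈ normalizer (U : Set G))
    (hJ : g ∈ normalizer (J : Set G)) : g ∈ normalizer (act U J : Set G) := by
  have key : ∀ g : G, g ∈ normalizer (U : Set G) → g ∈ normalizer (J : Set G) →
      ∀ x ∈ act U J, g * x * g⁻¹ ∈ act U J := by
    rintro g hU hJ x ⟨hx, hx'⟩
    refine ⟨mul_mem (mul_mem hU hx) (inv_mem hU), fun u hu => ?_⟩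
    have h1 : g⁻¹ * u * g ∈ U := by
      have := (mem_normalizer_iff.1 (inv_mem hU) u).1 hu
      rwa [inv_inv] at this
    have h2 := (mem_normalizer_iff.1 hJ _).1 (hx' _ h1)
    have e : g * (x * (g⁻¹ * u * g) * x⁻¹ * (g⁻¹ * u * g)⁻¹) * g⁻¹ =
        g * x * g⁻¹ * u * (g * x * g⁻¹)⁻¹ * u⁻¹ := by group
    rwa [e] at h2
  rw [mem_normalizer_iff]
  intro x
  refine ⟨key g hU hJ x, fun hx => ?_⟩
  have := key g⁻¹ (inv_mem hU) (inv_mem hJ) _ hx
  have e : g⁻¹ * (g * x * g⁻¹) * g⁻¹⁻¹ = x := by group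
  rwa [e] at this

theorem conj_cent {J : Subgroup G} {g : G} (hJ : g ∈ normalizer (J : Set G)) :
    g ∈ normalizer (centralizer (J : Set G) : Set G) := by
  have key : ∀ g : G, g ∈ normalizer (J : Set G) → ∀ x ∈ centralizer (J : Set G),
      g * x * g⁻¹ ∈ centralizer (J : Set G) := by
    intro g hg x hx
    rw [mem_centralizer_iff]
    intro j hj
    have h1 : g⁻¹ * j * g ∈ J := by
      have := (mem_normalizer_iff.1 (inv_mem hg) j).1 hj
      rwa [inv_inv] at this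
    have h2 := mem_centralizer_iff.1 hx _ h1
    have h3 := congrArg (fun t => g * t * g⁻¹) h2
    simpa [mul_assoc] using h3
  rw [mem_normalizer_iff]
  intro x
  refine ⟨key g hJ x, fun hx => ?_⟩
  have := key g⁻¹ (inv_mem hJ) _ hx
  have e : g⁻¹ * (g * x * g⁻¹) * g⁻¹⁻¹ = x := by group
  rwa [e] at this

theorem mem_normalizer_inf {A B : Subgroup G} {g : G} (hA : g ∈ normalizer (A : Set G))
    (hB : g ∈ normalizer (B : Set G)) : g ∈ normalizer ((A ⊓ B : Subgroup G) : Set G) := by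
  rw [mem_normalizer_iff] at hA hB ⊢
  intro x
  rw [mem_inf, mem_inf, hA x, hB x]

theorem mem_normalizer_of_conj {A : Subgroup G} {g : G} (h : MulAut.conj g • A = A) :
    g ∈ normalizer (A : Set G) := by
  rw [mem_normalizer_iff]
  intro x
  constructor
  · intro hx
    rw [← h, mem_conj]
    simpa [mul_assoc] using hx
  · intro hx
    rw [← h, mem_conj] at hx
    simpa [mul_assoc] using hx

/-- An element acting trivially on `U / J` and on `J` acts on `U` as an involution. -/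
theorem sq_mem {U J : Subgroup G} (hJU : J ≤ U) (hsq : ∀ u ∈ U, u * u = 1) {x : G} (hx : x ∈ act U J)
    (hJ : x ∈ centralizer (J : Set G)) : x * x ∈ centralizer (U : Set G) := by
  rw [mem_centralizer_iff]
  intro u hu
  have h1 := hx.2 u hu
  set w := x * u * x⁻¹ * u⁻¹ with hw
  have h2 : x * w * x⁻¹ = w := by
    have := mem_centralizer_iff.1 hJ w h1
    rw [← this]
    group
  have h3 : x * u * x⁻¹ = w * u := by rw [hw]; group
  have h4 : x * x * u * (x * x)⁻¹ = u := by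
    have e : x * x * u * (x * x)⁻¹ = x * (x * u * x⁻¹) * x⁻¹ := by group
    rw [e, h3]
    have e2 : x * (w * u) * x⁻¹ = (x * w * x⁻¹) * (x * u * x⁻¹) := by group
    rw [e2, h2, h3, ← mul_assoc, hsq w (hJU h1), one_mul]
  calc u * (x * x) = (x * x * u * (x * x)⁻¹) * (x * x) := by rw [h4]
    _ = x * x * u := by group

theorem mem_of_odd {H : Subgroup G} {x : G} (ho : Odd (orderOf x)) (h : x * x ∈ H) : x ∈ H := by
  obtain ⟨k, hk⟩ := ho
  have h1 : x = (x * x) ^ (k + 1) := by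
    have h2 : x ^ (2 * k + 1) = 1 := by rw [← hk, pow_orderOf_eq_one]
    calc x = x ^ (2 * k + 1) * x := by rw [h2, one_mul]
      _ = x ^ (2 * (k + 1)) := by rw [← pow_succ]; congr 1
      _ = (x * x) ^ (k + 1) := by rw [pow_mul, pow_two]
  rw [h1]
  exact pow_mem h _

section fin

variable [Finite G]

/-- **Decomposition**: `X S = S C_X(U)` for `X = act U J ∩ C(J)`. -/
theorem exists_mul (S : Sylow 2 G) {U J : Subgroup G} (hJU : J ≤ U) (hsq : ∀ u ∈ U, u * u = 1)
    (hSU : (S : Subgroup G) ≤ normalizer (U : Set G)) (hSJ : (S : Subgroup G) ≤ normalizer (J : Set G))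
    {g : G} (hg : g ∈ (act U J ⊓ centralizer (J : Set G)) ⊔ (S : Subgroup G)) :
    ∃ s ∈ (S : Subgroup G), ∃ d ∈ centralizer (U : Set G), g = s * d := by
  set X := act U J ⊓ centralizer (J : Set G) with hX
  have hSX : (S : Subgroup G) ≤ normalizer (X : Set G) := fun s hs =>
    mem_normalizer_inf (conj_act (hSU hs) (hSJ hs)) (conj_cent (hSJ hs))
  have hn : X ⊔ (S : Subgroup G) ≤ normalizer (X : Set G) := sup_le le_normalizer hSX
  have h1 : oddGen (X ⊔ (S : Subgroup G)) ≤ X :=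
    oddGen_le_of_sup hn le_rfl le_sup_right le_sup_left S.isPGroup'
  have h2 : oddGen (X ⊔ (S : Subgroup G)) ≤ centralizer (U : Set G) := by
    rw [oddGen_def, closure_le]
    rintro x ⟨hx, ho⟩
    have h3 := h1 (mem_oddGen hx ho)
    exact mem_of_odd ho (sq_mem hJU hsq h3.1 h3.2)
  have h3 := NoFF.LinesPlug.oddGen_sup (P := X ⊔ (S : Subgroup G)) le_sup_right
    (MinSimple.Basic.not_dvd_relIndex S le_sup_right)
  have h4 : g ∈ ((S : Subgroup G) ⊔ oddGen (X ⊔ (S : Subgroup G)) : Subgroup G) := by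
    rw [sup_comm, h3]; exact hg
  have h5 : (S : Subgroup G) ≤ normalizer (oddGen (X ⊔ (S : Subgroup G)) : Set G) :=
    le_sup_right.trans (le_normalizer_oddGen _)
  have h6 : (g : G) ∈ (((S : Subgroup G) : Set G) * (oddGen (X ⊔ (S : Subgroup G)) : Set G)) := by
    rw [← coe_mul_of_left_le_normalizer_right _ _ h5]
    exact h4
  obtain ⟨s, hs, d, hd, rfl⟩ := Set.mem_mul.1 h6
  exact ⟨s, hs, d, h2 hd, rfl⟩

/-- **A 2-group acting trivially on `U / J` and `J` is conjugate under `C_G(U)` into `S`.** -/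
theorem exists_cent_conj (S : Sylow 2 G) {U J Q : Subgroup G} (hJU : J ≤ U) (hsq : ∀ u ∈ U, u * u = 1)
    (hSU : (S : Subgroup G) ≤ normalizer (U : Set G)) (hSJ : (S : Subgroup G) ≤ normalizer (J : Set G))
    (hQ : IsPGroup 2 Q) (hQ1 : Q ≤ act U J) (hQ2 : Q ≤ centralizer (J : Set G)) :
    ∃ d ∈ centralizer (U : Set G), MulAut.conj d • Q ≤ (S : Subgroup G) := by
  obtain ⟨g, hg, hgS⟩ := FFThm.exists_conj_le S
    (N := (act U J ⊓ centralizer (J : Set G)) ⊔ (S : Subgroup G)) le_sup_right hQ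
    ((le_inf hQ1 hQ2).trans le_sup_left)
  obtain ⟨s, hs, d, hd, rfl⟩ := exists_mul S hJU hsq hSU hSJ hg
  refine ⟨d, hd, ?_⟩
  have h7 : MulAut.conj s⁻¹ • (MulAut.conj (s * d) • Q) ≤ MulAut.conj s⁻¹ • (S : Subgroup G) :=
    conj_le_iff.2 hgS
  rwa [conj_conj, inv_mul_cancel_left, conj_eq_of_mem (le_normalizer (inv_mem hs))] at h7

/-- **An element of `L` acting trivially on `U / J` and `J` centralises `U = ⟨Z^L⟩`**, `J ≤ U` normal in
`L`. -/
theorem le_centralizer (S : Sylow 2 G) {L J : Subgroup G} (hSL : (S : Subgroup G) ≤ L)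
    (hJU : J ≤ zl (S : Subgroup G) L) (hLJ : L ≤ normalizer (J : Set G))
    (hsq : ∀ u ∈ zl (S : Subgroup G) L, u * u = 1) {x : G}
    (hx : x ∈ act (zl (S : Subgroup G) L) J) (hxJ : x ∈ centralizer (J : Set G)) :
    x ∈ centralizer (zl (S : Subgroup G) L : Set G) := by
  have key : ∀ h ∈ L, h * x * h⁻¹ ∈ centralizer (zc (S : Subgroup G) : Set G) := by
    intro h hh
    have n1 : h ∈ normalizer (zl (S : Subgroup G) L : Set G) := le_normalizer_zl _ _ hh
    obtain ⟨s, hs, d, hd, e⟩ := exists_mul S (g := h * x * h⁻¹) hJU hsq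
      (hSL.trans (le_normalizer_zl _ _)) (hSL.trans hLJ) ((le_sup_left : act _ J ⊓ _ ≤ _)
        ⟨(mem_normalizer_iff.1 (conj_act n1 (hLJ hh)) x).1 hx,
          (mem_normalizer_iff.1 (conj_cent (hLJ hh)) x).1 hxJ⟩)
    rw [e]
    exact mul_mem (Cfsg.Agent.MinSimple.VModule.le_centralizer_zc _ hs) (centralizer_le (zc_le_zl _ _) hd)
  have h1 : zl (S : Subgroup G) L ≤ centralizer ({x} : Set G) := by
    change V (zc (S : Subgroup G)) L ≤ _
    refine V_le fun h hh z hz => ?_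
    rw [mem_conj] at hz
    rw [mem_centralizer_singleton_iff]
    have h2 := mem_centralizer_iff.1 (key h⁻¹ (inv_mem hh)) _ hz
    have h3 := congrArg (fun y => h * y * h⁻¹) h2
    simpa [mul_assoc] using h3
  rw [mem_centralizer_iff]
  intro u hu
  exact mem_centralizer_singleton_iff.1 (h1 hu)

end fin

/-! ### Counting -/

/-- A map `f : A → B` with `f(a)⁻¹ f(a') ∈ T → a⁻¹ a' ∈ T`. -/
theorem card_le_of_map [Finite G] {A B T : Subgroup G} (hA : T ≤ A) (hB : T ≤ B) (f : G → G)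
    (hf : ∀ a ∈ A, f a ∈ B) (hi : ∀ a ∈ A, ∀ a' ∈ A, (f a)⁻¹ * f a' ∈ T → a⁻¹ * a' ∈ T) :
    Nat.card A ≤ Nat.card B := by
  classical
  have h1 : Nat.card (A ⧸ T.subgroupOf A) ≤ Nat.card (B ⧸ T.subgroupOf B) := by
    refine Nat.card_le_card_of_injective
      (fun q : A ⧸ T.subgroupOf A => (QuotientGroup.mk (⟨f (q.out : A), hf _ q.out.2⟩ : B) :
        B ⧸ T.subgroupOf B)) ?_
    intro q q' h
    have h2 := (QuotientGroup.eq.1 h)
    rw [mem_subgroupOf] at h2
    have h3 := hi _ q.out.2 _ q'.out.2 h2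
    have h4 : (QuotientGroup.mk q.out : A ⧸ T.subgroupOf A) = QuotientGroup.mk q'.out :=
      QuotientGroup.eq.2 (by rw [mem_subgroupOf]; exact h3)
    rwa [QuotientGroup.out_eq', QuotientGroup.out_eq'] at h4
  have h2 := card_eq_card_quotient_mul_card_subgroup (T.subgroupOf A)
  have h3 := card_eq_card_quotient_mul_card_subgroup (T.subgroupOf B)
  have h4 : Nat.card (T.subgroupOf A) = Nat.card T := Nat.card_congr (subgroupOfEquivOfLe hA).toEquiv
  have h5 : Nat.card (T.subgroupOf B) = Nat.card T := Nat.card_congr (subgroupOfEquivOfLe hB).toEquiv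
  rw [h2, h3, h4, h5]
  exact Nat.mul_le_mul_right _ h1

/-! ### The situation -/

/-- `U^t = ⟨t^H⟩` -/
def ut (t : G) (H : Subgroup G) : Subgroup G := closure {x | ∃ h ∈ H, x = h * t * h⁻¹}

theorem conj_mem_ut {t h : G} {H : Subgroup G} (hh : h ∈ H) : h * t * h⁻¹ ∈ ut t H :=
  subset_closure ⟨h, hh, rfl⟩

theorem mem_ut (t : G) (H : Subgroup G) : t ∈ ut t H := by
  have := conj_mem_ut (t := t) H.one_mem
  simpa using this

theorem ut_le {t : G} {H A : Subgroup G} (h : ∀ x ∈ H, x * t * x⁻¹ ∈ A) : ut t H ≤ A := by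
  refine (closure_le _).2 ?_
  rintro _ ⟨x, hx, rfl⟩
  exact h x hx

theorem le_normalizer_closure {H : Subgroup G} {s : Set G} (h : ∀ g ∈ H, ∀ x ∈ s, g * x * g⁻¹ ∈ s) :
    H ≤ normalizer (closure s : Set G) := by
  have key : ∀ g ∈ H, ∀ x ∈ closure s, g * x * g⁻¹ ∈ closure s := by
    intro g hg x hx
    have h1 : closure s ≤ (closure s).comap (MulAut.conj g).toMonoidHom := by
      refine (closure_le _).2 fun y hy => ?_
      change g * y * g⁻¹ ∈ closure s
      exact subset_closure (h g hg y hy)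
    exact h1 hx
  intro g hg
  rw [mem_normalizer_iff]
  intro x
  refine ⟨key g hg x, fun hx => ?_⟩
  have := key g⁻¹ (inv_mem hg) _ hx
  have e : g⁻¹ * (g * x * g⁻¹) * g⁻¹⁻¹ = x := by group
  rwa [e] at this

theorem le_normalizer_ut (t : G) (H : Subgroup G) : H ≤ normalizer (ut t H : Set G) := by
  refine le_normalizer_closure ?_
  rintro g hg _ ⟨h, hh, rfl⟩
  exact ⟨g * h, mul_mem hg hh, by group⟩

/-- **The situation**: `[V_P, U_H] = ⟨t⟩`, `p ∈ P` permutes the three points of `V_P`, and `H` is generated by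
`C` and the `P' ∈ P*(S)` in `H`. -/
structure Two (S P H : Subgroup G) (t p : G) : Prop where
  par : IsParS S P
  long : IsLong S H
  mem : t ∈ zc S
  comm : ∀ v ∈ zl S P, ∀ u ∈ zl S H, u * v * u⁻¹ * v⁻¹ = 1 ∨ u * v * u⁻¹ * v⁻¹ = t
  ne : ¬ zl S H ≤ centralizer (zl S P : Set G)
  pmem : p ∈ P
  pt : ∀ u ∈ zl S H, u ∉ centralizer (zl S P : Set G) → p * u⁻¹ * p⁻¹ * u * p ∈ H
  gen : ∀ X : Subgroup G, CZ S ≤ X → (∀ P', IsParS S P' → P' ≤ H → P' ≤ X) → H ≤ X

namespace Two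

variable [Finite G] {S : Sylow 2 G} {P H : Subgroup G} {t p : G}

section facts

variable (T : Two (S : Subgroup G) P H t p)
include T

omit [Finite G] in
theorem cent_le : centralizer (zl (S : Subgroup G) P : Set G) ≤ H :=
  (centralizer_le (zc_le_zl _ _)).trans T.long.cz

omit [Finite G] in
theorem t_mem : t ∈ zl (S : Subgroup G) H := zc_le_zl _ _ T.mem

omit [Finite G] in
theorem SH : (S : Subgroup G) ≤ H := T.long.loc.le

omit [Finite G] in
theorem ut_le_U : ut t H ≤ zl (S : Subgroup G) H :=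
  ut_le fun _ hx => (mem_normalizer_iff.1 (le_normalizer_zl _ _ hx) t).1 T.t_mem

omit [Finite G] in
/-- `V` acts trivially on `U / J`, `t ∈ J` -/
theorem le_act {J : Subgroup G} (hSP : zl (S : Subgroup G) P ≤ (S : Subgroup G)) (hJ : t ∈ J) :
    zl (S : Subgroup G) P ≤ act (zl (S : Subgroup G) H) J := by
  intro v hv
  refine ⟨le_normalizer_zl _ _ (T.SH (hSP hv)), fun u hu => ?_⟩
  have e : v * u * v⁻¹ * u⁻¹ = (u * v * u⁻¹ * v⁻¹)⁻¹ := by group
  rw [e]
  refine J.inv_mem ?_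
  rcases T.comm v hv u hu with h | h <;> rw [h]
  · exact one_mem _
  · exact hJ

end facts

section main

variable (hc : IsCharacteristicTwoType G) (T : Two (S : Subgroup G) P H t p)
include hc T

theorem VS : zl (S : Subgroup G) P ≤ (S : Subgroup G) := IsParS.zl_le_S hc T.par

theorem US : zl (S : Subgroup G) H ≤ (S : Subgroup G) := IsLong.zl_le_S hc T.long

theorem sq : ∀ u ∈ zl (S : Subgroup G) H, u * u = 1 := fun u hu => by
  rw [← pow_two]; exact (FFThm.elem_zl hc S T.long.loc).2 u hu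

theorem ab : zl (S : Subgroup G) H ≤ centralizer (zl (S : Subgroup G) H : Set G) := by
  intro u hu
  rw [mem_centralizer_iff]
  intro v hv
  have h1 := (FFThm.elem_zl hc S T.long.loc).1.1.1 ⟨u, hu⟩ ⟨v, hv⟩
  exact (congrArg Subtype.val h1).symm

omit [Finite G] hc in
theorem pV : p ∈ normalizer (zl (S : Subgroup G) P : Set G) := le_normalizer_zl _ _ T.pmem

theorem uV {u : G} (hu : u ∈ zl (S : Subgroup G) H) : u ∈ normalizer (zl (S : Subgroup G) P : Set G) :=
  le_normalizer_zl _ _ (T.par.le (T.US hc hu))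

/-- `V` centralises `t`. -/
theorem Vt {J : Subgroup G} (hJ : J ≤ centralizer (zl (S : Subgroup G) P : Set G)) :
    zl (S : Subgroup G) P ≤ centralizer ((zpowers t ⊔ J : Subgroup G) : Set G) := by
  refine comm_symm (sup_le ?_ hJ)
  rw [zpowers_le, mem_centralizer_iff]
  intro v hv
  exact (mem_zc.1 T.mem).2.1 v (T.VS hc hv)

/-- **(0)**: `[U^t, V] ≠ 1`. -/
theorem not_le : ¬ ut t H ≤ centralizer (zl (S : Subgroup G) P : Set G) := by
  intro hle
  refine T.ne (comm_symm fun v hv => ?_)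
  exact le_centralizer S T.SH T.ut_le_U (le_normalizer_ut t H) (T.sq hc)
    (T.le_act (T.VS hc) (mem_ut t H) hv) (comm_symm hle hv)

variable (D : Data (S : Subgroup G))
include D

/-- **(1), LEMMA W**: `V_{P'}^c`, `P' ≤ H`, `c ∈ N_H(⟨t⟩I)`, centralises `V`. -/
theorem lemmaW {I : Subgroup G} (hIU : I ≤ ut t H) (hIH : H ≤ normalizer (I : Set G))
    (hIV : I ≤ centralizer (zl (S : Subgroup G) P : Set G)) {P' : Subgroup G}
    (hP' : IsParS (S : Subgroup G) P') (hPH : P' ≤ H) {c : G} (hcH : c ∈ H)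
    (hcJ : c ∈ normalizer ((zpowers t ⊔ I : Subgroup G) : Set G)) :
    MulAut.conj c • zl (S : Subgroup G) P' ≤ centralizer (zl (S : Subgroup G) P : Set G) := by
  set J : Subgroup G := zpowers t ⊔ I with hJ
  have htJ : t ∈ J := (le_sup_left : zpowers t ≤ J) (mem_zpowers t)
  have hJU : J ≤ zl (S : Subgroup G) H :=
    sup_le ((zpowers_le).2 T.t_mem) (hIU.trans T.ut_le_U)
  have n1 : c⁻¹ ∈ normalizer (zl (S : Subgroup G) H : Set G) := inv_mem (le_normalizer_zl _ _ hcH)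
  have n2 : c⁻¹ ∈ normalizer (J : Set G) := inv_mem hcJ
  have hSJ : (S : Subgroup G) ≤ normalizer (J : Set G) := by
    refine RTools.le_normalizer_sup ?_ (T.SH.trans hIH)
    refine RTools.le_normalizer_of_comm (comm_symm ((zpowers_le).2 ?_))
    rw [mem_centralizer_iff]
    intro s hs
    exact (mem_zc.1 T.mem).2.1 s hs
  have q1 : MulAut.conj c⁻¹ • zl (S : Subgroup G) P ≤ act (zl (S : Subgroup G) H) J := by
    rw [← conj_eq_of_mem (conj_act n1 n2)]
    exact conj_le_iff.2 (T.le_act (T.VS hc) htJ)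
  have q2 : MulAut.conj c⁻¹ • zl (S : Subgroup G) P ≤ centralizer (J : Set G) := by
    rw [← conj_eq_of_mem (conj_cent n2)]
    exact conj_le_iff.2 (T.Vt hc hIV)
  obtain ⟨d, hd, hdS⟩ := exists_cent_conj S hJU (T.sq hc) (T.SH.trans (le_normalizer_zl _ _)) hSJ
    (Cfsg.Agent.ZN.ChoiceBase.isPGroup_cj c⁻¹ (S.isPGroup'.to_le (T.VS hc))) q1 q2
  have hPU : zl (S : Subgroup G) P' ≤ zl (S : Subgroup G) H :=
    zl_le (zc_le_zl _ _) (hPH.trans (le_normalizer_zl _ _))
  -- `V^{c⁻¹}` normalises `V_{P'}`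
  have h1 : MulAut.conj c⁻¹ • zl (S : Subgroup G) P ≤ normalizer (zl (S : Subgroup G) P' : Set G) := by
    have h2 := conj_le_normalizer (g := d⁻¹)
      (hdS.trans (hP'.le.trans (le_normalizer_zl (S : Subgroup G) P')))
    have h3 : d⁻¹ ∈ normalizer (zl (S : Subgroup G) P' : Set G) :=
      inv_mem (centralizer_le_normalizer _ (centralizer_le hPU hd))
    rwa [conj_conj, inv_mul_cancel, map_one, one_smul, conj_eq_of_mem h3] at h2
  have h2 : zl (S : Subgroup G) P ≤ normalizer ((MulAut.conj c • zl (S : Subgroup G) P' : Subgroup G) : Set G) := by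
    have h3 := conj_le_normalizer (g := c) h1
    rwa [conj_conj, mul_inv_cancel, map_one, one_smul] at h3
  have h3 : MulAut.conj c • zl (S : Subgroup G) P' ≤ normalizer (zl (S : Subgroup G) P : Set G) := by
    have h4 := conj_le_iff (g := c).2 hPU
    rw [conj_eq_of_mem (le_normalizer_zl _ _ hcH)] at h4
    exact fun x hx => T.uV hc (h4 hx)
  have h4 := commute_of_not_FF D.noff T.par hP' c h2 h3
  rw [commutator_eq_bot_iff_le_centralizer] at h4
  exact comm_symm h4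

end main

/-! ### (2) -/

section iso

/-- `T^t = U^t ∩ (U^t)^p` -/
def _root_.Cfsg.Agent.Omega.NOThreeL.RTransv.Tt (t p : G) (H : Subgroup G) : Subgroup G :=
  ut t H ⊓ MulAut.conj p • ut t H

variable (hc : IsCharacteristicTwoType G) (T : Two (S : Subgroup G) P H t p)
include hc T

theorem comm_of_conj {g x y : G} (hx : x ∈ MulAut.conj g • zl (S : Subgroup G) H)
    (hy : y ∈ MulAut.conj g • zl (S : Subgroup G) H) : x * y = y * x := by
  rw [mem_conj] at hx hy
  have h1 := mem_centralizer_iff.1 (T.ab hc hx) _ hy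
  have h2 := congrArg (fun z => g * z * g⁻¹) h1
  have e1 : g * (g⁻¹ * x * g * (g⁻¹ * y * g)) * g⁻¹ = x * y := by group
  have e2 : g * (g⁻¹ * y * g * (g⁻¹ * x * g)) * g⁻¹ = y * x := by group
  rw [e1, e2] at h2
  exact h2.symm

omit [Finite G] hc in
theorem conj_ut_le : MulAut.conj p • ut t H ≤ MulAut.conj p • zl (S : Subgroup G) H :=
  conj_le_iff.2 T.ut_le_U

/-- `U^t(c') ∩ U^t(c'') ≤ T^t` -/
theorem inf_le {u : G} (hu : u ∈ zl (S : Subgroup G) H)
    (huV : u ∉ centralizer (zl (S : Subgroup G) P : Set G)) :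
    MulAut.conj p • ut t H ⊓ MulAut.conj (u * p) • ut t H ≤ Tt t p H := by
  intro x hx
  obtain ⟨hx1, hx2⟩ := mem_inf.1 hx
  have hg := T.pt u hu huV
  have huH : u ∈ H := T.SH (T.US hc hu)
  have hx1' := mem_conj.1 hx1
  rw [mem_conj] at hx2
  set w := p * u * p⁻¹ with hw
  have y1 : w⁻¹ * x * w ∈ ut t H := by
    have h1 := (mem_normalizer_iff.1 (le_normalizer_ut t H hg) _).1 hx2
    have e : p * u⁻¹ * p⁻¹ * u * p * ((u * p)⁻¹ * x * (u * p)) * (p * u⁻¹ * p⁻¹ * u * p)⁻¹ =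
        w⁻¹ * x * w := by rw [hw]; group
    rwa [e] at h1
  have y2 : w⁻¹ * x * w ∈ MulAut.conj p • ut t H := by
    rw [mem_conj]
    have h1 := (mem_normalizer_iff.1 (le_normalizer_ut t H (inv_mem huH)) _).1 hx1'
    have e : u⁻¹ * (p⁻¹ * x * p) * u⁻¹⁻¹ = p⁻¹ * (w⁻¹ * x * w) * p := by rw [hw]; group
    rwa [e] at h1
  have hwU : w ∈ MulAut.conj p • zl (S : Subgroup G) H := by
    rw [mem_conj]
    have e : p⁻¹ * w * p = u := by rw [hw]; group
    rwa [e]
  have h1 := T.comm_of_conj hc hwU (T.conj_ut_le y2)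
  have h2 : x = w⁻¹ * x * w := by
    calc x = w * (w⁻¹ * x * w) * w⁻¹ := by group
      _ = w⁻¹ * x * w * w * w⁻¹ := by rw [h1]
      _ = w⁻¹ * x * w := by group
  rw [h2]
  exact ⟨y1, y2⟩

/-- The kernel. -/
theorem ker {u b : G} (hu : u ∈ zl (S : Subgroup G) H)
    (huV : u ∉ centralizer (zl (S : Subgroup G) P : Set G)) (hb : b ∈ MulAut.conj p • ut t H)
    (h : u * b * u⁻¹ * b⁻¹ ∈ Tt t p H) : b ∈ Tt t p H := by
  have h1 : u * b * u⁻¹ ∈ MulAut.conj p • ut t H := by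
    have h2 := mul_mem h.2 hb
    have e : u * b * u⁻¹ * b⁻¹ * b = u * b * u⁻¹ := by group
    rwa [e] at h2
  have h2 : u * b * u⁻¹ ∈ MulAut.conj (u * p) • ut t H := by
    rw [mem_conj] at hb ⊢
    have e : (u * p)⁻¹ * (u * b * u⁻¹) * (u * p) = p⁻¹ * b * p := by group
    rwa [e]
  have h3 := T.inf_le hc hu huV ⟨h1, h2⟩
  have h4 := mem_centralizer_iff.1 (T.ab hc hu) _ (T.ut_le_U h3.1)
  have h5 : u * b * u⁻¹ = b := by
    have h6 : u * b = u * (u * b * u⁻¹) := by rw [← h4]; group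
    exact (mul_left_cancel h6).symm
  rwa [h5] at h3

omit [Finite G] hc in
theorem conj_mem_cent {a : G} (ha : a ∈ MulAut.conj p • (ut t H ⊓ centralizer (zl (S : Subgroup G) P : Set G))) :
    a ∈ centralizer (zl (S : Subgroup G) P : Set G) := by
  have h1 : a ∈ MulAut.conj p • centralizer (zl (S : Subgroup G) P : Set G) :=
    conj_le_iff.2 inf_le_right ha
  rwa [conj_eq_of_mem (conj_cent T.pV)] at h1

omit [Finite G] hc in
/-- **(2)**, commutators: `[Y_t^p, Y_t] ≤ T^t`. -/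
theorem comm_mem {a y : G} (ha : a ∈ MulAut.conj p • (ut t H ⊓ centralizer (zl (S : Subgroup G) P : Set G)))
    (hy : y ∈ ut t H ⊓ centralizer (zl (S : Subgroup G) P : Set G)) : a * y * a⁻¹ * y⁻¹ ∈ Tt t p H := by
  have haV := T.conj_mem_cent ha
  have h1 := (mem_normalizer_iff.1 (le_normalizer_ut t H (T.cent_le haV)) y).1 hy.1
  refine mem_inf.2 ⟨mul_mem h1 (inv_mem hy.1), ?_⟩
  rw [mem_conj]
  have h2 : p⁻¹ * a⁻¹ * p ∈ ut t H := by
    have h3 := inv_mem (mem_inf.1 (mem_conj.1 ha)).1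
    have e : (p⁻¹ * a * p)⁻¹ = p⁻¹ * a⁻¹ * p := by group
    rwa [e] at h3
  have h3 : p⁻¹ * y * p ∈ H := by
    have h4 := (mem_normalizer_iff.1 (conj_cent (inv_mem T.pV)) y).1 hy.2
    rw [inv_inv] at h4
    exact T.cent_le h4
  have h4 := (mem_normalizer_iff.1 (le_normalizer_ut t H h3) _).1 h2
  have h5 := mul_mem (inv_mem h2) h4
  have e : (p⁻¹ * a⁻¹ * p)⁻¹ * (p⁻¹ * y * p * (p⁻¹ * a⁻¹ * p) * (p⁻¹ * y * p)⁻¹) =
      p⁻¹ * (a * y * a⁻¹ * y⁻¹) * p := by group
  rwa [e] at h5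

/-- **(2)** -/
theorem iso {W : Subgroup G} (hW : W ≤ ut t H) (hTW : Tt t p H ≤ W)
    (hTV : Tt t p H ≤ centralizer (zl (S : Subgroup G) P : Set G))
    (hA : MulAut.conj p • (ut t H ⊓ centralizer (zl (S : Subgroup G) P : Set G)) ≤
      normalizer (W : Set G)) {u : G} (hu : u ∈ W)
    (huV : u ∉ centralizer (zl (S : Subgroup G) P : Set G)) :
    ut t H ⊓ centralizer (zl (S : Subgroup G) P : Set G) ≤ W := by
  set Y := ut t H ⊓ centralizer (zl (S : Subgroup G) P : Set G) with hY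
  have huU := T.ut_le_U (hW hu)
  have hTA : Tt t p H ≤ MulAut.conj p • Y := by
    intro x hx
    rw [mem_conj]
    refine ⟨mem_conj.1 hx.2, ?_⟩
    have h4 := (mem_normalizer_iff.1 (conj_cent (inv_mem T.pV)) x).1 (hTV hx)
    rwa [inv_inv] at h4
  have hTB : Tt t p H ≤ W ⊓ Y := fun x hx => ⟨hTW hx, hx.1, hTV hx⟩
  have hcard : Nat.card ↥(MulAut.conj p • Y) ≤ Nat.card ↥(W ⊓ Y) := by
    refine card_le_of_map hTA hTB (fun a => u * a * u⁻¹ * a⁻¹) (fun a ha => ?_) fun a ha a' ha' h => ?_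
    · have haV := T.conj_mem_cent ha
      have h1 := (mem_normalizer_iff.1 (hA ha) _).1 (inv_mem hu)
      have h2 := mul_mem hu h1
      have e : u * (a * u⁻¹ * a⁻¹) = u * a * u⁻¹ * a⁻¹ := by group
      rw [e] at h2
      exact mem_inf.2 ⟨h2, mem_inf.2 ⟨hW h2,
        mul_mem ((mem_normalizer_iff.1 (conj_cent (T.uV hc huU)) a).1 haV) (inv_mem haV)⟩⟩
    · have hb := mul_mem (inv_mem ha) ha'
      have e : (u * a * u⁻¹ * a⁻¹)⁻¹ * (u * a' * u⁻¹ * a'⁻¹) =
          a * (u * (a⁻¹ * a') * u⁻¹ * (a⁻¹ * a')⁻¹) * a⁻¹ := by group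
      rw [e] at h
      set τ := a * (u * (a⁻¹ * a') * u⁻¹ * (a⁻¹ * a')⁻¹) * a⁻¹ with hτ
      have hAU : ∀ x ∈ MulAut.conj p • Y, x ∈ MulAut.conj p • zl (S : Subgroup G) H := fun x hx =>
        T.conj_ut_le (conj_le_iff.2 inf_le_left hx)
      have h1 := T.comm_of_conj hc (hAU a ha) (T.conj_ut_le h.2)
      have h2 : u * (a⁻¹ * a') * u⁻¹ * (a⁻¹ * a')⁻¹ = τ := by
        calc u * (a⁻¹ * a') * u⁻¹ * (a⁻¹ * a')⁻¹ = a⁻¹ * (τ * a) := by rw [hτ]; group
          _ = τ := by rw [← h1]; group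
      refine T.ker hc huU huV ((conj_le_iff.2 inf_le_left) hb) ?_
      rw [h2]
      exact h
  have h1 : Nat.card ↥(MulAut.conj p • Y) = Nat.card Y :=
    Nat.card_congr (Subgroup.equivSMul (MulAut.conj p) Y).symm.toEquiv
  rw [h1] at hcard
  have h2 := Subgroup.eq_of_le_of_card_ge (inf_le_right : W ⊓ Y ≤ Y) hcard
  rw [← h2]
  exact inf_le_left

end iso

/-! ### (3) -/

section three

variable (hc : IsCharacteristicTwoType G) (D : Data (S : Subgroup G)) (T : Two (S : Subgroup G) P H t p)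
include hc D T

/-- **(3)**: `T^t` is not contained in an `H`-invariant subgroup of `U^t` centralised by `V`. -/
theorem false_of {I : Subgroup G} (hIU : I ≤ ut t H) (hIH : H ≤ normalizer (I : Set G))
    (hIV : I ≤ centralizer (zl (S : Subgroup G) P : Set G)) (hT : Tt t p H ≤ I) : False := by
  set CV := centralizer (zl (S : Subgroup G) P : Set G) with hCV
  set J : Subgroup G := zpowers t ⊔ I with hJ
  have htJ : t ∈ J := (le_sup_left : zpowers t ≤ J) (mem_zpowers t)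
  set s : Set G := {x | ∃ c ∈ H, c ∈ normalizer (J : Set G) ∧ ∃ P', IsParS (S : Subgroup G) P' ∧ P' ≤ H ∧
    ∃ y ∈ zl (S : Subgroup G) P', y ∈ ut t H ∧ x = c * y * c⁻¹} with hs
  set W := I ⊔ closure s with hW
  have hIW : I ≤ W := le_sup_left
  have hWut : W ≤ ut t H := by
    refine sup_le hIU ((closure_le _).2 ?_)
    rintro _ ⟨c, hc', -, P', -, -, y, -, hy, rfl⟩
    exact (mem_normalizer_iff.1 (le_normalizer_ut t H hc') y).1 hy
  have hWV : W ≤ CV := by
    refine sup_le hIV ((closure_le _).2 ?_)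
    rintro _ ⟨c, hc', hcJ, P', hP', hP'H, y, hy, -, rfl⟩
    refine T.lemmaW hc D hIU hIH hIV hP' hP'H hc' hcJ ?_
    rw [mem_conj]
    have e : c⁻¹ * (c * y * c⁻¹) * c = y := by group
    rwa [e]
  have hWN : H ⊓ normalizer (J : Set G) ≤ normalizer (W : Set G) := by
    refine RTools.le_normalizer_sup (inf_le_left.trans hIH) (le_normalizer_closure ?_)
    rintro g ⟨hg, hgJ⟩ _ ⟨c, hc', hcJ, P', hP', hP'H, y, hy, hyt, rfl⟩
    exact ⟨g * c, mul_mem hg hc', mul_mem hgJ hcJ, P', hP', hP'H, y, hy, hyt, by group⟩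
  -- the main step
  have key : ∀ h ∈ H, h * t * h⁻¹ ∈ CV → MulAut.conj h • W ≤ CV := by
    intro h hh ht
    by_contra hcon
    obtain ⟨u, huW, huV⟩ := SetLike.not_le_iff_exists.1 hcon
    have hyt : h * t * h⁻¹ ∈ ut t H ⊓ CV := ⟨conj_mem_ut hh, ht⟩
    -- `A^{h⁻¹}` normalises `W`
    have hA1 : MulAut.conj h⁻¹ • (MulAut.conj p • (ut t H ⊓ CV)) ≤ H ⊓ normalizer (J : Set G) := by
      have a1 : MulAut.conj h⁻¹ • (MulAut.conj p • (ut t H ⊓ CV)) ≤ H := by
        have h1 := conj_le_iff (g := h⁻¹).2 (fun a ha => T.cent_le (T.conj_mem_cent ha) :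
          MulAut.conj p • (ut t H ⊓ CV) ≤ H)
        rwa [conj_eq_of_mem (le_normalizer (inv_mem hh))] at h1
      refine le_inf a1 ?_
      have a2 : ∀ g ∈ MulAut.conj h⁻¹ • (MulAut.conj p • (ut t H ⊓ CV)), MulAut.conj g • J ≤ J := by
        intro g hg
        have hgH := a1 hg
        rw [hJ, smul_sup, conj_eq_of_mem (hIH hgH)]
        refine sup_le ?_ le_sup_right
        rw [mem_conj, inv_inv] at hg
        have h1 := T.comm_mem hg hyt
        have h2 := hT h1
        have h3 := (mem_normalizer_iff.1 (hIH (inv_mem hh)) _).1 h2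
        have e : h⁻¹ * (h * g * h⁻¹ * (h * t * h⁻¹) * (h * g * h⁻¹)⁻¹ * (h * t * h⁻¹)⁻¹) * h⁻¹⁻¹ =
            g * t * g⁻¹ * t⁻¹ := by group
        rw [e] at h3
        have h4 : g * t * g⁻¹ ∈ J := by
          have h5 := mul_mem ((le_sup_right : I ≤ J) h3) htJ
          have e2 : g * t * g⁻¹ * t⁻¹ * t = g * t * g⁻¹ := by group
          rwa [e2] at h5
        have h5 : zpowers t ≤ MulAut.conj g⁻¹ • J := by
          rw [zpowers_le, mem_conj, inv_inv]
          exact h4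
        have h6 := conj_le_iff (g := g).2 h5
        rwa [conj_conj, mul_inv_cancel, map_one, one_smul] at h6
      intro g hg
      have h1 : MulAut.conj g • J = J := by
        apply le_antisymm (a2 g hg)
        have h2 := conj_le_iff (g := g).2 (a2 g⁻¹ (inv_mem hg))
        rwa [conj_conj, mul_inv_cancel, map_one, one_smul] at h2
      exact mem_normalizer_of_conj h1
    have hA : MulAut.conj p • (ut t H ⊓ CV) ≤ normalizer ((MulAut.conj h • W : Subgroup G) : Set G) := by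
      have h1 := conj_le_normalizer (g := h) (hA1.trans hWN)
      rwa [conj_conj, mul_inv_cancel, map_one, one_smul] at h1
    have hWh : MulAut.conj h • W ≤ ut t H := by
      have h1 := conj_le_iff (g := h).2 hWut
      rwa [conj_eq_of_mem (le_normalizer_ut t H hh)] at h1
    have hTW : Tt t p H ≤ MulAut.conj h • W := by
      have h1 := conj_le_iff (g := h).2 hIW
      rw [conj_eq_of_mem (hIH hh)] at h1
      exact hT.trans h1
    have h1 := T.iso hc hWh hTW (hT.trans hIV) hA huW huV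
    have h2 : Nat.card ↥(MulAut.conj h • W) ≤ Nat.card ↥(ut t H ⊓ CV) := by
      rw [Nat.card_congr (Subgroup.equivSMul (MulAut.conj h) W).symm.toEquiv]
      exact Subgroup.card_le_of_le (le_inf hWut hWV)
    have h3 := Subgroup.eq_of_le_of_card_ge h1 h2
    rw [← h3] at huW
    exact huV huW.2
  -- generation
  have ht : t ∈ CV := by
    rw [hCV, mem_centralizer_iff]
    intro v hv
    exact (mem_zc.1 T.mem).2.1 v (T.VS hc hv)
  let K₀ : Subgroup G :=
    { carrier := {g | g ∈ H ∧ ∀ h ∈ H, (h * t * h⁻¹ ∈ CV ↔ h * g * t * (h * g)⁻¹ ∈ CV)}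
      mul_mem' := by
        rintro g g' ⟨hg, h1⟩ ⟨hg', h2⟩
        refine ⟨mul_mem hg hg', fun h hh => ?_⟩
        rw [h1 h hh, h2 (h * g) (mul_mem hh hg), mul_assoc h g g']
      one_mem' := ⟨one_mem _, fun h _ => by rw [mul_one]⟩
      inv_mem' := by
        rintro g ⟨hg, h1⟩
        refine ⟨inv_mem hg, fun h hh => ?_⟩
        have h2 := h1 (h * g⁻¹) (mul_mem hh (inv_mem hg))
        rw [inv_mul_cancel_right] at h2
        exact h2.symm }
  have hK : H ≤ K₀ := by
    refine T.gen K₀ (fun g hg => ⟨T.long.cz hg, fun h _ => ?_⟩) fun P' hP' hP'H g hg => ?_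
    · have h1 : t * g = g * t := mem_centralizer_iff.1 hg t T.mem
      have e : h * g * t * (h * g)⁻¹ = h * t * h⁻¹ := by
        rw [mul_assoc h g t, ← h1]
        group
      rw [e]
    · have step : ∀ g ∈ P', ∀ h ∈ H, h * t * h⁻¹ ∈ CV → h * g * t * (h * g)⁻¹ ∈ CV := by
        intro g hg h hh h1
        refine key h hh h1 ?_
        rw [mem_conj]
        have e : h⁻¹ * (h * g * t * (h * g)⁻¹) * h = g * t * g⁻¹ := by group
        rw [e]
        refine (le_sup_right : closure s ≤ W) (subset_closure ⟨1, one_mem _, one_mem _, P', hP', hP'H,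
          g * t * g⁻¹, ?_, conj_mem_ut (hP'H hg), by group⟩)
        exact (mem_normalizer_iff.1 (le_normalizer_zl _ _ hg) t).1 (zc_le_zl _ _ T.mem)
      refine ⟨hP'H hg, fun h hh => ⟨step g hg h hh, fun h1 => ?_⟩⟩
      have h2 := step g⁻¹ (inv_mem hg) (h * g) (mul_mem hh (hP'H hg)) h1
      rwa [mul_inv_cancel_right] at h2
  refine T.not_le hc (ut_le fun x hx => ?_)
  have h1 := ((hK hx).2 1 (one_mem _)).1 (by simpa using ht)
  simpa using h1

/-- **(3)**, `I = U^t ∩ C(K^)`, `K^ = ⟨V^H⟩`: `T^t` is moved by `K^`. -/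
theorem not_le_K : ¬ Tt t p H ≤ centralizer (V (zl (S : Subgroup G) P) H : Set G) := by
  intro hT
  have hVK : zl (S : Subgroup G) P ≤ V (zl (S : Subgroup G) P) H := by
    have h1 := Z_le_V (Z := zl (S : Subgroup G) P) H.one_mem
    rwa [map_one, one_smul] at h1
  refine T.false_of hc D (I := ut t H ⊓ centralizer (V (zl (S : Subgroup G) P) H : Set G)) inf_le_left ?_
    (inf_le_right.trans (centralizer_le hVK)) (le_inf inf_le_left hT)
  intro g hg
  refine mem_normalizer_inf (le_normalizer_ut t H hg) (conj_cent (mem_normalizer_of_conj ?_))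
  have h1 := conj_V_mul (Z := zl (S : Subgroup G) P) (g := 1) hg
  rwa [one_mul, map_one, one_smul] at h1

end three

end Two

end Cfsg.Agent.Omega.NOThreeL.RTransv
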