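import Cfsg.Agent.MinSimple.BTwoD
import Cfsg.Agent.Omega.NOThreeL.Adjacent

/-!
# NO-3L: KEY LEMMA (K1) and invariant fours groups (K5) (text #14328, helper111)

K-free, `|Z| = 2`.

* `card_le` : (K1'): `U` abelian, `A` acts trivially on `W / ⟨z⟩`, `W ≤ U`, `A₁ = C_A(W)`:
  `|A| |C_U(A)| ≤ |A₁| |C_U(A₁)|`;
* `key` : (K1): if equality holds (`A` is best in itself), then `C_U(A₁) = W C_U(A)`;
* `comm_le` : if moreover `A₁` centralises `U`, then `[U, A] ≤ ⟨z⟩`;
* `fours_isParS` : (K5): `|Ω₁Z(S)| = 2`, `E` a normal fours subgroup of `S` containing `z = Z` and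
  another conjugate of `z`: `E = V_P` for some `P ∈ P*(S)`, `P ≤ N_G(E)`.
-/

set_option autoImplicit false

namespace Cfsg.Agent.Omega.NOThreeL.Key

open Subgroup MulAction Pointwise Cfsg Cfsg.Agent.ZN Cfsg.Agent.MinSimple
open Cfsg.Agent.Omega.NoFF.Basic (conj_conj mem_conj conj_le_iff conj_le_centralizer comm_symm
  comm_mono)
open Cfsg.Agent.Omega.MinPar (IsPar IsParS IsLoc NonLoc)
open Cfsg.Agent.Omega.FrameNOFF (CZ)
open Cfsg.Agent.MinSimple.VModule (le_o2 mem_zc zc_le zc_le_zl zl_le_zc zl_comm zl_sq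
  le_normalizer_zl zl_le inf_centralizer_zl o2_le_centralizer_zl normalizer_le_normalizer_zc)
open scoped commutatorElement

universe u v

section one

variable {G : Type u} [Group G] [Finite G] {U W A : Subgroup G} {z : G}

omit [Finite G] in
/-- `|W C| |W ∩ C| = |W| |C|` in an abelian group `U`. -/
theorem card_sup {U W C : Subgroup G} (hU : U ≤ centralizer (U : Set G)) (hW : W ≤ U) (hC : C ≤ U) :
    Nat.card ↥(W ⊔ C) * Nat.card ↥(W ⊓ C) = Nat.card W * Nat.card C := by
  refine Block.card_sup_mul_card_inf ?_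
  exact ((hW.trans hU).trans (centralizer_le hC)).trans (centralizer_le_normalizer _)

/-- The hypotheses of (K1): `[A, W] ≤ ⟨z⟩`, `z` an involution commuting with `A`, `W ≤ U`. -/
structure Hyp (U W A : Subgroup G) (z : G) : Prop where
  abel : U ≤ centralizer (U : Set G)
  le : W ≤ U
  mem : z ∈ U
  sq : z * z = 1
  ne : z ≠ 1
  fix : ∀ a ∈ A, z * a = a * z
  comm : ∀ a ∈ A, ∀ w ∈ W, a * w = w * a ∨ a * w = z * (w * a)

theorem Hyp.card_eq (h : Hyp U W A z) :
    Nat.card ↥(A ⊓ centralizer (W : Set G)) * Nat.card W =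
      Nat.card A * Nat.card ↥(W ⊓ centralizer (A : Set G)) :=
  BTwoD.pairing h.sq h.ne h.fix
    (fun _ hw => mem_centralizer_iff.mp (h.abel (h.le hw)) z h.mem) h.comm

omit [Finite G] in
theorem Hyp.sup_le (h : Hyp U W A z) :
    W ⊔ (U ⊓ centralizer (A : Set G)) ≤
      U ⊓ centralizer ((A ⊓ centralizer (W : Set G) : Subgroup G) : Set G) := by
  refine _root_.sup_le (le_inf h.le ?_) (inf_le_inf_left _ (centralizer_le inf_le_left))
  exact comm_symm inf_le_right

/-- the key computation -/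
theorem Hyp.card_mul (h : Hyp U W A z) :
    Nat.card ↥(A ⊓ centralizer (W : Set G)) *
        Nat.card ↥(W ⊔ (U ⊓ centralizer (A : Set G)) : Subgroup G) =
      Nat.card A * Nat.card ↥(U ⊓ centralizer (A : Set G)) := by
  have h1 := h.card_eq
  have h2 := card_sup h.abel h.le (inf_le_left : U ⊓ centralizer (A : Set G) ≤ U)
  have h3 : W ⊓ (U ⊓ centralizer (A : Set G)) = W ⊓ centralizer (A : Set G) := by
    rw [← inf_assoc, inf_eq_left.mpr h.le]
  rw [h3] at h2
  have hp : 0 < Nat.card ↥(W ⊓ centralizer (A : Set G)) := Nat.card_pos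
  have hq : 0 < Nat.card W := Nat.card_pos
  apply Nat.eq_of_mul_eq_mul_right (Nat.mul_pos hp hq)
  calc Nat.card ↥(A ⊓ centralizer (W : Set G)) *
        Nat.card ↥(W ⊔ (U ⊓ centralizer (A : Set G)) : Subgroup G) *
        (Nat.card ↥(W ⊓ centralizer (A : Set G)) * Nat.card W)
      = (Nat.card ↥(A ⊓ centralizer (W : Set G)) * Nat.card W) *
        (Nat.card ↥(W ⊔ (U ⊓ centralizer (A : Set G)) : Subgroup G) *
          Nat.card ↥(W ⊓ centralizer (A : Set G))) := by ring
    _ = (Nat.card A * Nat.card ↥(W ⊓ centralizer (A : Set G))) *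
        (Nat.card W * Nat.card ↥(U ⊓ centralizer (A : Set G))) := by rw [h1, h2]
    _ = Nat.card A * Nat.card ↥(U ⊓ centralizer (A : Set G)) *
        (Nat.card ↥(W ⊓ centralizer (A : Set G)) * Nat.card W) := by ring

/-- **(K1')**: `f(A) ≤ f(C_A(W))`, `f(B) = |B| |C_U(B)|`. -/
theorem Hyp.card_le (h : Hyp U W A z) :
    Nat.card A * Nat.card ↥(U ⊓ centralizer (A : Set G)) ≤
      Nat.card ↥(A ⊓ centralizer (W : Set G)) *
        Nat.card ↥(U ⊓ centralizer ((A ⊓ centralizer (W : Set G) : Subgroup G) : Set G)) := by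
  rw [← h.card_mul]
  exact Nat.mul_le_mul_left _ (Nat.card_le_card_of_injective _ (inclusion_injective h.sup_le))

/-- **(K1)**: if `A` is best in itself then `C_U(C_A(W)) = W C_U(A)`. -/
theorem Hyp.key (h : Hyp U W A z)
    (hb : Nat.card ↥(A ⊓ centralizer (W : Set G)) *
        Nat.card ↥(U ⊓ centralizer ((A ⊓ centralizer (W : Set G) : Subgroup G) : Set G)) ≤
      Nat.card A * Nat.card ↥(U ⊓ centralizer (A : Set G))) :
    U ⊓ centralizer ((A ⊓ centralizer (W : Set G) : Subgroup G) : Set G) =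
      W ⊔ (U ⊓ centralizer (A : Set G)) := by
  symm
  apply Subgroup.eq_of_le_of_card_ge h.sup_le
  rw [← h.card_mul] at hb
  exact Nat.le_of_mul_le_mul_left hb Nat.card_pos

/-- (K1), `A₁ = 1` on `U`: `[u, a] ∈ {1, z}`. -/
theorem Hyp.trans (h : Hyp U W A z)
    (hb : Nat.card ↥(A ⊓ centralizer (W : Set G)) *
        Nat.card ↥(U ⊓ centralizer ((A ⊓ centralizer (W : Set G) : Subgroup G) : Set G)) ≤
      Nat.card A * Nat.card ↥(U ⊓ centralizer (A : Set G)))
    (h1 : A ⊓ centralizer (W : Set G) ≤ centralizer (U : Set G)) :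
    ∀ a ∈ A, ∀ u ∈ U, a * u = u * a ∨ a * u = z * (u * a) := by
  intro a ha u hu
  have h2 := h.key hb
  rw [inf_eq_left.mpr (comm_symm h1)] at h2
  rw [h2] at hu
  obtain ⟨w, hw, c, hc, rfl⟩ := mem_sup_of_comm
    ((h.le.trans h.abel).trans (centralizer_le inf_le_left)) hu
  have h3 : a * c = c * a := mem_centralizer_iff.mp hc.2 a ha
  rcases h.comm a ha w hw with h4 | h4
  · left
    rw [← mul_assoc, h4, mul_assoc, h3, mul_assoc]
  · right
    calc a * (w * c) = (a * w) * c := by group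
      _ = z * (w * (a * c)) := by rw [h4]; group
      _ = z * (w * (c * a)) := by rw [h3]
      _ = z * (w * c * a) := by group

end one

/-! ### (K5) -/

section five

variable {G : Type u} [Group G] [Finite G]

/-- `A ≤ K` a 2-group, `K` contains a Sylow 2-subgroup of `G`: so it contains one over `A`. -/
theorem exists_conj_sylow (S : Sylow 2 G) {K A : Subgroup G} (hA : IsPGroup 2 A) (hAK : A ≤ K)
    {g : G} (hg : MulAut.conj g • (S : Subgroup G) ≤ K) :
    ∃ x : G, A ≤ MulAut.conj x • (S : Subgroup G) ∧ MulAut.conj x • (S : Subgroup G) ≤ K := by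
  have hf : Fact (Nat.Prime 2) := ⟨Nat.prime_two⟩
  have h1 : IsPGroup 2 (A.subgroupOf K) := hA.comap_of_injective _ K.subtype_injective
  obtain ⟨Q, hQ⟩ := h1.exists_le_sylow
  let T : Sylow 2 G := g • S
  have hT : (T : Subgroup G) ≤ K := hg
  obtain ⟨k, hk⟩ := MulAction.exists_smul_eq K (T.subtype hT) Q
  have h2 : ∀ y : G, y ∈ MulAut.conj ((k : G) * g) • (S : Subgroup G) ↔
      ∃ hy : y ∈ K, (⟨y, hy⟩ : K) ∈ (Q : Subgroup K) := by
    intro y
    have hTg : ∀ w : G, w ∈ (T : Subgroup G) ↔ w ∈ MulAut.conj g • (S : Subgroup G) :=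
      fun w => Iff.rfl
    rw [← hk, ← conj_conj, mem_conj]
    constructor
    · intro hy
      have h3 : (k : G)⁻¹ * y * k ∈ K := hg hy
      have h4 : y ∈ K := by
        have h5 := mul_mem (mul_mem k.2 h3) (inv_mem k.2)
        have h6 : (k : G) * ((k : G)⁻¹ * y * k) * (k : G)⁻¹ = y := by group
        rwa [h6] at h5
      refine ⟨h4, ?_⟩
      rw [Sylow.coe_subgroup_smul, mem_conj, Sylow.coe_subtype, mem_subgroupOf]
      exact hy
    · rintro ⟨h4, h5⟩
      rw [Sylow.coe_subgroup_smul, mem_conj, Sylow.coe_subtype, mem_subgroupOf] at h5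
      exact h5
  refine ⟨(k : G) * g, fun a ha => (h2 a).mpr ⟨hAK ha, hQ ha⟩, fun y hy => ?_⟩
  obtain ⟨h3, -⟩ := (h2 y).mp hy
  exact h3

/-- **(K5)**: `Z = Ω₁Z(S) = ⟨z⟩` of order 2, `E = {1, z, e, ez}` normal in `S`, `e` conjugate to `z`:
`N_G(E)` moves `z` and `E = V_P` for some `P ∈ P*(S)`. -/
theorem fours_isParS (S : Sylow 2 G) {E : Subgroup G} {z e g : G}
    (hz : z ∈ zc (S : Subgroup G)) (hz1 : z ≠ 1)
    (hZ : ∀ y ∈ zc (S : Subgroup G), y = 1 ∨ y = z)
    (hSE : (S : Subgroup G) ≤ normalizer (E : Set G)) (hzE : z ∈ E) (heE : e ∈ E)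
    (hE : ∀ y ∈ E, y = 1 ∨ y = z ∨ y = e ∨ y = e * z) (he : e ∉ zc (S : Subgroup G))
    (heg : e ∈ MulAut.conj g • zc (S : Subgroup G)) :
    ∃ P, IsParS (S : Subgroup G) P ∧ P ≤ normalizer (E : Set G) ∧ zl (S : Subgroup G) P = E := by
  have hf : Fact (Nat.Prime 2) := ⟨Nat.prime_two⟩
  obtain ⟨hzS, hzc, hzz⟩ := VModule.mem_zc.mp hz
  have hz2 : z * z = 1 := by rw [← pow_two]; exact hzz
  have he1 : e ≠ 1 := fun h => he (h ▸ one_mem _)
  have hez : e ≠ z := fun h => he (h ▸ hz)
  have he2 : e * e = 1 := by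
    rw [mem_conj] at heg
    have h1 := (VModule.mem_zc.mp heg).2.2
    have h2 : e * e = g * (g⁻¹ * e * g) ^ 2 * g⁻¹ := by rw [pow_two]; group
    rw [h2, h1]
    group
  -- `z` and `e` commute, `E` is elementary abelian
  have hcz : e * z = z * e := by
    rcases hE _ (mul_mem hzE heE) with h | h | h | h
    · have h1 : e = z⁻¹ := by rw [← mul_right_inj z, h, mul_inv_cancel]
      exact absurd (h1.trans (inv_eq_of_mul_eq_one_right hz2)) hez
    · exact absurd (mul_eq_left.mp h) he1
    · exact absurd (mul_eq_right.mp h) hz1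
    · exact h.symm
  have hEc : ∀ y ∈ E, y * z = z * y ∧ y * e = e * y ∧ y ^ 2 = 1 := by
    intro y hy
    rcases hE y hy with rfl | rfl | rfl | rfl
    · simp
    · exact ⟨rfl, hcz.symm, by rw [pow_two, hz2]⟩
    · exact ⟨hcz, rfl, by rw [pow_two, he2]⟩
    · refine ⟨by rw [mul_assoc, hz2, hcz, ← mul_assoc, hz2, one_mul, mul_one], ?_, ?_⟩
      · rw [mul_assoc, ← hcz]
      · rw [pow_two, mul_assoc, ← mul_assoc z e z, ← hcz, mul_assoc e z z, hz2, mul_one, he2]
  have hE2 : IsPGroup 2 E := fun a => ⟨1, Subtype.ext (hEc a a.2).2.2⟩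
  have hES : E ≤ (S : Subgroup G) := MinPar.le_of_le_normalizer S hE2 hSE
  have heS : e ∈ (S : Subgroup G) := hES heE
  -- `s` moves `e`
  obtain ⟨s, hs, hse⟩ : ∃ s ∈ (S : Subgroup G), s * e ≠ e * s := by
    by_contra hcon
    push Not at hcon
    exact he (VModule.mem_zc.mpr ⟨heS, hcon, by rw [pow_two, he2]⟩)
  -- an element of `S` centralises `e` or maps it to `ez`
  have hconj : ∀ b ∈ (S : Subgroup G), b * e * b⁻¹ = e ∨ b * e * b⁻¹ = e * z := by
    intro b hb
    rcases hE _ ((mem_normalizer_iff.mp (hSE hb) e).mp heE) with h | h | h | h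
    · exact absurd (by
        have h1 := congrArg (fun t => b⁻¹ * t * b) h
        simpa [mul_assoc] using h1) he1
    · exfalso
      apply hez
      have h1 := congrArg (fun t => b⁻¹ * t * b) h
      have h2 : b⁻¹ * z * b = z := by rw [mul_assoc, ← hzc b hb, inv_mul_cancel_left]
      simpa [mul_assoc, ← hzc b hb] using h1
    · exact Or.inl h
    · exact Or.inr h
  have hse' : s * e * s⁻¹ = e * z := by
    rcases hconj s hs with h | h
    · exact absurd (mul_inv_eq_iff_eq_mul.mp h) hse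
    · exact h
  -- `S₀ = C_S(e)`
  let S₀ : Subgroup G := (S : Subgroup G) ⊓ centralizer ({e} : Set G)
  have hS₀ : ∀ x, x ∈ S₀ ↔ x ∈ (S : Subgroup G) ∧ x * e = e * x := fun x => by
    rw [Subgroup.mem_inf, mem_centralizer_singleton_iff]
  have hmul : ∀ b ∈ (S : Subgroup G), b * e ≠ e * b → b * s ∈ S₀ := by
    intro b hb hbe
    have h1 : b * e * b⁻¹ = e * z := by
      rcases hconj b hb with h | h
      · exact absurd (mul_inv_eq_iff_eq_mul.mp h) hbe
      · exact h
    refine (hS₀ _).mpr ⟨mul_mem hb hs, ?_⟩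
    have h2 : s * e = e * z * s := mul_inv_eq_iff_eq_mul.mp hse'
    have h3 : b * e = e * z * b := mul_inv_eq_iff_eq_mul.mp h1
    calc b * s * e = b * (s * e) := by group
      _ = (b * e) * z * s := by rw [h2]; group
      _ = e * (z * b) * z * s := by rw [h3]; group
      _ = e * (b * z) * z * s := by rw [hzc b hb]
      _ = e * b * (z * z) * s := by group
      _ = e * (b * s) := by rw [hz2]; group
  have hS₀S : S₀ ≤ (S : Subgroup G) := inf_le_left
  have hs0 : s ∉ S₀ := fun h => hse ((hS₀ s).mp h).2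
  have hindex : (S₀.subgroupOf (S : Subgroup G)).index = 2 := by
    rw [Subgroup.index_eq_two_iff]
    refine ⟨⟨s, hs⟩, fun b => ?_⟩
    rw [mem_subgroupOf, mem_subgroupOf]
    change Xor ((b : G) * s ∈ S₀) ((b : G) ∈ S₀)
    by_cases hb : (b : G) ∈ S₀
    · right
      refine ⟨hb, fun h => hs0 ?_⟩
      have h1 := mul_mem (inv_mem hb) h
      rwa [inv_mul_cancel_left] at h1
    · left
      refine ⟨hmul b b.2 fun h => hb ((hS₀ _).mpr ⟨b.2, h⟩), hb⟩
  have hES₀ : E ≤ S₀ := fun y hy => (hS₀ y).mpr ⟨hES hy, (hEc y hy).2.1⟩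
  -- `Ω₁Z(S₀) = E`
  have hss : s * s ∈ S₀ := hmul s hs hse
  have hsnorm : ∀ y ∈ zc S₀, s * y * s⁻¹ ∈ zc S₀ := by
    have h1 : s ∈ normalizer (S₀ : Set G) := by
      have h2 : (S₀.subgroupOf (S : Subgroup G)).Normal := Subgroup.normal_of_index_eq_two hindex
      exact (normal_subgroupOf_iff_le_normalizer hS₀S).mp h2 hs
    intro y hy
    exact (mem_normalizer_iff.mp (VModule.normalizer_le_normalizer_zc _ h1) y).mp hy
  have hzcE : zc S₀ = E := by
    apply le_antisymm
    · intro y hy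
      obtain ⟨hy1, hy2, hy3⟩ := VModule.mem_zc.mp hy
      have hyy : y * y = 1 := by rw [← pow_two]; exact hy3
      have hy' := hsnorm y hy
      -- an element of `zc S₀` centralised by `s` is in `{1, z}`
      have hfix : ∀ x ∈ zc S₀, s * x * s⁻¹ = x → x = 1 ∨ x = z := by
        intro x hx hsx
        obtain ⟨hx1, hx2, hx3⟩ := VModule.mem_zc.mp hx
        refine hZ x (VModule.mem_zc.mpr ⟨hS₀S hx1, fun b hb => ?_, hx3⟩)
        by_cases hbe : b * e = e * b
        · exact hx2 b ((hS₀ b).mpr ⟨hb, hbe⟩)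
        · have h1 := hx2 _ (hmul b hb hbe)
          have h2 : s * x = x * s := mul_inv_eq_iff_eq_mul.mp hsx
          have h3 : b * (x * s) = x * b * s := by rw [← h2, ← mul_assoc, h1, mul_assoc]
          rw [← mul_assoc] at h3
          exact mul_right_cancel h3
      have hnorm : ∀ x ∈ zc S₀, s * (x * (s * x * s⁻¹)) * s⁻¹ = x * (s * x * s⁻¹) := by
        intro x hx
        have hx' := hsnorm x hx
        obtain ⟨hx1, hx2, hx3⟩ := VModule.mem_zc.mp hx
        have h1 : s * s * x = x * (s * s) := hx2 _ hss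
        have h2 : s * (s * x * s⁻¹) * s⁻¹ = x := by
          calc s * (s * x * s⁻¹) * s⁻¹ = (s * s * x) * s⁻¹ * s⁻¹ := by group
            _ = (x * (s * s)) * s⁻¹ * s⁻¹ := by rw [h1]
            _ = x := by group
        have h3 : x * (s * x * s⁻¹) = s * x * s⁻¹ * x := (VModule.mem_zc.mp hx').2.1 x hx1
        calc s * (x * (s * x * s⁻¹)) * s⁻¹ = (s * x * s⁻¹) * (s * (s * x * s⁻¹) * s⁻¹) := by group
          _ = s * x * s⁻¹ * x := by rw [h2]
          _ = x * (s * x * s⁻¹) := h3.symm
      have hezc : e ∈ zc S₀ := VModule.mem_zc.mpr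
        ⟨hES₀ heE, fun b hb => ((hS₀ b).mp hb).2, by rw [pow_two, he2]⟩
      rcases hfix _ (mul_mem hy hy') (hnorm y hy) with h | h
      · have h1 : s * y * s⁻¹ = y := by
          have h2 : y * (y * (s * y * s⁻¹)) = y * 1 := by rw [h]
          rwa [← mul_assoc, hyy, one_mul, mul_one] at h2
        rcases hfix y hy h1 with h2 | h2
        · rw [h2]
          exact one_mem _
        · rw [h2]
          exact hzE
      · have h1 : s * y * s⁻¹ = y * z := by
          have h2 : y * (y * (s * y * s⁻¹)) = y * z := by rw [h]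
          rwa [← mul_assoc, hyy, one_mul] at h2
        have h2 : s * (y * e) * s⁻¹ = y * e := by
          calc s * (y * e) * s⁻¹ = (s * y * s⁻¹) * (s * e * s⁻¹) := by group
            _ = y * (z * e) * z := by rw [h1, hse']; group
            _ = y * e * (z * z) := by rw [← hcz]; group
            _ = y * e := by rw [hz2, mul_one]
        have h3 : y = (y * e) * e := by rw [mul_assoc, he2, mul_one]
        rw [h3]
        rcases hfix _ (mul_mem hy hezc) h2 with h4 | h4
        · rw [h4, one_mul]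
          exact heE
        · rw [h4]
          exact mul_mem hzE heE
    · intro y hy
      exact VModule.mem_zc.mpr ⟨hES₀ hy, fun b hb => by
        have h1 := ((hS₀ b).mp hb).2
        have h2 := hzc b (hS₀S hb)
        rcases hE y hy with rfl | rfl | rfl | rfl
        · simp
        · exact h2
        · exact h1
        · rw [← mul_assoc, h1, mul_assoc, h2, mul_assoc], (hEc y hy).2.2⟩
  -- a Sylow group of `C(e)` over `S₀`
  have hge : MulAut.conj g • (S : Subgroup G) ≤ centralizer ({e} : Set G) := by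
    intro y hy
    rw [mem_conj] at hy heg
    rw [mem_centralizer_singleton_iff]
    have h1 := (VModule.mem_zc.mp heg).2.1 _ hy
    have h2 := congrArg (fun t => g * t * g⁻¹) h1
    simpa [mul_assoc] using h2
  obtain ⟨x, hx1, hx2⟩ := exists_conj_sylow S (S.isPGroup'.to_le hS₀S)
    (fun y hy => mem_centralizer_singleton_iff.mpr ((hS₀ y).mp hy).2) hge
  have hcard : Nat.card ↥(MulAut.conj x • (S : Subgroup G)) = Nat.card (S : Subgroup G) :=
    Nat.card_congr (Subgroup.equivSMul (MulAut.conj x) _).toEquiv.symm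
  have hindex2 : (S₀.subgroupOf (MulAut.conj x • (S : Subgroup G))).index = 2 := by
    have h1 := Subgroup.card_mul_index (S₀.subgroupOf (S : Subgroup G))
    have h2 := Subgroup.card_mul_index (S₀.subgroupOf (MulAut.conj x • (S : Subgroup G)))
    rw [Nat.card_congr (Subgroup.subgroupOfEquivOfLe hS₀S).toEquiv, hindex] at h1
    rw [Nat.card_congr (Subgroup.subgroupOfEquivOfLe hx1).toEquiv, hcard, ← h1] at h2
    exact Nat.eq_of_mul_eq_mul_left Nat.card_pos h2
  have hTE : MulAut.conj x • (S : Subgroup G) ≤ normalizer (E : Set G) := by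
    have h1 : (S₀.subgroupOf (MulAut.conj x • (S : Subgroup G))).Normal :=
      Subgroup.normal_of_index_eq_two hindex2
    have h2 := (normal_subgroupOf_iff_le_normalizer hx1).mp h1
    rw [← hzcE]
    exact h2.trans (VModule.normalizer_le_normalizer_zc _)
  -- it moves `z`
  have hTz : ¬ MulAut.conj x • (S : Subgroup G) ≤ normalizer (zc (S : Subgroup G) : Set G) := by
    intro h
    -- an element of `E` centralised by `T` is in `{1, x z x⁻¹}`
    have hk : ∀ y ∈ E, y ≠ 1 → (∀ t ∈ MulAut.conj x • (S : Subgroup G), t * y = y * t) →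
        x⁻¹ * y * x = z := by
      intro y hy hy1 hyt
      have h1 : x⁻¹ * y * x ∈ zc (S : Subgroup G) := by
        refine VModule.mem_zc.mpr ⟨?_, fun b hb => ?_, ?_⟩
        · have h2 := hx1 (hES₀ hy)
          rwa [mem_conj] at h2
        · have h2 := hyt (x * b * x⁻¹) (by
            rw [mem_conj]
            simpa [mul_assoc] using hb)
          have h3 := congrArg (fun t => x⁻¹ * t * x) h2
          simpa [mul_assoc] using h3
        · have h2 := (hEc y hy).2.2
          rw [pow_two] at h2 ⊢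
          have h3 : x⁻¹ * y * x * (x⁻¹ * y * x) = x⁻¹ * (y * y) * x := by group
          rw [h3, h2]
          group
      rcases hZ _ h1 with h2 | h2
      · exact absurd (by
          have h3 := congrArg (fun t => x * t * x⁻¹) h2
          simpa [mul_assoc] using h3) hy1
      · exact h2
    have h1 := hk e heE he1 fun t ht => mem_centralizer_singleton_iff.mp (hx2 ht)
    have h2 := hk z hzE hz1 fun t ht => by
      have h3 := (mem_normalizer_iff.mp (h ht) z).mp hz
      rcases hZ _ h3 with h4 | h4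
      · exact absurd (by
          have h5 := congrArg (fun w => t⁻¹ * w * t) h4
          simpa [mul_assoc] using h5) hz1
      · exact mul_inv_eq_iff_eq_mul.mp h4
    apply hez
    have h3 := h1.trans h2.symm
    have h4 := congrArg (fun t => x * t * x⁻¹) h3
    simpa [mul_assoc] using h4
  have hE1 : E ≠ ⊥ := fun h => hz1 (by
    rw [h] at hzE
    exact mem_bot.mp hzE)
  obtain ⟨P, hP, hPE, hPn⟩ := (MinPar.isLoc_normalizer S hE2 hE1 hSE).exists_not_le S
    (M := normalizer (zc (S : Subgroup G) : Set G))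
    (inf_le_right.trans (VModule.normalizer_le_normalizer_zc _)) (fun h => hTz (hTE.trans h))
  refine ⟨P, ⟨hP, hPn⟩, hPE, ?_⟩
  have hzcE' : zc (S : Subgroup G) ≤ E := by
    intro y hy
    rcases hZ y hy with rfl | rfl
    · exact one_mem _
    · exact hzE
  have hle : zl (S : Subgroup G) P ≤ E := VModule.zl_le hzcE' hPE
  apply le_antisymm hle
  -- `V_P ≠ Z`
  obtain ⟨y, hy, hyz⟩ : ∃ y ∈ zl (S : Subgroup G) P, y ∉ zc (S : Subgroup G) := by
    by_contra hcon
    push Not at hcon
    refine hPn ?_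
    rw [← le_antisymm hcon (VModule.zc_le_zl (S : Subgroup G) P)]
    exact VModule.le_normalizer_zl _ _
  have hzP : z ∈ zl (S : Subgroup G) P := VModule.zc_le_zl _ _ hz
  have heP : e ∈ zl (S : Subgroup G) P := by
    rcases hE y (hle hy) with h | h | h | h
    · exact absurd (h ▸ one_mem _) hyz
    · exact absurd (h ▸ hz) hyz
    · rwa [h] at hy
    · have h1 : e = y * z := by rw [h, mul_assoc, hz2, mul_one]
      rw [h1]
      exact mul_mem hy hzP
  intro y hy
  rcases hE y hy with rfl | rfl | rfl | rfl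
  · exact one_mem _
  · exact hzP
  · exact heP
  · exact mul_mem heP hzP

end five

end Cfsg.Agent.Omega.NOThreeL.Key
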