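import Mathlib
import Cfsg.Agent.Omega.NO3S.ML
import Cfsg.Agent.Omega.BTwo.Pair

/-!
# NO-3L, (PST): the key lemma (K1) of helper111 (#14328)

`H` acts on the finite abelian group `V`, `ff V A = |A| |C_V(A)|`; `A` fixes the involution `z` and acts trivially
on `W / ⟨z⟩` (`Axial A W z`).

* `Axial.relIndex_le` : `|A : C_A(W)| ≤ |W : C_W(A)|`;
* `Axial.ff_le`  (K1') : `ff V A ≤ ff V (A ⊓ fx W)`;
* `Axial.ff_eq`, `Axial.cv_eq`  (K1) : if `A` is best in itself then `ff V (A ⊓ fx W) = ff V A` and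
  `C_V(A ⊓ fx W) = W C_V(A)`;
* `Axial.transv` : if moreover `A` is faithful on `W`, then `a • v ∈ {v, v z}` for all `v ∈ V`.
-/

set_option autoImplicit false

namespace Cfsg.Agent.Omega.NOThreeL.KeyLemma

open Subgroup Cfsg Cfsg.Agent.ClassTwoFusion.Quad Cfsg.Agent.Omega.NO3S.ML

variable {H : Type*} [Group H] {V : Type*} [Group V] [MulDistribMulAction H V]

/-- `A` fixes the involution `z` and acts trivially on `W / ⟨z⟩`. -/
structure Axial (A : Subgroup H) (W : Subgroup V) (z : V) : Prop where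
  sq : z * z = 1
  fix : ∀ a ∈ A, a • z = z
  ax : ∀ a ∈ A, ∀ w ∈ W, a • w = w ∨ a • w = w * z

namespace Axial

variable {A : Subgroup H} {W : Subgroup V} {z : V}

theorem mono {B : Subgroup H} {W' : Subgroup V} (h : Axial A W z) (hB : B ≤ A) (hW : W' ≤ W) :
    Axial B W' z :=
  ⟨h.sq, fun a ha => h.fix a (hB ha), fun a ha w hw => h.ax a (hB ha) w (hW hw)⟩

open Classical in
/-- the sign of `a` at `w` -/
noncomputable def sg (a : H) (w : V) : ℂˣ := if a • w = w then 1 else -1

theorem sg_eq {a : H} {w : V} (h : a • w = w) : sg a w = 1 := by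
  rw [sg, if_pos h]

theorem sg_ne {a : H} {w : V} (h : a • w ≠ w) : sg a w = -1 := by
  rw [sg, if_neg h]

theorem sg_eq_one_iff {a : H} {w : V} : sg a w = 1 ↔ a • w = w := by
  by_cases h : a • w = w
  · simp [sg_eq h, h]
  · rw [sg_ne h]
    simp only [h, iff_false]
    intro h1
    have h2 := congrArg Units.val h1
    simp only [Units.val_neg, Units.val_one] at h2
    norm_num at h2

theorem ne_mul {w : V} (hz : z ≠ 1) : w * z ≠ w := fun h => hz (by simpa using h)

theorem sg_mul_right (h : Axial A W z) (hV : ∀ v w : V, v * w = w * v) {a : H} (ha : a ∈ A) {v w : V}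
    (hv : v ∈ W) (hw : w ∈ W) : sg a (v * w) = sg a v * sg a w := by
  by_cases hz : z = 1
  · have h1 : ∀ u ∈ W, a • u = u := fun u hu => by
      rcases h.ax a ha u hu with h1 | h1
      · exact h1
      · rw [h1, hz, mul_one]
    rw [sg_eq (h1 v hv), sg_eq (h1 w hw), sg_eq (h1 _ (mul_mem hv hw)), one_mul]
  · rcases h.ax a ha v hv with h1 | h1 <;> rcases h.ax a ha w hw with h2 | h2
    · rw [sg_eq h1, sg_eq h2, sg_eq (by rw [smul_mul', h1, h2]), one_mul]
    · have h3 : a • w ≠ w := by rw [h2]; exact ne_mul hz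
      have h4 : a • (v * w) ≠ v * w := by
        rw [smul_mul', h1, h2, ← mul_assoc]; exact ne_mul hz
      rw [sg_eq h1, sg_ne h3, sg_ne h4, one_mul]
    · have h3 : a • v ≠ v := by rw [h1]; exact ne_mul hz
      have h4 : a • (v * w) ≠ v * w := by
        rw [smul_mul', h1, h2, mul_assoc, hV z w, ← mul_assoc]; exact ne_mul hz
      rw [sg_ne h3, sg_eq h2, sg_ne h4, mul_one]
    · have h3 : a • v ≠ v := by rw [h1]; exact ne_mul hz
      have h4 : a • w ≠ w := by rw [h2]; exact ne_mul hz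
      have h5 : a • (v * w) = v * w := by
        rw [smul_mul', h1, h2, mul_assoc, hV z (w * z), mul_assoc w, h.sq, mul_one]
      rw [sg_ne h3, sg_ne h4, sg_eq h5]
      simp

theorem sg_mul_left (h : Axial A W z) {a b : H} (ha : a ∈ A) (hb : b ∈ A) {w : V} (hw : w ∈ W) :
    sg (a * b) w = sg a w * sg b w := by
  by_cases hz : z = 1
  · have h1 : ∀ c ∈ A, c • w = w := fun c hc => by
      rcases h.ax c hc w hw with h1 | h1
      · exact h1
      · rw [h1, hz, mul_one]
    rw [sg_eq (h1 a ha), sg_eq (h1 b hb), sg_eq (h1 _ (mul_mem ha hb)), one_mul]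
  · rcases h.ax b hb w hw with h2 | h2 <;> rcases h.ax a ha w hw with h1 | h1
    · rw [sg_eq h1, sg_eq h2, sg_eq (by rw [mul_smul, h2, h1]), one_mul]
    · have h3 : a • w ≠ w := by rw [h1]; exact ne_mul hz
      have h4 : (a * b) • w ≠ w := by rw [mul_smul, h2]; exact h3
      rw [sg_eq h2, sg_ne h3, sg_ne h4, mul_one]
    · have h3 : b • w ≠ w := by rw [h2]; exact ne_mul hz
      have h4 : (a * b) • w ≠ w := by
        rw [mul_smul, h2, smul_mul', h1, h.fix a ha]; exact ne_mul hz
      rw [sg_ne h3, sg_eq h1, sg_ne h4, one_mul]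
    · have h3 : a • w ≠ w := by rw [h1]; exact ne_mul hz
      have h4 : b • w ≠ w := by rw [h2]; exact ne_mul hz
      have h5 : (a * b) • w = w := by
        rw [mul_smul, h2, smul_mul', h1, h.fix a ha, mul_assoc, h.sq, mul_one]
      rw [sg_ne h3, sg_ne h4, sg_eq h5]
      simp

/-- `a ↦ (w ↦ sg a w)` -/
noncomputable def hom (h : Axial A W z) (hV : ∀ v w : V, v * w = w * v) : A →* (W →* ℂˣ) where
  toFun a :=
    { toFun := fun w => sg (a : H) (w : V)
      map_one' := sg_eq (by simp)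
      map_mul' := fun v w => h.sg_mul_right hV a.2 v.2 w.2 }
  map_one' := by
    ext w
    simp only [MonoidHom.coe_mk, OneHom.coe_mk, OneMemClass.coe_one, MonoidHom.one_apply]
    rw [sg_eq (one_smul H _)]
  map_mul' a b := by
    ext w
    simp only [MonoidHom.coe_mk, OneHom.coe_mk, MonoidHom.mul_apply, Subgroup.coe_mul]
    rw [h.sg_mul_left a.2 b.2 w.2]

theorem hom_apply (h : Axial A W z) (hV : ∀ v w : V, v * w = w * v) (a : A) (w : W) :
    h.hom hV a w = sg (a : H) (w : V) := rfl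

variable [Finite H] [Finite V]

omit [Finite H] in
/-- `|A : C_A(W)| ≤ |W : C_W(A)|` -/
theorem relIndex_le (h : Axial A W z) (hV : ∀ v w : V, v * w = w * v) :
    (fx W).relIndex A ≤ (cv V (A : Set H)).relIndex W := by
  have hn : ((cv V (A : Set H)).subgroupOf W).Normal := by
    refine ⟨fun n hn g => ?_⟩
    have : g * n * g⁻¹ = n := Subtype.ext (by
      simp only [Subgroup.coe_mul, InvMemClass.coe_inv]
      rw [hV (g : V) n, mul_inv_cancel_right])
    rwa [this]
  have h1 := BTwo.index_ker_le ((cv V (A : Set H)).subgroupOf W)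
    (fun w w' => by
      have : w * w' * w⁻¹ * w'⁻¹ = 1 := Subtype.ext (by
        simp only [Subgroup.coe_mul, InvMemClass.coe_inv, OneMemClass.coe_one]
        rw [hV (w : V) w']
        group)
      rw [this]
      exact one_mem _) (h.hom hV)
    (fun a n hn => by
      rw [hom_apply]
      exact sg_eq (Subgroup.mem_subgroupOf.mp hn a a.2))
  have h2 : (h.hom hV).ker = (fx W).subgroupOf A := by
    ext a
    rw [MonoidHom.mem_ker, Subgroup.mem_subgroupOf, mem_fx]
    constructor
    · intro ha w hw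
      have h3 := congrArg (fun g : W →* ℂˣ => g ⟨w, hw⟩) ha
      simp only [hom_apply, MonoidHom.one_apply] at h3
      exact sg_eq_one_iff.mp h3
    · intro ha
      ext w
      rw [hom_apply, sg_eq (ha w w.2)]
      rfl
  rw [h2] at h1
  exact h1

omit [Finite H] in
theorem card_sup (hV : ∀ v w : V, v * w = w * v) (A : Subgroup H) (W : Subgroup V) :
    Nat.card (W ⊔ cv V (A : Set H) : Subgroup V) =
      (cv V (A : Set H)).relIndex W * Nat.card (cv V (A : Set H)) := by
  have h1 := card_sup_mul_of_comm (K := W) (L := cv V (A : Set H)) (fun a _ b _ => hV a b)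
  have h2 : Nat.card (W ⊓ cv V (A : Set H) : Subgroup V) * (cv V (A : Set H)).relIndex W = Nat.card W := by
    rw [← Subgroup.inf_relIndex_left W (cv V (A : Set H))]
    exact card_mul_relIndex inf_le_left
  have h3 : 0 < Nat.card (W ⊓ cv V (A : Set H) : Subgroup V) := Nat.card_pos
  apply Nat.eq_of_mul_eq_mul_right h3
  rw [h1, ← h2]
  ring

omit [Finite H] [Finite V] in
theorem card_mul (A : Subgroup H) (W : Subgroup V) :
    Nat.card (A ⊓ fx W : Subgroup H) * (fx W).relIndex A = Nat.card A := by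
  rw [← Subgroup.inf_relIndex_left A (fx W)]
  exact card_mul_relIndex inf_le_left

omit [Finite H] [Finite V] in
theorem sup_le_cv (A : Subgroup H) (W : Subgroup V) :
    W ⊔ cv V (A : Set H) ≤ cv V ((A ⊓ fx W : Subgroup H) : Set H) := by
  refine sup_le ?_ (cv_anti (SetLike.coe_subset_coe.mpr inf_le_left))
  intro w hw a ha
  exact ha.2 w hw

omit [Finite H] in
/-- the main inequality -/
theorem ff_le_mul (h : Axial A W z) (hV : ∀ v w : V, v * w = w * v) :
    ff V A ≤ Nat.card (A ⊓ fx W : Subgroup H) * Nat.card (W ⊔ cv V (A : Set H) : Subgroup V) := by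
  rw [card_sup hV, ff]
  nth_rewrite 1 [← card_mul A W]
  rw [mul_assoc]
  exact Nat.mul_le_mul_left _ (Nat.mul_le_mul_right _ (h.relIndex_le hV))

/-- **(K1')** -/
theorem ff_le (h : Axial A W z) (hV : ∀ v w : V, v * w = w * v) : ff V A ≤ ff V (A ⊓ fx W) := by
  refine (h.ff_le_mul hV).trans ?_
  exact Nat.mul_le_mul_left _ (card_le_of_le (sup_le_cv A W))

/-- **(K1)**, first half -/
theorem ff_eq (h : Axial A W z) (hV : ∀ v w : V, v * w = w * v) (hb : ∀ B ≤ A, ff V B ≤ ff V A) :
    ff V (A ⊓ fx W) = ff V A :=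
  le_antisymm (hb _ inf_le_left) (h.ff_le hV)

/-- **(K1)**, second half -/
theorem cv_eq (h : Axial A W z) (hV : ∀ v w : V, v * w = w * v) (hb : ∀ B ≤ A, ff V B ≤ ff V A) :
    cv V ((A ⊓ fx W : Subgroup H) : Set H) = W ⊔ cv V (A : Set H) := by
  have h1 := h.ff_le_mul hV
  rw [← h.ff_eq hV hb, ff] at h1
  have h2 : Nat.card (cv V ((A ⊓ fx W : Subgroup H) : Set H)) ≤
      Nat.card (W ⊔ cv V (A : Set H) : Subgroup V) :=
    Nat.le_of_mul_le_mul_left h1 Nat.card_pos
  exact (Subgroup.eq_of_le_of_card_ge (sup_le_cv A W) h2).symm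

/-- If `A` is best in itself and faithful on `W`, then `A` consists of transvections with centre `z`. -/
theorem transv (h : Axial A W z) (hV : ∀ v w : V, v * w = w * v) (hb : ∀ B ≤ A, ff V B ≤ ff V A)
    (hf : A ⊓ fx W = ⊥) {a : H} (ha : a ∈ A) (v : V) : a • v = v ∨ a • v = v * z := by
  have h1 := h.cv_eq hV hb
  rw [hf] at h1
  have h2 : cv V (((⊥ : Subgroup H)) : Set H) = ⊤ := by
    rw [eq_top_iff]
    intro v _ x hx
    rw [SetLike.mem_coe, mem_bot] at hx
    rw [hx, one_smul]
  rw [h2] at h1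
  have h3 : v ∈ W ⊔ cv V (A : Set H) := h1 ▸ mem_top v
  have hn : (cv V (A : Set H)).Normal := ⟨fun n hn g => by rwa [hV g n, mul_inv_cancel_right]⟩
  rw [Subgroup.mem_sup_of_normal_right] at h3
  obtain ⟨w, hw, c, hc, rfl⟩ := h3
  rcases h.ax a ha w hw with h4 | h4
  · left
    rw [smul_mul', h4, hc a ha]
  · right
    rw [smul_mul', h4, hc a ha, mul_assoc, hV z c, ← mul_assoc]

end Axial

end Cfsg.Agent.Omega.NOThreeL.KeyLemma
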