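import Cfsg.Agent.Omega.NOThreeL.ThmL

/-!
# LEMMA LN (NO-3L, B2-T): a transvection in the radical of a point stabiliser

`X` acts on the finite `F_2`-space `M`, `c ∈ M` is the only nonzero vector fixed by the stabiliser `X_c`, `O` is a
normal 2-subgroup of `X_c` and contains the transvection `u ↦ u + f(u) e`; the orbit `Φ` of `f` has no common
zero.  If `|X_e| ≤ |X_c|`, then `e = c`.

No list of groups generated by transvections is used.
-/

set_option autoImplicit false

namespace Cfsg.Agent.Omega.NOThreeL.LN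

open Cfsg.Agent.Omega.NOThreeL.ThmL Cfsg.Agent.Omega.NOThreeL.ThmL.Data MulAction

variable {X M : Type*} [Group X] [AddCommGroup M] [Module (ZMod 2) M] [DistribMulAction X M]

/-- `Φ` is an orbit of functionals without common zero. -/
structure Orb (X : Type*) {M : Type*} [Group X] [AddCommGroup M] [Module (ZMod 2) M] [DistribMulAction X M]
    (Φ : Set (M →+ ZMod 2)) : Prop where
  inv : ∀ (x : X), ∀ f ∈ Φ, act x f ∈ Φ
  trans : ∀ f ∈ Φ, ∀ g ∈ Φ, ∃ x : X, act x f = g
  zero : ∀ u : M, (∀ g ∈ Φ, g u = 0) → u = 0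

namespace Orb

variable {Φ : Set (M →+ ZMod 2)} (D : Orb X Φ)
include D

theorem exists_one {u : M} (hu : u ≠ 0) : ∃ g ∈ Φ, g u = 1 := by
  by_contra hcon
  push Not at hcon
  exact hu (D.zero u fun g hg => (z2 (g u)).resolve_right (hcon g hg))

theorem card_eq {f g : M →+ ZMod 2} (hf : f ∈ Φ) (hg : g ∈ Φ) : Nat.card (Y X f) = Nat.card (Y X g) := by
  obtain ⟨x, rfl⟩ := D.trans f hf g hg
  refine Nat.card_congr ⟨fun e => ⟨x • (e : M), smul_mem_Y e.2 x⟩,
    fun e => ⟨x⁻¹ • (e : M), ?_⟩, fun e => ?_, fun e => ?_⟩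
  · have := smul_mem_Y e.2 x⁻¹
    have h1 : act x⁻¹ (act x f) = f := by ext u; simp
    rwa [h1] at this
  · ext; simp
  · ext; simp

theorem eq_of_le [Finite M] {f g : M →+ ZMod 2} (hf : f ∈ Φ) (hg : g ∈ Φ) (h : Y X f ≤ Y X g) :
    Y X f = Y X g := by
  apply SetLike.coe_injective
  apply Set.eq_of_subset_of_ncard_le h
  exact (D.card_eq hg hf).le

/-- (a) -/
theorem adj_symm [Finite M] {f g : M →+ ZMod 2} (hf : f ∈ Φ) (hg : g ∈ Φ) (h : Adj X f g) : Adj X g f := by
  by_contra hcon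
  obtain ⟨e, he, hge⟩ := h
  have key : Y X g ≤ Y X f := by
    intro e' he'
    obtain ⟨h0, x, hx⟩ := he'
    have h1 := not_adj hcon ⟨h0, x, hx⟩
    have h2 := smul_mem_Y he x
    have h3 : act x f = f := by
      ext u
      have h4 : act x f (x • (x⁻¹ • u)) = f (x⁻¹ • u) := act_smul x f _
      have h5 : f u = f (x • (x⁻¹ • u)) := by rw [smul_inv_smul]
      rw [smul_inv_smul] at h4
      rw [h4, h5, hx (x⁻¹ • u), map_add]
      have h6 : f (g (x⁻¹ • u) • e') = 0 := by
        rcases z2 (g (x⁻¹ • u)) with h | h <;> simp [h, h1]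
      rw [h6, add_zero]
    rw [h3, hx e, hge, one_smul] at h2
    have h7 := (Y X f).sub_mem h2 he
    rwa [add_sub_cancel_left] at h7
  have h8 := D.eq_of_le hg hf key
  rw [← h8] at he
  rw [apply_eq_zero he] at hge
  exact absurd hge (by decide)

/-- (b) -/
theorem add_mem {f g : M →+ ZMod 2} (hf : f ∈ Φ) (h : Adj X g f) : f + g ∈ Φ := by
  obtain ⟨e, ⟨h0, x, hx⟩, hfe⟩ := h
  rw [← smul_functional h0 hx hfe]
  exact D.inv x f hf

end Orb

/-- The component of `f`. -/
def Cn (X : Type*) {M : Type*} [Group X] [AddCommGroup M] [Module (ZMod 2) M] [DistribMulAction X M]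
    (Φ : Set (M →+ ZMod 2)) : (M →+ ZMod 2) → (M →+ ZMod 2) → Prop :=
  Relation.ReflTransGen fun g h => g ∈ Φ ∧ h ∈ Φ ∧ Adj X g h

theorem Orb.cn_symm [Finite M] {Φ : Set (M →+ ZMod 2)} (D : Orb X Φ) {f g : M →+ ZMod 2} (h : Cn X Φ f g) :
    Cn X Φ g f := by
  induction h with
  | refl => exact Relation.ReflTransGen.refl
  | tail _ hs ih => exact Relation.ReflTransGen.head ⟨hs.2.1, hs.1, D.adj_symm hs.1 hs.2.1 hs.2.2⟩ ih

theorem cn_mem {Φ : Set (M →+ ZMod 2)} {f g : M →+ ZMod 2} (h : Cn X Φ f g) (hf : f ∈ Φ) : g ∈ Φ := by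
  induction h with
  | refl => exact hf
  | tail _ h2 _ => exact h2.2.1

/-- `O` is a normal 2-subgroup of the stabiliser of `c`, which fixes no nonzero vector but `c`. -/
structure Hyp (Φ : Set (M →+ ZMod 2)) (c : M) (O : Subgroup X) : Prop extends Orb X Φ where
  two : ∀ o ∈ O, ∃ n : ℕ, ∀ u : M, (o ^ (2 ^ n)) • u = u
  fixc : ∀ o ∈ O, o • c = c
  norm : ∀ s : X, s • c = c → ∀ o ∈ O, s * o * s⁻¹ ∈ O
  fix : ∀ u : M, (∀ s : X, s • c = c → s • u = u) → u = 0 ∨ u = c

/-- `O` contains the transvection `u ↦ u + g(u) v`, `g ∈ Φ`. -/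
structure Tv (Φ : Set (M →+ ZMod 2)) (O : Subgroup X) (v : M) (g : M →+ ZMod 2) : Prop where
  mem : g ∈ Φ
  ne : v ≠ 0
  zero : g v = 0
  ex : ∃ t ∈ O, ∀ u : M, t • u = u + g u • v

theorem Tv.mem_Y {Φ : Set (M →+ ZMod 2)} {O : Subgroup X} {v : M} {g : M →+ ZMod 2} (h : Tv Φ O v g) :
    v ∈ Y X g := by
  obtain ⟨t, -, ht⟩ := h.ex
  exact ⟨h.zero, t, ht⟩

namespace Hyp

variable {Φ : Set (M →+ ZMod 2)} {c : M} {O : Subgroup X}

theorem Tv.apply_c (D : Hyp Φ c O) {v : M} {g : M →+ ZMod 2} (h : Tv Φ O v g) : g c = 0 := by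
  obtain ⟨t, ht, htv⟩ := h.ex
  rcases z2 (g c) with h1 | h1
  · exact h1
  · have h2 := D.fixc t ht
    rw [htv, h1, one_smul] at h2
    exact absurd (by simpa using h2) h.ne

/-- conjugates of transvections in `O` -/
theorem Tv.conj (D : Hyp Φ c O) {v : M} {g : M →+ ZMod 2} (h : Tv Φ O v g) {s : X} (hs : s • c = c) :
    Tv Φ O (s • v) (act s g) := by
  obtain ⟨t, ht, htv⟩ := h.ex
  refine ⟨D.inv s g h.mem, fun h0 => h.ne ((smul_eq_zero_iff_eq s).1 h0), ?_, s * t * s⁻¹, D.norm s hs t ht, fun u => ?_⟩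
  · rw [act_smul, h.zero]
  · rw [mul_smul, mul_smul, htv, smul_add, smul_inv_smul, smul_zmod]
    rfl

section

variable [Finite M] (D : Hyp Φ c O)
include D

/-- (A) -/
theorem A {v : M} {f g : M →+ ZMod 2} (h : Tv Φ O v f) (hg : g ∈ Φ) (hgv : g v = 1) : g c = 1 := by
  have h1 : Adj X f g := ⟨v, h.mem_Y, hgv⟩
  obtain ⟨a, ⟨hga, r, hr⟩, hfa⟩ := D.adj_symm h.mem hg h1
  rcases z2 (g c) with h0 | h0
  · exfalso
    have hrc : r • c = c := by rw [hr, h0, zero_smul, add_zero]
    obtain ⟨t, ht, htv⟩ := h.ex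
    have h2 : t * r * t⁻¹ * r⁻¹ ∈ O := by
      have h3 := D.norm r hrc t⁻¹ (O.inv_mem ht)
      have h4 := O.mul_mem ht h3
      simpa [mul_assoc] using h4
    obtain ⟨n, hn⟩ := D.two _ h2
    exact EndData.S3 htv hr h.zero hga hfa hgv (hn v)
  · exact h0

/-- (B) -/
theorem B {v : M} {f h : M →+ ZMod 2} (hv : Tv Φ O v f) (hh : Cn X Φ f h) : h c = h v := by
  have key : h ∈ Φ ∧ (h v = 1 ∨ ∃ u ∈ Φ, u v = 1 ∧ Adj X u h) := by
    induction hh with
    | refl =>
      refine ⟨hv.mem, Or.inr ?_⟩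
      obtain ⟨u, hu, huv⟩ := D.exists_one hv.ne
      exact ⟨u, hu, huv, D.adj_symm hv.mem hu ⟨v, hv.mem_Y, huv⟩⟩
    | @tail h h' _ hstep ih =>
      obtain ⟨hh, hh', hadj⟩ := hstep
      refine ⟨hh', Or.inr ?_⟩
      rcases z2 (h v) with h1 | h1
      · obtain ⟨-, h2 | ⟨u, hu, huv, hadj'⟩⟩ := ih
        · rw [h1] at h2
          exact absurd h2 (by decide)
        · by_cases h3 : Adj X u h'
          · exact ⟨u, hu, huv, h3⟩
          · have h4 : h + u ∈ Φ := D.add_mem hh hadj'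
            refine ⟨h + u, h4, by rw [AddMonoidHom.add_apply, h1, huv, zero_add], ?_⟩
            obtain ⟨a, ha, hha⟩ := D.adj_symm hh hh' hadj
            have h5 : u a = 0 := by
              rcases z2 (u a) with h6 | h6
              · exact h6
              · exact absurd (D.adj_symm hh' hu ⟨a, ha, h6⟩) h3
            exact D.adj_symm hh' h4 ⟨a, ha, by rw [AddMonoidHom.add_apply, hha, h5, add_zero]⟩
      · exact ⟨h, hh, h1, hadj⟩
  obtain ⟨hmem, hR⟩ := key
  rcases z2 (h v) with h1 | h1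
  · rw [h1]
    rcases z2 (h c) with h2 | h2
    · exact h2
    · exfalso
      rcases hR with h3 | ⟨u, hu, huv, hadj⟩
      · rw [h1] at h3
        exact absurd h3 (by decide)
      · have h4 : h + u ∈ Φ := D.add_mem hmem hadj
        have h5 := D.A hv h4 (by rw [AddMonoidHom.add_apply, h1, huv, zero_add])
        rw [AddMonoidHom.add_apply, h2, D.A hv hu huv] at h5
        exact absurd h5 (by decide)
  · rw [h1]
    exact D.A hv hmem h1

/-- (C) -/
theorem C {v v' : M} {f f' : M →+ ZMod 2} (hv : Tv Φ O v f) (hv' : Tv Φ O v' f') (hh : Cn X Φ f f') :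
    v = v' := by
  have key : v + v' = 0 := by
    refine D.zero _ fun g hg => ?_
    rw [map_add]
    by_cases h1 : Cn X Φ f g
    · have h2 := D.B hv h1
      have h3 := D.B hv' ((D.cn_symm hh).trans h1)
      rw [← h2, ← h3, CharTwo.add_self_eq_zero]
    · have h2 : g v = 0 := by
        rcases z2 (g v) with h | h
        · exact h
        · exact absurd (Relation.ReflTransGen.single ⟨hv.mem, hg, v, hv.mem_Y, h⟩) h1
      have h3 : g v' = 0 := by
        rcases z2 (g v') with h | h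
        · exact h
        · exact absurd (hh.tail ⟨hv'.mem, hg, v', hv'.mem_Y, h⟩) h1
      rw [h2, h3, add_zero]
  have h1 : v = -v' := eq_neg_of_add_eq_zero_left key
  rw [h1, neg_eq_of_add_eq_zero_left (add_self v')]

/-- (D), one transvection -/
theorem D1 {e v : M} {f f' : M →+ ZMod 2} (he : Tv Φ O e f) (hv : Tv Φ O v f') (hne : v ≠ e) :
    ∃ a : M, f' a = 1 ∧ (∃ h ∈ Φ, h v = 1 ∧ a ∈ Y X h) ∧ (∃ h ∈ Φ, h v = 1 ∧ a + v ∈ Y X h) ∧
      (∃ x : X, x • e = e ∧ x • c = c + a) ∧ (∃ x : X, x • e = e ∧ x • c = c + (a + v)) := by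
  have step : ∀ h ∈ Φ, h v = 1 → ∀ a ∈ Y X h, ∃ x : X, x • e = e ∧ x • c = c + a := by
    rintro h hh hhv a ⟨h0, x, hx⟩
    refine ⟨x, ?_, ?_⟩
    · have h1 : h e = 0 := by
        rcases z2 (h e) with h2 | h2
        · exact h2
        · exfalso
          apply hne
          refine (D.C he hv ?_).symm
          refine Relation.ReflTransGen.trans (Relation.ReflTransGen.single ⟨he.mem, hh, e, he.mem_Y, h2⟩)
            (Relation.ReflTransGen.single ⟨hh, hv.mem, ?_⟩)
          exact D.adj_symm hv.mem hh ⟨v, hv.mem_Y, hhv⟩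
      rw [hx, h1, zero_smul, add_zero]
    · rw [hx, D.A hv hh hhv, one_smul]
  obtain ⟨h, hh, hhv⟩ := D.exists_one hv.ne
  obtain ⟨a, ha, hfa⟩ := D.adj_symm hv.mem hh ⟨v, hv.mem_Y, hhv⟩
  obtain ⟨t, -, htv⟩ := hv.ex
  -- conjugation by `t`
  have h2 : act t h = h + f' := smul_functional hv.zero htv hhv
  have h3 : h + f' ∈ Φ := by rw [← h2]; exact D.inv t h hh
  have h4 : a + v ∈ Y X (h + f') := by
    have := smul_mem_Y ha t
    rwa [h2, htv, hfa, one_smul] at this
  have h5 : (h + f') v = 1 := by rw [AddMonoidHom.add_apply, hhv, hv.zero, add_zero]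
  exact ⟨a, hfa, ⟨h, hh, hhv, ha⟩, ⟨_, h3, h5, h4⟩, step h hh hhv a ha, step _ h3 h5 _ h4⟩

/-- (D), distinctness -/
theorem D2 {v v' b : M} {f f' h h' : M →+ ZMod 2} (hv : Tv Φ O v f) (hv' : Tv Φ O v' f') (hh : h ∈ Φ)
    (hh' : h' ∈ Φ) (hhv : h v = 1) (hhv' : h' v' = 1) (hb : b ∈ Y X h) (hb' : b ∈ Y X h') (hb0 : b ≠ 0) :
    v = v' := by
  obtain ⟨g, hg, hgb⟩ := D.exists_one hb0
  refine D.C hv hv' ?_
  refine Relation.ReflTransGen.trans (Relation.ReflTransGen.single ⟨hv.mem, hh, v, hv.mem_Y, hhv⟩) ?_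
  refine Relation.ReflTransGen.trans (Relation.ReflTransGen.single ⟨hh, hg, b, hb, hgb⟩) ?_
  refine Relation.ReflTransGen.trans (Relation.ReflTransGen.single ⟨hg, hh', ?_⟩)
    (Relation.ReflTransGen.single ⟨hh', hv'.mem, ?_⟩)
  · exact D.adj_symm hh' hg ⟨b, hb', hgb⟩
  · exact D.adj_symm hv'.mem hh' ⟨v', hv'.mem_Y, hhv'⟩

/-- **LEMMA LN.** -/
theorem eq_of_card [Finite X] {e : M} {f : M →+ ZMod 2} (he : Tv Φ O e f)
    (hcard : Nat.card (stabilizer X e) ≤ Nat.card (stabilizer X c)) : e = c := by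
  classical
  set Xc := stabilizer X c with hXc
  set Xe := stabilizer X e with hXe
  -- the two orbits
  set A : Set M := orbit Xc e with hA
  set B : Set M := orbit Xe c with hB
  have hfinA : A.Finite := Set.toFinite _
  have hfinB : B.Finite := Set.toFinite _
  -- every member of `A` is the centre of a transvection in `O`
  have hTv : ∀ v ∈ A, ∃ g, Tv Φ O v g := by
    rintro _ ⟨s, rfl⟩
    exact ⟨_, Tv.conj D he (mem_stabilizer_iff.1 s.2)⟩
  have hcB : c ∈ B := mem_orbit_self c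
  have heA : e ∈ A := mem_orbit_self e
  have hBm : ∀ u, (∃ x : X, x • e = e ∧ x • c = u) → u ∈ B := by
    rintro u ⟨x, hx, rfl⟩
    exact ⟨⟨x, mem_stabilizer_iff.2 hx⟩, rfl⟩
  -- the numbers
  have key : 2 * (A \ {e}).ncard ≤ (B \ {c}).ncard := by
    have hex : ∀ v : ↥(A \ {e}), ∃ (a : M) (f' : M →+ ZMod 2), Tv Φ O (v : M) f' ∧ f' a = 1 ∧
        (∃ h ∈ Φ, h v = 1 ∧ a ∈ Y X h) ∧ (∃ h ∈ Φ, h v = 1 ∧ a + v ∈ Y X h) ∧
        (∃ x : X, x • e = e ∧ x • c = c + a) ∧ (∃ x : X, x • e = e ∧ x • c = c + (a + v)) := by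
      intro v
      obtain ⟨f', hf'⟩ := hTv v v.2.1
      obtain ⟨a, h1, h2, h3, h4, h5⟩ := D.D1 he hf' v.2.2
      exact ⟨a, f', hf', h1, h2, h3, h4, h5⟩
    choose a f' hT hfa h0 h1 k0 k1 using hex
    let φ : ↥(A \ {e}) × Bool → ↥(B \ {c}) := fun p =>
      ⟨c + (if p.2 then a p.1 + p.1 else a p.1), by
        constructor
        · rcases p with ⟨v, _ | _⟩
          · exact hBm _ (k0 v)
          · exact hBm _ (k1 v)
        · intro h
          have h2 : (if p.2 then a p.1 + (p.1 : M) else a p.1) = 0 := by simpa using h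
          have h3 : f' p.1 (if p.2 then a p.1 + (p.1 : M) else a p.1) = 1 := by
            split_ifs
            · rw [map_add, hfa, (hT p.1).zero, add_zero]
            · exact hfa p.1
          rw [h2, map_zero] at h3
          exact absurd h3 (by decide)⟩
    have hφ : Function.Injective φ := by
      rintro ⟨v, i⟩ ⟨v', j⟩ h
      have h2 : (if i then a v + (v : M) else a v) = (if j then a v' + (v' : M) else a v') := by
        have := congrArg Subtype.val h
        exact add_left_cancel this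
      have hne : (if i then a v + (v : M) else a v) ≠ 0 := by
        intro h2
        have h3 : f' v (if i then a v + (v : M) else a v) = 1 := by
          split_ifs
          · rw [map_add, hfa, (hT v).zero, add_zero]
          · exact hfa v
        rw [h2, map_zero] at h3
        exact absurd h3 (by decide)
      have e1 : ∃ g ∈ Φ, g v = 1 ∧ (if i then a v + (v : M) else a v) ∈ Y X g := by
        split_ifs
        · exact h1 v
        · exact h0 v
      have e2 : ∃ g ∈ Φ, g v' = 1 ∧ (if j then a v' + (v' : M) else a v') ∈ Y X g := by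
        split_ifs
        · exact h1 v'
        · exact h0 v'
      obtain ⟨g, hg, hgv, hgY⟩ := e1
      obtain ⟨g', hg', hgv', hgY'⟩ := e2
      rw [← h2] at hgY'
      have h3 : (v : M) = v' := D.D2 (hT v) (hT v') hg hg' hgv hgv' hgY hgY' hne
      have h4 : v = v' := Subtype.ext h3
      subst h4
      have h5 : i = j := by
        rcases i <;> rcases j
        · rfl
        · exfalso
          apply (hT v).ne
          simpa using h2
        · exfalso
          apply (hT v).ne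
          simpa using h2
        · rfl
      rw [h5]
    have h2 := Nat.card_le_card_of_injective φ hφ
    rw [Nat.card_prod, Nat.card_eq_fintype_card (α := Bool), Fintype.card_bool, mul_comm] at h2
    rwa [← Nat.card_coe_set_eq, ← Nat.card_coe_set_eq]
  have hA1 : (A \ {e}).ncard + 1 = A.ncard := Set.ncard_sdiff_singleton_add_one heA hfinA
  have hB1 : (B \ {c}).ncard + 1 = B.ncard := Set.ncard_sdiff_singleton_add_one hcB hfinB
  -- orbits and stabilisers
  have hsA : A.ncard * Nat.card (stabilizer Xc e) = Nat.card Xc := by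
    rw [← Nat.card_coe_set_eq]
    have := Nat.card_congr (orbitProdStabilizerEquivGroup Xc e)
    rwa [Nat.card_prod] at this
  have hsB : B.ncard * Nat.card (stabilizer Xe c) = Nat.card Xe := by
    rw [← Nat.card_coe_set_eq]
    have := Nat.card_congr (orbitProdStabilizerEquivGroup Xe c)
    rwa [Nat.card_prod] at this
  have hs : Nat.card (stabilizer Xc e) = Nat.card (stabilizer Xe c) := by
    refine Nat.card_congr ⟨fun x => ⟨⟨x.1.1, mem_stabilizer_iff.1 x.2⟩, x.1.2⟩,
      fun x => ⟨⟨x.1.1, mem_stabilizer_iff.1 x.2⟩, x.1.2⟩, fun x => rfl, fun x => rfl⟩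
  have hpos : 0 < Nat.card (stabilizer Xe c) := Nat.card_pos
  rw [← hsA, ← hsB, hs] at hcard
  have h1 : B.ncard ≤ A.ncard := Nat.le_of_mul_le_mul_right hcard hpos
  have h2 : (A \ {e}).ncard = 0 := by omega
  have h3 : A \ {e} = ∅ := (Set.ncard_eq_zero (hfinA.subset Set.sdiff_subset)).1 h2
  have hfix : ∀ s : X, s • c = c → s • e = e := by
    intro s hs
    have h5 : s • e ∈ A := ⟨⟨s, mem_stabilizer_iff.2 hs⟩, rfl⟩
    by_contra h6
    have h7 : s • e ∈ A \ {e} := ⟨h5, h6⟩
    rw [h3] at h7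
    exact h7
  exact (D.fix e hfix).resolve_left he.ne

end

end Hyp

end Cfsg.Agent.Omega.NOThreeL.LN
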