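import Mathlib

/-!
# THEOREM LN(q₀, q) (NO-3L, (LOW), natural lines with field automorphisms; helper52's #18609)

`X` acts on the finite elementary abelian 2-group `M`; `(y, K, A)` is a root triple: `A ≤ X` acts on `M` as a full
group of transvections with centre `y` and axis `K`, `|M : K| = |y|`, and `y ∩ y^x ≠ 0` implies `[A, A^x] = 1`;
the axes have no common zero; `c ≤ M` lies in an axis or meets it trivially; `A ≤ O`, `O` a normal 2-subgroup of
`X_c = C_X(c)`; `T ≤ X_c` fixes only vectors of `c`; `r ≤ y` is centralised by the stabiliser of `y` in `T`. If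
`|C_X(r)| ≤ |C_X(c)|`, then `c ∩ y ≠ 0` (`Hyp.meet`).
-/

set_option autoImplicit false

namespace Cfsg.Agent.Omega.NOThreeL.LNField

open MulAction
open scoped Pointwise

variable {X M : Type*} [Group X] [AddCommGroup M] [DistribMulAction X M]

/-- `x` is a transvection with centre in `a` and axis `≥ g`. -/
def Tr (a g : AddSubgroup M) (x : X) : Prop :=
  (∀ m : M, ∃ w ∈ a, x • m = m + w) ∧ ∀ m ∈ g, x • m = m

theorem Tr.conj {a g : AddSubgroup M} {x : X} (h : Tr a g x) (s : X) : Tr (s • a) (s • g) (s * x * s⁻¹) := by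
  refine ⟨fun m => ?_, fun m hm => ?_⟩
  · obtain ⟨w, hw, hxw⟩ := h.1 (s⁻¹ • m)
    refine ⟨s • w, AddSubgroup.smul_mem_pointwise_smul _ _ _ hw, ?_⟩
    rw [mul_smul, mul_smul, hxw, smul_add, smul_inv_smul]
  · rw [mul_smul, mul_smul, h.2 _ (AddSubgroup.mem_pointwise_smul_iff_inv_smul_mem.1 hm), smul_inv_smul]

/-- the pointwise stabiliser of `c` -/
def St (X : Type*) {M : Type*} [Group X] [AddCommGroup M] [DistribMulAction X M] (c : AddSubgroup M) :
    Subgroup X where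
  carrier := {s | ∀ z ∈ c, s • z = z}
  one_mem' := fun z _ => one_smul X z
  mul_mem' := fun {s t} hs ht z hz => by rw [mul_smul, ht z hz, hs z hz]
  inv_mem' := fun {s} hs z hz => by rw [inv_smul_eq_iff, hs z hz]

theorem mem_St {c : AddSubgroup M} {s : X} : s ∈ St X c ↔ ∀ z ∈ c, s • z = z := Iff.rfl

/-- an element of order 3 on a fours group is not a 2-element -/
theorem order3 {x : X} {a b : M} (h1 : x • a = b) (h2 : x • b = a + b) (h3 : x • (a + b) = a) (hab : a ≠ b) {n : ℕ}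
    (hn : (x ^ (2 ^ n)) • a = a) : False := by
  have h4 : (x ^ 3) • a = a := by
    rw [pow_succ, pow_succ, pow_one, mul_smul, mul_smul, h1, h2, h3]
  have h5 : x ^ 3 ∈ stabilizer X a := h4
  have h6 : x ^ (2 ^ n) ∈ stabilizer X a := hn
  have h7 : x ∈ stabilizer X a := by
    have hc : IsCoprime ((3 : ℕ) : ℤ) ((2 ^ n : ℕ) : ℤ) := by
      rw [Nat.isCoprime_iff_coprime]
      exact Nat.Coprime.pow_right n (by decide)
    obtain ⟨i, j, hij⟩ := hc
    have h8 : x = (x ^ 3) ^ i * (x ^ (2 ^ n)) ^ j := by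
      rw [← zpow_natCast x 3, ← zpow_natCast x (2 ^ n), ← zpow_mul, ← zpow_mul, ← zpow_add]
      conv_lhs => rw [← zpow_one x, ← hij]
      congr 1
      ring
    rw [h8]
    exact mul_mem (zpow_mem h5 i) (zpow_mem h6 j)
  exact hab (by rw [← h1]; exact (mem_stabilizer_iff.1 h7).symm)

/-- a root triple, and the common zero of its axes is `0` -/
structure Tri (y K : AddSubgroup M) (A : Subgroup X) : Prop where
  two : ∀ u : M, u + u = 0
  tr : ∀ a ∈ A, Tr y K a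
  le : y ≤ K
  full : ∀ u, u ∉ K → ∀ w ∈ y, ∃ a ∈ A, a • u = u + w
  triv : ∀ a ∈ A, ∀ u, u ∉ K → a • u = u → ∀ m : M, a • m = m
  com : ∀ x : X, ∀ u ∈ y, u ∈ x • y → u ≠ 0 → ∀ a ∈ A, ∀ b ∈ A, a * (x * b * x⁻¹) = x * b * x⁻¹ * a
  card : Nat.card y = K.index
  zero : ∀ u : M, (∀ x : X, u ∈ x • K) → u = 0
  ne : ∃ u ∈ y, u ≠ 0

/-- the axes -/
def Ax (X : Type*) {M : Type*} [Group X] [AddCommGroup M] [DistribMulAction X M] (K : AddSubgroup M) :
    Set (AddSubgroup M) := {g | ∃ x : X, x • K = g}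

/-- `g ~ h` -/
def Adj (X : Type*) {M : Type*} [Group X] [AddCommGroup M] [DistribMulAction X M]
    (y K g h : AddSubgroup M) : Prop := ∃ x : X, x • K = g ∧ ¬ x • y ≤ h

/-- the component of `f` -/
def Cn (X : Type*) {M : Type*} [Group X] [AddCommGroup M] [DistribMulAction X M]
    (y K : AddSubgroup M) : AddSubgroup M → AddSubgroup M → Prop :=
  Relation.ReflTransGen fun g h => g ∈ Ax X K ∧ h ∈ Ax X K ∧ Adj X y K g h

theorem smul_mem_smul {y : AddSubgroup M} {w : M} (hw : w ∈ y) (x : X) : x • w ∈ x • y :=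
  AddSubgroup.smul_mem_pointwise_smul _ _ _ hw

theorem card_smul (x : X) (g : AddSubgroup M) : Nat.card ↥(x • g) = Nat.card g := by
  refine Nat.card_congr ⟨fun u => ⟨x⁻¹ • (u : M), AddSubgroup.mem_pointwise_smul_iff_inv_smul_mem.1 u.2⟩,
    fun u => ⟨x • (u : M), smul_mem_smul u.2 x⟩, fun u => ?_, fun u => ?_⟩
  · ext; simp
  · ext; simp

/-- two involutions generating `S₃` on a fours group -/
theorem ord {α β : X} {a0 e0 : M} (h2 : ∀ u : M, u + u = 0) (hα : ∀ m : M, α⁻¹ • m = α • m)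
    (hβ : ∀ m : M, β⁻¹ • m = β • m) (h1 : α • a0 = a0 + e0) (h3 : α • e0 = e0) (h4 : β • e0 = e0 + a0)
    (h5 : β • a0 = a0) :
    (α * (β * α⁻¹ * β⁻¹)) • a0 = e0 ∧ (α * (β * α⁻¹ * β⁻¹)) • e0 = a0 + e0 := by
  have e4 : e0 + (a0 + e0) = a0 := by rw [add_comm a0 e0, ← add_assoc, h2, zero_add]
  have e5 : a0 + (e0 + a0) = e0 := by rw [add_comm e0 a0, ← add_assoc, h2, zero_add]
  constructor
  · rw [mul_smul, mul_smul, mul_smul, hβ, h5, hα, h1, smul_add, h5, h4, e5, h3]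
  · rw [mul_smul, mul_smul, mul_smul, hβ, h4, hα, smul_add, h3, h1, e4, h5, h1]

theorem inv_mul {P Q : X} (h : P * Q = Q * P) (hP : ∀ m : M, P • P • m = m) (hQ : ∀ m : M, Q • Q • m = m) (m : M) :
    (P * Q) • (P * Q) • m = m := by
  have h1 : (P * Q) • (P * Q) • m = (Q * P) • (P * Q) • m := by rw [h]
  rw [h1, mul_smul Q P, mul_smul P Q, hP, hQ]

namespace Tri

variable {y K : AddSubgroup M} {A : Subgroup X} (D : Tri y K A)
include D

theorem add_add (u w : M) : u + w + w = u := by rw [add_assoc, D.two, add_zero]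

theorem trx (x : X) {a : X} (ha : a ∈ A) : Tr (x • y) (x • K) (x * a * x⁻¹) := (D.tr a ha).conj x

theorem lex (x : X) : x • y ≤ x • K := AddSubgroup.pointwise_smul_le_pointwise_smul_iff.2 D.le

theorem fullx (x : X) {u : M} (hu : u ∉ x • K) {w : M} (hw : w ∈ x • y) :
    ∃ a ∈ A, (x * a * x⁻¹) • u = u + w := by
  rw [AddSubgroup.mem_pointwise_smul_iff_inv_smul_mem] at hu hw
  obtain ⟨a, ha, hau⟩ := D.full _ hu _ hw
  refine ⟨a, ha, ?_⟩
  rw [mul_smul, mul_smul, hau, smul_add, smul_inv_smul, smul_inv_smul]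

theorem trivx (x : X) {a : X} (ha : a ∈ A) {u : M} (hu : u ∉ x • K) (h : (x * a * x⁻¹) • u = u) (m : M) :
    (x * a * x⁻¹) • m = m := by
  rw [AddSubgroup.mem_pointwise_smul_iff_inv_smul_mem] at hu
  have h1 : a • x⁻¹ • u = x⁻¹ • u := by
    rw [mul_smul, mul_smul] at h
    rw [eq_inv_smul_iff]
    exact h
  rw [mul_smul, mul_smul, D.triv a ha _ hu h1, smul_inv_smul]

theorem sq (x : X) {a : X} (ha : a ∈ A) (m : M) : (x * a * x⁻¹) • (x * a * x⁻¹) • m = m := by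
  obtain ⟨w, hw, hxw⟩ := (D.trx x ha).1 m
  rw [hxw, smul_add, hxw, (D.trx x ha).2 w (D.lex x hw), D.add_add]

theorem inv (x : X) {a : X} (ha : a ∈ A) (m : M) : (x * a * x⁻¹)⁻¹ • m = (x * a * x⁻¹) • m := by
  rw [inv_smul_eq_iff, D.sq x ha]

theorem comx {x x' : X} {u : M} (hu : u ∈ x • y) (hu' : u ∈ x' • y) (hu0 : u ≠ 0) {a b : X} (ha : a ∈ A)
    (hb : b ∈ A) : x * a * x⁻¹ * (x' * b * x'⁻¹) = x' * b * x'⁻¹ * (x * a * x⁻¹) := by
  have h1 : x⁻¹ • u ∈ y := AddSubgroup.mem_pointwise_smul_iff_inv_smul_mem.1 hu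
  have h2 : x⁻¹ • u ∈ (x⁻¹ * x') • y := by
    rw [mul_smul]
    exact smul_mem_smul hu' _
  have h3 : x⁻¹ • u ≠ 0 := fun h => hu0 ((smul_eq_zero_iff_eq _).1 h)
  have h4 := D.com (x⁻¹ * x') _ h1 h2 h3 a ha b hb
  have h5 : x * (a * (x⁻¹ * x' * b * (x⁻¹ * x')⁻¹)) * x⁻¹ = x * (x⁻¹ * x' * b * (x⁻¹ * x')⁻¹ * a) * x⁻¹ := by rw [h4]
  calc x * a * x⁻¹ * (x' * b * x'⁻¹) = x * (a * (x⁻¹ * x' * b * (x⁻¹ * x')⁻¹)) * x⁻¹ := by group
    _ = x * (x⁻¹ * x' * b * (x⁻¹ * x')⁻¹ * a) * x⁻¹ := h5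
    _ = x' * b * x'⁻¹ * (x * a * x⁻¹) := by group

theorem exists_not_mem {u : M} (hu : u ≠ 0) : ∃ g ∈ Ax X K, u ∉ g := by
  by_contra hcon
  push Not at hcon
  exact hu (D.zero u fun x => hcon _ ⟨x, rfl⟩)

theorem nex (x : X) : ∃ u ∈ x • y, u ≠ 0 := by
  obtain ⟨u, hu, hu0⟩ := D.ne
  exact ⟨x • u, smul_mem_smul hu x, fun h => hu0 ((smul_eq_zero_iff_eq _).1 h)⟩

omit D in
theorem ax_smul {g : AddSubgroup M} (hg : g ∈ Ax X K) (s : X) : s • g ∈ Ax X K := by
  obtain ⟨x, rfl⟩ := hg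
  exact ⟨s * x, mul_smul s x K⟩

omit D in
theorem adj_conj {g h : AddSubgroup M} (hA : Adj X y K g h) (s : X) : Adj X y K (s • g) (s • h) := by
  obtain ⟨x, hx, hxy⟩ := hA
  refine ⟨s * x, by rw [mul_smul, hx], ?_⟩
  rw [mul_smul]
  exact fun h1 => hxy (AddSubgroup.pointwise_smul_le_pointwise_smul_iff.1 h1)

omit D in
theorem cn_conj {g h : AddSubgroup M} (hA : Cn X y K g h) (s : X) : Cn X y K (s • g) (s • h) := by
  induction hA with
  | refl => exact Relation.ReflTransGen.refl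
  | tail _ hs ih => exact ih.tail ⟨ax_smul hs.1 s, ax_smul hs.2.1 s, adj_conj hs.2.2 s⟩

/-- an element of `A^x` fixes every subgroup of its axis pointwise -/
theorem smul_eq (x : X) {a : X} (ha : a ∈ A) {b : AddSubgroup M} (hb : b ≤ x • K) : (x * a * x⁻¹) • b = b := by
  have h := (D.trx x ha).2
  ext m
  rw [AddSubgroup.mem_smul_pointwise_iff_exists]
  constructor
  · rintro ⟨s, hs, rfl⟩
    rwa [h s (hb hs)]
  · intro hm
    exact ⟨m, hm, h m (hb hm)⟩

/-- `~` is symmetric -/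
theorem adj_symm [Finite M] {g h : AddSubgroup M} (hh : h ∈ Ax X K) (hA : Adj X y K g h) : Adj X y K h g := by
  by_contra hcon
  obtain ⟨x, hx, hxy⟩ := hA
  have hle : ∀ x' : X, x' • K = h → x' • y ≤ g := by
    intro x' hx'
    by_contra h1
    exact hcon ⟨x', hx', h1⟩
  let Y : AddSubgroup M → AddSubgroup M := fun g => ⨆ x : {x : X // x • K = g}, x.1 • y
  have hYm : ∀ {g : AddSubgroup M} {x : X}, x • K = g → x • y ≤ Y g := fun {g x} hx =>
    le_iSup (fun x : {x : X // x • K = g} => x.1 • y) ⟨x, hx⟩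
  have hYle : ∀ g, Y g ≤ g := fun g => iSup_le fun x => by
    have := D.lex x.1
    rwa [x.2] at this
  obtain ⟨w, hw, hwh⟩ := SetLike.not_le_iff_exists.1 hxy
  have key : Y h ≤ Y g := by
    refine iSup_le fun x' => ?_
    obtain ⟨x', hx'⟩ := x'
    intro b hb
    have hb' : b ∈ x' • y := hb
    obtain ⟨a, ha, hd⟩ := D.fullx x' (u := w) (by rwa [hx']) hb'
    have hdg : ∀ {a : X}, a ∈ A → (x' * a * x'⁻¹) • g ≤ g := by
      intro a ha m hm
      rw [AddSubgroup.mem_smul_pointwise_iff_exists] at hm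
      obtain ⟨n, hn, rfl⟩ := hm
      obtain ⟨w', hw', h1⟩ := (D.trx x' ha).1 n
      rw [h1]
      exact g.add_mem hn (hle x' hx' hw')
    have hdg' : (x' * a * x'⁻¹) • g = g := by
      refine le_antisymm (hdg ha) ?_
      rw [AddSubgroup.le_pointwise_smul_iff]
      have e1 : (x' * a * x'⁻¹)⁻¹ = x' * a⁻¹ * x'⁻¹ := by group
      rw [e1]
      exact hdg (A.inv_mem ha)
    have h1 : ((x' * a * x'⁻¹) * x) • K = g := by rw [mul_smul, hx, hdg']
    have h2 : (x' * a * x'⁻¹) • w ∈ Y g := by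
      apply hYm h1
      rw [mul_smul]
      exact smul_mem_smul hw _
    have h3 : w ∈ Y g := hYm hx hw
    have h4 := (Y g).sub_mem h2 h3
    rwa [hd, add_sub_cancel_left] at h4
  obtain ⟨x', hx'⟩ := hh
  have h1 : Y g ≤ (x * x'⁻¹) • Y h := by
    refine iSup_le fun z => ?_
    rw [AddSubgroup.le_pointwise_smul_iff, ← mul_smul]
    apply hYm
    rw [mul_smul, z.2, ← hx, ← hx', ← mul_smul]
    congr 1
    group
  have h2 : Nat.card (Y g) ≤ Nat.card (Y h) := by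
    rw [← card_smul (x * x'⁻¹) (Y h)]
    exact AddSubgroup.card_le_of_le h1
  have h3 : Y h = Y g := AddSubgroup.eq_of_le_of_card_ge key h2
  exact hwh (hYle h (by rw [h3]; exact hYm hx hw))

theorem cn_symm [Finite M] {f g : AddSubgroup M} (h : Cn X y K f g) : Cn X y K g f := by
  induction h with
  | refl => exact Relation.ReflTransGen.refl
  | tail _ hs ih => exact Relation.ReflTransGen.head ⟨hs.2.1, hs.1, D.adj_symm hs.2.1 hs.2.2⟩ ih

/-- (F1') -/
theorem dich [Finite M] {x : X} {g : AddSubgroup M} (hg : g ∈ Ax X K) {u : M} (hu : u ∈ x • y) (hug : u ∈ g)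
    (hu0 : u ≠ 0) : x • y ≤ g := by
  by_contra hcon
  obtain ⟨x', hx', hxy'⟩ := D.adj_symm hg ⟨x, rfl, hcon⟩
  obtain ⟨a0, ha0, ha0K⟩ := SetLike.not_le_iff_exists.1 hxy'
  obtain ⟨e0, he0, he0g⟩ := SetLike.not_le_iff_exists.1 hcon
  obtain ⟨a, ha, h1⟩ := D.fullx x ha0K he0
  rw [← hx'] at he0g hug
  obtain ⟨b, hb, h2⟩ := D.fullx x' he0g ha0
  have h3 : (x * a * x⁻¹) • e0 = e0 := (D.trx x ha).2 e0 (D.lex x he0)
  have h4 : (x' * b * x'⁻¹) • a0 = a0 := (D.trx x' hb).2 a0 (D.lex x' ha0)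
  obtain ⟨e1, e2⟩ := ord D.two (D.inv x ha) (D.inv x' hb) h1 h3 h2 h4
  have h5 : u ∈ (x' * b * x'⁻¹ * x) • y := by
    have h6 : (x' * b * x'⁻¹) • u = u := (D.trx x' hb).2 u hug
    rw [← h6, mul_smul]
    exact smul_mem_smul hu _
  have h6 := D.comx hu h5 hu0 ha (A.inv_mem ha)
  have h7 : x' * b * x'⁻¹ * (x * a * x⁻¹)⁻¹ * (x' * b * x'⁻¹)⁻¹ =
      x' * b * x'⁻¹ * x * a⁻¹ * (x' * b * x'⁻¹ * x)⁻¹ := by group
  have h8 : ∀ m : M, (x * a * x⁻¹ * (x' * b * x'⁻¹ * (x * a * x⁻¹)⁻¹ * (x' * b * x'⁻¹)⁻¹)) •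
      (x * a * x⁻¹ * (x' * b * x'⁻¹ * (x * a * x⁻¹)⁻¹ * (x' * b * x'⁻¹)⁻¹)) • m = m := by
    rw [h7]
    exact inv_mul h6 (D.sq x ha) (D.sq _ (A.inv_mem ha))
  have h9 := h8 a0
  rw [e1, e2] at h9
  have h10 : e0 = 0 := by simpa using h9
  rw [h10] at he0g
  exact he0g (x' • K).zero_mem

theorem not_mem [Finite M] {x : X} {g : AddSubgroup M} (hg : g ∈ Ax X K) (h : ¬ x • y ≤ g) {u : M}
    (hu : u ∈ x • y) (hu0 : u ≠ 0) : u ∉ g := fun hug => h (D.dich hg hu hug hu0)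

theorem sup [Finite M] {x : X} {g : AddSubgroup M} (hg : g ∈ Ax X K) (h : ¬ x • y ≤ g) (m : M) :
    ∃ u ∈ x • y, ∃ n ∈ g, m = u + n := by
  let φ : ↥(x • y) × ↥g → M := fun p => (p.1 : M) + p.2
  have hφ : Function.Injective φ := by
    rintro ⟨u, n⟩ ⟨u', n'⟩ h1
    have h1' : (u : M) + n = u' + n' := h1
    have h2 : (u : M) - u' = n' - n := by rw [sub_eq_sub_iff_add_eq_add, h1', add_comm]
    have h3 : (u : M) - u' = 0 := by
      by_contra h4
      refine D.not_mem hg h ((x • y).sub_mem u.2 u'.2) h4 ?_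
      rw [h2]
      exact g.sub_mem n'.2 n.2
    have h4 : u = u' := Subtype.ext (sub_eq_zero.1 h3)
    rw [h3] at h2
    have h5 : n = n' := Subtype.ext (sub_eq_zero.1 h2.symm).symm
    rw [h4, h5]
  have hcard : Nat.card (↥(x • y) × ↥g) = Nat.card M := by
    obtain ⟨x', rfl⟩ := hg
    rw [Nat.card_prod, card_smul, card_smul, D.card, mul_comm]
    exact AddSubgroup.card_mul_index K
  obtain ⟨⟨u, n⟩, hun⟩ := (Nat.bijective_iff_injective_and_card φ).2 ⟨hφ, hcard⟩ |>.2 m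
  exact ⟨u, u.2, n, n.2, hun.symm⟩

theorem cover [Finite M] (x : X) {h : AddSubgroup M} (hh : h ∈ Ax X K) (hxh : ¬ x • y ≤ h) {m : M}
    (hm : m ∉ x • K) : ∃ a ∈ A, m ∈ (x * a * x⁻¹) • h := by
  obtain ⟨w, hw, n, hn, rfl⟩ := D.sup hh hxh m
  have hng : n ∉ x • K := fun h1 => hm ((x • K).add_mem (D.lex x hw) h1)
  obtain ⟨a, ha, hn'⟩ := D.fullx x hng hw
  refine ⟨a, ha, ?_⟩
  rw [add_comm w n, ← hn']
  exact smul_mem_smul hn _

end Tri

/-- everything -/
structure Hyp (y K : AddSubgroup M) (A : Subgroup X) (c r : AddSubgroup M) (O T : Subgroup X) : Prop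
    extends Tri y K A where
  cd : ∀ x : X, ∀ u ∈ c, u ∈ x • K → u ≠ 0 → c ≤ x • K
  cne : ∃ u ∈ c, u ≠ 0
  AO : A ≤ O
  two' : ∀ o ∈ O, ∃ n : ℕ, ∀ u : M, (o ^ (2 ^ n)) • u = u
  fixc : O ≤ St X c
  norm : ∀ s ∈ St X c, ∀ o ∈ O, s * o * s⁻¹ ∈ O
  Tc : T ≤ St X c
  fixT : ∀ u : M, (∀ t ∈ T, t • u = u) → u ∈ c
  ry : r ≤ y
  rne : ∃ u ∈ r, u ≠ 0
  rT : ∀ t ∈ T, t • y = y → ∀ u ∈ r, t • u = u

namespace Hyp

variable {y K : AddSubgroup M} {A : Subgroup X} {c r : AddSubgroup M} {O T : Subgroup X} [Finite M]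
  (D : Hyp y K A c r O T)
include D

/-- (A) -/
theorem hA {s : X} (hs : s ∈ St X c) {g : AddSubgroup M} (hg : g ∈ Ax X K) (hgv : ¬ s • y ≤ g) : ¬ c ≤ g := by
  intro hcg
  obtain ⟨x', hx', hxy'⟩ := D.adj_symm hg ⟨s, rfl, hgv⟩
  obtain ⟨a0, ha0, ha0K⟩ := SetLike.not_le_iff_exists.1 hxy'
  obtain ⟨e0, he0, he0g⟩ := SetLike.not_le_iff_exists.1 hgv
  obtain ⟨a, ha, h1⟩ := D.fullx s ha0K he0
  rw [← hx'] at he0g hcg
  obtain ⟨b, hb, h2⟩ := D.fullx x' he0g ha0
  have h3 : (s * a * s⁻¹) • e0 = e0 := (D.trx s ha).2 e0 (D.lex s he0)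
  have h4 : (x' * b * x'⁻¹) • a0 = a0 := (D.trx x' hb).2 a0 (D.lex x' ha0)
  obtain ⟨e1, e2⟩ := ord D.two (D.inv s ha) (D.inv x' hb) h1 h3 h2 h4
  have h5 : x' * b * x'⁻¹ ∈ St X c := fun z hz => (D.trx x' hb).2 z (hcg hz)
  have h6 : s * a * s⁻¹ ∈ O := D.norm s hs a (D.AO ha)
  have hO := O.mul_mem h6 (D.norm _ h5 _ (O.inv_mem h6))
  obtain ⟨n, hn⟩ := D.two' _ hO
  have e3 : (s * a * s⁻¹ * (x' * b * x'⁻¹ * (s * a * s⁻¹)⁻¹ * (x' * b * x'⁻¹)⁻¹)) • (a0 + e0) = a0 := by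
    rw [smul_add, e1, e2, add_comm a0 e0, ← add_assoc, D.two, zero_add]
  refine order3 e1 e2 e3 ?_ (hn a0)
  rintro rfl
  exact ha0K (D.lex s he0)

omit D in
/-- what (B) needs from `R` -/
structure Rel (y K : AddSubgroup M) (s : X) (R : AddSubgroup M) : Prop where
  ne : ∃ z ∈ R, z ≠ 0
  dich : ∀ g ∈ Ax X K, ∀ u ∈ R, u ∈ g → u ≠ 0 → R ≤ g
  miss : ∀ g ∈ Ax X K, ¬ s • y ≤ g → ¬ R ≤ g

/-- (B), first step -/
theorem B1 {s : X} {R : AddSubgroup M} (H : Rel y K s R) {u h : AddSubgroup M} (hu : u ∈ Ax X K)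
    (hh : h ∈ Ax X K) (hvu : ¬ s • y ≤ u) (hA : Adj X y K u h) (hvh : s • y ≤ h) : R ≤ h := by
  by_contra hch
  obtain ⟨x, hx, hah⟩ := hA
  obtain ⟨z, hz, hz0⟩ := H.ne
  have hcu := H.miss u hu hvu
  have hzu : z ∉ u := fun h1 => hcu (H.dich u hu z hz h1 hz0)
  rw [← hx] at hzu
  obtain ⟨a, ha, hzt⟩ := D.cover x hh hah hzu
  set t := x * a * x⁻¹ with ht
  have hth : t • h ∈ Ax X K := Tri.ax_smul hh t
  have hct : R ≤ t • h := H.dich _ hth z hz hzt hz0
  by_cases hvt : s • y ≤ t • h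
  · obtain ⟨v0, hv0, hv00⟩ := D.nex s
    have hv0u : v0 ∉ x • K := by
      rw [hx]
      exact D.not_mem hu hvu hv0 hv00
    obtain ⟨w, hw, htw⟩ := (D.trx x ha).1 v0
    have h1 : v0 ∈ t • h := hvt hv0
    rw [AddSubgroup.mem_pointwise_smul_iff_inv_smul_mem, ht, D.inv x ha, htw] at h1
    have h3 : w ∈ h := by
      have := h.sub_mem h1 (hvh hv0)
      rwa [add_sub_cancel_left] at this
    have h4 : w = 0 := by
      by_contra h5
      exact D.not_mem hh hah hw h5 h3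
    rw [h4, add_zero] at htw
    have h5 := D.trivx x ha hv0u htw
    have h6 : t • h = h := by
      ext m
      rw [AddSubgroup.mem_smul_pointwise_iff_exists]
      constructor
      · rintro ⟨s, hs, rfl⟩
        rwa [ht, h5 s]
      · intro hm
        exact ⟨m, hm, h5 m⟩
    rw [h6] at hct
    exact hch hct
  · exact H.miss _ hth hvt hct

/-- (B), second step -/
theorem B2 {s : X} {R : AddSubgroup M} (H : Rel y K s R) {u h : AddSubgroup M} (hu : u ∈ Ax X K)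
    (hh : h ∈ Ax X K) (hvu : ¬ s • y ≤ u) (hA : Adj X y K u h) {x z : M} (hx : x ∈ s • y) (hz : z ∈ R)
    (hxz : x + z ∈ u) : x + z ∈ h := by
  obtain ⟨p, hp, hah⟩ := hA
  by_cases hx0 : x = 0
  · subst hx0
    rw [zero_add] at hxz ⊢
    by_cases hz0 : z = 0
    · rw [hz0]; exact h.zero_mem
    · exact absurd (H.dich u hu z hz hxz hz0) (H.miss u hu hvu)
  · have hxu : x ∉ p • K := by
      rw [hp]
      exact D.not_mem hu hvu hx hx0
    obtain ⟨a, ha, hxt⟩ := D.cover p hh hah hxu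
    set t := p * a * p⁻¹ with ht
    have hth : t • h ∈ Ax X K := Tri.ax_smul hh t
    have hvt : s • y ≤ t • h := D.dich hth hx hxt hx0
    have hat : ¬ p • y ≤ t • h := by
      intro h1
      apply hah
      rw [← D.smul_eq p ha (D.lex p)] at h1
      exact AddSubgroup.pointwise_smul_le_pointwise_smul_iff.1 h1
    have hct := D.B1 H hu hth hvu ⟨p, hp, hat⟩ hvt
    have h1 : x + z ∈ t • h := (t • h).add_mem hxt (hct hz)
    rw [AddSubgroup.mem_pointwise_smul_iff_inv_smul_mem, ht, D.inv p ha] at h1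
    rw [← hp] at hxz
    rwa [(D.trx p ha).2 _ hxz] at h1

/-- (B) -/
theorem B {s : X} {R : AddSubgroup M} (H : Rel y K s R) {z : M} (hz : z ∈ R) :
    ∃ x ∈ s • y, ∀ h, Cn X y K (s • K) h → x + z ∈ h ∧ (s • y ≤ h → R ≤ h) := by
  obtain ⟨v0, hv0, hv00⟩ := D.nex s
  obtain ⟨u0, hu0, hvu0⟩ := D.exists_not_mem hv00
  have hvu0' : ¬ s • y ≤ u0 := fun h => hvu0 (h hv0)
  have hadj0 : Adj X y K u0 (s • K) := D.adj_symm hu0 ⟨s, rfl, hvu0'⟩
  obtain ⟨x, hx, n, hn, hxz⟩ := D.sup hu0 hvu0' z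
  have hxz' : x + z ∈ u0 := by
    rw [hxz, ← add_assoc, D.two, zero_add]
    exact hn
  refine ⟨x, hx, fun h hh => ?_⟩
  have key : h ∈ Ax X K ∧ ((¬ s • y ≤ h ∧ x + z ∈ h) ∨
      (s • y ≤ h ∧ R ≤ h ∧ ∃ u ∈ Ax X K, ¬ s • y ≤ u ∧ Adj X y K u h ∧ x + z ∈ u)) := by
    induction hh with
    | refl =>
      have hsK : s • K ∈ Ax X K := ⟨s, rfl⟩
      exact ⟨hsK, Or.inr ⟨D.lex s, D.B1 H hu0 hsK hvu0' hadj0 (D.lex s), u0, hu0, hvu0', hadj0, hxz'⟩⟩
    | @tail h h' _ hstep ih =>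
      obtain ⟨hh, hh', hadj⟩ := hstep
      refine ⟨hh', ?_⟩
      -- a neighbour in A1 decides
      have fin : ∀ u ∈ Ax X K, ¬ s • y ≤ u → Adj X y K u h' → x + z ∈ u →
          ((¬ s • y ≤ h' ∧ x + z ∈ h') ∨
            (s • y ≤ h' ∧ R ≤ h' ∧ ∃ u ∈ Ax X K, ¬ s • y ≤ u ∧ Adj X y K u h' ∧ x + z ∈ u)) := by
        intro u hu hvu huh hxu
        by_cases hvh : s • y ≤ h'
        · exact Or.inr ⟨hvh, D.B1 H hu hh' hvu huh hvh, u, hu, hvu, huh, hxu⟩
        · exact Or.inl ⟨hvh, D.B2 H hu hh' hvu huh hx hz hxu⟩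
      rcases ih.2 with ⟨hvh, hxh⟩ | ⟨hvh, hch, u, hu, hvu, huh, hxu⟩
      · exact fin h hh hvh hadj hxh
      · by_cases huh' : Adj X y K u h'
        · exact fin u hu hvu huh' hxu
        · obtain ⟨p, hp, hah⟩ := huh
          -- a third axis of the dual line
          have hv0u : v0 ∉ p • K := by
            rw [hp]
            exact D.not_mem hu hvu hv0 hv00
          obtain ⟨a0, ha0, ha00⟩ := D.nex p
          obtain ⟨a, ha, htv⟩ := D.fullx p hv0u ha0
          set t := p * a * p⁻¹ with ht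
          have hvt : ¬ s • y ≤ t • h := by
            intro h1
            have h2 := h1 hv0
            rw [AddSubgroup.mem_pointwise_smul_iff_inv_smul_mem, ht, D.inv p ha, htv] at h2
            have h4 : a0 ∈ h := by
              have := h.sub_mem h2 (hvh hv0)
              rwa [add_sub_cancel_left] at this
            exact D.not_mem hh hah ha0 ha00 h4
          have hth : t • h ∈ Ax X K := Tri.ax_smul hh t
          have hat : ¬ p • y ≤ t • h := by
            intro h1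
            apply hah
            rw [← D.smul_eq p ha (D.lex p)] at h1
            exact AddSubgroup.pointwise_smul_le_pointwise_smul_iff.1 h1
          obtain ⟨b, hb, hbh⟩ := D.adj_symm hh' hadj
          have hbu : b • y ≤ u := by
            by_contra h1
            exact huh' (D.adj_symm hu ⟨b, hb, h1⟩)
          have hbt : ¬ b • y ≤ t • h := by
            intro h1
            apply hbh
            rw [← hp] at hbu
            rw [← D.smul_eq p ha hbu] at h1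
            exact AddSubgroup.pointwise_smul_le_pointwise_smul_iff.1 h1
          have hth' : Adj X y K (t • h) h' := D.adj_symm hth ⟨b, hb, hbt⟩
          exact fin (t • h) hth hvt hth' (D.B2 H hu hth hvu ⟨p, hp, hat⟩ hx hz hxu)
  rcases key.2 with ⟨h0, h1⟩ | ⟨h1, h2, -⟩
  · exact ⟨h1, fun h2 => absurd h2 h0⟩
  · exact ⟨h.add_mem (h1 hx) (h2 hz), fun _ => h2⟩

theorem relc {s : X} (hs : s ∈ St X c) : Rel y K s c where
  ne := D.cne
  dich := by
    rintro _ ⟨x, rfl⟩ u hu hug hu0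
    exact D.cd x u hu hug hu0
  miss := fun g hg hgv => D.hA hs hg hgv

omit [Finite M] D in
/-- an axis outside of the component of `s • K` contains `s • y` -/
theorem le_of_not_cn {s : X} {g : AddSubgroup M} (hg : g ∈ Ax X K) (h : ¬ Cn X y K (s • K) g) : s • y ≤ g := by
  by_contra h1
  exact h (Relation.ReflTransGen.single ⟨⟨s, rfl⟩, hg, s, rfl, h1⟩)

/-- (C') -/
theorem C0 {s s' : X} (hs : s ∈ St X c) (hs' : s' ∈ St X c) (hh : Cn X y K (s • K) (s' • K)) :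
    s' • y ≤ s • y := by
  obtain ⟨z0, hz0, -⟩ := D.cne
  have H : Rel y K s (s' • y) := by
    refine ⟨D.nex s', fun g hg u hu hug hu0 => D.dich hg hu hug hu0, fun g hg hgv hle => ?_⟩
    have h1 : Cn X y K (s • K) g := Relation.ReflTransGen.single ⟨⟨s, rfl⟩, hg, s, rfl, hgv⟩
    obtain ⟨_, _, h2⟩ := D.B (D.relc hs') hz0
    exact D.hA hs hg hgv ((h2 g ((D.cn_symm hh).trans h1)).2 hle)
  intro z hz
  obtain ⟨x, hx, h1⟩ := D.B H hz
  have h2 : x + z = 0 := by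
    refine D.zero _ fun p => ?_
    have hg : p • K ∈ Ax X K := ⟨p, rfl⟩
    by_cases h3 : Cn X y K (s • K) (p • K)
    · exact (h1 _ h3).1
    · exact (p • K).add_mem (le_of_not_cn hg h3 hx) (le_of_not_cn hg (fun h => h3 (hh.trans h)) hz)
  have h3 : z = x := by
    rw [← D.add_add z x, add_comm z x, h2, zero_add]
  rw [h3]
  exact hx

theorem C1 {s s' : X} (hs : s ∈ St X c) (hs' : s' ∈ St X c) (hh : Cn X y K (s • K) (s' • K)) : s' • y = s • y :=
  le_antisymm (D.C0 hs hs' hh) (D.C0 hs' hs (D.cn_symm hh))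

/-- the trace -/
theorem trace {u : M} (hu : u ∈ r) : ∃ z ∈ c, ∀ h, Cn X y K K h → u + z ∈ h := by
  classical
  set F : Finset M := (Set.toFinite (orbit T u)).toFinset with hF
  have hmem : ∀ w, w ∈ F ↔ w ∈ orbit T u := fun w => Set.Finite.mem_toFinset _
  have huF : u ∈ F := (hmem u).2 (mem_orbit_self u)
  refine ⟨∑ w ∈ F, w, D.fixT _ fun t ht => ?_, fun h hh => ?_⟩
  · rw [Finset.smul_sum]
    refine Finset.sum_bij (fun w _ => t • w) (fun w hw => ?_) (fun w _ w' _ h => smul_left_cancel t h)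
      (fun w hw => ?_) fun w _ => rfl
    · rw [hmem] at hw ⊢
      obtain ⟨t', rfl⟩ := hw
      exact ⟨⟨t, ht⟩ * t', mul_smul _ _ _⟩
    · rw [hmem] at hw
      obtain ⟨t', rfl⟩ := hw
      refine ⟨t⁻¹ • (t' • u), (hmem _).2 ⟨⟨t, ht⟩⁻¹ * t', mul_smul _ _ _⟩, smul_inv_smul t _⟩
  · have hh' : h ∈ Ax X K := by
      rcases Relation.ReflTransGen.cases_tail hh with h1 | ⟨g, -, h1⟩
      · exact ⟨1, by rw [one_smul, h1]⟩
      · exact h1.2.1
    rw [← Finset.add_sum_erase F (fun w => w) huF, ← add_assoc, D.two, zero_add]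
    refine AddSubgroup.sum_mem _ fun w hw => ?_
    rw [Finset.mem_erase] at hw
    obtain ⟨hwu, hw⟩ := hw
    rw [hmem] at hw
    obtain ⟨⟨t, ht⟩, rfl⟩ := hw
    have hwu' : t • u ≠ u := hwu
    change t • u ∈ h
    have h1 : ¬ Cn X y K (t • K) h := by
      intro h2
      have h3 : Cn X y K ((1 : X) • K) (t • K) := by
        rw [one_smul]
        exact hh.trans (D.cn_symm h2)
      have h4 := D.C1 (St X c).one_mem (D.Tc ht) h3
      rw [one_smul] at h4
      exact hwu' (D.rT t ht h4 u hu)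
    exact le_of_not_cn hh' h1 (smul_mem_smul (D.ry hu) t)

/-- (C) -/
theorem C {s s' : X} (hs : s ∈ St X c) (hs' : s' ∈ St X c) (hh : Cn X y K (s • K) (s' • K)) {x : M} (hx : x ∈ r) :
    s • x = s' • x := by
  obtain ⟨z, hz, hxz⟩ := D.trace hx
  have one : ∀ s ∈ St X c, ∀ g, Cn X y K (s • K) g → s • x + z ∈ g := by
    intro s hs g hg
    have h1 := Tri.cn_conj hg s⁻¹
    rw [inv_smul_smul] at h1
    have h2 := hxz _ h1
    rw [AddSubgroup.mem_pointwise_smul_iff_inv_smul_mem, inv_inv, smul_add, hs z hz] at h2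
    exact h2
  have key : s • x - s' • x = 0 := by
    refine D.zero _ fun p => ?_
    have hg : p • K ∈ Ax X K := ⟨p, rfl⟩
    by_cases h1 : Cn X y K (s • K) (p • K)
    · have h2 := one s hs _ h1
      have h3 := one s' hs' _ ((D.cn_symm hh).trans h1)
      have := (p • K).sub_mem h2 h3
      rwa [add_sub_add_right_eq_sub] at this
    · have h2 := le_of_not_cn hg h1 (smul_mem_smul (D.ry hx) s)
      have h3 := le_of_not_cn hg (fun h => h1 (hh.trans h)) (smul_mem_smul (D.ry hx) s')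
      exact (p • K).sub_mem h2 h3
  exact sub_eq_zero.1 key

/-- (D), one transvection -/
theorem D1 {e0 z0 : M} (he0 : e0 ∈ r) (he00 : e0 ≠ 0) (hz0 : z0 ∈ c)
    (hz00 : z0 ≠ 0) {s : X} (hs : s ∈ St X c) (hne : s • e0 ≠ e0) :
    ∃ α : M, α ∉ s • K ∧ (∃ p : X, ¬ s • y ≤ p • K ∧ α ∈ p • y) ∧ (∃ p : X, ¬ s • y ≤ p • K ∧ α + s • e0 ∈ p • y) ∧
      (∃ x ∈ St X r, x • z0 = z0 + α) ∧ (∃ x ∈ St X r, x • z0 = z0 + (α + s • e0)) := by
  have step : ∀ p : X, ¬ s • y ≤ p • K → ∀ α ∈ p • y, ∃ x ∈ St X r, x • z0 = z0 + α := by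
    intro p hsh α hα
    have hh : p • K ∈ Ax X K := ⟨p, rfl⟩
    have h1 : y ≤ p • K := by
      by_contra h2
      apply hne
      have h3 : Cn X y K (s • K) ((1 : X) • K) := by
        refine Relation.ReflTransGen.trans (Relation.ReflTransGen.single ⟨⟨s, rfl⟩, hh, s, rfl, hsh⟩)
          (D.cn_symm (Relation.ReflTransGen.single ⟨⟨1, rfl⟩, hh, 1, rfl, ?_⟩))
        rwa [one_smul]
      have := D.C hs (St X c).one_mem h3 he0
      rwa [one_smul] at this
    have h2 : z0 ∉ p • K := fun h2 => D.hA hs hh hsh (D.cd p z0 hz0 h2 hz00)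
    obtain ⟨a, ha, hxz⟩ := D.fullx p h2 hα
    exact ⟨p * a * p⁻¹, fun w hw => (D.trx p ha).2 w (h1 (D.ry hw)), hxz⟩
  have hse0 : s • e0 ≠ 0 := by
    intro h
    exact he00 ((smul_eq_zero_iff_eq s).1 h)
  have hsem : s • e0 ∈ s • y := smul_mem_smul (D.ry he0) s
  obtain ⟨h, hh, hsh⟩ := D.exists_not_mem hse0
  have hsh' : ¬ s • y ≤ h := fun h1 => hsh (h1 hsem)
  obtain ⟨p, rfl, haf⟩ := D.adj_symm hh ⟨s, rfl, hsh'⟩
  obtain ⟨α, hα, hαf⟩ := SetLike.not_le_iff_exists.1 haf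
  obtain ⟨a, ha, htα⟩ := D.fullx s hαf hsem
  have h2 : ¬ s • y ≤ (s * a * s⁻¹ * p) • K := by
    intro h1
    apply hsh'
    rw [mul_smul, ← D.smul_eq s ha (D.lex s)] at h1
    exact AddSubgroup.pointwise_smul_le_pointwise_smul_iff.1 h1
  have h3 : α + s • e0 ∈ (s * a * s⁻¹ * p) • y := by
    rw [← htα, mul_smul]
    exact smul_mem_smul hα _
  exact ⟨α, hαf, ⟨p, hsh', hα⟩, ⟨_, h2, h3⟩, step p hsh' α hα, step _ h2 _ h3⟩

/-- (D), distinctness -/
theorem D2 {s s' p p' : X} (hs : s ∈ St X c) (hs' : s' ∈ St X c) (h1 : ¬ s • y ≤ p • K) (h1' : ¬ s' • y ≤ p' • K)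
    {b : M} (hb : b ∈ p • y) (hb' : b ∈ p' • y) (hb0 : b ≠ 0) {x : M} (hx : x ∈ r) :
    s • x = s' • x := by
  obtain ⟨g, hg, hgb⟩ := D.exists_not_mem hb0
  refine D.C hs hs' ?_ hx
  refine Relation.ReflTransGen.trans (Relation.ReflTransGen.single ⟨⟨s, rfl⟩, ⟨p, rfl⟩, s, rfl, h1⟩) ?_
  refine Relation.ReflTransGen.trans (Relation.ReflTransGen.single ⟨⟨p, rfl⟩, hg, p, rfl, fun h => hgb (h hb)⟩) ?_
  refine D.cn_symm (Relation.ReflTransGen.trans
    (Relation.ReflTransGen.single ⟨⟨s', rfl⟩, ⟨p', rfl⟩, s', rfl, h1'⟩) ?_)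
  exact Relation.ReflTransGen.single ⟨⟨p', rfl⟩, hg, p', rfl, fun h => hgb (h hb')⟩

/-- an element of `X_c` which fixes one vector `≠ 0` of `r` centralises `r` -/
theorem St_of_fix {e0 : M} (he0 : e0 ∈ r) (he00 : e0 ≠ 0) {s : X} (hs : s ∈ St X c) (h : s • e0 = e0) :
    s ∈ St X r := by
  obtain ⟨g, hg, hge⟩ := D.exists_not_mem he00
  intro x hx
  have h3 : Cn X y K (s • K) ((1 : X) • K) := by
    refine Relation.ReflTransGen.trans (Relation.ReflTransGen.single ⟨⟨s, rfl⟩, hg, s, rfl, fun h1 => ?_⟩)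
      (D.cn_symm (Relation.ReflTransGen.single ⟨⟨1, rfl⟩, hg, 1, rfl, fun h1 => ?_⟩))
    · exact hge (h1 (by rw [← h]; exact smul_mem_smul (D.ry he0) s))
    · rw [one_smul] at h1
      exact hge (h1 (D.ry he0))
  have := D.C hs (St X c).one_mem h3 hx
  rwa [one_smul] at this

/-- **THEOREM LN(q₀, q).** -/
theorem meet [Finite X] (hcard : Nat.card (St X r) ≤ Nat.card (St X c)) : ∃ u ∈ c, u ∈ r ∧ u ≠ 0 := by
  classical
  obtain ⟨e0, he0, he00⟩ := D.rne
  obtain ⟨z0, hz0, hz00⟩ := D.cne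
  set Xc := St X c with hXc
  set Xr := St X r with hXr
  -- the two orbits
  set A' : Set M := orbit Xc e0 with hA
  set B' : Set M := orbit Xr z0 with hB
  have hfinA : A'.Finite := Set.toFinite _
  have hfinB : B'.Finite := Set.toFinite _
  have hcB : z0 ∈ B' := mem_orbit_self z0
  have heA : e0 ∈ A' := mem_orbit_self e0
  have hBm : ∀ u, (∃ x ∈ Xr, x • z0 = u) → u ∈ B' := by
    rintro u ⟨x, hx, rfl⟩
    exact ⟨⟨x, hx⟩, rfl⟩
  -- the numbers
  have key : 2 * (A' \ {e0}).ncard ≤ (B' \ {z0}).ncard := by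
    have hex : ∀ v : ↥(A' \ {e0}), ∃ (s : X) (α : M), s ∈ St X c ∧ s • e0 = v ∧ α ∉ s • K ∧
        (∃ p : X, ¬ s • y ≤ p • K ∧ α ∈ p • y) ∧ (∃ p : X, ¬ s • y ≤ p • K ∧ α + s • e0 ∈ p • y) ∧
        (∃ x ∈ St X r, x • z0 = z0 + α) ∧ (∃ x ∈ St X r, x • z0 = z0 + (α + s • e0)) := by
      rintro ⟨_, ⟨⟨s, hs⟩, rfl⟩, hne⟩
      obtain ⟨α, h1, h2, h3, h4, h5⟩ := D.D1 he0 he00 hz0 hz00 hs hne
      exact ⟨s, α, hs, rfl, h1, h2, h3, h4, h5⟩
    choose s α hs hsv hαf h0 h1 k0 k1 using hex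
    have hvf : ∀ v, s v • e0 ∈ s v • K := fun v => smul_mem_smul (D.le (D.ry he0)) _
    have hnf : ∀ (v : ↥(A' \ {e0})) (i : Bool), (if i then α v + s v • e0 else α v) ∉ s v • K := by
      intro v i hmem
      split_ifs at hmem
      · apply hαf v
        have := (s v • K).sub_mem hmem (hvf v)
        rwa [add_sub_cancel_right] at this
      · exact hαf v hmem
    have hne0 : ∀ (v : ↥(A' \ {e0})) (i : Bool), (if i then α v + s v • e0 else α v) ≠ 0 := by
      intro v i h2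
      apply hnf v i
      rw [h2]
      exact (s v • K).zero_mem
    let φ : ↥(A' \ {e0}) × Bool → ↥(B' \ {z0}) := fun p =>
      ⟨z0 + (if p.2 then α p.1 + s p.1 • e0 else α p.1), by
        constructor
        · rcases p with ⟨v, _ | _⟩
          · exact hBm _ (k0 v)
          · exact hBm _ (k1 v)
        · intro h
          exact hne0 p.1 p.2 (by simpa using h)⟩
    have hφ : Function.Injective φ := by
      rintro ⟨v, i⟩ ⟨v', j⟩ h
      have h2 : (if i then α v + s v • e0 else α v) = (if j then α v' + s v' • e0 else α v') := by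
        have := congrArg Subtype.val h
        exact add_left_cancel this
      have e1 : ∃ p : X, ¬ s v • y ≤ p • K ∧ (if i then α v + s v • e0 else α v) ∈ p • y := by
        split_ifs
        · exact h1 v
        · exact h0 v
      have e2 : ∃ p : X, ¬ s v' • y ≤ p • K ∧ (if j then α v' + s v' • e0 else α v') ∈ p • y := by
        split_ifs
        · exact h1 v'
        · exact h0 v'
      obtain ⟨g, hgv, hba⟩ := e1
      obtain ⟨g', hgv', hba'⟩ := e2
      rw [← h2] at hba'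
      have h3 : (v : M) = v' := by
        rw [← hsv v, ← hsv v']
        exact D.D2 (hs v) (hs v') hgv hgv' hba hba' (hne0 v i) he0
      have h4 : v = v' := Subtype.ext h3
      subst h4
      have h6 : s v • e0 ≠ 0 := fun h => he00 ((smul_eq_zero_iff_eq _).1 h)
      have h5 : i = j := by
        rcases i <;> rcases j
        · rfl
        · exfalso
          apply h6
          simpa using h2
        · exfalso
          apply h6
          simpa using h2
        · rfl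
      rw [h5]
    have h2 := Nat.card_le_card_of_injective φ hφ
    rw [Nat.card_prod, Nat.card_eq_fintype_card (α := Bool), Fintype.card_bool, mul_comm] at h2
    rwa [← Nat.card_coe_set_eq, ← Nat.card_coe_set_eq]
  have hA1 : (A' \ {e0}).ncard + 1 = A'.ncard := Set.ncard_sdiff_singleton_add_one heA hfinA
  have hB1 : (B' \ {z0}).ncard + 1 = B'.ncard := Set.ncard_sdiff_singleton_add_one hcB hfinB
  -- orbits and stabilisers
  have hsA : A'.ncard * Nat.card (stabilizer Xc e0) = Nat.card Xc := by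
    rw [← Nat.card_coe_set_eq]
    have := Nat.card_congr (orbitProdStabilizerEquivGroup Xc e0)
    rwa [Nat.card_prod] at this
  have hsB : B'.ncard * Nat.card (stabilizer Xr z0) = Nat.card Xr := by
    rw [← Nat.card_coe_set_eq]
    have := Nat.card_congr (orbitProdStabilizerEquivGroup Xr z0)
    rwa [Nat.card_prod] at this
  have hs : Nat.card (stabilizer Xc e0) ≤ Nat.card (stabilizer Xr z0) := by
    refine Nat.card_le_card_of_injective
      (fun x => (⟨⟨x.1.1, D.St_of_fix he0 he00 x.1.2 (mem_stabilizer_iff.1 x.2)⟩, x.1.2 z0 hz0⟩ :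
        stabilizer Xr z0)) ?_
    intro x y hxy
    have h1 := congrArg (fun w : stabilizer Xr z0 => (w.1.1 : X)) hxy
    exact Subtype.ext (Subtype.ext h1)
  have hpos : 0 < Nat.card (stabilizer Xc e0) := Nat.card_pos
  have h1 : B'.ncard ≤ A'.ncard := by
    have h2 : B'.ncard * Nat.card (stabilizer Xc e0) ≤ A'.ncard * Nat.card (stabilizer Xc e0) := by
      rw [hsA]
      refine le_trans ?_ hcard
      rw [← hsB]
      exact Nat.mul_le_mul_left _ hs
    exact Nat.le_of_mul_le_mul_right h2 hpos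
  have h2 : (A' \ {e0}).ncard = 0 := by omega
  have h3 : A' \ {e0} = ∅ := (Set.ncard_eq_zero (hfinA.subset Set.sdiff_subset)).1 h2
  have hfix : ∀ s ∈ St X c, s • e0 = e0 := by
    intro s hs
    have h5 : s • e0 ∈ A' := ⟨⟨s, hs⟩, rfl⟩
    by_contra h6
    have h7 : s • e0 ∈ A' \ {e0} := ⟨h5, h6⟩
    rw [h3] at h7
    exact h7
  exact ⟨e0, D.fixT e0 fun t ht => hfix t (D.Tc ht), he0, he00⟩

end Hyp

end Cfsg.Agent.Omega.NOThreeL.LNField
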