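import Cfsg.Agent.Omega.NOThreeL.LNField
import Cfsg.Agent.Omega.NOThreeL.AdjTransv

/-!
# THEOREM LN(q₀, q) for groups (NO-3L, CARD 18022, case (c): field automorphisms)

`SitF V Q S Z y r U H` : `U = ⟨Z^H⟩` is elementary abelian, `C_G(Z) ≤ H`, `Q` is a normal 2-subgroup of `C_G(Z)`,
`S ≤ C_G(Z)` a 2-group with `C_U(S) ≤ Z`; a conjugate `V^h`, `h ∈ H`, which centralises a vector `≠ 1` of `Z`
centralises `Z`; `V ≤ Q` acts on `U` as a full group of transvections with axis `C_U(V)` and centre `y ≤ U`,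
`|U : C_U(V)| = |y|`, and `y ∩ y^h ≠ 1` implies `[V, V^h] = 1`; `r ≤ y` is centralised by `N_S(y)`, and
`|C_G(r)| ≤ |C_G(Z)|`. Then `Z ∩ r ≠ 1` (`SitF.meet`).
-/

set_option autoImplicit false

namespace Cfsg.Agent.Omega.NOThreeL.LNFieldGroup

open Subgroup
open scoped Pointwise
open Cfsg.Agent.Omega.NOThreeL.LNField

variable {G : Type*} [Group G]

/-- the group form -/
structure SitF (V Q S Z y r U H : Subgroup G) : Prop where
  sq : ∀ u ∈ U, u * u = 1
  nU : ∀ h ∈ H, ∀ u ∈ U, h * u * h⁻¹ ∈ U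
  ZU : Z ≤ U
  CH : centralizer (Z : Set G) ≤ H
  ti : ∀ h ∈ H, ∀ z ∈ Z, z ≠ 1 → (∀ v ∈ V, h * v * h⁻¹ * z = z * (h * v * h⁻¹)) →
    ∀ w ∈ Z, ∀ v ∈ V, h * v * h⁻¹ * w = w * (h * v * h⁻¹)
  gen : ∀ N : Subgroup G, Z ≤ N → N ≤ U → (∀ h ∈ H, ∀ n ∈ N, h * n * h⁻¹ ∈ N) → U ≤ N
  Z1 : Z ≠ ⊥
  S2 : IsPGroup 2 S
  SC : S ≤ centralizer (Z : Set G)
  fixS : ∀ u ∈ U, (∀ s ∈ S, s * u = u * s) → u ∈ Z
  QC : Q ≤ centralizer (Z : Set G)
  Qn : ∀ g ∈ centralizer (Z : Set G), ∀ q ∈ Q, g * q * g⁻¹ ∈ Q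
  Q2 : IsPGroup 2 Q
  VQ : V ≤ Q
  yU : y ≤ U
  act : ∀ a ∈ V, ∀ u ∈ U, a * u * a⁻¹ * u⁻¹ ∈ y
  cy : ∀ a ∈ V, ∀ u ∈ y, a * u = u * a
  fix : ∀ a ∈ V, ∀ u ∈ U, a * u = u * a → (∀ b ∈ V, b * u = u * b) ∨ ∀ w ∈ U, a * w = w * a
  surj : ∀ u ∈ U, (∃ b ∈ V, b * u ≠ u * b) → ∀ w ∈ y, ∃ a ∈ V, a * u * a⁻¹ * u⁻¹ = w
  ne : ∃ u ∈ U, ∃ b ∈ V, b * u ≠ u * b
  com : ∀ h ∈ H, ∀ u ∈ y, h⁻¹ * u * h ∈ y → u ≠ 1 → ∀ a ∈ V, ∀ b ∈ V,
    a * (h * b * h⁻¹) = h * b * h⁻¹ * a
  card : Nat.card y * Nat.card ↥(U ⊓ centralizer (V : Set G)) = Nat.card U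
  ry : r ≤ y
  r1 : r ≠ ⊥
  rS : ∀ s ∈ S, (∀ u ∈ y, s * u * s⁻¹ ∈ y) → ∀ u ∈ r, s * u = u * s
  rcard : Nat.card (centralizer (r : Set G)) ≤ Nat.card (centralizer (Z : Set G))

/-- **THEOREM LN(q₀, q), group form.** -/
theorem SitF.meet [Finite G] {V Q S Z y r U H : Subgroup G} (D : SitF V Q S Z y r U H) : Z ⊓ r ≠ ⊥ := by
  classical
  have comm : ∀ {u w : G}, u ∈ U → w ∈ U → u * w = w * u := fun {u w} hu hw => by
    have h1 := D.sq _ (mul_mem hu hw)
    have h2 := D.sq u hu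
    have h3 := D.sq w hw
    calc u * w = u * (u * w * (u * w)) * w := by rw [h1, mul_one]
      _ = (u * u) * (w * u) * (w * w) := by simp only [mul_assoc]
      _ = w * u := by rw [h2, h3, one_mul, mul_one]
  have hVH : V ≤ H := (D.VQ.trans D.QC).trans D.CH
  -- the module
  let i0 : CommGroup U :=
    { (inferInstance : Group U) with
      mul_comm := fun a b => Subtype.ext (comm a.2 b.2) }
  let M := Additive U
  let i1 : AddCommGroup M := inferInstanceAs (AddCommGroup (Additive U))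
  let i3 : DistribMulAction H M :=
    { smul := fun x a => Additive.ofMul ⟨(x : G) * (Additive.toMul a : U) * (x : G)⁻¹,
        D.nU x x.2 _ (Additive.toMul a : U).2⟩
      one_smul := fun a => Subtype.ext (by
        change (1 : G) * ((Additive.toMul a : U) : G) * (1 : G)⁻¹ = ((Additive.toMul a : U) : G)
        rw [one_mul, inv_one, mul_one])
      mul_smul := fun a b c => Subtype.ext (by
        change ((a : G) * b) * ((Additive.toMul c : U) : G) * ((a : G) * b)⁻¹ =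
          (a : G) * ((b : G) * ((Additive.toMul c : U) : G) * (b : G)⁻¹) * (a : G)⁻¹
        rw [mul_inv_rev]; simp only [mul_assoc])
      smul_zero := fun a => Subtype.ext (by
        change (a : G) * 1 * (a : G)⁻¹ = 1
        rw [mul_one, mul_inv_cancel])
      smul_add := fun a b c => Subtype.ext (by
        change (a : G) * (((Additive.toMul b : U) : G) * ((Additive.toMul c : U) : G)) * (a : G)⁻¹ =
          ((a : G) * ((Additive.toMul b : U) : G) * (a : G)⁻¹) * ((a : G) * ((Additive.toMul c : U) : G) * (a : G)⁻¹)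
        group) }
  have hfinM : Finite M := inferInstanceAs (Finite U)
  -- coercion to `G`
  let co : M → G := fun a => ((Additive.toMul a : U) : G)
  have co_inj : ∀ {a b : M}, co a = co b → a = b := fun h => Subtype.ext h
  have co_mem : ∀ a : M, co a ∈ U := fun a => (Additive.toMul a : U).2
  have co_add : ∀ a b : M, co (a + b) = co a * co b := fun a b => rfl
  have co_neg : ∀ a : M, co (-a) = (co a)⁻¹ := fun a => rfl
  have co_zero : co 0 = 1 := rfl
  have co_smul : ∀ (x : H) (a : M), co (x • a) = (x : G) * co a * (x : G)⁻¹ := fun x a => rfl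
  let mk : ∀ u : G, u ∈ U → M := fun u hu => Additive.ofMul ⟨u, hu⟩
  have co_mk : ∀ (u : G) (hu : u ∈ U), co (mk u hu) = u := fun u hu => rfl
  have fixed : ∀ (x : H) (a : M), x • a = a ↔ (x : G) * co a = co a * x := by
    intro x a
    constructor
    · intro h
      have h1 := congrArg co h
      rw [co_smul, mul_inv_eq_iff_eq_mul] at h1
      exact h1
    · intro h
      apply co_inj
      rw [co_smul, mul_inv_eq_iff_eq_mul]
      exact h
  let ad : Subgroup G → AddSubgroup M := fun A =>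
    { carrier := {m | co m ∈ A}
      add_mem' := fun {a b} ha hb => by
        change co (a + b) ∈ A
        rw [co_add]; exact mul_mem ha hb
      zero_mem' := one_mem A
      neg_mem' := fun {a} ha => by
        change co (-a) ∈ A
        rw [co_neg]; exact inv_mem ha }
  have mem_ad : ∀ {A : Subgroup G} {m : M}, m ∈ ad A ↔ co m ∈ A := Iff.rfl
  have mem_sad : ∀ {A : Subgroup G} {x : H} {m : M}, m ∈ x • ad A ↔ (x : G)⁻¹ * co m * x ∈ A := by
    intro A x m
    rw [AddSubgroup.mem_pointwise_smul_iff_inv_smul_mem, mem_ad, co_smul]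
    simp
  have card_ad : ∀ {A : Subgroup G}, A ≤ U → Nat.card (ad A) = Nat.card A := by
    intro A hA
    exact Nat.card_congr ⟨fun m => ⟨co m, m.2⟩, fun a => ⟨mk a (hA a.2), a.2⟩, fun m => rfl, fun a => rfl⟩
  -- the axis
  let K : AddSubgroup M := ad (centralizer (V : Set G))
  have mem_K : ∀ {m : M}, m ∈ K ↔ ∀ b ∈ V, b * co m = co m * b := by
    intro m
    rw [mem_ad, mem_centralizer_iff]
    rfl
  have not_K : ∀ {m : M}, m ∉ K → ∃ b ∈ V, b * co m ≠ co m * b := by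
    intro m hm
    rw [mem_K] at hm
    push Not at hm
    exact hm
  have mem_sK : ∀ {x : H} {m : M}, m ∈ x • K ↔ ∀ b ∈ V, (x : G) * b * (x : G)⁻¹ * co m = co m * (x * b * (x : G)⁻¹) := by
    intro x m
    rw [mem_sad, mem_centralizer_iff]
    constructor
    · intro h b hb
      have h1 : b * ((x : G)⁻¹ * co m * x) = (x : G)⁻¹ * co m * x * b := h b hb
      calc (x : G) * b * (x : G)⁻¹ * co m = x * (b * ((x : G)⁻¹ * co m * x)) * (x : G)⁻¹ := by group
        _ = x * ((x : G)⁻¹ * co m * x * b) * (x : G)⁻¹ := by rw [h1]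
        _ = co m * (x * b * (x : G)⁻¹) := by group
    · intro h b hb
      have h1 := h b hb
      calc b * ((x : G)⁻¹ * co m * x) = (x : G)⁻¹ * (x * b * (x : G)⁻¹ * co m) * x := by group
        _ = (x : G)⁻¹ * (co m * (x * b * (x : G)⁻¹)) * x := by rw [h1]
        _ = (x : G)⁻¹ * co m * x * b := by group
  have hcK : Nat.card K = Nat.card ↥(U ⊓ centralizer (V : Set G)) :=
    Nat.card_congr ⟨fun m => ⟨co m, co_mem m, m.2⟩, fun a => ⟨mk a a.2.1, a.2.2⟩, fun m => rfl, fun a => rfl⟩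
  have hcard : Nat.card (ad y) = K.index := by
    have h1 := D.card
    rw [← hcK, ← card_ad D.yU] at h1
    have h2 := AddSubgroup.card_mul_index K
    have h3 : Nat.card M = Nat.card U := rfl
    rw [h3, ← h1, mul_comm] at h2
    exact (Nat.eq_of_mul_eq_mul_right Nat.card_pos h2).symm
  have two : ∀ u : M, u + u = 0 := fun u => co_inj (by rw [co_add, co_zero]; exact D.sq _ (co_mem u))
  have exists_ne : ∀ {A : Subgroup G}, A ≤ U → A ≠ ⊥ → ∃ u ∈ ad A, u ≠ 0 := by
    intro A hA hA1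
    obtain ⟨a, ha⟩ := (Subgroup.ne_bot_iff_exists_ne_one).1 hA1
    exact ⟨mk a (hA a.2), a.2, fun h => ha (Subtype.ext (congrArg co h))⟩
  have hneK : ¬ ∀ b ∈ V, ∀ u ∈ U, b * u = u * b := by
    obtain ⟨u, hu, b, hb, h⟩ := D.ne
    exact fun h1 => h (h1 b hb u hu)
  have hzero : ∀ u : M, (∀ x : H, u ∈ x • K) → u = 0 := by
    -- the common zero
    let N : Subgroup G :=
      { carrier := {u | u ∈ U ∧ ∀ h ∈ H, ∀ v ∈ V, h * v * h⁻¹ * u = u * (h * v * h⁻¹)}
        mul_mem' := by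
          rintro u w ⟨hu, hu'⟩ ⟨hw, hw'⟩
          refine ⟨mul_mem hu hw, fun h hh v hv => ?_⟩
          rw [← mul_assoc, hu' h hh v hv, mul_assoc, hw' h hh v hv, ← mul_assoc]
        one_mem' := ⟨U.one_mem, fun h _ v _ => by rw [mul_one, one_mul]⟩
        inv_mem' := by
          rintro u ⟨hu, hu'⟩
          refine ⟨inv_mem hu, fun h hh v hv => ?_⟩
          have h1 := hu' h hh v hv
          calc h * v * h⁻¹ * u⁻¹ = u⁻¹ * (u * (h * v * h⁻¹)) * u⁻¹ := by group
            _ = u⁻¹ * (h * v * h⁻¹ * u) * u⁻¹ := by rw [h1]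
            _ = u⁻¹ * (h * v * h⁻¹) := by group }
    have hNU : N ≤ U := fun u hu => hu.1
    have hNH : ∀ h ∈ H, ∀ n ∈ N, h * n * h⁻¹ ∈ N := by
      rintro h hh n ⟨hn, hn'⟩
      refine ⟨D.nU h hh n hn, fun k hk v hv => ?_⟩
      have h1 := hn' (h⁻¹ * k) (mul_mem (inv_mem hh) hk) v hv
      calc k * v * k⁻¹ * (h * n * h⁻¹) = h * (h⁻¹ * k * v * (h⁻¹ * k)⁻¹ * n) * h⁻¹ := by group
        _ = h * (n * (h⁻¹ * k * v * (h⁻¹ * k)⁻¹)) * h⁻¹ := by rw [h1]
        _ = h * n * h⁻¹ * (k * v * k⁻¹) := by group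
    have hNbot : N = ⊥ := by
      by_contra hN
      obtain ⟨n, hn, hn1, hnS⟩ := AdjTransv.exists_fixed D.S2 hN (fun n hn => D.sq n (hNU hn))
        (fun s hs n hn => hNH s (D.CH (D.SC hs)) n hn)
      have hnZ : n ∈ Z := D.fixS n (hNU hn) fun s hs => by
        have := hnS s hs
        rwa [mul_inv_eq_iff_eq_mul] at this
      have hZN : Z ≤ N := fun w hw => ⟨D.ZU hw, fun h hh v hv => D.ti h hh n hnZ hn1 (hn.2 h hh) w hw v hv⟩
      have h1 := D.gen N hZN hNU hNH
      apply hneK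
      intro b hb u hu
      have := (h1 hu).2 1 H.one_mem b hb
      simpa using this
    intro u hu
    have huN : co u ∈ N := ⟨co_mem u, fun h hh v hv => mem_sK.1 (hu ⟨h, hh⟩) v hv⟩
    rw [hNbot, mem_bot] at huN
    exact co_inj huN
  have hy1 : y ≠ ⊥ := fun h => D.r1 (le_bot_iff.1 (D.ry.trans h.le))
  have key : Hyp (ad y) K (V.subgroupOf H) (ad Z) (ad r) (Q.subgroupOf H) (S.subgroupOf H) := by
    refine ⟨⟨two, ?_, ?_, ?_, ?_, ?_, hcard, hzero, exists_ne D.yU hy1⟩, ?_, exists_ne D.ZU D.Z1, ?_, ?_, ?_, ?_, ?_, ?_,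
      ?_, exists_ne (D.ry.trans D.yU) D.r1, ?_⟩
    · -- tr
      intro a ha
      refine ⟨fun m => ⟨mk _ (D.yU (D.act a ha _ (co_mem m))), D.act a ha _ (co_mem m), co_inj ?_⟩, fun m hm => ?_⟩
      · rw [co_smul, co_add, co_mk, comm (co_mem m) (D.yU (D.act a ha _ (co_mem m)))]
        group
      · exact (fixed a m).2 (mem_K.1 hm a ha)
    · -- le
      exact fun m hm => mem_K.2 fun b hb => D.cy b hb _ hm
    · -- full
      intro u hu w hw
      obtain ⟨a, ha, h⟩ := D.surj _ (co_mem u) (not_K hu) _ hw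
      refine ⟨⟨a, hVH ha⟩, ha, co_inj ?_⟩
      rw [co_smul, co_add, comm (co_mem u) (co_mem w), ← h]
      group
    · -- triv
      intro a ha u hu hau m
      rcases D.fix a ha _ (co_mem u) ((fixed a u).1 hau) with h | h
      · exact absurd (mem_K.2 h) hu
      · exact (fixed a m).2 (h _ (co_mem m))
    · -- com
      intro x u hu hxu hu0 a ha b hb
      have h1 := D.com x x.2 (co u) hu (mem_sad.1 hxu) (fun h => hu0 (co_inj h)) a ha b hb
      exact Subtype.ext h1
    · -- cd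
      intro x u hu hux hu0 w hw
      rw [mem_sK] at hux ⊢
      exact fun v hv => D.ti x x.2 (co u) hu (fun h => hu0 (co_inj h)) hux (co w) hw v hv
    · exact fun v hv => D.VQ hv
    · -- two'
      intro o ho
      obtain ⟨n, hn⟩ := D.Q2 ⟨(o : G), ho⟩
      refine ⟨n, fun u => ?_⟩
      have h1 : o ^ (2 ^ n) = 1 := by
        apply Subtype.ext
        have := congrArg Subtype.val hn
        exact this
      rw [h1, one_smul]
    · -- fixc
      intro o ho z hz
      exact (fixed o z).2 ((mem_centralizer_iff.1 (D.QC ho) (co z) hz).symm)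
    · -- norm
      intro s hs o ho
      refine D.Qn s ?_ o ho
      rw [mem_centralizer_iff]
      intro z hz
      exact ((fixed s (mk z (D.ZU hz))).1 (hs _ hz)).symm
    · -- Tc
      intro t ht z hz
      exact (fixed t z).2 ((mem_centralizer_iff.1 (D.SC ht) (co z) hz).symm)
    · -- fixT
      intro u hu
      refine D.fixS _ (co_mem u) fun s hs => ?_
      exact (fixed ⟨s, D.CH (D.SC hs)⟩ u).1 (hu _ hs)
    · exact fun m hm => D.ry hm
    · -- rT
      intro t ht hty u hu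
      refine (fixed t u).2 (D.rS t ht (fun w hw => ?_) _ hu)
      have h1 : t • mk w (D.yU hw) ∈ t • ad y := smul_mem_smul hw t
      rw [hty] at h1
      exact h1
  have hcard' : Nat.card (St H (ad r)) ≤ Nat.card (St H (ad Z)) := by
    have h1 : Nat.card (St H (ad r)) ≤ Nat.card (centralizer (r : Set G)) := by
      refine Nat.card_le_card_of_injective (fun x => ⟨(x.1 : G), ?_⟩) ?_
      · rw [mem_centralizer_iff]
        intro z hz
        exact ((fixed x.1 (mk z (D.yU (D.ry hz)))).1 (x.2 _ hz)).symm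
      · intro a b h
        have h3 : (a.1 : G) = b.1 := congrArg (fun w : centralizer (r : Set G) => (w : G)) h
        exact Subtype.ext (Subtype.ext h3)
    have h2 : Nat.card (centralizer (Z : Set G)) ≤ Nat.card (St H (ad Z)) := by
      refine Nat.card_le_card_of_injective (fun x => ⟨⟨(x : G), D.CH x.2⟩, ?_⟩) ?_
      · intro z hz
        exact (fixed _ z).2 ((mem_centralizer_iff.1 x.2 (co z) hz).symm)
      · intro a b h
        have h3 := congrArg (fun w : St H (ad Z) => (w.1 : G)) h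
        exact Subtype.ext h3
    exact (h1.trans D.rcard).trans h2
  obtain ⟨u, hu, hur, hu0⟩ := key.meet hcard'
  intro h
  have h1 : co u ∈ Z ⊓ r := ⟨hu, hur⟩
  rw [h, mem_bot] at h1
  exact hu0 (co_inj h1)

end Cfsg.Agent.Omega.NOThreeL.LNFieldGroup
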