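import Mathlib

/-!
# LEMMA LN_q (NO-3L, CARD 18022, case (a)); text: bb OMEGA #18149

`X` acts on the finite elementary abelian 2-group `M`; `V ≤ X` acts on `M` with axis `Y` (`|M : Y| = q = |y|`) and
centre `y` ("`Ln V y Y`"); `c` and `y` are TI-subgroups of order `q > 2` ("points"), `C` is the pointwise stabiliser
of `c`, `Q` a 2-subgroup of `X` which is normalised by `C` and contains `V`, `S ≤ C` a 2-group with `C_M(S) ≤ c`,
`M = ⟨c^X⟩`, and the pointwise stabiliser of `y` has at most `|C|` elements.  Then `y = c` (`Sit.eq`).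
-/

set_option autoImplicit false
set_option linter.unusedSectionVars false
set_option linter.unusedVariables false

namespace Cfsg.Agent.Omega.NOThreeL.LNq

open MulAction
open scoped Pointwise

variable {X M : Type*} [Group X] [AddCommGroup M] [DistribMulAction X M]

/-- `T` acts on `M` with axis `A` and centre `z`. -/
structure Ln (T : Subgroup X) (z A : AddSubgroup M) : Prop where
  act : ∀ t ∈ T, ∀ u : M, t • u - u ∈ z
  le : z ≤ A
  cent : ∀ t ∈ T, ∀ u ∈ A, t • u = u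
  fix : ∀ t ∈ T, ∀ u : M, u ∉ A → t • u = u → ∀ w : M, t • w = w
  surj : ∀ u : M, u ∉ A → ∀ w ∈ z, ∃ t ∈ T, t • u = u + w
  card : Nat.card M = Nat.card z * Nat.card A

variable (X) in
/-- a point: a TI-subgroup of order `q` -/
structure Pt (q : ℕ) (p : AddSubgroup M) : Prop where
  card : Nat.card p = q
  ti : ∀ u ∈ p, u ≠ 0 → ∀ x : X, x • u = u → x • p = p

theorem mem_smul {x : X} {A : AddSubgroup M} {u : M} : u ∈ x • A ↔ x⁻¹ • u ∈ A :=
  AddSubgroup.mem_pointwise_smul_iff_inv_smul_mem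

theorem smul_mem {x : X} {A : AddSubgroup M} {u : M} (h : u ∈ A) : x • u ∈ x • A :=
  mem_smul.2 (by rwa [inv_smul_smul])

theorem smul_le {x : X} {A B : AddSubgroup M} : x • A ≤ x • B ↔ A ≤ B :=
  AddSubgroup.pointwise_smul_le_pointwise_smul_iff

theorem card_smul (x : X) (A : AddSubgroup M) : Nat.card (x • A : AddSubgroup M) = Nat.card A := by
  refine Nat.card_congr ⟨fun u => ⟨x⁻¹ • (u : M), mem_smul.1 u.2⟩, fun u => ⟨x • (u : M), smul_mem u.2⟩,
    fun u => ?_, fun u => ?_⟩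
  · ext; simp
  · ext; simp

theorem mem_cj {x t : X} {T : Subgroup X} : t ∈ MulAut.conj x • T ↔ x⁻¹ * t * x ∈ T := by
  rw [Subgroup.mem_pointwise_smul_iff_inv_smul_mem, ← map_inv, MulAut.smul_def, MulAut.conj_apply, inv_inv]

theorem cj_mem {x t : X} {T : Subgroup X} (h : t ∈ T) : x * t * x⁻¹ ∈ MulAut.conj x • T :=
  mem_cj.2 (by simpa [mul_assoc] using h)

theorem smul_eq_of_inv [Finite M] {x : X} {A : AddSubgroup M} (h : ∀ u ∈ A, x • u ∈ A) : x • A = A := by
  have h1 : x • A ≤ A := by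
    intro u hu
    have h2 := h _ (mem_smul.1 hu)
    rwa [smul_inv_smul] at h2
  exact AddSubgroup.eq_of_le_of_card_ge h1 (card_smul x A).ge

theorem eq_of_le [Finite M] {A B : AddSubgroup M} (h : A ≤ B) (hc : Nat.card B ≤ Nat.card A) : A = B :=
  AddSubgroup.eq_of_le_of_card_ge h hc

/-- fixed points of a 2-group -/
theorem exists_fixed [Finite M] {S : Subgroup X} (hS : IsPGroup 2 S) (h2 : ∀ u : M, u + u = 0)
    {N : AddSubgroup M} (hN : N ≠ ⊥) (hinv : ∀ s ∈ S, ∀ u ∈ N, s • u ∈ N) :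
    ∃ n ∈ N, n ≠ 0 ∧ ∀ s ∈ S, s • n = n := by
  classical
  let i : MulAction S N :=
    { smul := fun s n => ⟨(s : X) • (n : M), hinv s s.2 n n.2⟩
      one_smul := fun n => Subtype.ext (one_smul X (n : M))
      mul_smul := fun a b n => Subtype.ext (mul_smul (a : X) (b : X) (n : M)) }
  have hdvd : 2 ∣ Nat.card N := by
    have : Nontrivial N := (AddSubgroup.nontrivial_iff_ne_bot N).2 hN
    obtain ⟨n, hn⟩ := exists_ne (0 : N)
    have h3 : addOrderOf n = 2 := by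
      refine addOrderOf_eq_prime ?_ hn
      rw [two_nsmul]
      exact Subtype.ext (h2 n)
    rw [← h3]
    exact addOrderOf_dvd_natCard n
  have h0 : (0 : N) ∈ fixedPoints S N := fun s => Subtype.ext (smul_zero (s : X))
  obtain ⟨n, hn, hn0⟩ := hS.exists_fixed_point_of_prime_dvd_card_of_fixed_point N hdvd h0
  refine ⟨n, n.2, fun h => hn0 (Subtype.ext h.symm), fun s hs => ?_⟩
  exact congrArg Subtype.val (hn ⟨s, hs⟩)

theorem Pt.smul {q : ℕ} {p : AddSubgroup M} (h : Pt X q p) (x : X) : Pt X q (x • p) where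
  card := (card_smul x p).trans h.card
  ti := by
    intro u hu hu0 g hg
    have h1 : x⁻¹ • u ≠ 0 := fun h0 => hu0 ((smul_eq_zero_iff_eq x⁻¹).1 h0)
    have h2 := h.ti _ (mem_smul.1 hu) h1 (x⁻¹ * g * x) (by
      rw [mul_smul, smul_inv_smul, mul_smul, hg])
    calc g • x • p = x • (x⁻¹ * g * x) • p := by
          rw [smul_smul, smul_smul]; congr 1; group
      _ = x • p := by rw [h2]

theorem Pt.exists_ne {q : ℕ} {p : AddSubgroup M} (h : Pt X q p) (hq : 3 ≤ q) : ∃ u ∈ p, u ≠ 0 := by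
  by_contra hcon
  push Not at hcon
  have h1 : p = ⊥ := (AddSubgroup.eq_bot_iff_forall p).2 hcon
  have h2 := h.card
  rw [h1, AddSubgroup.card_bot] at h2
  omega

namespace Ln

variable {T : Subgroup X} {z A : AddSubgroup M}

theorem smul (h : Ln T z A) (x : X) : Ln (MulAut.conj x • T) (x • z) (x • A) where
  act := by
    intro t ht u
    have h1 := h.act _ (mem_cj.1 ht) (x⁻¹ • u)
    rw [mem_smul, smul_sub]
    rwa [mul_smul, smul_inv_smul, mul_smul] at h1
  le := smul_le.2 h.le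
  cent := by
    intro t ht u hu
    have h1 := h.cent _ (mem_cj.1 ht) _ (mem_smul.1 hu)
    rw [mul_smul, smul_inv_smul, mul_smul] at h1
    exact smul_left_cancel _ h1
  fix := by
    intro t ht u hu htu w
    have h1 := h.fix _ (mem_cj.1 ht) (x⁻¹ • u) (fun h0 => hu (mem_smul.2 h0))
      (by rw [mul_smul, smul_inv_smul, mul_smul, htu]) (x⁻¹ • w)
    rw [mul_smul, smul_inv_smul, mul_smul] at h1
    exact smul_left_cancel _ h1
  surj := by
    intro u hu w hw
    obtain ⟨t, ht, h1⟩ := h.surj (x⁻¹ • u) (fun h0 => hu (mem_smul.2 h0)) _ (mem_smul.1 hw)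
    refine ⟨x * t * x⁻¹, cj_mem ht, ?_⟩
    rw [mul_smul, mul_smul, h1, smul_add, smul_inv_smul, smul_inv_smul]
  card := by rw [card_smul, card_smul, h.card]

variable (h : Ln T z A)
include h

/-- the elements of `T` with a fixed point off the axis -/
theorem mem_axis {t : X} (ht : t ∈ T) {v : M} (hv : t • v ≠ v) {u : M} (hu : t • u = u) : u ∈ A := by
  by_contra hA
  exact hv (h.fix t ht u hA hu v)

theorem inv_A {t : X} (ht : t ∈ T) {B : AddSubgroup M} (hB : z ≤ B) {u : M} (hu : u ∈ B) : t • u ∈ B := by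
  have h1 := B.add_mem (hB (h.act t ht u)) hu
  rwa [sub_add_cancel] at h1

variable [Finite M] {p : AddSubgroup M} (hp : Pt X (Nat.card z) p)
include hp

/-- (TI) -/
theorem ti {u : M} (hu : u ∈ p) (huA : u ∈ A) (hu0 : u ≠ 0) : p ≤ A := by
  intro v hv
  by_contra hvA
  have h1 : z ≤ p := by
    intro w hw
    obtain ⟨t, ht, htv⟩ := h.surj v hvA w hw
    have h2 := hp.ti u hu hu0 t (h.cent t ht u huA)
    have h3 : t • v ∈ t • p := smul_mem hv
    rw [h2, htv] at h3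
    have h4 := p.sub_mem h3 hv
    rwa [add_sub_cancel_left] at h4
  have h2 : z = p := eq_of_le h1 hp.card.le
  exact hvA (h.le (h2 ▸ hv))

theorem eq_zero (hpA : ¬ p ≤ A) {u : M} (hu : u ∈ p) (huA : u ∈ A) : u = 0 := by
  by_contra h0
  exact hpA (h.ti hp hu huA h0)

theorem compl (hpA : ¬ p ≤ A) (u : M) : ∃ a ∈ A, ∃ w ∈ p, u = a + w := by
  let f : A × p → M := fun s => (s.1 : M) + s.2
  have hf : Function.Injective f := by
    rintro ⟨a, w⟩ ⟨a', w'⟩ hh
    have h1 : (a : M) + w = a' + w' := hh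
    have h2 : (w : M) - w' = a' - a := by
      rw [sub_eq_sub_iff_add_eq_add, add_comm (w : M), h1]
    have h3 : (w : M) - w' = 0 := h.eq_zero hp hpA (p.sub_mem w.2 w'.2) (h2 ▸ A.sub_mem a'.2 a.2)
    have h4 : (w : M) = w' := sub_eq_zero.1 h3
    rw [h4, add_left_inj] at h1
    exact Prod.ext (Subtype.ext h1) (Subtype.ext h4)
  have hc : Nat.card M ≤ Nat.card (A × p) := by
    rw [Nat.card_prod, hp.card, mul_comm, h.card]
  obtain ⟨⟨a, w⟩, haw⟩ := (hf.bijective_of_nat_card_le hc).2 u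
  exact ⟨a, a.2, w, w.2, haw.symm⟩

end Ln

/-! ### The situation -/

/-- the base situation -/
structure Sit (V Q S C : Subgroup X) (y Y c : AddSubgroup M) : Prop where
  ln : Ln V y Y
  pt : Pt X (Nat.card y) y
  ptc : Pt X (Nat.card y) c
  ne : Y ≠ ⊤
  two : ∀ u : M, u + u = 0
  memC : ∀ x : X, x ∈ C ↔ ∀ u ∈ c, x • u = u
  VQ : V ≤ Q
  Qn : ∀ x ∈ C, ∀ q ∈ Q, x * q * x⁻¹ ∈ Q
  Q2 : IsPGroup 2 Q
  S2 : IsPGroup 2 S
  SC : S ≤ C
  fixS : ∀ u : M, (∀ s ∈ S, s • u = u) → u ∈ c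
  gen : ∀ N : AddSubgroup M, c ≤ N → (∀ x : X, ∀ u ∈ N, x • u ∈ N) → N = ⊤
  card : Nat.card {x : X // ∀ u ∈ y, x • u = u} ≤ Nat.card C
  three : 3 ≤ Nat.card y

/-- the conjugates of `(V, y, Y)` -/
def Fam (V : Subgroup X) (y Y : AddSubgroup M) (T : Subgroup X) (z A : AddSubgroup M) : Prop :=
  ∃ x : X, T = MulAut.conj x • V ∧ z = x • y ∧ A = x • Y

/-- the axes -/
def AX (X : Type*) {M : Type*} [Group X] [AddCommGroup M] [DistribMulAction X M] (Y A : AddSubgroup M) : Prop :=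
  ∃ x : X, A = x • Y

/-- adjacency of axes -/
def Adj (X : Type*) {M : Type*} [Group X] [AddCommGroup M] [DistribMulAction X M] (y Y A B : AddSubgroup M) :
    Prop := ∃ x : X, A = x • Y ∧ ¬ x • y ≤ B

/-- the sum of the centres with axis `A` -/
def Yc (X : Type*) {M : Type*} [Group X] [AddCommGroup M] [DistribMulAction X M] (y Y A : AddSubgroup M) :
    AddSubgroup M := sSup {z | ∃ x : X, A = x • Y ∧ z = x • y}

theorem Fam.smul {V : Subgroup X} {y Y : AddSubgroup M} {T : Subgroup X} {z A : AddSubgroup M}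
    (h : Fam V y Y T z A) (x : X) : Fam V y Y (MulAut.conj x • T) (x • z) (x • A) := by
  obtain ⟨g, rfl, rfl, rfl⟩ := h
  refine ⟨x * g, ?_, ?_, ?_⟩
  · rw [map_mul, mul_smul]
  · rw [mul_smul]
  · rw [mul_smul]

theorem AX.smul {Y A : AddSubgroup M} (h : AX X Y A) (x : X) : AX X Y (x • A) := by
  obtain ⟨g, rfl⟩ := h
  exact ⟨x * g, by rw [mul_smul]⟩

theorem Adj.smul {y Y A B : AddSubgroup M} (h : Adj X y Y A B) (x : X) : Adj X y Y (x • A) (x • B) := by
  obtain ⟨g, rfl, hg⟩ := h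
  exact ⟨x * g, by rw [mul_smul], by rwa [mul_smul, smul_le]⟩

theorem Adj.axl {y Y A B : AddSubgroup M} (h : Adj X y Y A B) : AX X Y A := by
  obtain ⟨g, rfl, -⟩ := h
  exact ⟨g, rfl⟩

theorem Fam.ax {V : Subgroup X} {y Y : AddSubgroup M} {T : Subgroup X} {z A : AddSubgroup M}
    (h : Fam V y Y T z A) : AX X Y A := by
  obtain ⟨g, -, -, rfl⟩ := h
  exact ⟨g, rfl⟩

theorem Yc_smul_le (y Y A : AddSubgroup M) (x : X) : x • Yc X y Y A ≤ Yc X y Y (x • A) := by
  have h1 : x⁻¹ • x • Yc X y Y A ≤ x⁻¹ • Yc X y Y (x • A) := by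
    rw [inv_smul_smul]
    refine sSup_le ?_
    rintro _ ⟨g, h2, rfl⟩
    rw [← smul_le (x := x), smul_inv_smul]
    exact le_sSup ⟨x * g, by rw [mul_smul, h2], by rw [mul_smul]⟩
  exact smul_le.1 h1

theorem Yc_smul (y Y A : AddSubgroup M) (x : X) : Yc X y Y (x • A) = x • Yc X y Y A := by
  refine le_antisymm ?_ (Yc_smul_le y Y A x)
  have h1 := Yc_smul_le y Y (x • A) x⁻¹
  rw [inv_smul_smul] at h1
  have h2 := smul_le (x := x).2 h1
  rwa [smul_inv_smul] at h2

namespace Sit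

variable {V Q S C : Subgroup X} {y Y c : AddSubgroup M} (D : Sit V Q S C y Y c)
include D

theorem fam : Fam V y Y V y Y := ⟨1, by simp, by simp, by simp⟩

theorem fln {T : Subgroup X} {z A : AddSubgroup M} (h : Fam V y Y T z A) : Ln T z A := by
  obtain ⟨x, rfl, rfl, rfl⟩ := h
  exact D.ln.smul x

theorem fpt {T : Subgroup X} {z A : AddSubgroup M} (h : Fam V y Y T z A) : Pt X (Nat.card y) z := by
  obtain ⟨x, rfl, rfl, rfl⟩ := h
  exact D.pt.smul x

theorem fcard {T : Subgroup X} {z A : AddSubgroup M} (h : Fam V y Y T z A) : Nat.card z = Nat.card y :=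
  (D.fpt h).card

theorem adj_fam {A B : AddSubgroup M} (h : Adj X y Y A B) : ∃ T z, Fam V y Y T z A ∧ ¬ z ≤ B := by
  obtain ⟨x, rfl, hx⟩ := h
  exact ⟨_, _, ⟨x, rfl, rfl, rfl⟩, hx⟩

theorem fam_adj {T : Subgroup X} {z A B : AddSubgroup M} (h : Fam V y Y T z A) (hB : ¬ z ≤ B) :
    Adj X y Y A B := by
  obtain ⟨x, rfl, rfl, rfl⟩ := h
  exact ⟨x, rfl, hB⟩

theorem ax_fam {A : AddSubgroup M} (h : AX X Y A) : ∃ T z, Fam V y Y T z A := by
  obtain ⟨x, rfl⟩ := h
  exact ⟨_, _, x, rfl, rfl, rfl⟩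

theorem Yc_le (A : AddSubgroup M) : Yc X y Y A ≤ A := by
  refine sSup_le ?_
  rintro _ ⟨x, rfl, rfl⟩
  exact smul_le.2 D.ln.le

theorem le_Yc {T : Subgroup X} {z A : AddSubgroup M} (h : Fam V y Y T z A) : z ≤ Yc X y Y A := by
  obtain ⟨x, rfl, rfl, rfl⟩ := h
  exact le_sSup ⟨x, rfl, rfl⟩

variable [Finite M]

/-- (TI) for an axis -/
theorem ti {A p : AddSubgroup M} (hA : AX X Y A) (hp : Pt X (Nat.card y) p) {u : M} (hu : u ∈ p) (huA : u ∈ A)
    (hu0 : u ≠ 0) : p ≤ A := by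
  obtain ⟨T, z, h⟩ := D.ax_fam hA
  exact (D.fln h).ti (D.fcard h ▸ hp) hu huA hu0

theorem eq_zero {A p : AddSubgroup M} (hA : AX X Y A) (hp : Pt X (Nat.card y) p) (hpA : ¬ p ≤ A) {u : M}
    (hu : u ∈ p) (huA : u ∈ A) : u = 0 := by
  by_contra h0
  exact hpA (D.ti hA hp hu huA h0)

theorem compl {A p : AddSubgroup M} (hA : AX X Y A) (hp : Pt X (Nat.card y) p) (hpA : ¬ p ≤ A) (u : M) :
    ∃ a ∈ A, ∃ w ∈ p, u = a + w := by
  obtain ⟨T, z, h⟩ := D.ax_fam hA
  exact (D.fln h).compl (D.fcard h ▸ hp) hpA u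

/-- the intersection of the axes is trivial -/
theorem inter {u : M} (hu : ∀ A, AX X Y A → u ∈ A) : u = 0 := by
  by_contra hu0
  let N : AddSubgroup M := sInf {A | AX X Y A}
  have hN : ∀ {v : M}, v ∈ N ↔ ∀ A, AX X Y A → v ∈ A := AddSubgroup.mem_sInf
  have hinv : ∀ x : X, ∀ v ∈ N, x • v ∈ N := by
    intro x v hv
    rw [hN]
    intro A hA
    have h1 := hN.1 hv _ (hA.smul x⁻¹)
    rw [mem_smul, inv_inv] at h1
    exact h1
  have hne : N ≠ ⊥ := fun h0 => hu0 ((AddSubgroup.eq_bot_iff_forall N).1 h0 u (hN.2 hu))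
  obtain ⟨n, hn, hn0, hfix⟩ := exists_fixed D.S2 D.two hne (fun s _ v hv => hinv s v hv)
  have hnc := D.fixS n hfix
  have hcN : c ≤ N := by
    intro w hw
    rw [hN]
    intro A hA
    exact D.ti hA D.ptc hnc (hN.1 hn A hA) hn0 hw
  have h1 := D.gen N hcN hinv
  apply D.ne
  rw [eq_top_iff, ← h1]
  exact sInf_le ⟨1, (one_smul X Y).symm⟩

/-- (S) -/
theorem symm {A B : AddSubgroup M} (hB : AX X Y B) (h : Adj X y Y A B) : Adj X y Y B A := by
  by_contra hcon
  obtain ⟨T, z, hT, hz⟩ := D.adj_fam h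
  obtain ⟨v, hv, hvB⟩ := SetLike.not_le_iff_exists.1 hz
  have key : Yc X y Y B ≤ Yc X y Y A := by
    refine sSup_le ?_
    rintro _ ⟨x, hx, rfl⟩
    have hF : Fam V y Y (MulAut.conj x • V) (x • y) B := ⟨x, rfl, rfl, hx⟩
    have hzA : x • y ≤ A := by
      by_contra h0
      exact hcon ⟨x, hx, h0⟩
    intro w hw
    obtain ⟨t, ht, htv⟩ := (D.fln hF).surj v hvB w hw
    have hA : t • A = A := smul_eq_of_inv fun u hu => (D.fln hF).inv_A ht hzA hu
    have h1 := hT.smul t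
    rw [hA] at h1
    have h2 : t • v ∈ Yc X y Y A := D.le_Yc h1 (smul_mem hv)
    rw [htv] at h2
    have h3 := (Yc X y Y A).sub_mem h2 (D.le_Yc hT hv)
    rwa [add_sub_cancel_left] at h3
  have hcard : Nat.card (Yc X y Y A) = Nat.card (Yc X y Y B) := by
    obtain ⟨a, rfl⟩ := h.axl
    obtain ⟨b, rfl⟩ := hB
    rw [Yc_smul, Yc_smul, card_smul, card_smul]
  have h1 := eq_of_le key hcard.le
  apply hz
  have h2 := D.Yc_le B
  rw [h1] at h2
  exact (D.le_Yc hT).trans h2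

/-! ### the spread -/

section spread

variable {T : Subgroup X} {z A B : AddSubgroup M} (hT : Fam V y Y T z A) (hB : AX X Y B) (hz : ¬ z ≤ B)
include hT hB hz

theorem spread_mem {u : M} (hu : u ∉ A) : ∃ t ∈ T, u ∈ t • B := by
  obtain ⟨b, hb, w, hw, rfl⟩ := D.compl hB (D.fpt hT) hz u
  have hbA : b ∉ A := fun h0 => hu (A.add_mem h0 ((D.fln hT).le hw))
  obtain ⟨t, ht, h1⟩ := (D.fln hT).surj b hbA w hw
  exact ⟨t, ht, h1 ▸ smul_mem hb⟩

theorem spread {p : AddSubgroup M} (hp : Pt X (Nat.card y) p) (hpA : ¬ p ≤ A) : ∃ t ∈ T, p ≤ t • B := by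
  obtain ⟨u, hu, huA⟩ := SetLike.not_le_iff_exists.1 hpA
  obtain ⟨t, ht, h1⟩ := D.spread_mem hT hB hz huA
  exact ⟨t, ht, D.ti (hB.smul t) hp hu h1 (fun h0 => huA (h0 ▸ A.zero_mem))⟩

theorem spread_inf {t : X} (ht : t ∈ T) (hne : t • B ≠ B) {u : M} (hu : u ∈ B) (hu' : u ∈ t • B) : u ∈ A := by
  have hln := D.fln hT
  by_contra huA
  have h1 := mem_smul.1 hu'
  set b := t⁻¹ • u with hb
  have hu1 : u = t • b := by rw [hb, smul_inv_smul]
  have hbA : b ∉ A := fun h0 => huA (by rw [hu1, hln.cent t ht b h0]; exact h0)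
  have h2 := hln.act t ht b
  rw [← hu1] at h2
  have h3 := D.eq_zero hB (D.fpt hT) hz h2 (B.sub_mem hu h1)
  have h4 : t • b = b := by rw [← hu1]; exact sub_eq_zero.1 h3
  have h5 := hln.fix t ht b hbA h4
  apply hne
  exact smul_eq_of_inv fun u hu => (h5 u).symm ▸ hu

theorem spread_inf' {t : X} (ht : t ∈ T) {u : M} (hu : u ∈ A) : u ∈ t • B ↔ u ∈ B := by
  have h1 := (D.fln hT).cent _ (T.inv_mem ht) u hu
  rw [mem_smul, h1]

theorem spread_adj {t : X} (ht : t ∈ T) : Adj X y Y A (t • B) :=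
  D.fam_adj hT fun h0 => hz fun u hu => (D.spread_inf' hT hB hz ht ((D.fln hT).le hu)).1 (h0 hu)

/-- `A` not adjacent to `B'`, `B ~ B'`: `t • B ≠ B` is adjacent to `B'`. -/
theorem spread_adj' {t : X} (ht : t ∈ T) (hne : t • B ≠ B) {B' : AddSubgroup M} (hB' : AX X Y B')
    (h1 : ¬ Adj X y Y B' A) (h2 : Adj X y Y B' B) : Adj X y Y B' (t • B) := by
  obtain ⟨x, hx, hxB⟩ := h2
  refine ⟨x, hx, fun h0 => hxB ?_⟩
  have h3 : x • y ≤ A := by
    by_contra h4
    exact h1 ⟨x, hx, h4⟩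
  intro u hu
  exact (D.spread_inf' hT hB hz ht (h3 hu)).1 (h0 hu)

end spread

theorem exists_move {T : Subgroup X} {z A B : AddSubgroup M} (hT : Fam V y Y T z A) (hB : AX X Y B)
    (hz : ¬ z ≤ B) : ∃ t ∈ T, t • B ≠ B := by
  obtain ⟨T', z', hT', hz'⟩ := D.adj_fam (D.symm hB (D.fam_adj hT hz))
  obtain ⟨b, hb, hbA⟩ := SetLike.not_le_iff_exists.1 hz'
  obtain ⟨w, hw, hw0⟩ := (D.fpt hT).exists_ne D.three
  obtain ⟨t, ht, htb⟩ := (D.fln hT).surj b hbA w hw
  refine ⟨t, ht, fun h0 => hw0 ?_⟩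
  have hbB : b ∈ B := (D.fln hT').le hb
  have h1 : t • b ∈ t • B := smul_mem hbB
  rw [h0, htb] at h1
  have h2 := B.sub_mem h1 hbB
  rw [add_sub_cancel_left] at h2
  exact D.eq_zero hB (D.fpt hT) hz hw h2

/-! ### (A) -/

/-- (A): `V ≤ Q` (here `T`), `z` not in the axis `B`: `c` is not in `B`. -/
theorem not_c_le {T : Subgroup X} {z A B : AddSubgroup M} (hT : Fam V y Y T z A) (hTQ : T ≤ Q) (hB : AX X Y B)
    (hz : ¬ z ≤ B) : ¬ c ≤ B := by
  intro hc
  obtain ⟨T', z', hT', hz'⟩ := D.adj_fam (D.symm hB (D.fam_adj hT hz))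
  have hl := D.fln hT
  have hl' := D.fln hT'
  have hT'C : T' ≤ C := fun t ht => (D.memC t).2 fun u hu => hl'.cent t ht u (hc hu)
  obtain ⟨v0, hv0, hv0B⟩ := SetLike.not_le_iff_exists.1 hz
  obtain ⟨w0, hw0, hw00⟩ := (D.fpt hT').exists_ne D.three
  obtain ⟨t, ht, htv⟩ := hl'.surj v0 hv0B w0 hw0
  have hmove : t • v0 ≠ v0 := by
    rw [htv]
    intro h0
    exact hw00 (by simpa using h0)
  let W : AddSubgroup M := z ⊔ z'
  have hTW : ∀ a ∈ T, a • W = W := fun a ha =>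
    smul_eq_of_inv fun u hu => hl.inv_A ha le_sup_left hu
  have htW : t • W = W := smul_eq_of_inv fun u hu => hl'.inv_A ht le_sup_right hu
  let R : Subgroup X := Q ⊓ stabilizer X W
  have hR2 : IsPGroup 2 R := D.Q2.to_le inf_le_left
  have hWne : W ≠ ⊥ := by
    intro h0
    have h1 : w0 ∈ W := (le_sup_right : z' ≤ W) hw0
    rw [h0, AddSubgroup.mem_bot] at h1
    exact hw00 h1
  obtain ⟨n, hn, hn0, hfix⟩ := exists_fixed hR2 D.two hWne (fun r hr u hu => by
    have h1 : r • W = W := hr.2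
    rw [← h1]
    exact smul_mem hu)
  have hfixz : ∀ m ∈ W, (∀ a ∈ T, a • m = m) → m ∈ z := by
    intro m hm hfm
    have hmA : m ∈ A := by
      by_contra hmA
      obtain ⟨w, hw, hw0⟩ := (D.fpt hT).exists_ne D.three
      obtain ⟨a, ha, ham⟩ := hl.surj m hmA w hw
      rw [hfm a ha] at ham
      exact hw0 (by simpa using ham.symm)
    obtain ⟨a, ha, b, hb, hab⟩ := AddSubgroup.mem_sup.1 hm
    have h1 : b ∈ A := by
      have h2 := A.sub_mem hmA (hl.le ha)
      rwa [← hab, add_sub_cancel_left] at h2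
    have h2 := D.eq_zero hT.ax (D.fpt hT') hz' hb h1
    rw [← hab, h2, add_zero]
    exact ha
  have hTR : T ≤ R := fun a ha => ⟨hTQ ha, hTW a ha⟩
  have hn1 : n ∈ z := hfixz n hn fun a ha => hfix a (hTR ha)
  have hn2 : t⁻¹ • n ∈ z := by
    refine hfixz _ ?_ fun a ha => ?_
    · rw [← mem_smul, htW]
      exact hn
    · have h1 : t * a * t⁻¹ ∈ R := by
        refine ⟨D.Qn t (hT'C ht) a (hTQ ha), ?_⟩
        have h3 : t⁻¹ • W = W := by rw [inv_smul_eq_iff, htW]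
        change (t * a * t⁻¹) • W = W
        rw [mul_smul, mul_smul, h3, hTW a ha, htW]
      have h2 := hfix _ h1
      rw [mul_smul, mul_smul] at h2
      exact smul_left_cancel t (by rw [h2, smul_inv_smul])
  have h3 := hl'.act t ht (t⁻¹ • n)
  rw [smul_inv_smul] at h3
  have h4 := D.eq_zero hT.ax (D.fpt hT') hz' h3 (A.sub_mem (hl.le hn1) (hl.le hn2))
  have h5 : t • (t⁻¹ • n) = t⁻¹ • n := by rw [smul_inv_smul]; exact sub_eq_zero.1 h4
  have h6 := hl'.mem_axis ht hmove h5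
  have h7 := D.eq_zero hB (D.fpt hT) hz hn2 h6
  exact hn0 ((smul_eq_zero_iff_eq t⁻¹).1 h7)

end Sit

/-- one step in the graph of axes -/
def Rl (X : Type*) {M : Type*} [Group X] [AddCommGroup M] [DistribMulAction X M] (y Y A B : AddSubgroup M) :
    Prop := AX X Y B ∧ Adj X y Y A B

/-- same component -/
def Con (X : Type*) {M : Type*} [Group X] [AddCommGroup M] [DistribMulAction X M] (y Y : AddSubgroup M) :
    AddSubgroup M → AddSubgroup M → Prop := Relation.ReflTransGen (Rl X y Y)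

/-- a path of length `n` -/
def Path (X : Type*) {M : Type*} [Group X] [AddCommGroup M] [DistribMulAction X M] (y Y : AddSubgroup M) :
    ℕ → AddSubgroup M → AddSubgroup M → Prop
  | 0, A, B => A = B
  | n + 1, A, B => ∃ A', Rl X y Y A A' ∧ Path X y Y n A' B

theorem Con.smul {y Y A B : AddSubgroup M} (h : Con X y Y A B) (x : X) : Con X y Y (x • A) (x • B) := by
  induction h with
  | refl => exact Relation.ReflTransGen.refl
  | tail _ hs ih => exact ih.tail ⟨hs.1.smul x, hs.2.smul x⟩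

theorem Con.path {y Y A B : AddSubgroup M} (h : Con X y Y A B) : ∃ n, Path X y Y n A B := by
  induction h using Relation.ReflTransGen.head_induction_on with
  | refl => exact ⟨0, rfl⟩
  | head hs _ ih =>
    obtain ⟨n, hn⟩ := ih
    exact ⟨n + 1, _, hs, hn⟩

theorem Con.ax {y Y A B : AddSubgroup M} (h : Con X y Y A B) (hA : AX X Y A) : AX X Y B := by
  induction h with
  | refl => exact hA
  | tail _ hs _ => exact hs.1

namespace Sit

variable {V Q S C : Subgroup X} {y Y c : AddSubgroup M} (D : Sit V Q S C y Y c) [Finite M]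
include D

theorem con_symm {A B : AddSubgroup M} (h : Con X y Y A B) : Con X y Y B A := by
  induction h with
  | refl => exact Relation.ReflTransGen.refl
  | tail _ hs ih => exact Relation.ReflTransGen.head ⟨hs.2.axl, D.symm hs.1 hs.2⟩ ih

section special

variable {T : Subgroup X} {z A : AddSubgroup M} (hT : Fam V y Y T z A)
include hT

/-- an axis which does not contain `z` -/
theorem exists_not_le : ∃ B, AX X Y B ∧ ¬ z ≤ B := by
  obtain ⟨u, hu, hu0⟩ := (D.fpt hT).exists_ne D.three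
  by_contra hcon
  push Not at hcon
  exact hu0 (D.inter fun B hB => hcon B hB hu)

theorem con_of_not_le {B : AddSubgroup M} (hB : AX X Y B) (hz : ¬ z ≤ B) : Con X y Y A B :=
  Relation.ReflTransGen.single ⟨hB, D.fam_adj hT hz⟩

theorem le_of_not_con {B : AddSubgroup M} (hB : AX X Y B) (h : ¬ Con X y Y A B) : z ≤ B := by
  by_contra hz
  exact h (D.con_of_not_le hT hB hz)

variable (hTQ : T ≤ Q)
include hTQ

/-- (B1) -/
theorem c_le {A1 B : AddSubgroup M} (hA1 : AX X Y A1) (hB : AX X Y B) (hadj : Adj X y Y A1 B) (hz1 : ¬ z ≤ A1)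
    (hzB : z ≤ B) : c ≤ B := by
  by_contra hcB
  obtain ⟨T1, z1, h1, hz⟩ := D.adj_fam hadj
  obtain ⟨t, ht, hct⟩ := D.spread h1 hB hz D.ptc (D.not_c_le hT hTQ hA1 hz1)
  have h2 : z ≤ t • B := by
    by_contra h3
    exact D.not_c_le hT hTQ (hB.smul t) h3 hct
  have hne : t • B ≠ B := fun h0 => hcB (h0 ▸ hct)
  exact hz1 fun u hu => D.spread_inf h1 hB hz ht hne (hzB hu) (h2 hu)

/-- (B2) -/
theorem B2 {B : AddSubgroup M} (h : Con X y Y A B) :
    ¬ z ≤ B ∨ ∃ A1, AX X Y A1 ∧ Adj X y Y A1 B ∧ ¬ z ≤ A1 := by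
  induction h with
  | refl =>
    obtain ⟨B, hB, hz⟩ := D.exists_not_le hT
    exact Or.inr ⟨B, hB, D.symm hB (D.fam_adj hT hz), hz⟩
  | @tail B B' hcon hs ih =>
    right
    have hB : AX X Y B := hs.2.axl
    by_cases hzB : z ≤ B
    · obtain ⟨A1, hA1, hadj, hz1⟩ := ih.resolve_left (fun h => h hzB)
      by_cases h2 : Adj X y Y B' A1
      · exact ⟨A1, hA1, D.symm hA1 h2, hz1⟩
      · obtain ⟨T1, z1, h1, hz⟩ := D.adj_fam hadj
        obtain ⟨t, ht, hne⟩ := D.exists_move h1 hB hz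
        have h3 := D.spread_adj' h1 hB hz ht hne hs.1 h2 (D.symm hs.1 hs.2)
        refine ⟨t • B, hB.smul t, D.symm (hB.smul t) h3, fun h4 => hz1 fun u hu => ?_⟩
        exact D.spread_inf h1 hB hz ht hne (hzB hu) (h4 hu)
    · exact ⟨B, hB, hs.2, hzB⟩

theorem c_le_of_con {B : AddSubgroup M} (h : Con X y Y A B) (hzB : z ≤ B) : c ≤ B := by
  obtain ⟨A1, hA1, hadj, hz1⟩ := (D.B2 hT hTQ h).resolve_left (fun h => h hzB)
  exact D.c_le hT hTQ hA1 (h.ax hT.ax) hadj hz1 hzB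

/-- (C), one step -/
theorem C1 {v w : M} (hv : v ∈ z) (hw : w ∈ c) {A1 A2 : AddSubgroup M} (h1 : Con X y Y A A1)
    (hz1 : ¬ z ≤ A1) (h2 : AX X Y A2) (hadj : Adj X y Y A1 A2) (hvw : v - w ∈ A1) : v - w ∈ A2 := by
  obtain ⟨T1, z1, hT1, hz⟩ := D.adj_fam hadj
  obtain ⟨t, ht, hzt⟩ := D.spread hT1 h2 hz (D.fpt hT) hz1
  have h3 : Con X y Y A (t • A2) := h1.tail ⟨h2.smul t, D.spread_adj hT1 h2 hz ht⟩
  have h4 := D.c_le_of_con hT hTQ h3 hzt
  exact (D.spread_inf' hT1 h2 hz ht hvw).1 ((t • A2).sub_mem (hzt hv) (h4 hw))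

/-- (C), along a path -/
theorem C2 {v w : M} (hv : v ∈ z) (hw : w ∈ c) (n : ℕ) : ∀ {A0 B : AddSubgroup M}, Con X y Y A A0 →
    ¬ z ≤ A0 → Path X y Y n A0 B → v - w ∈ A0 → v - w ∈ B := by
  induction n with
  | zero =>
    rintro A0 _ - - rfl h
    exact h
  | succ n ih =>
    rintro A0 B h0 hz0 ⟨B1, hs, hp⟩ hvw
    by_cases hz1 : z ≤ B1
    · have hcon1 : Con X y Y A B1 := h0.tail hs
      cases n with
      | zero =>
        have hp' : B1 = B := hp
        rw [← hp']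
        exact B1.sub_mem (hz1 hv) (D.c_le_of_con hT hTQ hcon1 hz1 hw)
      | succ m =>
        obtain ⟨B2, hs2, hp2⟩ := hp
        by_cases h2 : Adj X y Y B2 A0
        · exact ih h0 hz0 ⟨B2, ⟨hs2.1, D.symm hs.2.axl h2⟩, hp2⟩ hvw
        · obtain ⟨T1, z1, hT1, hz⟩ := D.adj_fam hs.2
          obtain ⟨t, ht, hne⟩ := D.exists_move hT1 hs.1 hz
          have h3 := D.spread_adj' hT1 hs.1 hz ht hne hs2.1 h2 (D.symm hs2.1 hs2.2)
          have h4 := D.spread_adj hT1 hs.1 hz ht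
          have hax : AX X Y (t • B1) := hs.1.smul t
          have hzD : ¬ z ≤ t • B1 := fun h5 => hz0 fun u hu =>
            D.spread_inf hT1 hs.1 hz ht hne (hz1 hu) (h5 hu)
          have hD : v - w ∈ t • B1 := D.C1 hT hTQ hv hw h0 hz0 hax h4 hvw
          exact ih (h0.tail ⟨hax, h4⟩) hzD ⟨B2, ⟨hs2.1, D.symm hax h3⟩, hp2⟩ hD
    · exact ih (h0.tail hs) hz1 hp (D.C1 hT hTQ hv hw h0 hz0 hs.1 hs.2 hvw)

/-- (C) -/
theorem phi {v : M} (hv : v ∈ z) : ∃ w ∈ c, ∀ B, Con X y Y A B → v - w ∈ B := by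
  obtain ⟨A1, hA1, hz1⟩ := D.exists_not_le hT
  obtain ⟨a, ha, w, hw, hvw⟩ := D.compl hA1 D.ptc (D.not_c_le hT hTQ hA1 hz1) v
  have h1 := D.con_of_not_le hT hA1 hz1
  refine ⟨w, hw, fun B hB => ?_⟩
  obtain ⟨n, hn⟩ := Con.path ((D.con_symm h1).trans hB)
  exact D.C2 hT hTQ hv hw n h1 hz1 hn (by rw [hvw, add_sub_cancel_right]; exact ha)

end special

/-! ### (D) -/

theorem fam_smul (x : X) : Fam V y Y (MulAut.conj x • V) (x • y) (x • Y) := D.fam.smul x

theorem smul_le_Q {x : X} (hx : x ∈ C) : MulAut.conj x • V ≤ Q := by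
  intro t ht
  have h1 := D.Qn x hx _ (D.VQ (mem_cj.1 ht))
  rwa [show x * (x⁻¹ * t * x) * x⁻¹ = t by group] at h1

/-- (D1) -/
theorem cent_of_con {x : X} (hx : x ∈ C) (h : Con X y Y Y (x • Y)) {v : M} (hv : v ∈ y) : x • v = v := by
  obtain ⟨w, hw, hvw⟩ := D.phi D.fam D.VQ hv
  rw [← sub_eq_zero]
  refine D.inter fun B hB => ?_
  by_cases hc : Con X y Y Y B
  · have h1 : Con X y Y (x⁻¹ • x • Y) (x⁻¹ • B) := Con.smul ((D.con_symm h).trans hc) x⁻¹
    rw [inv_smul_smul] at h1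
    have h2 := hvw _ h1
    rw [mem_smul, inv_inv, smul_sub, (D.memC x).1 hx w hw] at h2
    have h3 := B.sub_mem h2 (hvw B hc)
    rwa [sub_sub_sub_cancel_right] at h3
  · have h1 : ¬ Con X y Y (x • Y) B := fun h1 => hc (h.trans h1)
    exact B.sub_mem (D.le_of_not_con (D.fam_smul x) hB h1 (smul_mem hv)) (D.le_of_not_con D.fam hB hc hv)

/-- (D2) -/
theorem cent_of_fix {x : X} (hx : x ∈ C) {v0 : M} (hv0 : v0 ∈ y) (h0 : v0 ≠ 0) (h : x • v0 = v0) {v : M}
    (hv : v ∈ y) : x • v = v := by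
  have h1 := D.pt.ti v0 hv0 h0 x h
  obtain ⟨A1, hA1, hz1⟩ := D.exists_not_le D.fam
  refine D.cent_of_con hx ((D.con_of_not_le D.fam hA1 hz1).trans (D.con_symm ?_)) hv
  exact D.con_of_not_le (D.fam_smul x) hA1 (by rwa [h1])

/-- (D3) -/
theorem exists_center {x : X} (hx : x ∈ C) (h : ¬ Con X y Y Y (x • Y)) {z0 : M} (hz0 : z0 ∈ c) (hz00 : z0 ≠ 0) :
    ∃ z' : AddSubgroup M, Nat.card z' = Nat.card y ∧ (∀ B, AX X Y B → ¬ Con X y Y (x • Y) B → z' ≤ B) ∧
      ∀ w ∈ z', ∃ g : X, (∀ u ∈ y, g • u = u) ∧ g • z0 = z0 + w := by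
  obtain ⟨B', hB', hz⟩ := D.exists_not_le (D.fam_smul x)
  have hcon := D.con_of_not_le (D.fam_smul x) hB' hz
  have hcB := D.not_c_le (D.fam_smul x) (D.smul_le_Q hx) hB' hz
  obtain ⟨T', z', hT'⟩ := D.ax_fam hB'
  have hyB : y ≤ B' := D.le_of_not_con D.fam hB' fun h1 => h (h1.trans (D.con_symm hcon))
  refine ⟨z', D.fcard hT', fun B hB hnc => D.le_of_not_con hT' hB fun h1 => hnc (hcon.trans h1), fun w hw => ?_⟩
  have hz0B : z0 ∉ B' := fun h1 => hz00 (D.eq_zero hB' D.ptc hcB hz0 h1)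
  obtain ⟨t, ht, h1⟩ := (D.fln hT').surj z0 hz0B w hw
  exact ⟨t, fun u hu => (D.fln hT').cent t ht u (hyB hu), h1⟩

/-- **LEMMA LN_q.** -/
theorem eq [Finite X] : y = c := by
  classical
  obtain ⟨v0, hv0, hv00⟩ := D.pt.exists_ne D.three
  obtain ⟨z0, hz0, hz00⟩ := D.ptc.exists_ne D.three
  let Cy : Subgroup X :=
    { carrier := {x | ∀ u ∈ y, x • u = u}
      mul_mem' := fun {a b} ha hb u hu => by rw [mul_smul, hb u hu, ha u hu]
      one_mem' := fun u _ => one_smul X u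
      inv_mem' := fun {a} ha u hu => by rw [inv_smul_eq_iff, ha u hu] }
  have hCy : ∀ {x : X}, x ∈ Cy ↔ ∀ u ∈ y, x • u = u := Iff.rfl
  have hcard : Nat.card Cy ≤ Nat.card C := D.card
  set A : Set M := orbit C v0 with hA
  set B : Set M := orbit Cy z0 with hB
  have hfinA : A.Finite := Set.toFinite _
  have hfinB : B.Finite := Set.toFinite _
  have hvA : v0 ∈ A := mem_orbit_self v0
  have hzB : z0 ∈ B := mem_orbit_self z0
  have key : 2 * (A \ {v0}).ncard ≤ (B \ {z0}).ncard := by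
    have hex : ∀ v : ↥(A \ {v0}), ∃ x ∈ C, x • v0 = (v : M) ∧ ∃ z' : AddSubgroup M,
        Nat.card z' = Nat.card y ∧ (∀ B, AX X Y B → ¬ Con X y Y (x • Y) B → z' ≤ B) ∧
        ∀ w ∈ z', ∃ g : X, (∀ u ∈ y, g • u = u) ∧ g • z0 = z0 + w := by
      rintro ⟨v, ⟨⟨x, hx⟩, hxv⟩, hne⟩
      have hxv' : x • v0 = v := hxv
      refine ⟨x, hx, hxv', D.exists_center hx (fun h => hne ?_) hz0 hz00⟩
      rw [Set.mem_singleton_iff, ← hxv']
      exact D.cent_of_con hx h hv0
    choose x hx hxv z' hz'c hz'B hz'g using hex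
    have hex2 : ∀ v : ↥(A \ {v0}), ∃ w : Bool → M, (∀ i, w i ∈ z' v ∧ w i ≠ 0) ∧ Function.Injective w := by
      intro v
      have h3 : 2 < Nat.card (z' v) := by
        have := D.three
        rw [hz'c]; omega
      have hfin : Finite (z' v) := inferInstance
      obtain ⟨a, b, cc, hab, hac, hbc⟩ : ∃ a b cc : z' v, a ≠ b ∧ a ≠ cc ∧ b ≠ cc := by
        have := Fintype.ofFinite (z' v)
        rw [Nat.card_eq_fintype_card] at h3
        exact Fintype.two_lt_card_iff.1 h3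
      have hw : ∃ p q : z' v, p ≠ 0 ∧ q ≠ 0 ∧ p ≠ q := by
        by_cases ha : a = 0
        · exact ⟨b, cc, ha ▸ hab.symm, ha ▸ hac.symm, hbc⟩
        · by_cases hb : b = 0
          · exact ⟨a, cc, ha, hb ▸ hbc.symm, hac⟩
          · exact ⟨a, b, ha, hb, hab⟩
      obtain ⟨p, q, hp, hq, hpq⟩ := hw
      refine ⟨fun i => if i then (p : M) else q, fun i => ?_, fun i j hij => ?_⟩
      · cases i
        · exact ⟨q.2, fun h => hq (Subtype.ext h)⟩
        · exact ⟨p.2, fun h => hp (Subtype.ext h)⟩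
      · cases i <;> cases j
        · rfl
        · exact absurd (Subtype.ext (by simpa using hij)) hpq.symm
        · exact absurd (Subtype.ext (by simpa using hij)) hpq
        · rfl
    choose w hw hwi using hex2
    let φ : ↥(A \ {v0}) × Bool → ↥(B \ {z0}) := fun s => ⟨z0 + w s.1 s.2, by
      constructor
      · obtain ⟨g, hg, hgz⟩ := hz'g s.1 (w s.1 s.2) (hw s.1 s.2).1
        exact ⟨⟨g, hg⟩, hgz⟩
      · intro h
        have h1 : z0 + w s.1 s.2 = z0 := h
        exact (hw s.1 s.2).2 (by simpa using h1)⟩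
    have hφ : Function.Injective φ := by
      rintro ⟨v, i⟩ ⟨v', j⟩ h
      have h1 : z0 + w v i = z0 + w v' j := congrArg Subtype.val h
      have h2 : w v i = w v' j := add_left_cancel h1
      have hvv : v = v' := by
        by_contra hne
        have hnc : ¬ Con X y Y (x v • Y) (x v' • Y) := by
          intro h3
          apply hne
          have h4 : Con X y Y ((x v)⁻¹ • x v • Y) ((x v)⁻¹ • x v' • Y) := h3.smul (x v)⁻¹
          rw [inv_smul_smul, smul_smul] at h4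
          have h5 := D.cent_of_con (C.mul_mem (C.inv_mem (hx v)) (hx v')) h4 hv0
          rw [mul_smul, inv_smul_eq_iff, hxv, hxv] at h5
          exact Subtype.ext h5.symm
        apply (hw v i).2
        refine D.inter fun B1 hB1 => ?_
        by_cases h5 : Con X y Y (x v • Y) B1
        · have h6 : ¬ Con X y Y (x v' • Y) B1 := fun h6 => hnc (h5.trans (D.con_symm h6))
          rw [h2]
          exact hz'B v' B1 hB1 h6 (hw v' j).1
        · exact hz'B v B1 hB1 h5 (hw v i).1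
      subst hvv
      rw [hwi v h2]
    have h2 := Nat.card_le_card_of_injective φ hφ
    rw [Nat.card_prod, Nat.card_eq_fintype_card (α := Bool), Fintype.card_bool, mul_comm] at h2
    rwa [← Nat.card_coe_set_eq, ← Nat.card_coe_set_eq]
  have hA1 : (A \ {v0}).ncard + 1 = A.ncard := Set.ncard_sdiff_singleton_add_one hvA hfinA
  have hB1 : (B \ {z0}).ncard + 1 = B.ncard := Set.ncard_sdiff_singleton_add_one hzB hfinB
  -- orbits and stabilisers
  have hsA : A.ncard * Nat.card (stabilizer C v0) = Nat.card C := by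
    rw [← Nat.card_coe_set_eq]
    have := Nat.card_congr (orbitProdStabilizerEquivGroup C v0)
    rwa [Nat.card_prod] at this
  have hsB : B.ncard * Nat.card (stabilizer Cy z0) = Nat.card Cy := by
    rw [← Nat.card_coe_set_eq]
    have := Nat.card_congr (orbitProdStabilizerEquivGroup Cy z0)
    rwa [Nat.card_prod] at this
  have hs : Nat.card (stabilizer C v0) ≤ Nat.card (stabilizer Cy z0) := by
    refine Nat.card_le_card_of_injective (fun s => ⟨⟨s.1.1, fun u hu => ?_⟩, ?_⟩) ?_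
    · exact D.cent_of_fix s.1.2 hv0 hv00 s.2 hu
    · exact (D.memC _).1 s.1.2 z0 hz0
    · intro s t h
      exact Subtype.ext (Subtype.ext (congrArg (fun r => (r.1.1 : X)) h))
  have hpos : 0 < Nat.card (stabilizer C v0) := Nat.card_pos
  have h1 : B.ncard ≤ A.ncard := by
    refine Nat.le_of_mul_le_mul_right ?_ hpos
    rw [hsA]
    exact (Nat.mul_le_mul_left _ hs).trans (hsB.le.trans hcard)
  have h2 : (A \ {v0}).ncard = 0 := by omega
  have h3 : A \ {v0} = ∅ := (Set.ncard_eq_zero (hfinA.subset Set.sdiff_subset)).1 h2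
  have hfix : ∀ s ∈ C, s • v0 = v0 := by
    intro s hs
    have h5 : s • v0 ∈ A := ⟨⟨s, hs⟩, rfl⟩
    by_contra h6
    have h7 : s • v0 ∈ A \ {v0} := ⟨h5, h6⟩
    rw [h3] at h7
    exact h7
  refine eq_of_le (fun v hv => D.fixS v fun s hs => ?_) D.ptc.card.le
  exact D.cent_of_fix (D.SC hs) hv0 hv00 (hfix s (D.SC hs)) hv

end Sit

end Cfsg.Agent.Omega.NOThreeL.LNq
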