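import Cfsg.Agent.Omega.NOThreeL.LNq

/-!
# LEMMA LN_q for groups (NO-3L, CARD 18022, case (a))

`SitG V Q S Z y U H` : `U = ⟨Z^H⟩` is elementary abelian, `C_G(Z) ≤ H`, `Q` is a normal 2-subgroup of `C_G(Z)`,
`S ≤ C_G(Z)` a 2-group with `C_U(S) ≤ Z`, `C_G(z) ≤ N_G(Z)` for `z ∈ Z - 1`, `|Z| > 2`; `V ≤ Q` acts on `U` with
axis `C_U(V)` and centre `y = Z^g ≤ U`, quadratically: `[U, V] ≤ y`, `[y, V] = 1`, `[u, V] ≥ y` for `u ∈ U - C(V)`,
`C_U(a) = C_U(V)` for `a ∈ V - C(U)`.  Then `y = Z` (`SitG.eq`).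
-/

set_option autoImplicit false

namespace Cfsg.Agent.Omega.NOThreeL.LNq

open Subgroup
open scoped Pointwise

section abstr

variable {X M : Type*} [Group X] [AddCommGroup M] [DistribMulAction X M]

/-- the order of `M` -/
theorem card_eq [Finite M] {T : Subgroup X} {z A p : AddSubgroup M} (act : ∀ t ∈ T, ∀ u : M, t • u - u ∈ z)
    (le : z ≤ A) (cent : ∀ t ∈ T, ∀ u ∈ A, t • u = u)
    (fix : ∀ t ∈ T, ∀ u : M, u ∉ A → t • u = u → ∀ w : M, t • w = w)
    (surj : ∀ u : M, u ∉ A → ∀ w ∈ z, ∃ t ∈ T, t • u = u + w) (hp : Pt X (Nat.card z) p) (hpA : ¬ p ≤ A) :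
    Nat.card M = Nat.card z * Nat.card A := by
  obtain ⟨v, hv, hvA⟩ := SetLike.not_le_iff_exists.1 hpA
  have hti : ∀ u ∈ p, u ∈ A → u = 0 := by
    intro u hu huA
    by_contra hu0
    have h1 : z ≤ p := by
      intro w hw
      obtain ⟨t, ht, htv⟩ := surj v hvA w hw
      have h2 := hp.ti u hu hu0 t (cent t ht u huA)
      have h3 : t • v ∈ t • p := smul_mem hv
      rw [h2, htv] at h3
      have h4 := p.sub_mem h3 hv
      rwa [add_sub_cancel_left] at h4
    have h2 : z = p := eq_of_le h1 hp.card.le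
    exact hvA (le (h2 ▸ hv))
  have hz : z ≠ ⊥ := by
    intro h0
    have h1 := hp.card
    rw [h0, AddSubgroup.card_bot] at h1
    have h2 : p = ⊥ := AddSubgroup.eq_bot_of_card_eq p h1
    rw [h2, AddSubgroup.mem_bot] at hv
    exact hvA (hv ▸ A.zero_mem)
  refine le_antisymm ?_ ?_
  · obtain ⟨w, hw, hw0⟩ : ∃ w ∈ z, w ≠ 0 := by
      by_contra hcon
      push Not at hcon
      exact hz ((AddSubgroup.eq_bot_iff_forall z).2 hcon)
    obtain ⟨t, ht, htv⟩ := surj v hvA w hw
    have hmove : t • v ≠ v := by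
      rw [htv]
      intro h0
      exact hw0 (by simpa using h0)
    let f : M →+ z :=
      { toFun := fun u => ⟨t • u - u, act t ht u⟩
        map_zero' := Subtype.ext (by simp)
        map_add' := fun a b => Subtype.ext (by
          change t • (a + b) - (a + b) = (t • a - a) + (t • b - b)
          rw [smul_add]; abel) }
    have hker : f.ker = A := by
      ext u
      rw [AddMonoidHom.mem_ker]
      constructor
      · intro h
        have h1 : t • u - u = 0 := congrArg Subtype.val h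
        by_contra hu
        exact hmove (fix t ht u hu (sub_eq_zero.1 h1) v)
      · intro h
        exact Subtype.ext (sub_eq_zero.2 (cent t ht u h))
    have h1 := AddSubgroup.card_mul_index f.ker
    rw [AddSubgroup.index_ker, hker] at h1
    rw [← h1, mul_comm]
    exact Nat.mul_le_mul_right _ (AddSubgroup.card_le_card_addGroup f.range)
  · let f : A × p → M := fun s => (s.1 : M) + s.2
    have hf : Function.Injective f := by
      rintro ⟨a, w⟩ ⟨a', w'⟩ hh
      have h1 : (a : M) + w = a' + w' := hh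
      have h2 : (w : M) - w' = a' - a := by
        rw [sub_eq_sub_iff_add_eq_add, add_comm (w : M), h1]
      have h3 : (w : M) - w' = 0 := hti _ (p.sub_mem w.2 w'.2) (h2 ▸ A.sub_mem a'.2 a.2)
      have h4 : (w : M) = w' := sub_eq_zero.1 h3
      rw [h4, add_left_inj] at h1
      exact Prod.ext (Subtype.ext h1) (Subtype.ext h4)
    have h1 := Nat.card_le_card_of_injective f hf
    rwa [Nat.card_prod, hp.card, mul_comm] at h1

end abstr

variable {G : Type*} [Group G]

/-- the group form -/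
structure SitG (V Q S Z y U H : Subgroup G) : Prop where
  sq : ∀ u ∈ U, u * u = 1
  nU : ∀ h ∈ H, ∀ u ∈ U, h * u * h⁻¹ ∈ U
  ZU : Z ≤ U
  CH : centralizer (Z : Set G) ≤ H
  ti : ∀ z ∈ Z, z ≠ 1 → centralizer ({z} : Set G) ≤ normalizer (Z : Set G)
  gen : ∀ N : Subgroup G, Z ≤ N → N ≤ U → (∀ h ∈ H, ∀ n ∈ N, h * n * h⁻¹ ∈ N) → U ≤ N
  three : 3 ≤ Nat.card Z
  S2 : IsPGroup 2 S
  SC : S ≤ centralizer (Z : Set G)
  fixS : ∀ u ∈ U, (∀ s ∈ S, s * u = u * s) → u ∈ Z
  QC : Q ≤ centralizer (Z : Set G)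
  Qn : ∀ g ∈ centralizer (Z : Set G), ∀ q ∈ Q, g * q * g⁻¹ ∈ Q
  Q2 : IsPGroup 2 Q
  VQ : V ≤ Q
  yU : y ≤ U
  yZ : ∃ g : G, y = MulAut.conj g • Z
  act : ∀ a ∈ V, ∀ u ∈ U, a * u * a⁻¹ * u⁻¹ ∈ y
  cy : ∀ a ∈ V, ∀ u ∈ y, a * u = u * a
  fix : ∀ a ∈ V, ∀ u ∈ U, a * u = u * a → (∀ b ∈ V, b * u = u * b) ∨ ∀ w ∈ U, a * w = w * a
  surj : ∀ u ∈ U, (∃ b ∈ V, b * u ≠ u * b) → ∀ w ∈ y, ∃ a ∈ V, a * u * a⁻¹ * u⁻¹ = w
  ne : ∃ u ∈ U, ∃ b ∈ V, b * u ≠ u * b

/-- Lemma: the group form of LN_q -/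
theorem SitG.eq [Finite G] {V Q S Z y U H : Subgroup G} (D : SitG V Q S Z y U H) : y = Z := by
  classical
  have comm : ∀ {u w : G}, u ∈ U → w ∈ U → u * w = w * u := fun {u w} hu hw => by
    have h1 := D.sq _ (mul_mem hu hw)
    have h2 := D.sq u hu
    have h3 := D.sq w hw
    calc u * w = u * (u * w * (u * w)) * w := by rw [h1, mul_one]
      _ = (u * u) * (w * u) * (w * w) := by simp only [mul_assoc]
      _ = w * u := by rw [h2, h3, one_mul, mul_one]
  have hVH : V ≤ H := (D.VQ.trans D.QC).trans D.CH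
  obtain ⟨g, hg⟩ := D.yZ
  have mem_y : ∀ {x : G}, x ∈ y ↔ g⁻¹ * x * g ∈ Z := by
    intro x
    rw [hg, mem_pointwise_smul_iff_inv_smul_mem, ← map_inv, MulAut.smul_def, MulAut.conj_apply, inv_inv]
  have card_y : Nat.card y = Nat.card Z := by
    rw [hg]
    exact (Nat.card_congr (Subgroup.equivSMul (MulAut.conj g) Z).toEquiv).symm
  -- the module
  let i0 : CommGroup U :=
    { (inferInstance : Group U) with
      mul_comm := fun a b => Subtype.ext (comm a.2 b.2) }
  let M := Additive U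
  let i1 : AddCommGroup M := inferInstanceAs (AddCommGroup (Additive U))
  let i3 : DistribMulAction H M :=
    { smul := fun x a => Additive.ofMul ⟨(x : G) * (Additive.toMul a : U) * (x : G)⁻¹,
        D.nU x x.2 _ (Additive.toMul a : U).2⟩
      one_smul := fun a => Subtype.ext (by
        change (1 : G) * ((Additive.toMul a : U) : G) * (1 : G)⁻¹ = ((Additive.toMul a : U) : G)
        rw [one_mul, inv_one, mul_one])
      mul_smul := fun a b c => Subtype.ext (by
        change ((a : G) * b) * ((Additive.toMul c : U) : G) * ((a : G) * b)⁻¹ =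
          (a : G) * ((b : G) * ((Additive.toMul c : U) : G) * (b : G)⁻¹) * (a : G)⁻¹
        rw [mul_inv_rev]; simp only [mul_assoc])
      smul_zero := fun a => Subtype.ext (by
        change (a : G) * 1 * (a : G)⁻¹ = 1
        rw [mul_one, mul_inv_cancel])
      smul_add := fun a b c => Subtype.ext (by
        change (a : G) * (((Additive.toMul b : U) : G) * ((Additive.toMul c : U) : G)) * (a : G)⁻¹ =
          ((a : G) * ((Additive.toMul b : U) : G) * (a : G)⁻¹) * ((a : G) * ((Additive.toMul c : U) : G) * (a : G)⁻¹)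
        group) }
  have hfinM : Finite M := inferInstanceAs (Finite U)
  -- coercion to `G`
  let co : M → G := fun a => ((Additive.toMul a : U) : G)
  have co_inj : ∀ {a b : M}, co a = co b → a = b := fun h => Subtype.ext h
  have co_mem : ∀ a : M, co a ∈ U := fun a => (Additive.toMul a : U).2
  have co_add : ∀ a b : M, co (a + b) = co a * co b := fun a b => rfl
  have co_sub : ∀ a b : M, co (a - b) = co a * (co b)⁻¹ := fun a b => by
    change ((Additive.toMul (a - b) : U) : G) = _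
    rw [toMul_sub, div_eq_mul_inv]; rfl
  have co_neg : ∀ a : M, co (-a) = (co a)⁻¹ := fun a => rfl
  have co_zero : co 0 = 1 := rfl
  have co_smul : ∀ (x : H) (a : M), co (x • a) = (x : G) * co a * (x : G)⁻¹ := fun x a => rfl
  let mk : ∀ u : G, u ∈ U → M := fun u hu => Additive.ofMul ⟨u, hu⟩
  have co_mk : ∀ (u : G) (hu : u ∈ U), co (mk u hu) = u := fun u hu => rfl
  have fixed : ∀ (x : H) (a : M), x • a = a ↔ (x : G) * co a = co a * x := by
    intro x a
    constructor
    · intro h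
      have h1 := congrArg co h
      rw [co_smul, mul_inv_eq_iff_eq_mul] at h1
      exact h1
    · intro h
      apply co_inj
      rw [co_smul, mul_inv_eq_iff_eq_mul]
      exact h
  let ad : Subgroup G → AddSubgroup M := fun A =>
    { carrier := {m | co m ∈ A}
      add_mem' := fun {a b} ha hb => by
        change co (a + b) ∈ A
        rw [co_add]; exact mul_mem ha hb
      zero_mem' := one_mem A
      neg_mem' := fun {a} ha => by
        change co (-a) ∈ A
        rw [co_neg]; exact inv_mem ha }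
  have mem_ad : ∀ {A : Subgroup G} {m : M}, m ∈ ad A ↔ co m ∈ A := Iff.rfl
  have card_ad : ∀ {A : Subgroup G}, A ≤ U → Nat.card (ad A) = Nat.card A := by
    intro A hA
    exact Nat.card_congr ⟨fun m => ⟨co m, m.2⟩, fun a => ⟨mk a (hA a.2), a.2⟩, fun m => rfl, fun a => rfl⟩
  have smul_ad : ∀ {A : Subgroup G} {x : H}, (x : G) ∈ normalizer (A : Set G) → x • ad A = ad A := by
    intro A x hx
    ext m
    rw [mem_smul, mem_ad, mem_ad, co_smul]
    exact ((mem_normalizer_iff.1 (inv_mem hx)) (co m)).symm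
  -- the axis
  let Y : AddSubgroup M := ad (centralizer (V : Set G))
  have mem_Y : ∀ {m : M}, m ∈ Y ↔ ∀ b ∈ V, b * co m = co m * b := by
    intro m
    rw [mem_ad, mem_centralizer_iff]
    rfl
  have not_Y : ∀ {m : M}, m ∉ Y → ∃ b ∈ V, b * co m ≠ co m * b := by
    intro m hm
    rw [mem_Y] at hm
    push Not at hm
    exact hm
  have ptZ : Pt H (Nat.card (ad y)) (ad Z) := by
    refine ⟨by rw [card_ad D.ZU, card_ad D.yU, card_y], fun u hu hu0 x hx => smul_ad ?_⟩
    refine D.ti (co u) hu (fun h => hu0 (co_inj h)) ?_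
    rw [mem_centralizer_singleton_iff]
    exact (fixed x u).1 hx
  have pty : Pt H (Nat.card (ad y)) (ad y) := by
    refine ⟨rfl, fun u hu hu0 x hx => smul_ad ?_⟩
    have h1 := mem_y.1 hu
    have h2 : g⁻¹ * x * g ∈ normalizer (Z : Set G) := by
      refine D.ti _ h1 (fun h => hu0 (co_inj ?_)) ?_
      · have e : co u = g * (g⁻¹ * co u * g) * g⁻¹ := by group
        rw [e, h, co_zero]; group
      · rw [mem_centralizer_singleton_iff]
        have h3 := (fixed x u).1 hx
        calc g⁻¹ * x * g * (g⁻¹ * co u * g) = g⁻¹ * (x * co u) * g := by group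
          _ = g⁻¹ * (co u * x) * g := by rw [h3]
          _ = g⁻¹ * co u * g * (g⁻¹ * x * g) := by group
    rw [mem_normalizer_iff]
    intro w
    have h3 := (mem_normalizer_iff.1 h2) (g⁻¹ * w * g)
    have h4 : w ∈ y ↔ g⁻¹ * w * g ∈ Z := mem_y
    have h5 : (x : G) * w * (x : G)⁻¹ ∈ y ↔ g⁻¹ * (x * w * (x : G)⁻¹) * g ∈ Z := mem_y
    change w ∈ y ↔ (x : G) * w * (x : G)⁻¹ ∈ y
    rw [h4, h5, show g⁻¹ * (x * w * (x : G)⁻¹) * g = g⁻¹ * x * g * (g⁻¹ * w * g) * (g⁻¹ * x * g)⁻¹ by group]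
    exact h3
  have hact : ∀ t ∈ V.subgroupOf H, ∀ u : M, t • u - u ∈ ad y := by
    intro t ht u
    rw [mem_ad, co_sub, co_smul]
    exact D.act t ht _ (co_mem u)
  have hle : ad y ≤ Y := fun m hm => mem_Y.2 fun b hb => D.cy b hb _ hm
  have hcent : ∀ t ∈ V.subgroupOf H, ∀ u ∈ Y, t • u = u := by
    intro t ht u hu
    exact (fixed t u).2 (mem_Y.1 hu t ht)
  have hfix : ∀ t ∈ V.subgroupOf H, ∀ u : M, u ∉ Y → t • u = u → ∀ w : M, t • w = w := by
    intro t ht u hu htu w
    rcases D.fix t ht _ (co_mem u) ((fixed t u).1 htu) with h | h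
    · exact absurd (mem_Y.2 h) hu
    · exact (fixed t w).2 (h _ (co_mem w))
  have hsurj : ∀ u : M, u ∉ Y → ∀ w ∈ ad y, ∃ t ∈ V.subgroupOf H, t • u = u + w := by
    intro u hu w hw
    obtain ⟨a, ha, h⟩ := D.surj _ (co_mem u) (not_Y hu) _ hw
    refine ⟨⟨a, hVH ha⟩, ha, co_inj ?_⟩
    rw [co_smul, co_add, comm (co_mem u) (co_mem w), ← h]
    group
  have hYtop : Y ≠ ⊤ := by
    intro h
    obtain ⟨u, hu, b, hb, hne⟩ := D.ne
    have h1 : mk u hu ∈ Y := h ▸ AddSubgroup.mem_top _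
    exact hne (mem_Y.1 h1 b hb)
  have hgen : ∀ N : AddSubgroup M, ad Z ≤ N → (∀ x : H, ∀ u ∈ N, x • u ∈ N) → N = ⊤ := by
    intro N hN hinv
    let N' : Subgroup G :=
      { carrier := {u | ∃ m ∈ N, co m = u}
        mul_mem' := by
          rintro _ _ ⟨m, hm, rfl⟩ ⟨n, hn, rfl⟩
          exact ⟨m + n, N.add_mem hm hn, rfl⟩
        one_mem' := ⟨0, N.zero_mem, rfl⟩
        inv_mem' := by
          rintro _ ⟨m, hm, rfl⟩
          exact ⟨-m, N.neg_mem hm, rfl⟩ }
    have h1 := D.gen N' (fun z hz => ⟨mk z (D.ZU hz), hN hz, rfl⟩)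
      (by rintro _ ⟨m, hm, rfl⟩; exact co_mem m)
      (by
        rintro h hh _ ⟨m, hm, rfl⟩
        exact ⟨(⟨h, hh⟩ : H) • m, hinv _ m hm, rfl⟩)
    rw [eq_top_iff]
    intro m _
    obtain ⟨n, hn, hnm⟩ := h1 (co_mem m)
    exact co_inj hnm ▸ hn
  obtain ⟨p, hp, hpY⟩ : ∃ p : AddSubgroup M, Pt H (Nat.card (ad y)) p ∧ ¬ p ≤ Y := by
    by_contra hcon
    push Not at hcon
    apply hYtop
    rw [eq_top_iff]
    have h1 : ∀ x : H, x • ad Z ≤ Y := fun x => hcon _ (ptZ.smul x)
    have h2 := hgen (⨆ x : H, x • ad Z) (by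
      have := le_iSup (fun x : H => x • ad Z) 1
      simpa using this) (by
      intro x u hu
      have h3 : x • (⨆ x : H, x • ad Z) ≤ ⨆ x : H, x • ad Z := by
        have h4 : (⨆ x : H, x • ad Z) ≤ x⁻¹ • ⨆ x : H, x • ad Z := by
          refine iSup_le fun k => ?_
          rw [← smul_le (x := x), smul_inv_smul, smul_smul]
          exact le_iSup (fun x : H => x • ad Z) (x * k)
        have h5 := (smul_le (x := x)).2 h4
        rwa [smul_inv_smul] at h5
      exact h3 (smul_mem hu))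
    rw [← h2]
    exact iSup_le h1
  have hln : Ln (V.subgroupOf H) (ad y) Y :=
    ⟨hact, hle, hcent, hfix, hsurj, card_eq hact hle hcent hfix hsurj hp hpY⟩
  have hmemC : ∀ x : H, x ∈ (centralizer (Z : Set G)).subgroupOf H ↔ ∀ u ∈ ad Z, x • u = u := by
    intro x
    rw [mem_subgroupOf, mem_centralizer_iff]
    constructor
    · intro h u hu
      exact (fixed x u).2 (h _ hu).symm
    · intro h z hz
      exact ((fixed x (mk z (D.ZU hz))).1 (h _ hz)).symm
  have key : Sit (V.subgroupOf H) (Q.subgroupOf H) (S.subgroupOf H) ((centralizer (Z : Set G)).subgroupOf H)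
      (ad y) Y (ad Z) := by
    refine ⟨hln, pty, ptZ, hYtop, ?_, hmemC, fun v hv => D.VQ hv, ?_, D.Q2.comap_subtype, D.S2.comap_subtype,
      fun s hs => D.SC hs, ?_, hgen, ?_, ?_⟩
    · intro u
      apply co_inj
      rw [co_add, co_zero]
      exact D.sq _ (co_mem u)
    · intro x hx q hq
      exact D.Qn x hx q hq
    · intro u hu
      refine D.fixS _ (co_mem u) fun s hs => ?_
      exact (fixed ⟨s, D.CH (D.SC hs)⟩ u).1 (hu _ hs)
    · have h1 : Nat.card {x : H // ∀ u ∈ ad y, x • u = u} ≤ Nat.card (centralizer (Z : Set G)) := by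
        refine Nat.card_le_card_of_injective (fun x => ⟨g⁻¹ * (x.1 : G) * g, ?_⟩) ?_
        · rw [mem_centralizer_iff]
          intro z hz
          have hzy : g * z * g⁻¹ ∈ y := mem_y.2 (by simpa [mul_assoc] using hz)
          have h2 := (fixed x.1 (mk _ (D.yU hzy))).1 (x.2 _ hzy)
          rw [co_mk] at h2
          calc z * (g⁻¹ * (x.1 : G) * g) = g⁻¹ * (g * z * g⁻¹ * x.1) * g := by group
            _ = g⁻¹ * (x.1 * (g * z * g⁻¹)) * g := by rw [h2]
            _ = g⁻¹ * (x.1 : G) * g * z := by group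
        · intro a b h
          have h2 : g⁻¹ * (a.1 : G) * g = g⁻¹ * (b.1 : G) * g := congrArg Subtype.val h
          have h3 : (a.1 : G) = b.1 := by simpa using h2
          exact Subtype.ext (Subtype.ext h3)
      refine h1.trans ?_
      exact (Nat.card_congr (subgroupOfEquivOfLe D.CH).toEquiv).ge
    · rw [card_ad D.yU, card_y]
      exact D.three
  have h1 := key.eq
  ext x
  constructor
  · intro hx
    have h2 : mk x (D.yU hx) ∈ ad y := hx
    rw [h1] at h2
    exact h2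
  · intro hx
    have h2 : mk x (D.ZU hx) ∈ ad Z := hx
    rw [← h1] at h2
    exact h2

end Cfsg.Agent.Omega.NOThreeL.LNq
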