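import Cfsg.Agent.Omega.NOThreeL.LinePlug
import Cfsg.Agent.Omega.NOThreeL.AdjTransvPlug
import Cfsg.Agent.Omega.NoFF.Main

/-!
# NO-3L, not (A): the lines and the long modules of a residue (text bb OMEGA #15922, helper597)

`S` a Sylow 2-subgroup, `Z = Ω₁(Z(S))`, `C = C_G(Z) = CZ S`, `Q = O₂(C)`, long groups `H`, `U_H = zl S H`,
`F` a set of members of `P*(S)`, `N ≤ C` a group of normalising elements of `S` which permutes `F` (e.g. `N = 1` or
`N = N_G(S)` if `|Z| = 2`), `X = N⟨F⟩` (`NoFF.Main.X N F`), `V* = ⟨Z^X⟩` (`NoFF.Main.A Z N F`).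

* `NullF S F` : (L) a conjugate `V` of a line `V_P`, `P ∈ F`, with `V ≤ Q`, `U_H ≤ N(V)`, centralises `U_H`;
  `nullF_of_four` : (L) holds if `|Z| = 2`, not (A), and all `V_P`, `P ∈ F`, have order 4 (helper848);
* `claim` : the claim of (M);
* (M) `zl_le_o2` : `U_H ≤ O₂(X)` for all long `H`; `zl_comm` : `[U_H, V*] = 1`; `A_le` : `V* ≤ Q`;
* `JC` : `J = ⟨U_H : H long⟩`, normal in `C`; `JC_le_o2`, `JC_comm` : `J ≤ O₂(X)`, `[J, V*] = 1`; `JC_conj` :
  `J^x`, `J^y` (`x, y ∈ X`) are in `S` and normalise each other; more precisely `J^x` normalises all `(U_H)^y`;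
* `WS` : `W⁺ = ⟨V*^C⟩`: `WS_comm`, `WS_JC`, `WS_le_o2`: abelian, `≤ Q`, centralises `J`, `≤ O₂(H)`;
* `FHS` : `F_H⁺ = ⟨W⁺^H⟩`: `FHS_comm`, `FHS_le_o2`;
* `isLoc_X` : `X` is local; `PF S`, `nullF_PF`, `inv_PF`, `normalizer_le_CZ` : the lines of order 4, `|Z| = 2`;
* (M') `claim'` : `E = (U_K)^h ≤ S`, `h ∈ H`, `H`, `K` long: `E ≤ O₂(X)` and `[E, V*] = 1`; `line_comm'` : `E` centralises
  every line on `Z` which it normalises.
-/

set_option autoImplicit false

namespace Cfsg.Agent.Omega.NOThreeL.MutLine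

open Subgroup Cfsg Cfsg.Agent.ZN Cfsg.Agent.Omega.MinPar Cfsg.Agent.Omega.Frame Cfsg.Agent.Omega.FrameNOFF
open Cfsg.Agent.Omega.Node.NO3L Cfsg.Agent.Omega.NOThreeL.Basic
open Cfsg.Agent.Omega.NoFF.Basic (V conj_conj mem_conj conj_le_iff conj_le_centralizer comm_symm comm_mono
  Z_le_V V_le conj_V_mul Sys Gal conj_Z_le)
open Cfsg.Agent.Omega.NOThreeL.Pair (conj_eq_of_mem conj_le_normalizer zl_abel)
open Cfsg.Agent.MinSimple.VModule (zl_le le_normalizer_zl zc_le_zl zc_le zl_le_zc o2_isPGroup le_normalizer_o2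
  mem_zc le_o2 o2_le le_centralizer_zc zc_sq)
open scoped Pointwise

universe u

variable {G : Type u} [Group G]

/-! ### Galleries -/

/-- the first step of a gallery -/
theorem Gal.head {F : Set (Subgroup G)} {k : ℕ} {a b : G} (h : Gal F (k + 1) a b) :
    ∃ P ∈ F, ∃ p ∈ P, Gal F k (a * p) b := by
  have h1 := h.symm
  cases h1 with
  | @step _ _ c p P hc hP hp =>
    refine ⟨P, hP, p⁻¹, P.inv_mem hp, ?_⟩
    rw [mul_inv_cancel_right]
    exact hc.symm

theorem Gal.head' {F : Set (Subgroup G)} {k : ℕ} {b : G} (h : Gal F (k + 1) 1 b) :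
    ∃ P ∈ F, ∃ p ∈ P, ∃ c, Gal F k 1 c ∧ b = p * c := by
  obtain ⟨P, hP, p, hp, h1⟩ := Gal.head h
  refine ⟨P, hP, p, hp, p⁻¹ * b, ?_, by group⟩
  have h2 := h1.mul_left p⁻¹
  rwa [one_mul, inv_mul_cancel] at h2

/-! ### The hypothesis (L) -/

/-- **(L)** A conjugate `V ≤ Q` of a line `V_P`, `P ∈ F`, which is normalised by `U_H` centralises `U_H`. -/
def NullF (S : Subgroup G) (F : Set (Subgroup G)) : Prop :=
  ∀ P H : Subgroup G, ∀ g : G, P ∈ F → IsLong S H → MulAut.conj g • zl S P ≤ o2 (CZ S) →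
    zl S H ≤ normalizer ((MulAut.conj g • zl S P : Subgroup G) : Set G) →
    MulAut.conj g • zl S P ≤ centralizer (zl S H : Set G)

/-- (L) holds for the lines of order 4 (`|Z| = 2`, not (A)). -/
theorem nullF_of_four [Finite G] (hc : IsCharacteristicTwoType G) {S : Sylow 2 G}
    (hZ : Nat.card (zc (S : Subgroup G)) = 2) (hA : ¬ CaseA (S : Subgroup G)) {F : Set (Subgroup G)}
    (hF : F ⊆ PS (S : Subgroup G)) (h4 : ∀ P ∈ F, Nat.card (zl (S : Subgroup G) P) = 4) :
    NullF (S : Subgroup G) F := by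
  intro P H g hP hH h1 h2
  by_contra hne
  exact hA (LinePlug.caseA_of hc hZ (hF hP) (h4 P hP) hH h1 h2 hne)

/-- (L) at the point `Z^x`. -/
theorem NullF.conj {S : Subgroup G} {F : Set (Subgroup G)} (h : NullF S F) {P K : Subgroup G} (hP : P ∈ F)
    (hK : IsLong S K) {g x : G} (h1 : MulAut.conj g • zl S P ≤ MulAut.conj x • o2 (CZ S))
    (h2 : MulAut.conj x • zl S K ≤ normalizer ((MulAut.conj g • zl S P : Subgroup G) : Set G)) :
    MulAut.conj g • zl S P ≤ centralizer ((MulAut.conj x • zl S K : Subgroup G) : Set G) := by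
  have e1 : MulAut.conj x • MulAut.conj (x⁻¹ * g) • zl S P = MulAut.conj g • zl S P := by
    rw [conj_conj, mul_inv_cancel_left]
  rw [← e1] at h1 h2 ⊢
  refine conj_le_centralizer (h P K _ hP hK (conj_le_iff.1 h1) ?_)
  have h3 := conj_le_normalizer (g := x⁻¹) h2
  rw [conj_conj, conj_conj, inv_mul_cancel, map_one, one_smul, one_smul] at h3
  exact h3

/-! ### Definitions -/

/-- `J = ⟨U_H : H long⟩` -/
def JC (S : Subgroup G) : Subgroup G := sSup {U : Subgroup G | ∃ H, IsLong S H ∧ U = zl S H}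

/-- `W⁺ = ⟨V*^C⟩` -/
def WS (S N : Subgroup G) (F : Set (Subgroup G)) : Subgroup G := V (NoFF.Main.A (zc S) N F) (CZ S)

/-- `F_H⁺ = ⟨W⁺^H⟩` -/
def FHS (S N : Subgroup G) (F : Set (Subgroup G)) (H : Subgroup G) : Subgroup G := V (WS S N F) H

theorem zl_le_JC {S H : Subgroup G} (hH : IsLong S H) : zl S H ≤ JC S := le_sSup ⟨H, hH, rfl⟩

theorem JC_le {S A : Subgroup G} (h : ∀ H, IsLong S H → zl S H ≤ A) : JC S ≤ A :=
  sSup_le (by rintro _ ⟨H, hH, rfl⟩; exact h H hH)

theorem CZ_le_normalizer_JC (S : Subgroup G) : CZ S ≤ normalizer (JC S : Set G) := by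
  have key : ∀ c ∈ CZ S, MulAut.conj c • JC S ≤ JC S := by
    intro c hcc
    rw [Subgroup.pointwise_smul_subset_iff]
    refine JC_le fun H hH => ?_
    rw [← Subgroup.pointwise_smul_subset_iff, conj_eq_of_mem (le_normalizer_zl S H (hH.cz hcc))]
    exact zl_le_JC hH
  intro c hcc
  rw [mem_normalizer_iff]
  intro x
  constructor
  · intro hx
    refine key c hcc ?_
    rw [mem_conj]
    simpa [mul_assoc] using hx
  · intro hx
    have h1 := key c⁻¹ (inv_mem hcc) (mem_conj.2 (by simpa [mul_assoc] using hx) :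
      c⁻¹ * (c * x * c⁻¹) * c ∈ _)
    simpa [mul_assoc] using h1

theorem WS_conj (S N : Subgroup G) (F : Set (Subgroup G)) {c : G} (hc : c ∈ CZ S) :
    MulAut.conj c • WS S N F = WS S N F := by
  have := conj_V_mul (Z := NoFF.Main.A (zc S) N F) (P := CZ S) (g := 1) hc
  rwa [one_mul, map_one, one_smul] at this

theorem A_le_WS (S N : Subgroup G) (F : Set (Subgroup G)) : NoFF.Main.A (zc S) N F ≤ WS S N F := by
  have h := Z_le_V (Z := NoFF.Main.A (zc S) N F) (CZ S).one_mem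
  rwa [map_one, one_smul] at h

theorem WS_le_FHS (S N : Subgroup G) (F : Set (Subgroup G)) (H : Subgroup G) : WS S N F ≤ FHS S N F H := by
  have h := Z_le_V (Z := WS S N F) H.one_mem
  rwa [map_one, one_smul] at h

theorem FHS_conj (S N : Subgroup G) (F : Set (Subgroup G)) {H : Subgroup G} {h : G} (hh : h ∈ H) :
    MulAut.conj h • FHS S N F H = FHS S N F H := by
  have := conj_V_mul (Z := WS S N F) (P := H) (g := 1) hh
  rwa [one_mul, map_one, one_smul] at this

/-! ### A tool: subgroups of all Sylow subgroups `S^x` -/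

/-- `A ≤ S^x` for all `x ∈ X` implies `A ≤ O₂(X)`. -/
theorem le_o2_of_conj {S X A : Subgroup G} (hS : IsPGroup 2 S) (hSX : S ≤ X)
    (h : ∀ x ∈ X, A ≤ MulAut.conj x • S) : A ≤ o2 X := by
  let B : Subgroup G := ⨅ x : X, MulAut.conj (x : G) • S
  have hAB : A ≤ B := le_iInf fun x => h x x.2
  have hBS : B ≤ S := by
    have := iInf_le (fun x : X => MulAut.conj (x : G) • S) 1
    rwa [OneMemClass.coe_one, map_one, one_smul] at this
  refine hAB.trans (le_o2 (hBS.trans hSX) (hS.to_le hBS) ?_)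
  have key : ∀ x ∈ X, ∀ b ∈ B, x * b * x⁻¹ ∈ B := by
    intro x hx b hb
    rw [Subgroup.mem_iInf]
    intro y
    have h1 := Subgroup.mem_iInf.1 hb (⟨x⁻¹ * y, X.mul_mem (X.inv_mem hx) y.2⟩ : X)
    rw [mem_conj] at h1 ⊢
    simpa [mul_assoc] using h1
  intro x hx
  rw [mem_normalizer_iff]
  intro b
  refine ⟨key x hx b, fun hb => ?_⟩
  have h1 := key x⁻¹ (X.inv_mem hx) _ hb
  simpa [mul_assoc] using h1

/-! ### (M) -/

section fin

variable [Finite G] {S : Sylow 2 G} (hc : IsCharacteristicTwoType G) (D : Data (S : Subgroup G))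
  {N : Subgroup G} {F : Set (Subgroup G)} (hF : F ⊆ PS (S : Subgroup G)) (hL : NullF (S : Subgroup G) F)

include hc D hF in
theorem sysF : Sys (S : Subgroup G) (zc (S : Subgroup G)) F :=
  (sys hc S D.noff).mono hF

include hc D hF hL

/-- **The claim of (M).** -/
theorem claim : ∀ (k : ℕ) (w : G), Gal F k 1 w → ∀ H : Subgroup G, IsLong (S : Subgroup G) H →
    zl (S : Subgroup G) H ≤ MulAut.conj w • (S : Subgroup G) ∧
    ∀ P ∈ F, MulAut.conj w • zl (S : Subgroup G) P ≤ o2 (CZ (S : Subgroup G)) ∧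
      MulAut.conj w • zl (S : Subgroup G) P ≤ centralizer (zl (S : Subgroup G) H : Set G) := by
  have Y := sysF hc D hF
  intro k
  induction k with
  | zero =>
    intro w hw H hH
    cases hw
    rw [map_one, one_smul]
    refine ⟨IsLong.zl_le_S hc hH, fun P hP => ?_⟩
    rw [one_smul]
    refine ⟨D.low P (hF hP), ?_⟩
    have h1 := hL P H 1 hP hH (by rw [map_one, one_smul]; exact D.low P (hF hP)) (by
      rw [map_one, one_smul]
      exact (IsLong.zl_le_S hc hH).trans ((hF hP).le.trans (le_normalizer_zl _ _)))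
    rwa [map_one, one_smul] at h1
  | succ k ih =>
    intro w' hw' H hH
    -- (a) the last step
    have ha : zl (S : Subgroup G) H ≤ MulAut.conj w' • (S : Subgroup G) := by
      cases hw' with
      | @step _ _ w q R hw hR hq =>
        refine Y.pass hR hq (ih w hw H hH).1 fun p' hp' => ?_
        exact comm_symm ((conj_Z_le hp').trans ((ih w hw H hH).2 R hR).2)
    refine ⟨ha, fun P hP => ?_⟩
    -- (b) the first step
    have hb : MulAut.conj w' • zl (S : Subgroup G) P ≤ o2 (CZ (S : Subgroup G)) := by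
      obtain ⟨R, hR, q, hq, w, hw, rfl⟩ := Gal.head' hw'
      have hlong := D.loc R (hF hR)
      have h1 := (ih w hw _ hlong).2 P hP
      have h2 := le_o2_of_comm h1.1 hlong h1.2
      have h3 := (conj_le_iff (g := q)).2 h2
      rw [conj_conj, conj_eq_of_mem (le_normalizer_o2 _ ((le_sup_left : R ≤ R ⊔ CZ (S : Subgroup G)) hq))] at h3
      exact h3.trans (hlong.o2_le S)
    -- (c) commute
    refine ⟨hb, hL P H w' hP hH hb (ha.trans ?_)⟩
    exact (conj_le_iff.2 (hF hP).le).trans (conj_le_normalizer (le_normalizer_zl _ _))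

/-! ### (M): `U_H ≤ O₂(X)`, `[U_H, V*] = 1` -/

variable (hI : NoFF.Main.Inv (S : Subgroup G) (zc (S : Subgroup G)) N F) (hne : F.Nonempty)

omit hc D hL [Finite G] in
include hne in
theorem le_X : (S : Subgroup G) ≤ NoFF.Main.X N F := by
  obtain ⟨P, hP⟩ := hne
  exact (hF hP).le.trans (NoFF.Main.le_X hP)

include hI in
theorem zl_le_conj {x : G} (hx : x ∈ NoFF.Main.X N F) {H : Subgroup G} (hH : IsLong (S : Subgroup G) H) :
    zl (S : Subgroup G) H ≤ MulAut.conj x • (S : Subgroup G) := by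
  obtain ⟨k, u, hu, n, hn, rfl⟩ := NoFF.Main.exists_gal hI hx
  rw [← conj_conj, hI.nS n hn]
  exact (claim hc D hF hL k u hu H hH).1

include hI hne

/-- **(M)** `U_H ≤ O₂(X)`. -/
theorem zl_le_o2 {H : Subgroup G} (hH : IsLong (S : Subgroup G) H) :
    zl (S : Subgroup G) H ≤ o2 (NoFF.Main.X N F) :=
  le_o2_of_conj S.isPGroup' (le_X hF hne) fun _ hx => zl_le_conj hc D hF hL hI hx hH

/-- `V* ≤ Q` -/
theorem A_le : NoFF.Main.A (zc (S : Subgroup G)) N F ≤ o2 (CZ (S : Subgroup G)) := by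
  obtain ⟨P, hP⟩ := hne
  have h1 := NoFF.Main.conj_A_le (Z := zc (S : Subgroup G)) (g := 1) (B := o2 (CZ (S : Subgroup G))) hI
    fun k a ha => (conj_le_iff.2 (zc_le_zl _ P)).trans
      ((claim hc D hF hL k a ha _ (D.loc P (hF hP))).2 P hP).1
  rwa [map_one, one_smul] at h1

/-- **(M)** `[V*, U_H] = 1` -/
theorem A_comm {H : Subgroup G} (hH : IsLong (S : Subgroup G) H) :
    NoFF.Main.A (zc (S : Subgroup G)) N F ≤ centralizer (zl (S : Subgroup G) H : Set G) := by
  obtain ⟨P, hP⟩ := hne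
  have h1 := NoFF.Main.conj_A_le (Z := zc (S : Subgroup G)) (g := 1)
    (B := centralizer (zl (S : Subgroup G) H : Set G)) hI
    fun k a ha => (conj_le_iff.2 (zc_le_zl _ P)).trans ((claim hc D hF hL k a ha H hH).2 P hP).2
  rwa [map_one, one_smul] at h1

omit hc D hF hL hI hne [Finite G] in
/-- `V_P^w ≤ V*` for a gallery `w`. -/
theorem line_le_A {P : Subgroup G} (hP : P ∈ F) {w : G} (hw : w ∈ NoFF.Main.X N F) :
    MulAut.conj w • zl (S : Subgroup G) P ≤ NoFF.Main.A (zc (S : Subgroup G)) N F := by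
  refine NoFF.Basic.conj_V_le fun p hp => ?_
  exact Z_le_V ((NoFF.Main.X N F).mul_mem hw (NoFF.Main.le_X hP hp))

/-! ### `J = ⟨U_H : H long⟩` -/

omit hne in
theorem JC_le_conj {x : G} (hx : x ∈ NoFF.Main.X N F) :
    JC (S : Subgroup G) ≤ MulAut.conj x • (S : Subgroup G) :=
  JC_le fun _ hH => zl_le_conj hc D hF hL hI hx hH

/-- `J ≤ O₂(X)` -/
theorem JC_le_o2 : JC (S : Subgroup G) ≤ o2 (NoFF.Main.X N F) :=
  JC_le fun _ hH => zl_le_o2 hc D hF hL hI hne hH

/-- `[V*, J] = 1` -/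
theorem JC_comm : NoFF.Main.A (zc (S : Subgroup G)) N F ≤ centralizer (JC (S : Subgroup G) : Set G) :=
  comm_symm (JC_le fun _ hH => comm_symm (A_comm hc D hF hL hI hne hH))

/-- all `J^x`, `x ∈ X`, are in `O₂(X)` -/
theorem conj_JC_le {x : G} (hx : x ∈ NoFF.Main.X N F) :
    MulAut.conj x • JC (S : Subgroup G) ≤ o2 (NoFF.Main.X N F) := by
  have h1 := (conj_le_iff (g := x)).2 (JC_le_o2 hc D hF hL hI hne)
  rwa [conj_eq_of_mem (le_normalizer_o2 _ hx)] at h1

/-- `J^x` normalises `(U_H)^y`, `x, y ∈ X`. -/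
theorem JC_conj {x y : G} (hx : x ∈ NoFF.Main.X N F) (hy : y ∈ NoFF.Main.X N F) {H : Subgroup G}
    (hH : IsLong (S : Subgroup G) H) :
    MulAut.conj x • JC (S : Subgroup G) ≤
      normalizer ((MulAut.conj y • zl (S : Subgroup G) H : Subgroup G) : Set G) := by
  have h1 := (conj_JC_le hc D hF hL hI hne (NoFF.Main.X N F |>.mul_mem ((NoFF.Main.X N F).inv_mem hy) hx))
  have h2 : o2 (NoFF.Main.X N F) ≤ (S : Subgroup G) :=
    MinSimple.VModule.o2_le_of_sylow S.isPGroup' (MinSimple.Basic.not_dvd_relIndex S (le_X hF hne))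
  have h3 := (h1.trans h2).trans (hH.loc.le.trans (le_normalizer_zl (S : Subgroup G) H))
  have h4 := conj_le_normalizer (g := y) h3
  rwa [conj_conj, mul_inv_cancel_left] at h4

/-! ### `W⁺ = ⟨V*^C⟩` -/

/-- `W⁺ ≤ Q` -/
theorem WS_le : WS (S : Subgroup G) N F ≤ o2 (CZ (S : Subgroup G)) := by
  refine V_le fun c hcc => ?_
  have h1 := (conj_le_iff (g := c)).2 (A_le hc D hF hL hI hne)
  rwa [conj_eq_of_mem (le_normalizer_o2 _ hcc)] at h1

/-- `W⁺` is abelian. -/
theorem WS_comm : WS (S : Subgroup G) N F ≤ centralizer (WS (S : Subgroup G) N F : Set G) := by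
  refine NoFF.Main.comm_W (sysF hc D hF) hI fun c hcc => ?_
  refine (A_le hc D hF hL hI hne).trans ?_
  rw [← conj_eq_of_mem (le_normalizer_o2 (CZ (S : Subgroup G)) hcc)]
  exact conj_le_iff.2 (LinePlug.o2_CZ_le_S hc)

/-- `[W⁺, J] = 1` -/
theorem WS_JC : WS (S : Subgroup G) N F ≤ centralizer (JC (S : Subgroup G) : Set G) := by
  refine V_le fun c hcc => ?_
  have h1 := conj_le_centralizer (g := c) (JC_comm hc D hF hL hI hne)
  rwa [conj_eq_of_mem (CZ_le_normalizer_JC _ hcc)] at h1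

/-- `W⁺ ≤ O₂(H)` -/
theorem WS_le_o2 {H : Subgroup G} (hH : IsLong (S : Subgroup G) H) : WS (S : Subgroup G) N F ≤ o2 H :=
  le_o2_of_comm (WS_le hc D hF hL hI hne) hH
    (comm_mono (WS_JC hc D hF hL hI hne) le_rfl (zl_le_JC hH))

/-! ### `F_H⁺ = ⟨W⁺^H⟩` -/

/-- `F_H⁺ ≤ O₂(H)` -/
theorem FHS_le_o2 {H : Subgroup G} (hH : IsLong (S : Subgroup G) H) : FHS (S : Subgroup G) N F H ≤ o2 H := by
  refine V_le fun x hx => ?_
  have h1 := (conj_le_iff (g := x)).2 (WS_le_o2 hc D hF hL hI hne hH)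
  rwa [conj_eq_of_mem (le_normalizer_o2 _ hx)] at h1

/-- `F_H⁺` is abelian. -/
theorem FHS_comm {H : Subgroup G} (hH : IsLong (S : Subgroup G) H) :
    FHS (S : Subgroup G) N F H ≤ centralizer (FHS (S : Subgroup G) N F H : Set G) := by
  have key : ∀ x ∈ H, ∀ c ∈ CZ (S : Subgroup G), ∀ y ∈ H, ∀ d ∈ CZ (S : Subgroup G),
      MulAut.conj (x * c) • NoFF.Main.A (zc (S : Subgroup G)) N F ≤ MulAut.conj (y * d) • (S : Subgroup G) := by
    intro x hx c hcc y hy d hd
    have h1 : MulAut.conj (x * c) • NoFF.Main.A (zc (S : Subgroup G)) N F ≤ o2 H := by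
      rw [← conj_conj]
      refine (conj_le_iff.2 (Z_le_V (P := CZ (S : Subgroup G)) hcc)).trans ?_
      exact (Z_le_V (Z := WS (S : Subgroup G) N F) hx).trans (FHS_le_o2 hc D hF hL hI hne hH)
    refine h1.trans ?_
    rw [← conj_eq_of_mem (le_normalizer_o2 H (H.mul_mem hy (hH.cz hd)))]
    exact conj_le_iff.2 (hH.loc.o2_le S)
  refine V_le fun x hx => comm_symm (V_le fun y hy => comm_symm ?_)
  refine NoFF.Basic.conj_V_le fun c hcc => comm_symm (NoFF.Basic.conj_V_le fun d hd => comm_symm ?_)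
  exact NoFF.Main.comm_of_le (sysF hc D hF) hI (key x hx c hcc y hy d hd) (key y hy d hd x hx c hcc)

/-! ### (M') -/

/-- `V_P^w ≤ W⁺` -/
theorem conj_line_le_o2 {H P : Subgroup G} (hH : IsLong (S : Subgroup G) H) (hP : P ∈ F) {w : G}
    (hw : w ∈ NoFF.Main.X N F) : MulAut.conj w • zl (S : Subgroup G) P ≤ o2 H :=
  ((line_le_A hP hw).trans (A_le_WS _ _ _)).trans (WS_le_o2 hc D hF hL hI hne hH)

/-- **The claim of (M')**: `E = (U_K)^h ≤ S`, `h ∈ H`. -/
theorem claim' {H K : Subgroup G} (hH : IsLong (S : Subgroup G) H) (hK : IsLong (S : Subgroup G) K) {h : G}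
    (hh : h ∈ H) (hE : MulAut.conj h • zl (S : Subgroup G) K ≤ (S : Subgroup G)) :
    ∀ (k : ℕ) (w : G), Gal F k 1 w →
      MulAut.conj h • zl (S : Subgroup G) K ≤ MulAut.conj w • (S : Subgroup G) ∧
      ∀ P ∈ F, MulAut.conj w • zl (S : Subgroup G) P ≤
        centralizer ((MulAut.conj h • zl (S : Subgroup G) K : Subgroup G) : Set G) := by
  have Y := sysF hc D hF
  have hmem : ∀ {k : ℕ} {w : G}, Gal F k 1 w → w ∈ NoFF.Main.X N F := fun hw => by
    have := NoFF.Main.gal_mem (N := N) hw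
    rwa [inv_one, one_mul] at this
  have hcomm : ∀ w ∈ NoFF.Main.X N F, MulAut.conj h • zl (S : Subgroup G) K ≤ MulAut.conj w • (S : Subgroup G) →
      ∀ P ∈ F, MulAut.conj w • zl (S : Subgroup G) P ≤
        centralizer ((MulAut.conj h • zl (S : Subgroup G) K : Subgroup G) : Set G) := by
    intro w hw h1 P hP
    refine hL.conj hP hK ?_ ?_
    · refine (conj_line_le_o2 hc D hF hL hI hne hH hP hw).trans ?_
      rw [← conj_eq_of_mem (le_normalizer_o2 H hh)]
      exact conj_le_iff.2 (hH.o2_le S)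
    · exact h1.trans ((conj_le_iff.2 (hF hP).le).trans (conj_le_normalizer (le_normalizer_zl _ _)))
  intro k
  induction k with
  | zero =>
    intro w hw
    have h1 := hmem hw
    cases hw
    have h2 : MulAut.conj h • zl (S : Subgroup G) K ≤ MulAut.conj (1 : G) • (S : Subgroup G) := by
      rwa [map_one, one_smul]
    exact ⟨h2, hcomm 1 h1 h2⟩
  | succ k ih =>
    intro w' hw'
    have h1 := hmem hw'
    have h2 : MulAut.conj h • zl (S : Subgroup G) K ≤ MulAut.conj w' • (S : Subgroup G) := by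
      cases hw' with
      | @step _ _ w q R hw hR hq =>
        refine Y.pass hR hq (ih w hw).1 fun p' hp' => ?_
        exact comm_symm ((conj_Z_le hp').trans ((ih w hw).2 R hR))
    exact ⟨h2, hcomm w' h1 h2⟩

/-- **(M')** `E = (U_K)^h ≤ S`, `h ∈ H`: `E ≤ O₂(X)`. -/
theorem conj_zl_le_o2 {H K : Subgroup G} (hH : IsLong (S : Subgroup G) H) (hK : IsLong (S : Subgroup G) K) {h : G}
    (hh : h ∈ H) (hE : MulAut.conj h • zl (S : Subgroup G) K ≤ (S : Subgroup G)) :
    MulAut.conj h • zl (S : Subgroup G) K ≤ o2 (NoFF.Main.X N F) := by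
  refine le_o2_of_conj S.isPGroup' (le_X hF hne) fun x hx => ?_
  obtain ⟨k, u, hu, n, hn, rfl⟩ := NoFF.Main.exists_gal hI hx
  rw [← conj_conj, hI.nS n hn]
  exact (claim' hc D hF hL hI hne hH hK hh hE k u hu).1

/-- **(M')** `E = (U_K)^h ≤ S`, `h ∈ H`: `[V*, E] = 1`. -/
theorem conj_zl_comm {H K : Subgroup G} (hH : IsLong (S : Subgroup G) H) (hK : IsLong (S : Subgroup G) K) {h : G}
    (hh : h ∈ H) (hE : MulAut.conj h • zl (S : Subgroup G) K ≤ (S : Subgroup G)) :
    NoFF.Main.A (zc (S : Subgroup G)) N F ≤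
      centralizer ((MulAut.conj h • zl (S : Subgroup G) K : Subgroup G) : Set G) := by
  obtain ⟨P, hP⟩ := id hne
  have h1 := NoFF.Main.conj_A_le (Z := zc (S : Subgroup G)) (g := 1)
    (B := centralizer ((MulAut.conj h • zl (S : Subgroup G) K : Subgroup G) : Set G)) hI
    fun k a ha => (conj_le_iff.2 (zc_le_zl _ P)).trans
      ((claim' hc D hF hL hI hne hH hK hh hE k a ha).2 P hP)
  rwa [map_one, one_smul] at h1

/-- **(M')** for every Sylow subgroup `S^c` of `C` which contains `E = (U_K)^h`, `h ∈ H`. -/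
theorem conj_zl_of_conj {H K : Subgroup G} (hH : IsLong (S : Subgroup G) H) (hK : IsLong (S : Subgroup G) K)
    {h c : G} (hh : h ∈ H) (hcc : c ∈ CZ (S : Subgroup G))
    (hE : MulAut.conj h • zl (S : Subgroup G) K ≤ MulAut.conj c • (S : Subgroup G)) :
    MulAut.conj h • zl (S : Subgroup G) K ≤ MulAut.conj c • o2 (NoFF.Main.X N F) ∧
    MulAut.conj c • NoFF.Main.A (zc (S : Subgroup G)) N F ≤
      centralizer ((MulAut.conj h • zl (S : Subgroup G) K : Subgroup G) : Set G) := by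
  have hh' : c⁻¹ * h ∈ H := H.mul_mem (H.inv_mem (hH.cz hcc)) hh
  have hE' : MulAut.conj (c⁻¹ * h) • zl (S : Subgroup G) K ≤ (S : Subgroup G) := by
    have h1 := (conj_le_iff (g := c⁻¹)).2 hE
    rwa [conj_conj, conj_conj, inv_mul_cancel, map_one, one_smul] at h1
  have h1 := (conj_le_iff (g := c)).2 (conj_zl_le_o2 hc D hF hL hI hne hH hK hh' hE')
  have h2 := conj_le_centralizer (g := c) (conj_zl_comm hc D hF hL hI hne hH hK hh' hE')
  rw [conj_conj, mul_inv_cancel_left] at h1 h2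
  exact ⟨h1, h2⟩

omit hc D hF hI hne in
/-- `E = (U_K)^h`, `h ∈ H`, centralises every line in `O₂(H)` (of type `F`) which it normalises. -/
theorem line_comm {H K P : Subgroup G} (hH : IsLong (S : Subgroup G) H) (hK : IsLong (S : Subgroup G) K)
    (hP : P ∈ F) {h g : G} (hh : h ∈ H) (hg : MulAut.conj g • zl (S : Subgroup G) P ≤ o2 H)
    (hn : MulAut.conj h • zl (S : Subgroup G) K ≤
      normalizer ((MulAut.conj g • zl (S : Subgroup G) P : Subgroup G) : Set G)) :
    MulAut.conj g • zl (S : Subgroup G) P ≤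
      centralizer ((MulAut.conj h • zl (S : Subgroup G) K : Subgroup G) : Set G) := by
  refine hL.conj hP hK (hg.trans ?_) hn
  rw [← conj_eq_of_mem (le_normalizer_o2 H hh)]
  exact conj_le_iff.2 (hH.o2_le S)

/-- **(M')** `E = (U_K)^h`, `h ∈ H`, centralises every line on `Z` (of type `F`) which it normalises. -/
theorem line_comm' {H K P : Subgroup G} (hH : IsLong (S : Subgroup G) H) (hK : IsLong (S : Subgroup G) K)
    (hP : P ∈ F) {h c : G} (hh : h ∈ H) (hcc : c ∈ CZ (S : Subgroup G))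
    (hn : MulAut.conj h • zl (S : Subgroup G) K ≤
      normalizer ((MulAut.conj c • zl (S : Subgroup G) P : Subgroup G) : Set G)) :
    MulAut.conj c • zl (S : Subgroup G) P ≤
      centralizer ((MulAut.conj h • zl (S : Subgroup G) K : Subgroup G) : Set G) := by
  refine line_comm hL hH hK hP hh ?_ hn
  have h1 := (conj_le_iff (g := c)).2 (conj_line_le_o2 hc D hF hL hI hne hH hP (one_mem _))
  rw [map_one, one_smul, conj_eq_of_mem (le_normalizer_o2 H (hH.cz hcc))] at h1
  exact h1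

/-- `X` is local. -/
theorem isLoc_X (hXN : ∃ H, IsLong (S : Subgroup G) H) : IsLoc (S : Subgroup G) (NoFF.Main.X N F) := by
  obtain ⟨H, hH⟩ := hXN
  have hS : (S : Subgroup G) ≠ ⊥ := by
    intro h0
    exact hH.loc.o2_ne (le_bot_iff.mp (h0 ▸ hH.loc.o2_le S))
  have h1 : zl (S : Subgroup G) H ≠ ⊥ := fun h0 => by
    have h2 := zc_le_zl (S : Subgroup G) H
    rw [h0, le_bot_iff] at h2
    exact MinSimple.Basic.zc_ne_bot S.isPGroup' hS h2
  exact isLoc_of_le_normalizer S (le_X hF hne) (o2_isPGroup _)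
    (fun h0 => h1 (le_bot_iff.1 (h0 ▸ zl_le_o2 hc D hF hL hI hne hH))) (le_normalizer_o2 _)

end fin

/-! ### The lines of order 4, `|Z| = 2` -/

section four

variable [Finite G] {S : Sylow 2 G}

/-- the members of `P*(S)` with a line of order 4 -/
def PF (S : Subgroup G) : Set (Subgroup G) := {P | IsParS S P ∧ Nat.card (zl S P) = 4}

omit [Finite G] in
theorem PF_le (S : Subgroup G) : PF S ⊆ PS S := fun _ h => h.1

theorem nullF_PF (hc : IsCharacteristicTwoType G) (hZ : Nat.card (zc (S : Subgroup G)) = 2)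
    (hA : ¬ CaseA (S : Subgroup G)) : NullF (S : Subgroup G) (PF (S : Subgroup G)) :=
  nullF_of_four hc hZ hA (PF_le _) fun _ h => h.2

omit [Finite G] in
/-- `N_G(S)` permutes `PF S`. -/
theorem inv_PF (S : Sylow 2 G) :
    NoFF.Main.Inv (S : Subgroup G) (zc (S : Subgroup G)) (normalizer ((S : Subgroup G) : Set G))
      (PF (S : Subgroup G)) := by
  have h1 := FrameNOFF.inv S
  refine ⟨h1.nS, h1.nZ, fun n hn P hP => ⟨h1.nF n hn P hP.1, ?_⟩⟩
  have h2 : zl (S : Subgroup G) (MulAut.conj n • P) = MulAut.conj n • zl (S : Subgroup G) P := by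
    have key : ∀ m ∈ normalizer ((S : Subgroup G) : Set G), ∀ R : Subgroup G,
        zl (S : Subgroup G) (MulAut.conj m • R) ≤ MulAut.conj m • zl (S : Subgroup G) R := by
      intro m hm R
      refine zl_le ?_ ?_
      · rw [← h1.nZ m hm]
        exact conj_le_iff.2 (zc_le_zl _ _)
      · exact conj_le_normalizer (le_normalizer_zl _ _)
    refine le_antisymm (key n hn P) ?_
    have h3 := (conj_le_iff (g := n)).2 (key n⁻¹ (inv_mem hn) (MulAut.conj n • P))
    rwa [conj_conj, inv_mul_cancel, map_one, one_smul, conj_conj, mul_inv_cancel, map_one, one_smul] at h3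
  rw [h2, ← hP.2]
  exact (Nat.card_congr (Subgroup.equivSMul (MulAut.conj n) (zl (S : Subgroup G) P)).toEquiv).symm

/-- `N_G(S) ≤ C` if `|Z| = 2`. -/
theorem normalizer_le_CZ (hZ : Nat.card (zc (S : Subgroup G)) = 2) :
    normalizer ((S : Subgroup G) : Set G) ≤ CZ (S : Subgroup G) :=
  (MinSimple.VModule.normalizer_le_normalizer_zc _).trans (AdjTransv.norm_le_cent hZ)

end four

end Cfsg.Agent.Omega.NOThreeL.MutLine
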