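import Cfsg.Agent.Omega.NOThreeL.LNqGroup
import Cfsg.Agent.Omega.NOThreeL.MutLine
import Cfsg.Agent.Omega.NOThreeL.RTwo
import Cfsg.Agent.ZN.ChoiceSit

/-!
# NO-3L, (L) for natural lines (CARD 18022, case (a))

`S` a Sylow 2-subgroup, `Z = Ω₁(Z(S))`, `P ∈ P*(S)`.

* `NatLine S P` : `|V_P| = |Z|²`, `[V_P, S] ≤ Z`, `C_S(v) ≤ C_S(V_P)` for `v ∈ V_P - Z` (`V_P` is a natural
  `SL₂(q)`-module, `q = |Z|`, no field automorphisms in `S`);
* `caseA_of` : `C_G(z) ≤ N_G(Z)` for `z ∈ Z - 1`, `|Z| > 2`, a conjugate `V` of the natural line `V_P` in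
  `Q = O₂(C_G(Z))`, normalised but not centralised by `U_H`: case (A);
* `nullF_of_nat` : (L) (`MutLine.NullF`) for natural lines, not (A), `C_Z(P) = 1` for all `P ∈ P*(S)`, all `|Z|`.
-/

set_option autoImplicit false

namespace Cfsg.Agent.Omega.NOThreeL.LNqPlug

open Subgroup Cfsg Cfsg.Agent.ZN Cfsg.Agent.Omega.MinPar Cfsg.Agent.Omega.Frame Cfsg.Agent.Omega.FrameNOFF
open Cfsg.Agent.Omega.Node.NO3L
open Cfsg.Agent.Omega.NOThreeL.Basic (CaseA DataZ IsLong.zl_le_S)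
open Cfsg.Agent.Omega.NoFF.Basic (conj_conj mem_conj conj_le_iff conj_le_centralizer)
open Cfsg.Agent.Omega.NOThreeL.Pair (conj_eq_of_mem conj_le_normalizer zl_abel)
open Cfsg.Agent.Omega.NOThreeL.MutLine (NullF)
open Cfsg.Agent.MinSimple.VModule (zl_le le_normalizer_zl zc_le_zl zc_le zl_le_zc o2_isPGroup le_normalizer_o2
  mem_zc le_o2 o2_le le_centralizer_zc zc_sq)
open scoped Pointwise

universe u

variable {G : Type u} [Group G]

/-- `V_P` is a natural module for `SL₂(|Z|)`, no field automorphisms in `S`. -/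
structure NatLine (S P : Subgroup G) : Prop where
  card : Nat.card (zl S P) = Nat.card (zc S) ^ 2
  comm : ∀ s ∈ S, ∀ v ∈ zl S P, s * v * s⁻¹ * v⁻¹ ∈ zc S
  fix : ∀ s ∈ S, ∀ v ∈ zl S P, v ∉ zc S → s * v = v * s → ∀ w ∈ zl S P, s * w = w * s

theorem exists_conj_le [Finite G] (S : Sylow 2 G) {N T : Subgroup G} (hS : (S : Subgroup G) ≤ N)
    (hT : IsPGroup 2 T) (hTN : T ≤ N) : ∃ n ∈ N, ∀ x ∈ T, n * x * n⁻¹ ∈ (S : Subgroup G) := by
  have h3 : IsPGroup 2 (T.subgroupOf N) := hT.comap_subtype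
  obtain ⟨P, hP⟩ := h3.exists_le_sylow
  obtain ⟨g, hg⟩ := MulAction.exists_smul_eq N P (S.subtype hS)
  refine ⟨g, g.2, fun t ht => ?_⟩
  have h1 : (⟨t, hTN ht⟩ : N) ∈ P := hP (Subgroup.mem_subgroupOf.2 ht)
  have h4 : g * (⟨t, hTN ht⟩ : N) * g⁻¹ ∈ (S.subtype hS : Subgroup N) := by
    rw [← hg]
    exact Subgroup.smul_mem_pointwise_smul _ (MulAut.conj g) _ h1
  exact h4

theorem mem_cj {g x : G} {H : Subgroup G} : x ∈ MulAut.conj g • H ↔ g⁻¹ * x * g ∈ H := mem_conj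

variable [Finite G] {S : Sylow 2 G}

/-- **A natural line in `Q`, normalised but not centralised by `U_H`: case (A).** -/
theorem caseA_of (hc : IsCharacteristicTwoType G)
    (hti : ∀ z ∈ zc (S : Subgroup G), z ≠ 1 →
      centralizer ({z} : Set G) ≤ normalizer (zc (S : Subgroup G) : Set G))
    (h3 : 3 ≤ Nat.card (zc (S : Subgroup G))) {P H : Subgroup G}
    (hP : IsParS (S : Subgroup G) P) (hn : NatLine (S : Subgroup G) P)
    (hH : IsLong (S : Subgroup G) H) {g : G}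
    (h1 : MulAut.conj g • zl (S : Subgroup G) P ≤ o2 (CZ (S : Subgroup G)))
    (h2 : zl (S : Subgroup G) H ≤ normalizer ((MulAut.conj g • zl (S : Subgroup G) P : Subgroup G) : Set G))
    (hne : ¬ MulAut.conj g • zl (S : Subgroup G) P ≤ centralizer (zl (S : Subgroup G) H : Set G)) :
    CaseA (S : Subgroup G) := by
  set Z := zc (S : Subgroup G) with hZ
  set U := zl (S : Subgroup G) H with hU
  have hUS : U ≤ (S : Subgroup G) := IsLong.zl_le_S hc hH
  obtain ⟨hUab, hUsq⟩ := zl_abel hc S hH.loc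
  have hUcomm : ∀ a ∈ U, ∀ b ∈ U, a * b = b * a := fun a ha b hb => (mem_centralizer_iff.1 (hUab hb) a ha)
  have hVab := (zl_abel hc S hP.isLoc).1
  -- adjust `g`
  obtain ⟨x, hxV, hxU⟩ : ∃ x : G, MulAut.conj x • zl (S : Subgroup G) P =
      MulAut.conj g • zl (S : Subgroup G) P ∧ ∀ u ∈ U, x⁻¹ * u * x ∈ (S : Subgroup G) := by
    have hU2 : IsPGroup 2 (MulAut.conj g⁻¹ • U : Subgroup G) :=
      (S.isPGroup'.to_le hUS).map (MulAut.conj g⁻¹).toMonoidHom
    have h4 := conj_le_normalizer (g := g⁻¹) h2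
    rw [conj_conj, inv_mul_cancel, map_one, one_smul] at h4
    obtain ⟨n, hn, hnS⟩ := exists_conj_le S (hP.le.trans (le_normalizer_zl _ _)) hU2 h4
    refine ⟨g * n⁻¹, ?_, fun u hu => ?_⟩
    · rw [← conj_conj, conj_eq_of_mem (inv_mem hn)]
    · have h5 := hnS (g⁻¹ * u * g) (mem_cj.2 (by simpa [mul_assoc] using hu))
      have e : (g * n⁻¹)⁻¹ * u * (g * n⁻¹) = n * (g⁻¹ * u * g) * n⁻¹ := by group
      rw [e]; exact h5
  rw [← hxV] at h1 h2 hne
  set V := MulAut.conj x • zl (S : Subgroup G) P with hV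
  set y := MulAut.conj x • Z with hy
  have hyV : y ≤ V := conj_le_iff.2 (zc_le_zl _ _)
  have hVcomm : ∀ a ∈ V, ∀ b ∈ V, a * b = b * a := by
    intro a ha b hb
    have h4 := mem_centralizer_iff.1 (hVab (mem_cj.1 hb)) _ (mem_cj.1 ha)
    calc a * b = x * (x⁻¹ * a * x * (x⁻¹ * b * x)) * x⁻¹ := by group
      _ = x * (x⁻¹ * b * x * (x⁻¹ * a * x)) * x⁻¹ := by rw [h4]
      _ = b * a := by group
  have hVH : V ≤ H := h1.trans ((o2_le _).trans hH.cz)
  have hVU : V ≤ normalizer (U : Set G) := hVH.trans (le_normalizer_zl _ _)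
  have hcomm : ∀ u ∈ U, ∀ v ∈ V, u * v * u⁻¹ * v⁻¹ ∈ y := by
    intro u hu v hv
    have h4 := hn.comm _ (hxU u hu) _ (mem_cj.1 hv)
    rw [hy, mem_cj]
    have e : x⁻¹ * (u * v * u⁻¹ * v⁻¹) * x =
      x⁻¹ * u * x * (x⁻¹ * v * x) * (x⁻¹ * u * x)⁻¹ * (x⁻¹ * v * x)⁻¹ := by group
    rw [e]; exact h4
  have hfix : ∀ u ∈ U, ∀ v ∈ V, v ∉ y → u * v = v * u → ∀ w ∈ V, u * w = w * u := by
    intro u hu v hv hvy huv w hw
    have h4 := hn.fix _ (hxU u hu) _ (mem_cj.1 hv) (fun h => hvy (mem_cj.2 h)) (by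
      calc x⁻¹ * u * x * (x⁻¹ * v * x) = x⁻¹ * (u * v) * x := by group
        _ = x⁻¹ * (v * u) * x := by rw [huv]
        _ = x⁻¹ * v * x * (x⁻¹ * u * x) := by group) _ (mem_cj.1 hw)
    calc u * w = x * (x⁻¹ * u * x * (x⁻¹ * w * x)) * x⁻¹ := by group
      _ = x * (x⁻¹ * w * x * (x⁻¹ * u * x)) * x⁻¹ := by rw [h4]
      _ = w * u := by group
  have hcardV : Nat.card V = Nat.card Z ^ 2 := by
    rw [← hn.card]
    exact Nat.card_congr (Subgroup.equivSMul (MulAut.conj x) (zl (S : Subgroup G) P)).toEquiv.symm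
  have hcardy : Nat.card y = Nat.card Z :=
    Nat.card_congr (Subgroup.equivSMul (MulAut.conj x) Z).toEquiv.symm
  have hact : ∀ a ∈ V, ∀ u ∈ U, a * u * a⁻¹ * u⁻¹ ∈ y := by
    intro a ha u hu
    have h4 := inv_mem (hcomm u hu a ha)
    have e : (u * a * u⁻¹ * a⁻¹)⁻¹ = a * u * a⁻¹ * u⁻¹ := by group
    rwa [e] at h4
  have hsurj : ∀ u ∈ U, (∃ b ∈ V, b * u ≠ u * b) → ∀ w ∈ y, ∃ a ∈ V, a * u * a⁻¹ * u⁻¹ = w := by
    rintro u hu ⟨b, hb, hbu⟩
    let f : V →* y :=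
      { toFun := fun a => ⟨a * u * (a : G)⁻¹ * u⁻¹, hact a a.2 u hu⟩
        map_one' := Subtype.ext (by
          change (1 : G) * u * (1 : G)⁻¹ * u⁻¹ = 1
          group)
        map_mul' := fun a c => Subtype.ext (by
          change (a : G) * c * u * ((a : G) * c)⁻¹ * u⁻¹ = (a * u * (a : G)⁻¹ * u⁻¹) * (c * u * (c : G)⁻¹ * u⁻¹)
          have h5 := hVcomm a a.2 _ (hyV (hact c c.2 u hu))
          have h6 := hVcomm _ (hyV (hact a a.2 u hu)) _ (hyV (hact c c.2 u hu))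
          rw [h6]
          calc (a : G) * c * u * ((a : G) * c)⁻¹ * u⁻¹ = (a * (c * u * (c : G)⁻¹ * u⁻¹)) * (u * (a : G)⁻¹ * u⁻¹) := by
                group
            _ = (c * u * (c : G)⁻¹ * u⁻¹) * a * (u * (a : G)⁻¹ * u⁻¹) := by rw [h5]
            _ = (c * u * (c : G)⁻¹ * u⁻¹) * (a * u * (a : G)⁻¹ * u⁻¹) := by group) }
    have hker : Nat.card f.ker ≤ Nat.card y := by
      refine Nat.card_le_card_of_injective (fun a => ⟨(a : V), ?_⟩) ?_
      · by_contra hay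
        have h5 : ((a : V) : G) * u * ((a : V) : G)⁻¹ * u⁻¹ = 1 :=
          congrArg Subtype.val (MonoidHom.mem_ker.1 a.2)
        have h6 : u * ((a : V) : G) = ((a : V) : G) * u := by
          rw [mul_inv_eq_one, mul_inv_eq_iff_eq_mul] at h5
          exact h5.symm
        exact hbu (hfix u hu _ (a : V).2 hay h6 b hb).symm
      · intro a c h
        exact Subtype.ext (Subtype.ext (congrArg (fun t : y => (t : G)) h))
    have hr : Nat.card y ≤ Nat.card f.range := by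
      have h5 := Subgroup.card_mul_index f.ker
      rw [index_ker, hcardV, ← hcardy, pow_two] at h5
      have h6 : Nat.card y * Nat.card y ≤ Nat.card y * Nat.card f.range := by
        rw [← h5]; exact Nat.mul_le_mul_right _ hker
      exact Nat.le_of_mul_le_mul_left h6 Nat.card_pos
    have htop : f.range = ⊤ := Subgroup.eq_top_of_le_card _ hr
    intro w hw
    have h7 : (⟨w, hw⟩ : y) ∈ f.range := htop ▸ mem_top _
    obtain ⟨a, ha⟩ := h7
    exact ⟨a, a.2, congrArg Subtype.val ha⟩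
  have hnc : ∃ u ∈ U, ∃ b ∈ V, b * u ≠ u * b := by
    by_contra hcon
    push Not at hcon
    exact hne fun v hv => mem_centralizer_iff.2 fun u hu => (hcon u hu v hv).symm
  have hyU : y ≤ U := by
    obtain ⟨u, hu, hb⟩ := hnc
    intro w hw
    obtain ⟨a, ha, rfl⟩ := hsurj u hu hb w hw
    exact mul_mem ((mem_normalizer_iff.1 (hVU ha) u).1 hu) (inv_mem hu)
  have D : LNq.SitG V (o2 (CZ (S : Subgroup G))) (S : Subgroup G) Z y U H := by
    refine ⟨fun u hu => by have := hUsq u hu; rwa [pow_two] at this, fun h hh u hu =>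
      (mem_normalizer_iff.1 (le_normalizer_zl (S : Subgroup G) H hh) u).1 hu, zc_le_zl _ _, hH.cz, hti, ?_, h3,
      S.isPGroup', le_centralizer_zc _, ?_, o2_le _, ?_, o2_isPGroup _, h1, hyU, ⟨x, rfl⟩, hact, ?_, ?_, hsurj, hnc⟩
    · intro N hZN hNU hN
      refine zl_le hZN ?_
      intro h hh
      rw [mem_normalizer_iff]
      intro a
      constructor
      · exact hN h hh a
      · intro ha
        have := hN h⁻¹ (inv_mem hh) _ ha
        have e1 : h⁻¹ * (h * a * h⁻¹) * h⁻¹⁻¹ = a := by group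
        rwa [e1] at this
    · intro u hu hs
      rw [hZ, mem_zc]
      exact ⟨hUS hu, hs, hUsq u hu⟩
    · intro k hk q hq
      exact (mem_normalizer_iff.1 (le_normalizer_o2 _ hk) q).1 hq
    · intro a ha u hu
      exact hVcomm a ha u (hyV hu)
    · intro a ha u hu hau
      by_cases hay : a ∈ y
      · exact Or.inr fun w hw => hUcomm a (hyU hay) w hw
      · exact Or.inl fun b hb => (hfix u hu a ha hay hau.symm b hb).symm
  have hyZ : MulAut.conj x • Z = Z := D.eq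
  have hyZ' : MulAut.conj x⁻¹ • Z = Z := by
    conv_lhs => rw [← hyZ]
    rw [conj_conj, inv_mul_cancel, map_one, one_smul]
  have hC : MulAut.conj x⁻¹ • CZ (S : Subgroup G) = CZ (S : Subgroup G) := by
    have h5 : ∀ t : G, MulAut.conj t • Z = Z → MulAut.conj t • CZ (S : Subgroup G) ≤ CZ (S : Subgroup G) := by
      intro t ht
      have h6 : CZ (S : Subgroup G) ≤ centralizer (Z : Set G) := le_rfl
      have h7 := conj_le_centralizer (g := t) h6
      rwa [ht] at h7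
    refine le_antisymm (h5 _ hyZ') ?_
    have h8 := (conj_le_iff (g := x⁻¹)).2 (h5 _ hyZ)
    rwa [conj_conj, inv_mul_cancel, map_one, one_smul] at h8
  have hCH : CZ (S : Subgroup G) ≤ MulAut.conj x⁻¹ • H := by
    rw [← hC]
    exact conj_le_iff.2 hH.cz
  refine ⟨P, MulAut.conj x⁻¹ • H, hP, ⟨⟨(le_centralizer_zc _).trans hCH, ?_⟩, hCH⟩, fun hcon => hne ?_⟩
  · have h5 : o2 (MulAut.conj x⁻¹ • H) = MulAut.conj x⁻¹ • o2 H := ChoiceSit.o2_cj x⁻¹ H
    rw [h5]
    intro h6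
    apply hH.loc.o2_ne
    have h7 : MulAut.conj x • MulAut.conj x⁻¹ • o2 H = MulAut.conj x • (⊥ : Subgroup G) := by rw [h6]
    rwa [conj_conj, mul_inv_cancel, map_one, one_smul, smul_bot] at h7
  · have h5 := conj_le_centralizer (g := x) hcon
    refine h5.trans (centralizer_le ?_)
    refine zl_le ?_ ?_
    · conv_lhs => rw [← hZ, ← hyZ]
      exact conj_le_iff.2 (zc_le_zl _ _)
    · have h6 := conj_le_normalizer (g := x) (le_normalizer_zl (S : Subgroup G) (MulAut.conj x⁻¹ • H))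
      rwa [conj_conj, mul_inv_cancel, map_one, one_smul] at h6

/-- **(L) for natural lines.** -/
theorem nullF_of_nat (hc : IsCharacteristicTwoType G) (D : DataZ (S : Subgroup G))
    (hA : ¬ CaseA (S : Subgroup G)) (hS : zc (S : Subgroup G) ≠ ⊥) {F : Set (Subgroup G)}
    (hF : F ⊆ PS (S : Subgroup G)) (hn : ∀ P ∈ F, NatLine (S : Subgroup G) P) :
    NullF (S : Subgroup G) F := by
  by_cases h2 : Nat.card (zc (S : Subgroup G)) = 2
  · exact MutLine.nullF_of_four hc h2 hA hF fun P hP => by rw [(hn P hP).card, h2]; norm_num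
  · have h1 : 1 < Nat.card (zc (S : Subgroup G)) := Finite.one_lt_card_iff_nontrivial.2
      ((nontrivial_iff_ne_bot _).2 hS)
    intro P H g hP hH h3 h4
    by_contra hne
    exact hA (caseA_of hc (fun z hz hz1 => RTwo.cent_le S D.cz hz hz1) (by omega) (hF hP) (hn P hP) hH h3 h4 hne)

end Cfsg.Agent.Omega.NOThreeL.LNqPlug
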