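import Cfsg.Agent.Omega.NOThreeL.Gen

/-!
# NO-3L: LEMMA I (text bb OMEGA 15477, helper492)

`P ∈ P*(S)`, `|V_P| = 4`, `O = O₂(P)`.
* `exists_zx` : `V_P = {1, z, x, xz}`, `Ω₁(Z(S)) = {1, z}`, `x^s = x z` for `s ∈ S - O`;
* `zc_o2_eq` : `Ω₁(Z(O₂(P))) = V_P`;
* `lemI` : `N ≤ O₂(P)` normalised by `C_G(Z)`: `V_P ≤ N`, or `N ∩ N^p = 1 = [N, N^p]` for all `p ∈ P` with `Z^p ≠ Z`;
* `lemI_long` : the same for `N = U_H`, `H` long, `[V_P, U_H] = 1`;
* `Four S z g` : `⟨z, g⟩` is normalised by `S`, `Ω₁(Z(S)) = ⟨z⟩`, `g` is not conjugate to `z`;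
  `Four.mem_zc` : `Ω₁(Z(C_S(g))) = ⟨z, g⟩`; `Four.sylow` : `C_S(g)` is a Sylow 2-subgroup of `C_G(g)`;
  `Four.normalizer_le` : `N_G(C_S(g)) ≤ C_G(z)`.
-/

set_option autoImplicit false

namespace Cfsg.Agent.Omega.NOThreeL.LemI

open Subgroup MulAction Pointwise Cfsg Cfsg.Agent.ZN Cfsg.Agent.MinSimple
open Cfsg.Agent.Omega.NoFF.Basic (conj_conj mem_conj conj_le_iff conj_le_centralizer comm_symm comm_mono)
open Cfsg.Agent.Omega.NoFF.LinesPlug (exists_fixed)
open Cfsg.Agent.Omega.MinPar (IsPar IsParS IsLoc NonLoc)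
open Cfsg.Agent.Omega.FrameNOFF (CZ)
open Cfsg.Agent.Omega.Node.NO3L (Data IsLong)
open Cfsg.Agent.Omega.NOThreeL.Gen (conj_mem conj_mem' mem_conj_smul)
open Cfsg.Agent.MinSimple.VModule (le_o2 mem_zc zc_le zc_le_zl zl_le_zc le_normalizer_zl le_normalizer_o2
  o2_le o2_isPGroup normalizer_le_normalizer_zc)

universe u

variable {G : Type u} [Group G] [Finite G]

/-- `V_P = {1, z, x, xz}` -/
theorem exists_zx (hG : IsCharacteristicTwoType G) (S : Sylow 2 G) {P : Subgroup G}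
    (hP : IsParS (S : Subgroup G) P) (h4 : Nat.card (zl (S : Subgroup G) P) = 4) :
    ∃ z x : G, z ≠ 1 ∧ x ≠ 1 ∧ x ≠ z ∧ z * z = 1 ∧ x * x = 1 ∧ x * z = z * x ∧
      (∀ v, v ∈ zc (S : Subgroup G) ↔ v = 1 ∨ v = z) ∧
      (∀ v, v ∈ zl (S : Subgroup G) P ↔ v = 1 ∨ v = z ∨ v = x ∨ v = x * z) ∧
      (∀ s ∈ (S : Subgroup G), s ∉ o2 P → s * x * s⁻¹ = x * z) := by
  have hle : zl (S : Subgroup G) P ≤ zc (o2 P) := hP.isLoc.zl_le S hG
  have hVS : zl (S : Subgroup G) P ≤ (S : Subgroup G) := Basic.IsParS.zl_le_S hG hP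
  have hVc : ∀ a ∈ zl (S : Subgroup G) P, ∀ b ∈ zl (S : Subgroup G) P, a * b = b * a := fun a ha b hb =>
    VModule.zc_comm _ _ (hle ha) _ (hle hb)
  have hVs : ∀ a ∈ zl (S : Subgroup G) P, a * a = 1 := fun a ha => by
    rw [← pow_two]; exact VModule.zc_sq _ _ (hle ha)
  have hSN : (S : Subgroup G) ≤ normalizer (zl (S : Subgroup G) P : Set G) := hP.le.trans (le_normalizer_zl _ _)
  have hVne : zl (S : Subgroup G) P ≠ ⊥ := fun h0 => by
    rw [h0, Subgroup.card_bot] at h4; omega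
  obtain ⟨z, hz, hz1, hzS⟩ := exists_fixed S.isPGroup' hVS hSN hVne
  have hzc : z ∈ zc (S : Subgroup G) := mem_zc.2 ⟨hVS hz, hzS, by rw [pow_two]; exact hVs z hz⟩
  have hx : ∃ x ∈ zl (S : Subgroup G) P, x ≠ 1 ∧ x ≠ z := by
    by_contra hcon
    push Not at hcon
    have h1 : zl (S : Subgroup G) P ≤ zc (S : Subgroup G) := by
      intro v hv
      by_cases hv1 : v = 1
      · rw [hv1]; exact one_mem _
      · rw [hcon v hv hv1]; exact hzc
    have h2 : zl (S : Subgroup G) P = zc (S : Subgroup G) := le_antisymm h1 (zc_le_zl _ _)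
    exact hP.not_zc (h2 ▸ le_normalizer_zl _ _)
  obtain ⟨x, hx, hx1, hxz⟩ := hx
  have hxz1 : x * z ≠ 1 := fun e => hxz (by
    calc x = x * z * z := by rw [mul_assoc, hVs z hz, mul_one]
      _ = z := by rw [e, one_mul])
  have hmem : ∀ v ∈ zl (S : Subgroup G) P, v = 1 ∨ v = z ∨ v = x ∨ v = x * z :=
    fun v hv => NTwo.mem_four h4 hz hx (mul_mem hx hz) hz1 hx1 hxz1 (Ne.symm hxz)
      (fun e => hx1 (mul_eq_right.1 e.symm)) (fun e => hz1 (mul_eq_left.1 e.symm)) hv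
  have hO := hP.inf_centralizer S hG
  have key : ∀ a ∈ (S : Subgroup G), a ∉ o2 P → a * x * a⁻¹ = x * z := by
    intro a ha haO
    have h1 : a * x * a⁻¹ ∈ zl (S : Subgroup G) P := conj_mem (hSN ha) hx
    have haz : a * z * a⁻¹ = z := by rw [hzS a ha, mul_inv_cancel_right]
    rcases hmem _ h1 with h2 | h2 | h2 | h2
    · exact absurd (conj_eq_one_iff.1 h2) hx1
    · refine absurd ?_ hxz
      calc x = a⁻¹ * (a * x * a⁻¹) * a := by group
        _ = a⁻¹ * (a * z * a⁻¹) * a := by rw [h2, haz]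
        _ = z := by group
    · exfalso
      apply haO
      rw [← hO]
      refine mem_inf.2 ⟨ha, mem_centralizer_iff.2 fun v hv => ?_⟩
      have hax : x * a = a * x := by
        calc x * a = a * x * a⁻¹ * a := by rw [h2]
          _ = a * x := by group
      rcases hmem v hv with rfl | rfl | rfl | rfl
      · rw [one_mul, mul_one]
      · exact (hzS a ha).symm
      · exact hax
      · calc x * z * a = x * (z * a) := by group
          _ = x * (a * z) := by rw [hzS a ha]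
          _ = (x * a) * z := by group
          _ = a * (x * z) := by rw [hax]; group
    · exact h2
  -- an element of `S - O`
  obtain ⟨s, hs, hsO⟩ : ∃ s ∈ (S : Subgroup G), s ∉ o2 P := by
    by_contra hcon
    push Not at hcon
    have h1 : zl (S : Subgroup G) P ≤ zc (S : Subgroup G) := by
      intro v hv
      have h2 := mem_zc.1 (hle hv)
      exact mem_zc.2 ⟨hVS hv, fun b hb => h2.2.1 b (hcon b hb), h2.2.2⟩
    have h2 : zl (S : Subgroup G) P = zc (S : Subgroup G) := le_antisymm h1 (zc_le_zl _ _)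
    exact hP.not_zc (h2 ▸ le_normalizer_zl _ _)
  have hs1 := key s hs hsO
  refine ⟨z, x, hz1, hx1, hxz, hVs z hz, hVs x hx, hVc x hx z hz, fun v => ⟨fun hv => ?_, ?_⟩,
    fun v => ⟨hmem v, ?_⟩, key⟩
  · have h2 := (mem_zc.1 hv).2.1 s hs
    rcases hmem v (zc_le_zl _ _ hv) with h3 | h3 | h3 | h3
    · exact Or.inl h3
    · exact Or.inr h3
    · exfalso
      rw [h3] at h2
      rw [h2, mul_inv_cancel_right] at hs1
      exact hz1 (mul_eq_left.1 hs1.symm)
    · exfalso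
      rw [h3] at h2
      have e1 : s * (x * z) * s⁻¹ = x * z := by rw [h2]; group
      have e2 : s * (x * z) * s⁻¹ = (s * x * s⁻¹) * (s * z * s⁻¹) := by group
      have e3 : s * z * s⁻¹ = z := by rw [hzS s hs]; group
      rw [e1, hs1, e3, mul_assoc, hVs z hz, mul_one] at e2
      exact hz1 (mul_eq_left.1 e2)
  · rintro (rfl | rfl)
    · exact one_mem _
    · exact hzc
  · rintro (rfl | rfl | rfl | rfl)
    · exact one_mem _
    · exact hz
    · exact hx
    · exact mul_mem hx hz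

/-- **(0)** `Ω₁(Z(O₂(P))) = V_P` for `|V_P| = 4`. -/
theorem zc_o2_eq (hG : IsCharacteristicTwoType G) (S : Sylow 2 G) {P : Subgroup G}
    (hP : IsParS (S : Subgroup G) P) (h4 : Nat.card (zl (S : Subgroup G) P) = 4) :
    zc (o2 P) = zl (S : Subgroup G) P := by
  obtain ⟨z, x, hz1, hx1, hxz, hzz, hxx, hxzc, hzc, hV, hs⟩ := exists_zx hG S hP h4
  have hOS : o2 P ≤ (S : Subgroup G) := hP.isLoc.o2_le S
  have hOSn : (S : Subgroup G) ≤ normalizer (o2 P : Set G) := hP.le.trans (le_normalizer_o2 P)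
  have h2 := Gen.two_of_card hG S hP h4
  obtain ⟨s, hsS, hsO⟩ : ∃ s ∈ (S : Subgroup G), s ∉ o2 P := by
    by_contra hcon
    push Not at hcon
    have h1 : zl (S : Subgroup G) P ≤ zc (S : Subgroup G) := by
      intro v hv
      have h2 := mem_zc.1 (hP.isLoc.zl_le S hG hv)
      exact mem_zc.2 ⟨hOS h2.1, fun b hb => h2.2.1 b (hcon b hb), h2.2.2⟩
    have h2 : zl (S : Subgroup G) P = zc (S : Subgroup G) := le_antisymm h1 (zc_le_zl _ _)
    exact hP.not_zc (h2 ▸ le_normalizer_zl _ _)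
  have hsx := hs s hsS hsO
  have hzS : ∀ b ∈ (S : Subgroup G), b * z = z * b := (mem_zc.1 ((hzc z).2 (Or.inr rfl))).2.1
  refine le_antisymm ?_ (hP.isLoc.zl_le S hG)
  intro y hy
  obtain ⟨hyO, hyc, hy2⟩ := mem_zc.1 hy
  rw [pow_two] at hy2
  -- elements of `Y` commuting with `s` are in `Z(S)`
  have key : ∀ w ∈ zc (o2 P), s * w = w * s → w ∈ zc (S : Subgroup G) := by
    intro w hw hsw
    obtain ⟨hwO, hwc, hw2⟩ := mem_zc.1 hw
    refine mem_zc.2 ⟨hOS hwO, fun b hb => ?_, hw2⟩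
    by_cases hbO : b ∈ o2 P
    · exact hwc b hbO
    · have h3 := hwc _ (h2 s hsS b hb hsO hbO)
      calc b * w = s * (s⁻¹ * b * w) := by group
        _ = s * (w * (s⁻¹ * b)) := by rw [h3]
        _ = (s * w) * s⁻¹ * b := by group
        _ = (w * s) * s⁻¹ * b := by rw [hsw]
        _ = w * b := by group
  have hss : s * s ∈ o2 P := by
    have h3 := h2 s⁻¹ (inv_mem hsS) s hsS (fun h => hsO (by simpa using inv_mem h)) hsO
    rwa [inv_inv] at h3
  have hn : ∀ w ∈ zc (o2 P), s * w * s⁻¹ ∈ zc (o2 P) := fun w hw =>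
    conj_mem (normalizer_le_normalizer_zc _ (hOSn hsS)) hw
  -- the commutator
  have hc1 : s * y * s⁻¹ * y⁻¹ ∈ zc (o2 P) := mul_mem (hn y hy) (inv_mem hy)
  have hyinv : y⁻¹ = y := inv_eq_of_mul_eq_one_left hy2
  have hc2 : s * (s * y * s⁻¹ * y⁻¹) = (s * y * s⁻¹ * y⁻¹) * s := by
    have h3 := hyc _ hss
    have h4 : (s * y * s⁻¹) * y = y * (s * y * s⁻¹) := VModule.zc_comm _ _ (hn y hy) _ hy
    calc s * (s * y * s⁻¹ * y⁻¹) = (s * s * y) * s⁻¹ * y⁻¹ * s⁻¹ * s := by group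
      _ = (y * (s * s)) * s⁻¹ * y⁻¹ * s⁻¹ * s := by rw [h3]
      _ = y * (s * y⁻¹ * s⁻¹) * s := by group
      _ = y * (s * y * s⁻¹) * s := by rw [hyinv]
      _ = (s * y * s⁻¹) * y * s := by rw [h4]
      _ = (s * y * s⁻¹ * y⁻¹) * s := by rw [hyinv]
  rcases (hzc _).1 (key _ hc1 hc2) with h3 | h3
  · have h4 : s * y = y * s := by
      calc s * y = (s * y * s⁻¹ * y⁻¹) * y * s := by group
        _ = y * s := by rw [h3, one_mul]
    exact zc_le_zl _ _ (key y hy h4)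
  · -- `x y` commutes with `s`
    have hxY : x ∈ zc (o2 P) := hP.isLoc.zl_le S hG ((hV x).2 (by simp))
    have h4 : s * y * s⁻¹ = z * y := by
      calc s * y * s⁻¹ = (s * y * s⁻¹ * y⁻¹) * y := by group
        _ = z * y := by rw [h3]
    have h5 : s * (x * y) = (x * y) * s := by
      calc s * (x * y) = (s * x * s⁻¹) * (s * y * s⁻¹) * s := by group
        _ = x * z * (z * y) * s := by rw [hsx, h4]
        _ = x * (z * z) * y * s := by group
        _ = (x * y) * s := by rw [hzz, mul_one]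
    have h6 := (hzc _).1 (key _ (mul_mem hxY hy) h5)
    have h7 : y = x * (x * y) := by rw [← mul_assoc, hxx, one_mul]
    rw [hV, h7]
    rcases h6 with h6 | h6 <;> rw [h6]
    · rw [mul_one]; tauto
    · tauto

/-- an involution of `T ∩ C(O)` -/
theorem exists_inv {O T : Subgroup G} (hO : IsPGroup 2 O) (hTO : T ≤ O) (hOT : O ≤ normalizer (T : Set G))
    (hT : T ≠ ⊥) : ∃ x ∈ T, x ≠ 1 ∧ x ∈ zc O := by
  obtain ⟨x, hx, hx1, hxO⟩ := exists_fixed hO hTO hOT hT
  obtain ⟨k, hk⟩ := hO ⟨x, hTO hx⟩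
  have hk' : x ^ 2 ^ k = 1 := congrArg Subtype.val hk
  have hex : ∃ k, x ^ 2 ^ k = 1 := ⟨k, hk'⟩
  classical
  obtain ⟨m, hm1, hm2⟩ : ∃ m, x ^ 2 ^ (m + 1) = 1 ∧ x ^ 2 ^ m ≠ 1 := by
    have h0 : Nat.find hex ≠ 0 := fun h => hx1 (by
      have h1 := Nat.find_spec hex
      rwa [h, pow_zero, pow_one] at h1)
    obtain ⟨m, hm⟩ := Nat.exists_eq_succ_of_ne_zero h0
    refine ⟨m, ?_, fun h1 => ?_⟩
    · have h1 := Nat.find_spec hex
      rwa [hm] at h1
    · exact Nat.find_min hex (by rw [hm]; exact Nat.lt_succ_self m) h1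
  refine ⟨x ^ 2 ^ m, pow_mem hx _, hm2, mem_zc.2 ⟨hTO (pow_mem hx _), fun b hb => ?_, ?_⟩⟩
  · have h1 : Commute b x := hxO b hb
    exact (h1.pow_right _).eq
  · rw [← pow_mul, ← pow_succ]; exact hm1

/-- **(1) LEMMA I.** -/
theorem lemI (hG : IsCharacteristicTwoType G) (S : Sylow 2 G) {P N : Subgroup G}
    (hP : IsParS (S : Subgroup G) P) (h4 : Nat.card (zl (S : Subgroup G) P) = 4)
    (hNO : N ≤ o2 P) (hCN : CZ (S : Subgroup G) ≤ normalizer (N : Set G)) (hVN : ¬ zl (S : Subgroup G) P ≤ N)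
    {p : G} (hp : p ∈ P) (hpz : MulAut.conj p • zc (S : Subgroup G) ≠ zc (S : Subgroup G)) :
    N ⊓ MulAut.conj p • N = ⊥ ∧ ∀ a ∈ N, ∀ b ∈ MulAut.conj p • N, a * b = b * a := by
  obtain ⟨z, x, hz1, hx1, hxz, hzz, hxx, hxzc, hzc, hV, hs⟩ := exists_zx hG S hP h4
  have hOS : o2 P ≤ (S : Subgroup G) := hP.isLoc.o2_le S
  have hSC : (S : Subgroup G) ≤ CZ (S : Subgroup G) := fun s hs =>
    mem_centralizer_iff.2 fun w hw => ((mem_zc.1 hw).2.1 s hs).symm
  have hON : o2 P ≤ normalizer (N : Set G) := hOS.trans (hSC.trans hCN)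
  have hcO : MulAut.conj p • o2 P = o2 P := Pair.conj_eq_of_mem (le_normalizer_o2 P hp)
  have hON' : o2 P ≤ normalizer ((MulAut.conj p • N : Subgroup G) : Set G) := by
    have h1 := Pair.conj_le_normalizer (g := p) hON
    rwa [hcO] at h1
  have hN'O : MulAut.conj p • N ≤ o2 P := by
    rw [← hcO]; exact conj_le_iff.2 hNO
  obtain ⟨s, hsS, hsO⟩ : ∃ s ∈ (S : Subgroup G), s ∉ o2 P := by
    by_contra hcon
    push Not at hcon
    have h1 : zl (S : Subgroup G) P ≤ zc (S : Subgroup G) := by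
      intro v hv
      have h2 := mem_zc.1 (hP.isLoc.zl_le S hG hv)
      exact mem_zc.2 ⟨hOS h2.1, fun b hb => h2.2.1 b (hcon b hb), h2.2.2⟩
    have h2 : zl (S : Subgroup G) P = zc (S : Subgroup G) := le_antisymm h1 (zc_le_zl _ _)
    exact hP.not_zc (h2 ▸ le_normalizer_zl _ _)
  have hsx := hs s hsS hsO
  -- `V_P ∩ N ≤ Z`
  have hVN' : ∀ v ∈ zl (S : Subgroup G) P, v ∈ N → v = 1 ∨ v = z := by
    intro v hv hvN
    have hbad : x ∈ N → zl (S : Subgroup G) P ≤ N := by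
      intro hxN
      have h5 : x * z ∈ N := by rw [← hsx]; exact conj_mem (hCN (hSC hsS)) hxN
      have h6 : z ∈ N := by
        have h7 := mul_mem hxN h5
        rwa [← mul_assoc, hxx, one_mul] at h7
      intro w hw
      rcases (hV w).1 hw with rfl | rfl | rfl | rfl
      · exact one_mem _
      · exact h6
      · exact hxN
      · exact h5
    have hbad' : x * z ∈ N → zl (S : Subgroup G) P ≤ N := by
      intro h5
      refine hbad ?_
      have h6 := conj_mem (hCN (hSC hsS)) h5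
      have hzS : s * z = z * s := (mem_zc.1 ((hzc z).2 (Or.inr rfl))).2.1 s hsS
      have h7 : s * (x * z) * s⁻¹ = x := by
        calc s * (x * z) * s⁻¹ = (s * x * s⁻¹) * (s * z) * s⁻¹ := by group
          _ = x * z * (z * s) * s⁻¹ := by rw [hsx, hzS]
          _ = x * (z * z) := by group
          _ = x := by rw [hzz, mul_one]
      rwa [h7] at h6
    rcases (hV v).1 hv with h5 | h5 | h5 | h5
    · exact Or.inl h5
    · exact Or.inr h5
    · exact absurd (hbad (h5 ▸ hvN)) hVN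
    · exact absurd (hbad' (h5 ▸ hvN)) hVN
  have hT : N ⊓ MulAut.conj p • N = ⊥ := by
    by_contra hne
    obtain ⟨y, hy, hy1, hyO⟩ := exists_inv (o2_isPGroup P) (inf_le_left.trans hNO) (T := N ⊓ MulAut.conj p • N)
      (fun o ho => mem_normalizer_iff.2 fun w => ⟨fun hw => ⟨(mem_normalizer_iff.1 (hON ho) w).1 hw.1,
        (mem_normalizer_iff.1 (hON' ho) w).1 hw.2⟩, fun hw => ⟨(mem_normalizer_iff.1 (hON ho) w).2 hw.1,
        (mem_normalizer_iff.1 (hON' ho) w).2 hw.2⟩⟩) hne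
    rw [zc_o2_eq hG S hP h4] at hyO
    have h5 : y = z := (hVN' y hyO hy.1).resolve_left hy1
    have h6 : p⁻¹ * y * p ∈ zl (S : Subgroup G) P := conj_mem' (le_normalizer_zl _ _ hp) hyO
    have h7 : p⁻¹ * y * p = z := by
      refine (hVN' _ h6 (mem_conj.1 hy.2)).resolve_left fun h8 => hy1 ?_
      calc y = p * (p⁻¹ * y * p) * p⁻¹ := by group
        _ = 1 := by rw [h8]; group
    apply hpz
    have h8 : p * z * p⁻¹ = z := by
      rw [← h7, h5] 
      have e : p * (p⁻¹ * z * p) * p⁻¹ = z := by group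
      rw [e]; exact (h5 ▸ h7).symm
    ext w
    rw [mem_conj, hzc, hzc]
    constructor
    · rintro (h9 | h9)
      · left
        calc w = p * (p⁻¹ * w * p) * p⁻¹ := by group
          _ = 1 := by rw [h9]; group
      · right
        calc w = p * (p⁻¹ * w * p) * p⁻¹ := by group
          _ = z := by rw [h9, h8]
    · rintro (rfl | rfl)
      · left; group
      · right
        calc p⁻¹ * w * p = p⁻¹ * (p * w * p⁻¹) * p := by rw [h8]
          _ = w := by group
  refine ⟨hT, fun a ha b hb => ?_⟩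
  have h5 : a * b * a⁻¹ * b⁻¹ ∈ N ⊓ MulAut.conj p • N := by
    refine mem_inf.2 ⟨?_, ?_⟩
    · have e : a * b * a⁻¹ * b⁻¹ = a * (b * a⁻¹ * b⁻¹) := by group
      rw [e]; exact mul_mem ha (conj_mem (hON (hN'O hb)) (inv_mem ha))
    · exact mul_mem (conj_mem (hON' (hNO ha)) hb) (inv_mem hb)
  rw [hT, mem_bot] at h5
  calc a * b = a * b * a⁻¹ * b⁻¹ * (b * a) := by group
    _ = b * a := by rw [h5, one_mul]

/-- **(1') LEMMA I for `U_H`.** -/
theorem lemI_long (hG : IsCharacteristicTwoType G) (S : Sylow 2 G) {P H : Subgroup G}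
    (hP : IsParS (S : Subgroup G) P) (h4 : Nat.card (zl (S : Subgroup G) P) = 4)
    (hH : IsLong (S : Subgroup G) H) (hVU : zl (S : Subgroup G) P ≤ centralizer (zl (S : Subgroup G) H : Set G))
    (hn : ¬ zl (S : Subgroup G) P ≤ zl (S : Subgroup G) H)
    {p : G} (hp : p ∈ P) (hpz : MulAut.conj p • zc (S : Subgroup G) ≠ zc (S : Subgroup G)) :
    zl (S : Subgroup G) H ⊓ MulAut.conj p • zl (S : Subgroup G) H = ⊥ ∧
      ∀ a ∈ zl (S : Subgroup G) H, ∀ b ∈ MulAut.conj p • zl (S : Subgroup G) H, a * b = b * a := by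
  refine lemI hG S hP h4 ?_ (hH.cz.trans (le_normalizer_zl _ _)) hn hp hpz
  rw [← hP.inf_centralizer S hG]
  exact le_inf (Basic.IsLong.zl_le_S hG hH) (comm_symm hVU)

/-- **(3)** all conjugates `N^p`, `p ∈ P`, commute (`N` abelian, `V_P ≰ N`); so `⟨N^P⟩` is abelian. -/
theorem conj_comm (hG : IsCharacteristicTwoType G) (S : Sylow 2 G) {P N : Subgroup G}
    (hP : IsParS (S : Subgroup G) P) (h4 : Nat.card (zl (S : Subgroup G) P) = 4)
    (hNO : N ≤ o2 P) (hCN : CZ (S : Subgroup G) ≤ normalizer (N : Set G)) (hVN : ¬ zl (S : Subgroup G) P ≤ N)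
    (hN : N ≤ centralizer (N : Set G)) {p q : G} (hp : p ∈ P) (hq : q ∈ P) :
    MulAut.conj p • N ≤ centralizer ((MulAut.conj q • N : Subgroup G) : Set G) := by
  obtain ⟨z, x, hz1, hx1, hxz, hzz, hxx, hxzc, hzc, hV, hs⟩ := exists_zx hG S hP h4
  have key : N ≤ centralizer ((MulAut.conj (p⁻¹ * q) • N : Subgroup G) : Set G) := by
    by_cases h0 : MulAut.conj (p⁻¹ * q) • zc (S : Subgroup G) = zc (S : Subgroup G)
    · have h1 : p⁻¹ * q ∈ CZ (S : Subgroup G) := by
        have h2 := mem_normalizer_of_conj_eq h0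
        rw [mem_centralizer_iff]
        intro w hw
        rcases (hzc w).1 hw with rfl | rfl
        · rw [one_mul, mul_one]
        · have h3 := conj_mem h2 hw
          rcases (hzc _).1 h3 with h4 | h4
          · exact absurd (conj_eq_one_iff.1 h4) hz1
          · exact (mul_inv_eq_iff_eq_mul.1 h4).symm
      rw [Pair.conj_eq_of_mem (hCN h1)]
      exact hN
    · have h1 := (lemI hG S hP h4 hNO hCN hVN (mul_mem (inv_mem hp) hq) h0).2
      exact fun a ha => mem_centralizer_iff.2 fun b hb => (h1 a ha b hb).symm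
  have h1 := conj_le_centralizer (g := p) key
  rwa [conj_conj, mul_inv_cancel_left] at h1

/-! ### (2) `S`-invariant four-groups -/

/-- `⟨z, g⟩` is normalised by `S`, `Ω₁(Z(S)) = ⟨z⟩`, `g` is not conjugate to `z`. -/
structure Four (S : Sylow 2 G) (z g : G) : Prop where
  zc : ∀ v, v ∈ zc (S : Subgroup G) ↔ v = 1 ∨ v = z
  z1 : z ≠ 1
  mem : g ∈ (S : Subgroup G)
  sq : g * g = 1
  g1 : g ≠ 1
  ne : g ≠ z
  inv : ∀ s ∈ (S : Subgroup G), s * g * s⁻¹ = g ∨ s * g * s⁻¹ = g * z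
  nc : ∀ k : G, k * z * k⁻¹ ≠ g

namespace Four

variable {S : Sylow 2 G} {z g : G} (h : Four S z g)
include h

omit [Finite G] in
theorem zS {s : G} (hs : s ∈ (S : Subgroup G)) : s * z = z * s := (mem_zc.1 ((h.zc z).2 (Or.inr rfl))).2.1 s hs

omit [Finite G] in
theorem zz : z * z = 1 := by
  rw [← pow_two]; exact (mem_zc.1 ((h.zc z).2 (Or.inr rfl))).2.2

omit [Finite G] in
theorem zmem : z ∈ (S : Subgroup G) := (mem_zc.1 ((h.zc z).2 (Or.inr rfl))).1

omit [Finite G] in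
theorem exists_s : ∃ s ∈ (S : Subgroup G), s * g * s⁻¹ = g * z := by
  by_contra hcon
  push Not at hcon
  have h1 : g ∈ ZN.zc (S : Subgroup G) := mem_zc.2 ⟨h.mem, fun s hs => by
    have h2 := (h.inv s hs).resolve_right (hcon s hs)
    exact mul_inv_eq_iff_eq_mul.1 h2, by rw [pow_two]; exact h.sq⟩
  rcases (h.zc g).1 h1 with h2 | h2
  · exact h.g1 h2
  · exact h.ne h2

omit [Finite G] h in
/-- `C_S(g)` -/
theorem mem_T {x : G} : x ∈ (S : Subgroup G) ⊓ centralizer ({g} : Set G) ↔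
    x ∈ (S : Subgroup G) ∧ x * g * x⁻¹ = g := by
  rw [mem_inf, NTwo.mem_cent]

omit [Finite G] in
theorem zT : z ∈ (S : Subgroup G) ⊓ centralizer ({g} : Set G) := by
  rw [mem_T]
  refine ⟨h.zmem, ?_⟩
  rw [← h.zS h.mem, mul_inv_cancel_right]

omit [Finite G] in
theorem gT : g ∈ (S : Subgroup G) ⊓ centralizer ({g} : Set G) := by
  rw [mem_T]
  exact ⟨h.mem, by rw [mul_inv_cancel_right]⟩

omit [Finite G] h in
theorem two {s t : G} (hs : s ∈ (S : Subgroup G)) (ht : t ∈ (S : Subgroup G))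
    (h1 : s * g * s⁻¹ = g * z) (h2 : t * g * t⁻¹ = g * z) :
    s⁻¹ * t ∈ (S : Subgroup G) ⊓ centralizer ({g} : Set G) := by
  rw [mem_T]
  refine ⟨mul_mem (inv_mem hs) ht, ?_⟩
  calc s⁻¹ * t * g * (s⁻¹ * t)⁻¹ = s⁻¹ * (t * g * t⁻¹) * s := by group
    _ = s⁻¹ * (s * g * s⁻¹) * s := by rw [h2, h1]
    _ = g := by group

omit [Finite G] in
/-- **(2)** `Ω₁(Z(C_S(g))) = ⟨z, g⟩` -/
theorem mem_zc {x : G} : x ∈ ZN.zc ((S : Subgroup G) ⊓ centralizer ({g} : Set G)) ↔
    x = 1 ∨ x = z ∨ x = g ∨ x = g * z := by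
  obtain ⟨s, hs, hsg⟩ := h.exists_s
  constructor
  · intro hx
    -- the normaliser
    have hsT : s ∈ normalizer (((S : Subgroup G) ⊓ centralizer ({g} : Set G) : Subgroup G) : Set G) := by
      have key : ∀ s ∈ (S : Subgroup G), ∀ x ∈ (S : Subgroup G) ⊓ centralizer ({g} : Set G),
          s * x * s⁻¹ ∈ (S : Subgroup G) ⊓ centralizer ({g} : Set G) := by
        intro s hs x hx
        rw [mem_T] at hx ⊢
        refine ⟨mul_mem (mul_mem hs hx.1) (inv_mem hs), ?_⟩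
        have hxz : x * z * x⁻¹ = z := by rw [h.zS hx.1]; group
        have e : s * x * s⁻¹ * g * (s * x * s⁻¹)⁻¹ = s * (x * (s⁻¹ * g * s) * x⁻¹) * s⁻¹ := by group
        rw [e]
        have h1 : s⁻¹ * g * s = g ∨ s⁻¹ * g * s = g * z := by
          have := h.inv s⁻¹ (inv_mem hs)
          rwa [inv_inv] at this
        have h2 : x * (s⁻¹ * g * s) * x⁻¹ = s⁻¹ * g * s := by
          rcases h1 with h1 | h1
          · rw [h1]; exact hx.2
          · rw [h1]
            calc x * (g * z) * x⁻¹ = (x * g * x⁻¹) * (x * z * x⁻¹) := by group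
              _ = g * z := by rw [hx.2, hxz]
        rw [h2]; group
      rw [mem_normalizer_iff]
      refine fun x => ⟨key s hs x, fun hx => ?_⟩
      have h1 := key s⁻¹ (inv_mem hs) _ hx
      have e : s⁻¹ * (s * x * s⁻¹) * s⁻¹⁻¹ = x := by group
      rwa [e] at h1
    have hn : ∀ w ∈ ZN.zc ((S : Subgroup G) ⊓ centralizer ({g} : Set G)),
        s * w * s⁻¹ ∈ ZN.zc ((S : Subgroup G) ⊓ centralizer ({g} : Set G)) := fun w hw =>
      conj_mem (normalizer_le_normalizer_zc _ hsT) hw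
    have key : ∀ w ∈ ZN.zc ((S : Subgroup G) ⊓ centralizer ({g} : Set G)), s * w = w * s →
        w = 1 ∨ w = z := by
      intro w hw hsw
      obtain ⟨hwT, hwc, hw2⟩ := VModule.mem_zc.1 hw
      rw [← h.zc]
      refine VModule.mem_zc.2 ⟨hwT.1, fun b hb => ?_, hw2⟩
      rcases h.inv b hb with h1 | h1
      · exact hwc b (mem_T.2 ⟨hb, h1⟩)
      · have h3 := hwc _ (two hs hb hsg h1)
        calc b * w = s * (s⁻¹ * b * w) := by group
          _ = s * (w * (s⁻¹ * b)) := by rw [h3]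
          _ = (s * w) * s⁻¹ * b := by group
          _ = (w * s) * s⁻¹ * b := by rw [hsw]
          _ = w * b := by group
    obtain ⟨hxT, hxc, hx2⟩ := VModule.mem_zc.1 hx
    rw [pow_two] at hx2
    have hss : s * s ∈ (S : Subgroup G) ⊓ centralizer ({g} : Set G) := by
      rw [mem_T]
      refine ⟨mul_mem hs hs, ?_⟩
      have hsz : s * z * s⁻¹ = z := by rw [h.zS hs]; group
      calc s * s * g * (s * s)⁻¹ = s * (s * g * s⁻¹) * s⁻¹ := by group
        _ = s * (g * z) * s⁻¹ := by rw [hsg]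
        _ = (s * g * s⁻¹) * (s * z * s⁻¹) := by group
        _ = g := by rw [hsg, hsz, mul_assoc, h.zz, mul_one]
    have hc1 : s * x * s⁻¹ * x⁻¹ ∈ ZN.zc ((S : Subgroup G) ⊓ centralizer ({g} : Set G)) :=
      mul_mem (hn x hx) (inv_mem hx)
    have hxinv : x⁻¹ = x := inv_eq_of_mul_eq_one_left hx2
    have hc2 : s * (s * x * s⁻¹ * x⁻¹) = (s * x * s⁻¹ * x⁻¹) * s := by
      have h3 := hxc _ hss
      have h4 : (s * x * s⁻¹) * x = x * (s * x * s⁻¹) := VModule.zc_comm _ _ (hn x hx) _ hx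
      calc s * (s * x * s⁻¹ * x⁻¹) = (s * s * x) * s⁻¹ * x⁻¹ * s⁻¹ * s := by group
        _ = (x * (s * s)) * s⁻¹ * x⁻¹ * s⁻¹ * s := by rw [h3]
        _ = x * (s * x⁻¹ * s⁻¹) * s := by group
        _ = x * (s * x * s⁻¹) * s := by rw [hxinv]
        _ = (s * x * s⁻¹) * x * s := by rw [h4]
        _ = (s * x * s⁻¹ * x⁻¹) * s := by rw [hxinv]
    rcases key _ hc1 hc2 with h3 | h3
    · have h4 : s * x = x * s := by
        calc s * x = (s * x * s⁻¹ * x⁻¹) * x * s := by group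
          _ = x * s := by rw [h3, one_mul]
      rcases key x hx h4 with h5 | h5
      · exact Or.inl h5
      · exact Or.inr (Or.inl h5)
    · have h4 : s * x * s⁻¹ = z * x := by
        calc s * x * s⁻¹ = (s * x * s⁻¹ * x⁻¹) * x := by group
          _ = z * x := by rw [h3]
      have hgx : g ∈ ZN.zc ((S : Subgroup G) ⊓ centralizer ({g} : Set G)) :=
        VModule.mem_zc.2 ⟨h.gT, fun b hb => by
          have := (mem_T.1 hb).2
          exact mul_inv_eq_iff_eq_mul.1 this, by rw [pow_two]; exact h.sq⟩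
      have h5 : s * (g * x) = (g * x) * s := by
        calc s * (g * x) = (s * g * s⁻¹) * (s * x * s⁻¹) * s := by group
          _ = g * z * (z * x) * s := by rw [hsg, h4]
          _ = g * (z * z) * x * s := by group
          _ = (g * x) * s := by rw [h.zz, mul_one]
      have h7 : x = g * (g * x) := by rw [← mul_assoc, h.sq, one_mul]
      rcases key _ (mul_mem hgx hx) h5 with h6 | h6
      · right; right; left; rw [h7, h6, mul_one]
      · right; right; right; rw [h7, h6]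
  · have hz : z ∈ ZN.zc ((S : Subgroup G) ⊓ centralizer ({g} : Set G)) :=
      VModule.mem_zc.2 ⟨h.zT, fun b hb => h.zS hb.1, by rw [pow_two]; exact h.zz⟩
    have hg : g ∈ ZN.zc ((S : Subgroup G) ⊓ centralizer ({g} : Set G)) :=
      VModule.mem_zc.2 ⟨h.gT, fun b hb => mul_inv_eq_iff_eq_mul.1 (mem_T.1 hb).2,
        by rw [pow_two]; exact h.sq⟩
    rintro (rfl | rfl | rfl | rfl)
    · exact one_mem _
    · exact hz
    · exact hg
    · exact mul_mem hg hz

/-- **(2)** `C_S(g)` is a maximal 2-subgroup of `C_G(g)` -/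
theorem sylow {R : Subgroup G} (hR : IsPGroup 2 R) (hSR : (S : Subgroup G) ⊓ centralizer ({g} : Set G) ≤ R)
    (hRg : R ≤ centralizer ({g} : Set G)) : R = (S : Subgroup G) ⊓ centralizer ({g} : Set G) := by
  have : Fact (Nat.Prime 2) := ⟨Nat.prime_two⟩
  obtain ⟨s, hs, hsg⟩ := h.exists_s
  by_contra hne
  have hlt : (S : Subgroup G) ⊓ centralizer ({g} : Set G) < R := lt_of_le_of_ne hSR (Ne.symm hne)
  -- `|S| = 2 |T|`
  have hsn : s ∉ (S : Subgroup G) ⊓ centralizer ({g} : Set G) := fun h0 => by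
    rw [mem_T, hsg] at h0
    exact h.z1 (mul_eq_left.1 h0.2)
  have h2 : ((S : Subgroup G) ⊓ centralizer ({g} : Set G)).relIndex (S : Subgroup G) = 2 := by
    rw [relIndex, index_eq_two_iff]
    refine ⟨⟨s, hs⟩, fun b => ?_⟩
    rw [mem_subgroupOf, mem_subgroupOf]
    change Xor ((b : G) * s ∈ _) ((b : G) ∈ _)
    by_cases hb : (b : G) ∈ (S : Subgroup G) ⊓ centralizer ({g} : Set G)
    · exact Or.inr ⟨hb, fun h2 => hsn ((Subgroup.mul_mem_cancel_left _ hb).1 h2)⟩
    · refine Or.inl ⟨?_, hb⟩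
      have hb' : (b : G) * g * (b : G)⁻¹ = g * z :=
        (h.inv b b.2).resolve_left fun h0 => hb (mem_T.2 ⟨b.2, h0⟩)
      have hbz : (b : G) * z * (b : G)⁻¹ = z := by rw [h.zS b.2]; group
      refine mem_T.2 ⟨mul_mem b.2 hs, ?_⟩
      calc (b : G) * s * g * ((b : G) * s)⁻¹ = b * (s * g * s⁻¹) * (b : G)⁻¹ := by group
        _ = b * (g * z) * (b : G)⁻¹ := by rw [hsg]
        _ = (b * g * (b : G)⁻¹) * (b * z * (b : G)⁻¹) := by group
        _ = g := by rw [hb', hbz, mul_assoc, h.zz, mul_one]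
  have h3 : Nat.card (S : Subgroup G) =
      2 * Nat.card ((S : Subgroup G) ⊓ centralizer ({g} : Set G) : Subgroup G) := by
    have e : Nat.card (((S : Subgroup G) ⊓ centralizer ({g} : Set G)).subgroupOf (S : Subgroup G)) =
        Nat.card ((S : Subgroup G) ⊓ centralizer ({g} : Set G) : Subgroup G) :=
      Nat.card_congr (subgroupOfEquivOfLe inf_le_left).toEquiv
    have h1 := card_mul_index (((S : Subgroup G) ⊓ centralizer ({g} : Set G)).subgroupOf (S : Subgroup G))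
    rw [relIndex] at h2
    rw [e, h2] at h1
    omega
  -- `R` is a Sylow subgroup of `G`
  obtain ⟨m, hm⟩ := IsPGroup.iff_card.1 hR
  obtain ⟨k, hk⟩ := IsPGroup.iff_card.1 (S.isPGroup'.to_le
    (inf_le_left : (S : Subgroup G) ⊓ centralizer ({g} : Set G) ≤ (S : Subgroup G)))
  have h4 : Nat.card ((S : Subgroup G) ⊓ centralizer ({g} : Set G) : Subgroup G) < Nat.card R := by
    refine lt_of_not_ge fun hge => hne ?_
    exact (eq_of_le_of_card_ge hSR hge).symm
  rw [hm, hk] at h4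
  have h5 : k < m := (Nat.pow_lt_pow_iff_right (by norm_num)).1 h4
  obtain ⟨Q, hQ⟩ := hR.exists_le_sylow
  obtain ⟨y, hy⟩ := MulAction.exists_smul_eq G S Q
  have hcQ : Nat.card (Q : Subgroup G) = Nat.card (S : Subgroup G) := by
    rw [← hy, Sylow.coe_subgroup_smul]; exact ThmT.card_conj y _
  have h6 : Nat.card (Q : Subgroup G) ≤ Nat.card R := by
    rw [hcQ, h3, hk, hm, ← pow_succ']
    exact Nat.pow_le_pow_right (by norm_num) h5
  have h7 : R = (Q : Subgroup G) := eq_of_le_of_card_ge hQ h6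
  have hgQ : g ∈ ZN.zc (Q : Subgroup G) := by
    rw [← h7]
    refine VModule.mem_zc.2 ⟨hSR h.gT, fun b hb => mem_centralizer_singleton_iff.1 (hRg hb), ?_⟩
    rw [pow_two]; exact h.sq
  -- `g` is conjugate to `z`
  obtain ⟨q1, q2, q3⟩ := VModule.mem_zc.1 hgQ
  have h8 : y⁻¹ * g * y ∈ ZN.zc (S : Subgroup G) := by
    rw [← hy] at q1 q2
    refine VModule.mem_zc.2 ⟨NTwo.mem_smul.1 q1, fun b hb => ?_, ?_⟩
    · have h9 := q2 (y * b * y⁻¹) (NTwo.mem_smul.2 (by
        have e : y⁻¹ * (y * b * y⁻¹) * y = b := by group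
        rw [e]; exact hb))
      calc b * (y⁻¹ * g * y) = y⁻¹ * ((y * b * y⁻¹) * g) * y := by group
        _ = y⁻¹ * (g * (y * b * y⁻¹)) * y := by rw [h9]
        _ = y⁻¹ * g * y * b := by group
    · calc (y⁻¹ * g * y) ^ 2 = y⁻¹ * g ^ 2 * y := by rw [pow_two, pow_two]; group
        _ = 1 := by rw [q3]; group
  rcases (h.zc _).1 h8 with h9 | h9
  · apply h.g1
    calc g = y * (y⁻¹ * g * y) * y⁻¹ := by group
      _ = 1 := by rw [h9]; group
  · apply h.nc y
    rw [← h9]; group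

omit [Finite G] in
/-- **(2)** `N_G(C_S(g)) ≤ C_G(z)` -/
theorem normalizer_le :
    normalizer (((S : Subgroup G) ⊓ centralizer ({g} : Set G) : Subgroup G) : Set G) ≤
      centralizer ({z} : Set G) := by
  intro x hx
  have h1 : x * z * x⁻¹ ∈ ZN.zc ((S : Subgroup G) ⊓ centralizer ({g} : Set G)) :=
    conj_mem (normalizer_le_normalizer_zc _ hx) (h.mem_zc.2 (Or.inr (Or.inl rfl)))
  rw [NTwo.mem_cent]
  obtain ⟨s, hs, hsg⟩ := h.exists_s
  rcases h.mem_zc.1 h1 with h2 | h2 | h2 | h2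
  · exact absurd (conj_eq_one_iff.1 h2) h.z1
  · exact h2
  · exact absurd h2 (h.nc x)
  · exfalso
    apply h.nc (s⁻¹ * x)
    calc s⁻¹ * x * z * (s⁻¹ * x)⁻¹ = s⁻¹ * (x * z * x⁻¹) * s := by group
      _ = s⁻¹ * (s * g * s⁻¹) * s := by rw [h2, hsg]
      _ = g := by group

end Four

end Cfsg.Agent.Omega.NOThreeL.LemI
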