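import Cfsg.Agent.Omega.NOThreeL.LemI

/-!
# NO-3L, adjacent pairs: the use of LEMMA I (texts bb OMEGA 15606, helper760; 15477 (4), helper492)

`S` a Sylow 2-subgroup, `H`, `K` long groups, not (A), `P ∈ P*(S)`, `P ≤ H`, `|V_P| = 4`, `R = [U_H, U_K]`.
* `dich` : `V_P ≤ R`, or `R ∩ R^p = 1` for all `p ∈ P` with `Z^p ≠ Z` (`Sep`);
* `MV S K P = ⟨(U_K)^p : p ∈ P⟩ ≤ O₂(P)`, normalised by `P`; under `Sep`:
  `quad` : `[U_H, M_V, M_V] = 1`; `comm_le` : `[M_V, M_V] ≤ C(U_H)`; `sq_mem` : squares are in `C(U_H)`;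
  `inf_triv` : `A_z ∩ A_x = 1`, `A_x` the image of `(U_K)^p` on `U_H`;
* `opp` : `H ∩ K = C_G(Z)`, `k ∈ K`, a point of `U_H` in `(U_H)^k` : `(U_H)^k ≤ C_G(Z)`.
-/

set_option autoImplicit false

namespace Cfsg.Agent.Omega.NOThreeL.LemIUse

open Subgroup MulAction Pointwise Cfsg Cfsg.Agent.ZN Cfsg.Agent.MinSimple
open Cfsg.Agent.Omega (conj_smul_commutator)
open Cfsg.Agent.Omega.NoFF.Basic (conj_conj mem_conj conj_le_iff conj_le_centralizer comm_symm comm_mono)
open Cfsg.Agent.Omega.MinPar (IsPar IsParS IsLoc NonLoc)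
open Cfsg.Agent.Omega.FrameNOFF (CZ)
open Cfsg.Agent.Omega.Node.NO3L (Data IsLong)
open Cfsg.Agent.Omega.NOThreeL.Basic (CaseA)
open Cfsg.Agent.Omega.NOThreeL.Gen (conj_mem conj_mem' mem_conj_smul)
open Cfsg.Agent.MinSimple.VModule (le_o2 mem_zc zc_le zc_le_zl zl_le_zc le_normalizer_zl le_normalizer_o2
  o2_le o2_isPGroup normalizer_le_normalizer_zc)
open scoped commutatorElement

universe u

variable {G : Type u} [Group G]

/-- `[U_H, U_K]` -/
def RR (S H K : Subgroup G) : Subgroup G := ⁅zl S H, zl S K⁆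

/-- `⟨(U_K)^p : p ∈ P⟩` -/
def MV (S K P : Subgroup G) : Subgroup G := ⨆ p : P, MulAut.conj (p : G) • zl S K

theorem le_MV (S K : Subgroup G) {P : Subgroup G} {p : G} (hp : p ∈ P) : MulAut.conj p • zl S K ≤ MV S K P :=
  le_iSup (fun p : P => MulAut.conj (p : G) • zl S K) ⟨p, hp⟩

theorem MV_le {S K P A : Subgroup G} (h : ∀ p ∈ P, MulAut.conj p • zl S K ≤ A) : MV S K P ≤ A :=
  iSup_le fun p => h p p.2

theorem le_normalizer_MV (S K P : Subgroup G) : P ≤ normalizer (MV S K P : Set G) := by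
  have key : ∀ p ∈ P, MulAut.conj p • MV S K P ≤ MV S K P := by
    intro p hp
    rw [Subgroup.pointwise_smul_subset_iff]
    refine MV_le fun q hq => ?_
    rw [← Subgroup.pointwise_smul_subset_iff, conj_conj]
    exact le_MV S K (mul_mem hp hq)
  intro g hg
  rw [mem_normalizer_iff]
  intro x
  constructor
  · intro hx
    exact key g hg (mem_conj_smul hx)
  · intro hx
    have h1 := key g⁻¹ (inv_mem hg) (mem_conj_smul hx)
    have e : g⁻¹ * (g * x * g⁻¹) * g⁻¹⁻¹ = x := by group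
    rwa [e] at h1

/-- `(b)` : `R ∩ R^p = 1`. -/
def Sep (S H K P : Subgroup G) : Prop :=
  ∀ p ∈ P, MulAut.conj p • zc S ≠ zc S → RR S H K ⊓ MulAut.conj p • RR S H K = ⊥

theorem le_normalizer_commutator {A B C : Subgroup G} (h1 : C ≤ normalizer (A : Set G))
    (h2 : C ≤ normalizer (B : Set G)) : C ≤ normalizer ((⁅A, B⁆ : Subgroup G) : Set G) := by
  intro c hc
  refine mem_normalizer_of_conj_eq ?_
  rw [conj_smul_commutator, Pair.conj_eq_of_mem (h1 hc), Pair.conj_eq_of_mem (h2 hc)]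

section

variable [Finite G] (hG : IsCharacteristicTwoType G) (S : Sylow 2 G) (hA : ¬ CaseA (S : Subgroup G))
  {P H K : Subgroup G} (hP : IsParS (S : Subgroup G) P) (hPH : P ≤ H) (hH : IsLong (S : Subgroup G) H)
  (hK : IsLong (S : Subgroup G) K)

include hG hA hP

/-- `U_H ≤ O₂(P)` -/
theorem U_le_o2 {H : Subgroup G} (hH : IsLong (S : Subgroup G) H) : zl (S : Subgroup G) H ≤ o2 P := by
  rw [← hP.inf_centralizer S hG]
  refine le_inf (Basic.IsLong.zl_le_S hG hH) (comm_symm ?_)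
  by_contra h
  exact hA ⟨P, H, hP, hH, h⟩

include hH hK

omit hA hP in
theorem norm_U : zl (S : Subgroup G) H ≤ normalizer (zl (S : Subgroup G) K : Set G) :=
  (Basic.IsLong.zl_le_S hG hH).trans (hK.loc.le.trans (le_normalizer_zl _ _))

omit hA hP in
theorem RR_le_left : RR (S : Subgroup G) H K ≤ zl (S : Subgroup G) H := by
  rw [RR, commutator_le]
  intro a ha b hb
  have e : ⁅a, b⁆ = a * (b * a⁻¹ * b⁻¹) := by rw [commutatorElement_def]; group
  rw [e]
  exact mul_mem ha (conj_mem (norm_U hG S hK hH hb) (inv_mem ha))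

omit hA hP in
theorem RR_le_right : RR (S : Subgroup G) H K ≤ zl (S : Subgroup G) K := by
  rw [RR, commutator_le]
  intro a ha b hb
  rw [commutatorElement_def]
  exact mul_mem (conj_mem (norm_U hG S hH hK ha) hb) (inv_mem hb)

omit hG hA hP [Finite G] in
theorem CZ_le_normalizer_RR : CZ (S : Subgroup G) ≤ normalizer (RR (S : Subgroup G) H K : Set G) :=
  le_normalizer_commutator (hH.cz.trans (le_normalizer_zl _ _)) (hK.cz.trans (le_normalizer_zl _ _))

/-- **`V_P ≤ R` or (b).** -/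
theorem dich (h4 : Nat.card (zl (S : Subgroup G) P) = 4) :
    zl (S : Subgroup G) P ≤ RR (S : Subgroup G) H K ∨ Sep (S : Subgroup G) H K P := by
  by_cases h : zl (S : Subgroup G) P ≤ RR (S : Subgroup G) H K
  · exact Or.inl h
  · refine Or.inr fun p hp hpz => (LemI.lemI hG S hP h4 ?_ (CZ_le_normalizer_RR S hH hK) h hp hpz).1
    exact (RR_le_left hG S hH hK).trans (U_le_o2 hG S hA hP hH)

omit hH in
/-- `M_V ≤ O₂(P)` -/
theorem MV_le_o2 : MV (S : Subgroup G) K P ≤ o2 P := MV_le fun p hp => by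
  have h1 := (conj_le_iff (g := p)).2 (U_le_o2 hG S hA hP hK)
  rwa [Pair.conj_eq_of_mem (le_normalizer_o2 P hp)] at h1

include hPH

/-- under (b) `(U_K)^p` centralises `R`. -/
theorem cent_RR (hs : Sep (S : Subgroup G) H K P) (hz : Nat.card (zc (S : Subgroup G)) = 2) {p : G} (hp : p ∈ P) :
    MulAut.conj p • zl (S : Subgroup G) K ≤ centralizer (RR (S : Subgroup G) H K : Set G) := by
  have hUa := (Pair.zl_abel hG S hK.loc).1
  by_cases h0 : MulAut.conj p • zc (S : Subgroup G) = zc (S : Subgroup G)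
  · have h1 : p ∈ CZ (S : Subgroup G) := by
      have h2 := mem_normalizer_of_conj_eq h0
      obtain ⟨z, hz1, hz2⟩ := (Nat.card_eq_two_iff' (1 : zc (S : Subgroup G))).1 hz
      have hz3 : ∀ w ∈ zc (S : Subgroup G), w = 1 ∨ w = z := fun w hw => by
        by_cases hw1 : w = 1
        · exact Or.inl hw1
        · exact Or.inr (congrArg Subtype.val (hz2 ⟨w, hw⟩ (fun e => hw1 (congrArg Subtype.val e))))
      rw [mem_centralizer_iff]
      intro w hw
      rcases hz3 w hw with rfl | hw'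
      · rw [one_mul, mul_one]
      · rcases hz3 _ (conj_mem h2 hw) with h4 | h4
        · exact absurd (hw'.symm.trans (conj_eq_one_iff.1 h4)) (fun e => hz1 (Subtype.ext e))
        · rw [← hw'] at h4
          exact (mul_inv_eq_iff_eq_mul.1 h4).symm
    rw [Pair.conj_eq_of_mem (le_normalizer_zl _ _ (hK.cz h1))]
    exact hUa.trans (centralizer_le (RR_le_right hG S hH hK))
  · have hpN : MulAut.conj p • zl (S : Subgroup G) K ≤ normalizer (RR (S : Subgroup G) H K : Set G) := by
      have h1 := (le_MV (S : Subgroup G) K hp).trans (MV_le_o2 hG S hA hP hK)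
      have h2 : (S : Subgroup G) ≤ CZ (S : Subgroup G) := fun s hs =>
        mem_centralizer_iff.2 fun w hw => ((mem_zc.1 hw).2.1 s hs).symm
      exact h1.trans ((hP.isLoc.o2_le S).trans (h2.trans (CZ_le_normalizer_RR S hH hK)))
    have hpN' : RR (S : Subgroup G) H K ≤ normalizer ((MulAut.conj p • zl (S : Subgroup G) K : Subgroup G) : Set G) := by
      have h1 : o2 P ≤ normalizer (zl (S : Subgroup G) K : Set G) :=
        (hP.isLoc.o2_le S).trans (hK.loc.le.trans (le_normalizer_zl _ _))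
      have h2 := Pair.conj_le_normalizer (g := p) h1
      rw [Pair.conj_eq_of_mem (le_normalizer_o2 P hp)] at h2
      exact ((RR_le_left hG S hH hK).trans (U_le_o2 hG S hA hP hH)).trans h2
    have hcU : MulAut.conj p • zl (S : Subgroup G) H = zl (S : Subgroup G) H :=
      Pair.conj_eq_of_mem (le_normalizer_zl _ _ (hPH hp))
    have h1 : ⁅RR (S : Subgroup G) H K, MulAut.conj p • zl (S : Subgroup G) K⁆ ≤
        RR (S : Subgroup G) H K ⊓ MulAut.conj p • RR (S : Subgroup G) H K := by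
      refine le_inf ?_ ?_
      · rw [commutator_le]
        intro a ha b hb
        have e : ⁅a, b⁆ = a * (b * a⁻¹ * b⁻¹) := by rw [commutatorElement_def]; group
        rw [e]
        exact mul_mem ha (conj_mem (hpN hb) (inv_mem ha))
      · have h2 : MulAut.conj p • RR (S : Subgroup G) H K =
            ⁅zl (S : Subgroup G) H, MulAut.conj p • zl (S : Subgroup G) K⁆ := by
          rw [RR, conj_smul_commutator, hcU]
        rw [h2]
        exact commutator_mono (RR_le_left hG S hH hK) le_rfl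
    rw [hs p hp h0, le_bot_iff, commutator_eq_bot_iff_le_centralizer] at h1
    exact comm_symm h1

/-- **(b): `A_V` is quadratic on `U_H`.** -/
theorem quad (hs : Sep (S : Subgroup G) H K P) (hz : Nat.card (zc (S : Subgroup G)) = 2) :
    ⁅⁅zl (S : Subgroup G) H, MV (S : Subgroup G) K P⁆, MV (S : Subgroup G) K P⁆ = ⊥ := by
  have hcU : ∀ p ∈ P, MulAut.conj p • zl (S : Subgroup G) H = zl (S : Subgroup G) H := fun p hp =>
    Pair.conj_eq_of_mem (le_normalizer_zl _ _ (hPH hp))
  have key : ∀ p ∈ P, ∀ q ∈ P, MulAut.conj q • zl (S : Subgroup G) K ≤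
      centralizer ((MulAut.conj p • RR (S : Subgroup G) H K : Subgroup G) : Set G) := by
    intro p hp q hq
    have h1 := cent_RR hG S hA hP hPH hH hK hs hz (p := p⁻¹ * q) (mul_mem (inv_mem hp) hq)
    have h2 := conj_le_centralizer (g := p) h1
    rwa [conj_conj, mul_inv_cancel_left] at h2
  have hcomm : ∀ p ∈ P, ⁅zl (S : Subgroup G) H, MulAut.conj p • zl (S : Subgroup G) K⁆ =
      MulAut.conj p • RR (S : Subgroup G) H K := fun p hp => by
    rw [RR, conj_smul_commutator, hcU p hp]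
  -- the centraliser of `M_V` in `U_H`
  have hD : ∀ p ∈ P, MulAut.conj p • RR (S : Subgroup G) H K ≤ centralizer (MV (S : Subgroup G) K P : Set G) :=
    fun p hp => comm_symm (MV_le fun q hq => key p hp q hq)
  have hUH := Pair.zl_abel hG S hH.loc
  rw [commutator_eq_bot_iff_le_centralizer, commutator_le]
  intro u hu m hm
  -- `m` acts on `U_H` modulo `C(M_V)` trivially
  have hMN : MV (S : Subgroup G) K P ≤ normalizer (zl (S : Subgroup G) H : Set G) :=
    (MV_le_o2 hG S hA hP hK).trans ((hP.isLoc.o2_le S).trans (hH.loc.le.trans (le_normalizer_zl _ _)))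
  let D : Subgroup G :=
    { carrier := {m | m ∈ MV (S : Subgroup G) K P ∧ ∀ u ∈ zl (S : Subgroup G) H,
        ⁅u, m⁆ ∈ centralizer (MV (S : Subgroup G) K P : Set G)}
      one_mem' := ⟨one_mem _, fun u _ => by rw [commutatorElement_one_right]; exact one_mem _⟩
      mul_mem' := by
        rintro a b ⟨ha, ha'⟩ ⟨hb, hb'⟩
        refine ⟨mul_mem ha hb, fun u hu => ?_⟩
        have h1 := ha' u hu
        have h2 := hb' u hu
        have e : ⁅u, a * b⁆ = ⁅u, a⁆ * (a * ⁅u, b⁆ * a⁻¹) := by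
          simp only [commutatorElement_def]; group
        have h3 : a * ⁅u, b⁆ * a⁻¹ = ⁅u, b⁆ := by
          rw [mem_centralizer_iff.1 h2 a ha, mul_inv_cancel_right]
        rw [e, h3]
        exact mul_mem h1 h2
      inv_mem' := by
        rintro a ⟨ha, ha'⟩
        refine ⟨inv_mem ha, fun u hu => ?_⟩
        have h1 := ha' u hu
        have e : ⁅u, a⁻¹⁆ = a⁻¹ * ⁅u, a⁆⁻¹ * a := by
          simp only [commutatorElement_def]; group
        have h3 : a⁻¹ * ⁅u, a⁆⁻¹ * a = ⁅u, a⁆⁻¹ := by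
          have h4 := mem_centralizer_iff.1 (inv_mem h1) a⁻¹ (inv_mem ha)
          rw [h4]; group
        rw [e, h3]
        exact inv_mem h1 }
  have hMD : MV (S : Subgroup G) K P ≤ D := by
    refine MV_le fun p hp a ha => ⟨le_MV _ _ hp ha, fun u hu => hD p hp ?_⟩
    rw [← hcomm p hp]
    exact commutator_mem_commutator hu ha
  exact (hMD hm).2 u hu

/-- **(b): `A_V` is abelian.** -/
theorem comm_le (hs : Sep (S : Subgroup G) H K P) (hz : Nat.card (zc (S : Subgroup G)) = 2) :
    ⁅MV (S : Subgroup G) K P, MV (S : Subgroup G) K P⁆ ≤ centralizer (zl (S : Subgroup G) H : Set G) := by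
  have h1 := quad hG S hA hP hPH hH hK hs hz
  rw [← commutator_eq_bot_iff_le_centralizer]
  refine commutator_commutator_eq_bot_of_rotate ?_ h1
  rw [commutator_comm (MV (S : Subgroup G) K P) (zl (S : Subgroup G) H)]
  exact h1

/-- **(b): `A_V` has exponent 2.** -/
theorem sq_mem (hs : Sep (S : Subgroup G) H K P) (hz : Nat.card (zc (S : Subgroup G)) = 2) {m : G}
    (hm : m ∈ MV (S : Subgroup G) K P) : m * m ∈ centralizer (zl (S : Subgroup G) H : Set G) := by
  have h1 := quad hG S hA hP hPH hH hK hs hz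
  rw [commutator_eq_bot_iff_le_centralizer] at h1
  have hUH := Pair.zl_abel hG S hH.loc
  have hMN : MV (S : Subgroup G) K P ≤ normalizer (zl (S : Subgroup G) H : Set G) :=
    (MV_le_o2 hG S hA hP hK).trans ((hP.isLoc.o2_le S).trans (hH.loc.le.trans (le_normalizer_zl _ _)))
  rw [mem_centralizer_iff]
  intro u hu
  have hc := mem_centralizer_iff.1 (h1 (commutator_mem_commutator hu hm)) m hm
  have hcU : ⁅u, m⁆ ∈ zl (S : Subgroup G) H := by
    have e : ⁅u, m⁆ = u * (m * u⁻¹ * m⁻¹) := by rw [commutatorElement_def]; group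
    rw [e]
    exact mul_mem hu (conj_mem (hMN hm) (inv_mem hu))
  have hsq : ⁅u, m⁆ * ⁅u, m⁆ = 1 := by rw [← pow_two]; exact hUH.2 _ hcU
  have e : u * (m * m) * (m * m * u)⁻¹ = ⁅u, m⁆ * (m * ⁅u, m⁆ * m⁻¹) := by
    simp only [commutatorElement_def]; group
  have h2 : m * ⁅u, m⁆ * m⁻¹ = ⁅u, m⁆ := by rw [hc, mul_inv_cancel_right]
  rw [h2, hsq, mul_inv_eq_one] at e
  exact e

/-- **(b): `A_z ∩ A_x = 1`.** -/
theorem inf_triv (hs : Sep (S : Subgroup G) H K P) {p : G} (hp : p ∈ P)
    (hpz : MulAut.conj p • zc (S : Subgroup G) ≠ zc (S : Subgroup G)) {a b : G}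
    (ha : a ∈ zl (S : Subgroup G) K) (hb : b ∈ MulAut.conj p • zl (S : Subgroup G) K)
    (hab : a⁻¹ * b ∈ centralizer (zl (S : Subgroup G) H : Set G)) :
    a ∈ centralizer (zl (S : Subgroup G) H : Set G) := by
  have hcU : MulAut.conj p • zl (S : Subgroup G) H = zl (S : Subgroup G) H :=
    Pair.conj_eq_of_mem (le_normalizer_zl _ _ (hPH hp))
  rw [mem_centralizer_iff]
  intro u hu
  have e : ⁅u, a⁆ = ⁅u, b⁆ := by
    have h1 := mem_centralizer_iff.1 hab u⁻¹ (inv_mem hu)
    have e2 : ⁅u, b⁆ = u * a * ((a⁻¹ * b) * u⁻¹) * b⁻¹ := by rw [commutatorElement_def]; group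
    rw [e2, ← h1, commutatorElement_def]; group
  have h1 : ⁅u, a⁆ ∈ RR (S : Subgroup G) H K ⊓ MulAut.conj p • RR (S : Subgroup G) H K := by
    refine mem_inf.2 ⟨commutator_mem_commutator hu ha, ?_⟩
    rw [e, RR, conj_smul_commutator, hcU]
    exact commutator_mem_commutator hu hb
  rw [hs p hp hpz, mem_bot, commutatorElement_eq_one_iff_mul_comm] at h1
  exact h1

omit hA hP hPH in
/-- **(4)** `H ∩ K = C_G(Z)`, `k ∈ K`; if `(U_H)^k` contains a point of `U_H` then `(U_H)^k ≤ C_G(Z)`. -/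
theorem opp (hHK : H ⊓ K ≤ CZ (S : Subgroup G)) {h k : G} (hh : h ∈ H) (hk : k ∈ K)
    (hy : MulAut.conj h • zc (S : Subgroup G) ≤ MulAut.conj k • zl (S : Subgroup G) H) :
    MulAut.conj k • zl (S : Subgroup G) H ≤ CZ (S : Subgroup G) := by
  have hUa := (Pair.zl_abel hG S hH.loc).1
  have h1 : MulAut.conj k • zl (S : Subgroup G) H ≤
      centralizer ((MulAut.conj k • zl (S : Subgroup G) H : Subgroup G) : Set G) := conj_le_centralizer hUa
  refine le_trans (le_inf ?_ ?_) hHK
  · have h2 : centralizer ((MulAut.conj h • zc (S : Subgroup G) : Subgroup G) : Set G) ≤ H := by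
      intro x hx
      have h3 : h⁻¹ * x * h ∈ CZ (S : Subgroup G) := by
        rw [mem_centralizer_iff]
        intro w hw
        have h4 := mem_centralizer_iff.1 hx _ (mem_conj_smul hw)
        calc w * (h⁻¹ * x * h) = h⁻¹ * ((h * w * h⁻¹) * x) * h := by group
          _ = h⁻¹ * (x * (h * w * h⁻¹)) * h := by rw [h4]
          _ = h⁻¹ * x * h * w := by group
      have h5 := mul_mem (mul_mem hh (hH.cz h3)) (inv_mem hh)
      have e : h * (h⁻¹ * x * h) * h⁻¹ = x := by group
      rwa [e] at h5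
    exact (h1.trans (centralizer_le hy)).trans h2
  · intro x hx
    have h2 : k⁻¹ * x * k ∈ K := hK.loc.le (Basic.IsLong.zl_le_S hG hH (mem_conj.1 hx))
    have h5 := mul_mem (mul_mem hk h2) (inv_mem hk)
    have e : k * (k⁻¹ * x * k) * k⁻¹ = x := by group
    rwa [e] at h5

end

end Cfsg.Agent.Omega.NOThreeL.LemIUse
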