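import Cfsg.Agent.Omega.NOThreeL.LN
import Cfsg.Agent.Omega.NOThreeL.AdjTransv

/-!
# NO-3L, B2-T, `|Z| = 2`: LEMMA LN for groups

`Sit z y v U H S Q` : `U = ⟨z^H⟩` is elementary abelian, `C_G(z) ≤ H`, `S ≤ C_G(z)` is a 2-group which fixes only
`1`, `z` in `U`, `Q` is a normal 2-subgroup of `C_G(z)`, `v ∈ Q` acts on `U` as a transvection with centre
`y ∈ U`, and `|C_G(y)| ≤ |C_G(z)|`.  Then `y = z` (`Sit.eq`).
-/

set_option autoImplicit false

namespace Cfsg.Agent.Omega.NOThreeL.LineNull

open Subgroup Cfsg.Agent.Omega.NOThreeL.ThmL Cfsg.Agent.Omega.NOThreeL.LN MulAction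

variable {G : Type*} [Group G]

/-- `v ∈ Q` acts on `U` as a transvection with centre `y`. -/
structure Sit (z y v : G) (U H S Q : Subgroup G) : Prop where
  zU : z ∈ U
  sq : ∀ u ∈ U, u * u = 1
  nU : ∀ h ∈ H, ∀ u ∈ U, h * u * h⁻¹ ∈ U
  cH : ∀ g, g * z = z * g → g ∈ H
  gen : ∀ N : Subgroup G, z ∈ N → N ≤ U → (∀ h ∈ H, ∀ n ∈ N, h * n * h⁻¹ ∈ N) → U ≤ N
  S2 : IsPGroup 2 S
  cS : ∀ s ∈ S, s * z = z * s
  fix : ∀ u ∈ U, (∀ s ∈ S, s * u * s⁻¹ = u) → u = 1 ∨ u = z
  QC : ∀ q ∈ Q, q * z = z * q
  Qn : ∀ g, g * z = z * g → ∀ q ∈ Q, g * q * g⁻¹ ∈ Q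
  Q2 : IsPGroup 2 Q
  vQ : v ∈ Q
  yU : y ∈ U
  vy : v * y * v⁻¹ = y
  hv : ∀ u ∈ U, v * u * v⁻¹ = u ∨ v * u * v⁻¹ = u * y
  ne : ∃ u ∈ U, v * u * v⁻¹ ≠ u
  card : Nat.card (centralizer ({y} : Set G)) ≤ Nat.card (centralizer ({z} : Set G))

namespace Sit

variable {z y v : G} {U H S Q : Subgroup G}

/-- **LEMMA LN, group form.** -/
theorem eq [Finite G] (D : Sit z y v U H S Q) : y = z := by
  classical
  have comm : ∀ {u w : G}, u ∈ U → w ∈ U → u * w = w * u := fun hu hw =>
    AdjTransv.eq_of_sq (D.sq _ hu) (D.sq _ hw) (D.sq _ (mul_mem hu hw))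
  have hy1 : y ≠ 1 := by
    rintro rfl
    obtain ⟨u, hu, hne⟩ := D.ne
    rcases D.hv u hu with h | h
    · exact hne h
    · rw [mul_one] at h
      exact hne h
  have hvH : v ∈ H := D.cH v (D.QC v D.vQ)
  -- the module
  let i0 : CommGroup U :=
    { (inferInstance : Group U) with
      mul_comm := fun a b => Subtype.ext (comm a.2 b.2) }
  let M := Additive U
  let i1 : AddCommGroup M := inferInstanceAs (AddCommGroup (Additive U))
  let i2 : Module (ZMod 2) M := AddCommGroup.zmodModule (n := 2) fun a => by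
    rw [two_nsmul]
    exact Subtype.ext (D.sq _ (Additive.toMul a).2)
  let i3 : DistribMulAction H M :=
    { smul := fun x a => Additive.ofMul ⟨(x : G) * (Additive.toMul a : U) * (x : G)⁻¹,
        D.nU x x.2 _ (Additive.toMul a : U).2⟩
      one_smul := fun a => Subtype.ext (by
        change (1 : G) * ((Additive.toMul a : U) : G) * (1 : G)⁻¹ = ((Additive.toMul a : U) : G)
        rw [one_mul, inv_one, mul_one])
      mul_smul := fun a b c => Subtype.ext (by
        change ((a : G) * b) * ((Additive.toMul c : U) : G) * ((a : G) * b)⁻¹ =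
          (a : G) * ((b : G) * ((Additive.toMul c : U) : G) * (b : G)⁻¹) * (a : G)⁻¹
        rw [mul_inv_rev]; simp only [mul_assoc])
      smul_zero := fun a => Subtype.ext (by
        change (a : G) * 1 * (a : G)⁻¹ = 1
        rw [mul_one, mul_inv_cancel])
      smul_add := fun a b c => Subtype.ext (by
        change (a : G) * (((Additive.toMul b : U) : G) * ((Additive.toMul c : U) : G)) * (a : G)⁻¹ =
          ((a : G) * ((Additive.toMul b : U) : G) * (a : G)⁻¹) * ((a : G) * ((Additive.toMul c : U) : G) * (a : G)⁻¹)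
        group) }
  have hfinM : Finite M := inferInstanceAs (Finite U)
  -- coercion to `G`
  let co : M → G := fun a => ((Additive.toMul a : U) : G)
  have co_inj : ∀ {a b : M}, co a = co b → a = b := fun h => Subtype.ext h
  have co_mem : ∀ a : M, co a ∈ U := fun a => (Additive.toMul a : U).2
  have co_add : ∀ a b : M, co (a + b) = co a * co b := fun a b => rfl
  have co_zero : co 0 = 1 := rfl
  have co_smul : ∀ (x : H) (a : M), co (x • a) = (x : G) * co a * (x : G)⁻¹ := fun x a => rfl
  let mk : ∀ u : G, u ∈ U → M := fun u hu => Additive.ofMul ⟨u, hu⟩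
  have co_mk : ∀ (u : G) (hu : u ∈ U), co (mk u hu) = u := fun u hu => rfl
  let c : M := mk z D.zU
  let e : M := mk y D.yU
  -- the functional
  have hyy : y * y = 1 := D.sq y D.yU
  let f : M →+ ZMod 2 :=
    { toFun := fun a => if v * co a * v⁻¹ = co a then 0 else 1
      map_zero' := by
        rw [if_pos]
        rw [co_zero, mul_one, mul_inv_cancel]
      map_add' := fun a b => by
        have e1 : v * co (a + b) * v⁻¹ = (v * co a * v⁻¹) * (v * co b * v⁻¹) := by rw [co_add]; group
        have hne : ∀ w : G, w * y ≠ w := fun w h => hy1 (by simpa using h)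
        rcases D.hv _ (co_mem a) with ha | ha <;> rcases D.hv _ (co_mem b) with hb | hb
        · have h3 : v * co (a + b) * v⁻¹ = co (a + b) := by rw [e1, ha, hb, co_add]
          rw [if_pos h3, if_pos ha, if_pos hb, add_zero]
        · have h3 : ¬ v * co (a + b) * v⁻¹ = co (a + b) := by
            rw [e1, ha, hb, ← mul_assoc, ← co_add]
            exact hne _
          have hb' : ¬ v * co b * v⁻¹ = co b := by rw [hb]; exact hne _
          rw [if_neg h3, if_pos ha, if_neg hb', zero_add]
        · have h3 : ¬ v * co (a + b) * v⁻¹ = co (a + b) := by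
            rw [e1, ha, hb, mul_assoc, comm D.yU (co_mem b), ← mul_assoc, ← co_add]
            exact hne _
          have ha' : ¬ v * co a * v⁻¹ = co a := by rw [ha]; exact hne _
          rw [if_neg h3, if_neg ha', if_pos hb, add_zero]
        · have h3 : v * co (a + b) * v⁻¹ = co (a + b) := by
            rw [e1, ha, hb, mul_assoc, ← mul_assoc y, comm D.yU (co_mem b), mul_assoc, hyy, mul_one, co_add]
          have ha' : ¬ v * co a * v⁻¹ = co a := by rw [ha]; exact hne _
          have hb' : ¬ v * co b * v⁻¹ = co b := by rw [hb]; exact hne _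
          rw [if_pos h3, if_neg ha', if_neg hb']
          decide }
  have hf0 : ∀ a : M, f a = 0 ↔ v * co a * v⁻¹ = co a := by
    intro a
    change (if v * co a * v⁻¹ = co a then (0 : ZMod 2) else 1) = 0 ↔ _
    constructor
    · intro h
      by_contra h1
      rw [if_neg h1] at h
      exact absurd h (by decide)
    · intro h
      rw [if_pos h]
  let Φ : Set (M →+ ZMod 2) := Set.range fun x : H => act x f
  have act_mul : ∀ (x x' : H) (g : M →+ ZMod 2), act x (act x' g) = act (x * x') g := by
    intro x x' g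
    ext u
    simp [mul_smul]
  have act_one : act (1 : H) f = f := by ext u; simp
  have hfΦ : f ∈ Φ := ⟨1, act_one⟩
  let O : Subgroup H := Q.subgroupOf H
  have hsz : ∀ s : H, s • c = c ↔ (s : G) * z = z * s := by
    intro s
    constructor
    · intro h
      have h1 := congrArg co h
      rw [co_smul] at h1
      change (s : G) * z * (s : G)⁻¹ = z at h1
      rw [mul_inv_eq_iff_eq_mul] at h1
      exact h1
    · intro h
      apply co_inj
      rw [co_smul]
      change (s : G) * z * (s : G)⁻¹ = z
      rw [mul_inv_eq_iff_eq_mul]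
      exact h
  have hsy : ∀ s : H, s • e = e ↔ (s : G) * y = y * s := by
    intro s
    constructor
    · intro h
      have h1 := congrArg co h
      rw [co_smul] at h1
      change (s : G) * y * (s : G)⁻¹ = y at h1
      rw [mul_inv_eq_iff_eq_mul] at h1
      exact h1
    · intro h
      apply co_inj
      rw [co_smul]
      change (s : G) * y * (s : G)⁻¹ = y
      rw [mul_inv_eq_iff_eq_mul]
      exact h
  have hHyp : Hyp Φ c O := by
    refine ⟨⟨?_, ?_, ?_⟩, ?_, ?_, ?_, ?_⟩
    · rintro x _ ⟨x', rfl⟩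
      exact ⟨x * x', (act_mul x x' f).symm⟩
    · rintro _ ⟨x, rfl⟩ _ ⟨x', rfl⟩
      exact ⟨x' * x⁻¹, by change act (x' * x⁻¹) (act x f) = act x' f; rw [act_mul, inv_mul_cancel_right]⟩
    · -- no common zero
      intro a ha
      have ha' : ∀ h ∈ H, v * (h * co a * h⁻¹) * v⁻¹ = h * co a * h⁻¹ := by
        intro h hh
        have h1 := ha (act (⟨h, hh⟩ : H)⁻¹ f) ⟨_, rfl⟩
        rw [act_apply, inv_inv, hf0, co_smul] at h1
        exact h1
      let N : Subgroup G :=
        { carrier := {u | u ∈ U ∧ ∀ h ∈ H, v * (h * u * h⁻¹) * v⁻¹ = h * u * h⁻¹}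
          mul_mem' := by
            rintro u w ⟨hu, hu'⟩ ⟨hw, hw'⟩
            refine ⟨mul_mem hu hw, fun h hh => ?_⟩
            have e1 : v * (h * (u * w) * h⁻¹) * v⁻¹ =
              (v * (h * u * h⁻¹) * v⁻¹) * (v * (h * w * h⁻¹) * v⁻¹) := by group
            rw [e1, hu' h hh, hw' h hh]
            group
          one_mem' := ⟨U.one_mem, fun h _ => by group⟩
          inv_mem' := by
            rintro u ⟨hu, hu'⟩
            refine ⟨inv_mem hu, fun h hh => ?_⟩
            have e1 : v * (h * u⁻¹ * h⁻¹) * v⁻¹ = (v * (h * u * h⁻¹) * v⁻¹)⁻¹ := by group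
            rw [e1, hu' h hh]
            group }
      have hNU : N ≤ U := fun u hu => hu.1
      have hNH : ∀ h ∈ H, ∀ n ∈ N, h * n * h⁻¹ ∈ N := by
        rintro h hh n ⟨hn, hn'⟩
        refine ⟨D.nU h hh n hn, fun k hk => ?_⟩
        have := hn' (k * h) (mul_mem hk hh)
        have e1 : k * (h * n * h⁻¹) * k⁻¹ = k * h * n * (k * h)⁻¹ := by group
        rw [e1]
        exact this
      have hNbot : N = ⊥ := by
        by_contra hN
        obtain ⟨n, hn, hn1, hnS⟩ := AdjTransv.exists_fixed D.S2 hN (fun n hn => D.sq n (hNU hn))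
          (fun s hs n hn => hNH s (D.cH s (D.cS s hs)) n hn)
        have hnz : n = z := (D.fix n (hNU hn) hnS).resolve_left hn1
        rw [hnz] at hn
        have h1 := D.gen N hn hNU hNH
        obtain ⟨u, hu, hne⟩ := D.ne
        have h2 := (h1 hu).2 1 H.one_mem
        rw [one_mul, inv_one, mul_one] at h2
        exact hne h2
      have haN : co a ∈ N := ⟨co_mem a, ha'⟩
      rw [hNbot, mem_bot] at haN
      exact co_inj haN
    · -- 2-group
      intro o ho
      obtain ⟨n, hn⟩ := D.Q2 ⟨(o : G), ho⟩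
      refine ⟨n, fun u => ?_⟩
      have h1 : o ^ (2 ^ n) = 1 := by
        apply Subtype.ext
        have := congrArg Subtype.val hn
        exact this
      rw [h1, one_smul]
    · intro o ho
      exact (hsz o).2 (D.QC o ho)
    · intro s hs o ho
      exact D.Qn s ((hsz s).1 hs) o ho
    · intro u hu
      have hfix : ∀ s ∈ S, s * co u * s⁻¹ = co u := by
        intro s hs
        have hsH : s ∈ H := D.cH s (D.cS s hs)
        have h1 := hu ⟨s, hsH⟩ ((hsz _).2 (D.cS s hs))
        have h2 := congrArg co h1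
        rw [co_smul] at h2
        exact h2
      rcases D.fix (co u) (co_mem u) hfix with h | h
      · exact Or.inl (co_inj h)
      · exact Or.inr (co_inj h)
  have hTv : Tv Φ O e f := by
    refine ⟨hfΦ, ?_, ?_, ⟨v, hvH⟩, D.vQ, fun u => ?_⟩
    · intro h
      exact hy1 (congrArg co h)
    · rw [hf0]
      exact D.vy
    · apply co_inj
      rw [co_smul]
      change v * co u * v⁻¹ = _
      rcases z2 (f u) with h | h
      · rw [h, zero_smul, add_zero, (hf0 u).1 h]
      · rw [h, one_smul, co_add]
        rcases D.hv _ (co_mem u) with h1 | h1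
        · rw [(hf0 u).2 h1] at h
          exact absurd h (by decide)
        · exact h1
  have hcard : Nat.card (stabilizer H e) ≤ Nat.card (stabilizer H c) := by
    have h1 : Nat.card (stabilizer H e) ≤ Nat.card (centralizer ({y} : Set G)) := by
      refine Nat.card_le_card_of_injective (fun s => ⟨((s : H) : G), ?_⟩) ?_
      · rw [mem_centralizer_singleton_iff]
        exact (hsy s).1 s.2
      · intro s t h
        have h3 := congrArg Subtype.val h
        exact Subtype.ext (Subtype.ext h3)
    have h2 : Nat.card (centralizer ({z} : Set G)) ≤ Nat.card (stabilizer H c) := by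
      refine Nat.card_le_card_of_injective
        (fun s => ⟨⟨(s : G), D.cH s (mem_centralizer_singleton_iff.1 s.2)⟩, ?_⟩) ?_
      · exact (hsz _).2 (mem_centralizer_singleton_iff.1 s.2)
      · intro s t h
        have h3 := congrArg Subtype.val h
        have h4 := congrArg Subtype.val h3
        exact Subtype.ext h4
    exact (h1.trans D.card).trans h2
  have := Hyp.eq_of_card hHyp hTv hcard
  exact congrArg co this

end Sit

end Cfsg.Agent.Omega.NOThreeL.LineNull
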