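import Cfsg.Agent.Omega.NOThreeL.Basic

/-!
# NO-3L: minimal pairs over the point stabiliser (text `bb OMEGA` #14891 (M), (L), helper750; typed by helper737)

`S` a Sylow 2-subgroup, `Z = Ω₁(Z(S))`, `C = C_G(Z) = CZ S`, `Q = O₂(C)`, long groups `H`, `U_H = zl S H`.

* `Star S H K x` : `(U_K)^x ≤ Q`, `U_H ≤ Q^x`, `[U_H, (U_K)^x] ≠ 1` (LEMMA P: exists, `exists_star`); `Star.symm`;
* `MinStar S H K x` : moreover `|H| + |K|` is minimal (`exists_minStar`);
* (M) `MinStar.sup_lt` : a join of two proper subgroups of `H` over `C` is proper; `MinStar.exists_max` : `C` is in a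
  unique maximal subgroup `M` of `H`; `MinStar.eq_sup` : `H = ⟨P, C⟩` for every `P ≤ H`, `P ≰ M`;
* `MinStar.le_o2` : `C ≤ L < H`, `h ∈ H`, `(U_K)^(h x) ≤ Q` imply `(U_K)^(h x) ≤ O₂(L)` and `[U_L, (U_K)^(h x)] = 1`;
* `JJ` : the group generated by all `(U_K)^(h x) ≤ Q`, `h ∈ H`; `MinStar.JJ_le_o2`, `MinStar.JJ_comm`,
  `MinStar.normalizer_JJ` : `J ≤ O₂(M)`, `[J, U_M] = 1`, `N_H(J) = M`; `MinStar.sup_eq` : `H = ⟨(U_K)^(h x)⟩ C`;
* (L) `Star.lines_comm` : NOFF, the lines of `H` on `Z` and the lines of `K^x` on `Z^x` commute;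
  `Star.transv` : `|V| = 4`, `V` a line on `Z`, `[V, (U_K)^x] ≠ 1`: `Z ≤ (U_K)^x`, `V` acts as a transvection with
  centre `Z`.
-/

set_option autoImplicit false

namespace Cfsg.Agent.Omega.NOThreeL.MinOver

open Subgroup Cfsg Cfsg.Agent.ZN Cfsg.Agent.Omega.MinPar Cfsg.Agent.Omega.Frame Cfsg.Agent.Omega.FrameNOFF
open Cfsg.Agent.Omega.Node.NO3L Cfsg.Agent.Omega.NOThreeL.Basic
open Cfsg.Agent.Omega.NoFF.Basic (V conj_conj mem_conj conj_le_iff conj_le_centralizer comm_symm comm_mono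
  Z_le_V V_le conj_V_mul)
open Cfsg.Agent.Omega.NOThreeL.Pair (conj_eq_of_mem conj_le_normalizer zl_abel)
open Cfsg.Agent.MinSimple.VModule (zl_le le_normalizer_zl zc_le_zl zc_le zl_le_zc o2_isPGroup le_normalizer_o2
  mem_zc le_o2)
open scoped Pointwise

universe u

variable {G : Type u} [Group G]

/-! ### Definitions -/

/-- `(U_K)^x ≤ Q`, `U_H ≤ Q^x` and `[U_H, (U_K)^x] ≠ 1`. -/
structure Star (S H K : Subgroup G) (x : G) : Prop where
  long₁ : IsLong S H
  long₂ : IsLong S K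
  le₂ : MulAut.conj x • zl S K ≤ o2 (CZ S)
  le₁ : zl S H ≤ MulAut.conj x • o2 (CZ S)
  ne : ¬ zl S H ≤ centralizer ((MulAut.conj x • zl S K : Subgroup G) : Set G)

/-- `Star` with `|H| + |K|` minimal. -/
structure MinStar (S H K : Subgroup G) (x : G) : Prop extends Star S H K x where
  min : ∀ (H' K' : Subgroup G) (y : G), Star S H' K' y → Nat.card H + Nat.card K ≤ Nat.card H' + Nat.card K'

theorem conj_inv_conj (g : G) (A : Subgroup G) : MulAut.conj g⁻¹ • MulAut.conj g • A = A := by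
  rw [conj_conj, inv_mul_cancel, map_one, one_smul]

theorem conj_conj_inv (g : G) (A : Subgroup G) : MulAut.conj g • MulAut.conj g⁻¹ • A = A := by
  rw [conj_conj, mul_inv_cancel, map_one, one_smul]

theorem Star.symm {S H K : Subgroup G} {x : G} (h : Star S H K x) : Star S K H x⁻¹ where
  long₁ := h.long₂
  long₂ := h.long₁
  le₂ := by
    have h1 := (conj_le_iff (g := x⁻¹)).2 h.le₁
    rwa [conj_inv_conj] at h1
  le₁ := by
    have h1 := (conj_le_iff (g := x⁻¹)).2 h.le₂
    rwa [conj_inv_conj] at h1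
  ne := fun h1 => h.ne (comm_symm (by
    have h2 := conj_le_centralizer (g := x) h1
    rwa [conj_conj_inv] at h2))

theorem MinStar.symm {S H K : Subgroup G} {x : G} (h : MinStar S H K x) : MinStar S K H x⁻¹ :=
  ⟨h.toStar.symm, fun H' K' y h' => by
    have := h.min K' H' y⁻¹ h'.symm
    omega⟩

section fin

variable [Finite G]

/-- **LEMMA P** gives a pair `Star`. -/
theorem exists_star (h : Ctx G) (S : Sylow 2 G) (hF : Full (S : Subgroup G)) (D : Data (S : Subgroup G)) :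
    ∃ (H K : Subgroup G) (x : G), Star (S : Subgroup G) H K x := by
  obtain ⟨H, K, x, h1, h2, h3, h4, h5⟩ := exists_crit h S hF D
  exact ⟨H, K, x, h1, h2, h3, h4, fun h6 => h5 (commutator_eq_bot_iff_le_centralizer.2 h6)⟩

theorem Star.exists_minStar {S H K : Subgroup G} {x : G} (h : Star S H K x) :
    ∃ (H' K' : Subgroup G) (y : G), MinStar S H' K' y := by
  let s : Set (Subgroup G × Subgroup G × G) := {q | Star S q.1 q.2.1 q.2.2}
  obtain ⟨⟨H', K', y⟩, hm, hmin⟩ := Set.exists_min_image s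
    (fun q => Nat.card q.1 + Nat.card q.2.1) (Set.toFinite s) ⟨(H, K, x), h⟩
  exact ⟨H', K', y, hm, fun H'' K'' y' h' => hmin (H'', K'', y') h'⟩

/-- A minimal pair exists. -/
theorem exists_minStar (h : Ctx G) (S : Sylow 2 G) (hF : Full (S : Subgroup G)) (D : Data (S : Subgroup G)) :
    ∃ (H K : Subgroup G) (x : G), MinStar (S : Subgroup G) H K x := by
  obtain ⟨H, K, x, h1⟩ := exists_star h S hF D
  exact h1.exists_minStar

end fin

/-! ### Facts on `Star` -/

section star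

variable {S H K : Subgroup G} {x : G}

/-- `U_H` is not centralised by `(U_K)^x`. -/
theorem Star.ne' (h : Star S H K x) : ¬ MulAut.conj x • zl S K ≤ centralizer (zl S H : Set G) :=
  fun h1 => h.ne (comm_symm h1)

/-- A subgroup `L` with `C ≤ L ≤ H` is long. -/
theorem IsLong.of_le (T : Sylow 2 G) {H L : Subgroup G} (h : IsLong (T : Subgroup G) H)
    (h1 : CZ (T : Subgroup G) ≤ L) (h2 : L ≤ H) : IsLong (T : Subgroup G) L :=
  ⟨h.loc.of_le T ((le_CZ T).trans h1) h2, h1⟩

theorem zl_mono {S L H : Subgroup G} (h : L ≤ H) : zl S L ≤ zl S H := by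
  refine zl_le (zc_le_zl _ _) ?_
  exact h.trans (le_normalizer_zl _ _)

end star

section sylow

variable [Finite G] (hc : IsCharacteristicTwoType G) (S : Sylow 2 G) {H K : Subgroup G} {x : G}

/-- `A ≤ Q`, `A` centralises `U_H`: `A ≤ O₂(H)`. -/
theorem Star.not_le_o2 (h : Star (S : Subgroup G) H K x) {g : G} (hg : g ∈ H)
    (h1 : MulAut.conj (g * x) • zl (S : Subgroup G) K ≤ o2 H) (hc : IsCharacteristicTwoType G) : False := by
  -- `O₂(H)` centralises `U_H`
  have h2 : o2 H ≤ centralizer (zl (S : Subgroup G) H : Set G) := by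
    have h3 := h.long₁.loc.zl_le S hc
    intro y hy
    rw [mem_centralizer_iff]
    intro u hu
    exact ((mem_zc.mp (h3 hu)).2.1 y hy).symm
  have h4 := (conj_le_iff (g := g⁻¹)).2 (h1.trans h2)
  rw [conj_conj, inv_mul_cancel_left] at h4
  refine h.ne' (h4.trans ?_)
  intro y hy
  rw [mem_conj, inv_inv] at hy
  rw [mem_centralizer_iff] at hy ⊢
  intro u hu
  have h5 : g * u * g⁻¹ ∈ zl (S : Subgroup G) H :=
    (mem_normalizer_iff.1 (le_normalizer_zl _ _ hg) u).1 hu
  have h6 := hy _ h5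
  have h7 : g * (u * y) * g⁻¹ = g * (y * u) * g⁻¹ := by
    calc g * (u * y) * g⁻¹ = g * u * g⁻¹ * (g * y * g⁻¹) := by group
      _ = g * y * g⁻¹ * (g * u * g⁻¹) := h6
      _ = g * (y * u) * g⁻¹ := by group
  exact mul_left_cancel (mul_right_cancel h7)

/-- `A ≤ C_H(A)`-form: the group generated by the `H`-conjugates. -/
theorem le_normalizer_V (A H : Subgroup G) : H ≤ normalizer (V A H : Set G) := by
  have key : ∀ h ∈ H, MulAut.conj h • V A H = V A H := fun h hh => by
    have := conj_V_mul (Z := A) (g := 1) hh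
    rwa [one_mul, map_one, one_smul] at this
  intro h hh
  rw [mem_normalizer_iff]
  intro y
  constructor
  · intro hy
    rw [← key h hh, mem_conj]
    simpa [mul_assoc] using hy
  · intro hy
    rw [← key h hh, mem_conj] at hy
    simpa [mul_assoc] using hy

/-- `C < H` -/
theorem Star.cz_lt (h : Star (S : Subgroup G) H K x) : CZ (S : Subgroup G) < H := by
  refine lt_of_le_of_ne h.long₁.cz fun he => ?_
  have h1 : zl (S : Subgroup G) H ≤ zc (S : Subgroup G) := by
    refine zl_le le_rfl ?_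
    rw [← he]
    exact centralizer_le_normalizer _
  refine h.ne' ((h.le₂.trans (MinSimple.VModule.o2_le _)).trans ?_)
  exact centralizer_le h1

/-! ### (M) -/

variable {S}

/-- `C ≤ L < H`, `g ∈ H`, `(U_K)^(g x) ≤ Q`: `[U_L, (U_K)^(g x)] = 1`. -/
theorem MinStar.comm (h : MinStar (S : Subgroup G) H K x) {L : Subgroup G} (hCL : CZ (S : Subgroup G) ≤ L)
    (hLH : L < H) {g : G} (hg : g ∈ H) (hA : MulAut.conj (g * x) • zl (S : Subgroup G) K ≤ o2 (CZ (S : Subgroup G))) :
    MulAut.conj (g * x) • zl (S : Subgroup G) K ≤ centralizer (zl (S : Subgroup G) L : Set G) := by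
  by_contra hne
  have hS : Star (S : Subgroup G) L K (g * x) := by
    refine ⟨IsLong.of_le S h.long₁ hCL hLH.le, h.long₂, hA, ?_, fun h1 => hne (comm_symm h1)⟩
    have h1 : zl (S : Subgroup G) L ≤ MulAut.conj g • zl (S : Subgroup G) H := by
      rw [conj_eq_of_mem (le_normalizer_zl _ _ hg)]
      exact zl_mono hLH.le
    refine h1.trans ?_
    rw [← conj_conj]
    exact conj_le_iff.2 h.le₁
  have h1 := h.min _ _ _ hS
  have h2 : Nat.card L < Nat.card H :=
    lt_of_le_of_ne (Subgroup.card_le_of_le hLH.le) fun he => hLH.ne (Subgroup.eq_of_le_of_card_ge hLH.le he.ge)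
  omega

/-- `C ≤ L < H`, `g ∈ H`, `(U_K)^(g x) ≤ Q`: `(U_K)^(g x) ≤ O₂(L)`. -/
theorem MinStar.le_o2 (h : MinStar (S : Subgroup G) H K x) {L : Subgroup G} (hCL : CZ (S : Subgroup G) ≤ L)
    (hLH : L < H) {g : G} (hg : g ∈ H) (hA : MulAut.conj (g * x) • zl (S : Subgroup G) K ≤ o2 (CZ (S : Subgroup G))) :
    MulAut.conj (g * x) • zl (S : Subgroup G) K ≤ o2 L :=
  le_o2_of_comm hA (IsLong.of_le S h.long₁ hCL hLH.le) (h.comm hCL hLH hg hA)

/-- `L` preserves `{g ∈ H | (U_K)^(g x) ≤ Q}`. -/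
theorem MinStar.le_mul (h : MinStar (S : Subgroup G) H K x) {L : Subgroup G} (hCL : CZ (S : Subgroup G) ≤ L)
    (hLH : L < H) {g : G} (hg : g ∈ H) (hA : MulAut.conj (g * x) • zl (S : Subgroup G) K ≤ o2 (CZ (S : Subgroup G)))
    {k : G} (hk : k ∈ L) :
    MulAut.conj (k * g * x) • zl (S : Subgroup G) K ≤ o2 (CZ (S : Subgroup G)) := by
  have h1 := (conj_le_iff (g := k)).2 (h.le_o2 hCL hLH hg hA)
  rw [conj_conj, ← mul_assoc, conj_eq_of_mem (le_normalizer_o2 _ hk)] at h1
  exact h1.trans ((IsLong.of_le S h.long₁ hCL hLH.le).o2_le S)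

/-- Not all `(U_K)^(g x)`, `g ∈ H`, are in `Q`. -/
theorem Star.exists_not_le (h : Star (S : Subgroup G) H K x) (hc : IsCharacteristicTwoType G) :
    ∃ g ∈ H, ¬ MulAut.conj (g * x) • zl (S : Subgroup G) K ≤ o2 (CZ (S : Subgroup G)) := by
  by_contra hcon
  push Not at hcon
  have h1 : V (MulAut.conj x • zl (S : Subgroup G) K) H ≤ o2 (CZ (S : Subgroup G)) :=
    V_le fun p hp => by rw [conj_conj]; exact hcon p hp
  have h2 : V (MulAut.conj x • zl (S : Subgroup G) K) H ≤ o2 H :=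
    le_o2 ((h1.trans (MinSimple.VModule.o2_le _)).trans h.long₁.cz) ((o2_isPGroup _).to_le h1)
      (le_normalizer_V _ _)
  refine h.not_le_o2 S H.one_mem (le_trans ?_ h2) hc
  rw [← conj_conj]
  exact Z_le_V H.one_mem

/-- **(M)**: a join of two proper subgroups of `H` over `C` is proper. -/
theorem MinStar.sup_lt (h : MinStar (S : Subgroup G) H K x) (hc : IsCharacteristicTwoType G)
    {L₁ L₂ : Subgroup G} (hC₁ : CZ (S : Subgroup G) ≤ L₁) (h₁ : L₁ < H) (hC₂ : CZ (S : Subgroup G) ≤ L₂)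
    (h₂ : L₂ < H) : L₁ ⊔ L₂ < H := by
  refine lt_of_le_of_ne (sup_le h₁.le h₂.le) fun he => ?_
  -- the stabiliser of the set of all `g ∈ H` with `(U_K)^(g x) ≤ Q`
  let p : G → Prop := fun g => g ∈ H ∧ MulAut.conj (g * x) • zl (S : Subgroup G) K ≤ o2 (CZ (S : Subgroup G))
  let Y : Subgroup G :=
    { carrier := {k | ∀ g, p g ↔ p (k * g)}
      one_mem' := fun g => by rw [one_mul]
      mul_mem' := fun {a b} ha hb g => by
        rw [mul_assoc]
        exact (hb g).trans (ha (b * g))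
      inv_mem' := fun {a} ha g => by
        have := ha (a⁻¹ * g)
        rw [mul_inv_cancel_left] at this
        exact this.symm }
  have key : ∀ L : Subgroup G, CZ (S : Subgroup G) ≤ L → L < H → L ≤ Y := by
    intro L hL1 hL2 k hk g
    constructor
    · rintro ⟨hg, hA⟩
      exact ⟨H.mul_mem (hL2.le hk) hg, h.le_mul hL1 hL2 hg hA hk⟩
    · rintro ⟨hg, hA⟩
      have h1 := h.le_mul hL1 hL2 hg hA (L.inv_mem hk)
      rw [inv_mul_cancel_left] at h1
      exact ⟨(Subgroup.mul_mem_cancel_left H (hL2.le hk)).1 hg, h1⟩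
  have hY : H ≤ Y := by
    rw [← he]
    exact sup_le (key L₁ hC₁ h₁) (key L₂ hC₂ h₂)
  obtain ⟨g, hg, hn⟩ := h.toStar.exists_not_le hc
  have h1 : p 1 := ⟨H.one_mem, by rw [one_mul]; exact h.le₂⟩
  have h2 := (hY hg 1).1 h1
  rw [mul_one] at h2
  exact hn h2.2

/-- **(M)**: `C` is in a unique maximal subgroup of `H`. -/
theorem MinStar.exists_max (h : MinStar (S : Subgroup G) H K x) (hc : IsCharacteristicTwoType G) :
    ∃ M : Subgroup G, CZ (S : Subgroup G) ≤ M ∧ M < H ∧
      ∀ L : Subgroup G, CZ (S : Subgroup G) ≤ L → L < H → L ≤ M := by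
  let s : Set (Subgroup G) := {L | CZ (S : Subgroup G) ≤ L ∧ L < H}
  obtain ⟨M, hM⟩ := (Set.toFinite s).exists_maximal ⟨_, le_rfl, h.toStar.cz_lt S⟩
  refine ⟨M, hM.prop.1, hM.prop.2, fun L hL1 hL2 => ?_⟩
  have h1 : M ⊔ L ∈ s := ⟨hM.prop.1.trans le_sup_left, h.sup_lt hc hM.prop.1 hM.prop.2 hL1 hL2⟩
  exact le_sup_right.trans (hM.le_of_ge h1 le_sup_left)

/-- `H = ⟨P, C⟩` for every subgroup `P` of `H` which is not in `M`. -/
theorem eq_sup_of_max {H M : Subgroup G} (hCH : CZ (S : Subgroup G) ≤ H)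
    (hM : ∀ L : Subgroup G, CZ (S : Subgroup G) ≤ L → L < H → L ≤ M) {P : Subgroup G}
    (hP : P ≤ H) (hPM : ¬ P ≤ M) : P ⊔ CZ (S : Subgroup G) = H := by
  by_contra hne
  exact hPM (le_sup_left.trans (hM _ le_sup_right (lt_of_le_of_ne (sup_le hP hCH) hne)))

/-- The group generated by all `(U_K)^(g x) ≤ Q`, `g ∈ H`. -/
def JJ (S H K : Subgroup G) (x : G) : Subgroup G :=
  ⨆ (g : G) (_ : g ∈ H ∧ MulAut.conj (g * x) • zl S K ≤ o2 (CZ S)), MulAut.conj (g * x) • zl S K

theorem le_JJ {S H K : Subgroup G} {x g : G} (hg : g ∈ H)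
    (hA : MulAut.conj (g * x) • zl S K ≤ o2 (CZ S)) : MulAut.conj (g * x) • zl S K ≤ JJ S H K x :=
  le_iSup_of_le g (le_iSup_of_le ⟨hg, hA⟩ le_rfl)

theorem JJ_le {S H K A : Subgroup G} {x : G}
    (h : ∀ g ∈ H, MulAut.conj (g * x) • zl S K ≤ o2 (CZ S) → MulAut.conj (g * x) • zl S K ≤ A) :
    JJ S H K x ≤ A := iSup_le fun g => iSup_le fun hg => h g hg.1 hg.2

/-- `(U_K)^x ≤ J` -/
theorem Star.le_JJ (h : Star (S : Subgroup G) H K x) :
    MulAut.conj x • zl (S : Subgroup G) K ≤ JJ (S : Subgroup G) H K x := by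
  have h1 := MinOver.le_JJ (S := (S : Subgroup G)) (K := K) (x := x) H.one_mem (by rw [one_mul]; exact h.le₂)
  rwa [one_mul] at h1

theorem MinStar.JJ_le_o2 (h : MinStar (S : Subgroup G) H K x) {L : Subgroup G}
    (hCL : CZ (S : Subgroup G) ≤ L) (hLH : L < H) : JJ (S : Subgroup G) H K x ≤ o2 L :=
  JJ_le fun _ hg hA => h.le_o2 hCL hLH hg hA

theorem MinStar.JJ_comm (h : MinStar (S : Subgroup G) H K x) {L : Subgroup G}
    (hCL : CZ (S : Subgroup G) ≤ L) (hLH : L < H) :
    JJ (S : Subgroup G) H K x ≤ centralizer (zl (S : Subgroup G) L : Set G) :=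
  JJ_le fun _ hg hA => h.comm hCL hLH hg hA

theorem MinStar.le_normalizer_JJ (h : MinStar (S : Subgroup G) H K x) {L : Subgroup G}
    (hCL : CZ (S : Subgroup G) ≤ L) (hLH : L < H) : L ≤ normalizer (JJ (S : Subgroup G) H K x : Set G) := by
  have key : ∀ k ∈ L, MulAut.conj k • JJ (S : Subgroup G) H K x ≤ JJ (S : Subgroup G) H K x := by
    intro k hk
    have h1 : JJ (S : Subgroup G) H K x ≤ MulAut.conj k⁻¹ • JJ (S : Subgroup G) H K x := by
      refine JJ_le fun g hg hA => ?_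
      have h2 := (conj_le_iff (g := k⁻¹)).2
        (MinOver.le_JJ (H.mul_mem (hLH.le hk) hg) (h.le_mul hCL hLH hg hA hk))
      rwa [conj_conj, ← mul_assoc, ← mul_assoc, inv_mul_cancel, one_mul] at h2
    have h3 := (conj_le_iff (g := k)).2 h1
    rwa [conj_conj_inv] at h3
  intro k hk
  rw [mem_normalizer_iff]
  intro y
  constructor
  · intro hy
    refine key k hk ?_
    rw [mem_conj]
    simpa [mul_assoc] using hy
  · intro hy
    have h1 : k⁻¹ * (k * y * k⁻¹) * (k⁻¹)⁻¹ ∈ JJ (S : Subgroup G) H K x := by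
      refine key k⁻¹ (L.inv_mem hk) ?_
      rw [mem_conj]
      simpa [mul_assoc] using hy
    simpa [mul_assoc] using h1

/-- `N_H(J) = M` -/
theorem MinStar.normalizer_JJ (h : MinStar (S : Subgroup G) H K x) (hc : IsCharacteristicTwoType G)
    {M : Subgroup G} (hCM : CZ (S : Subgroup G) ≤ M) (hMH : M < H)
    (hM : ∀ L : Subgroup G, CZ (S : Subgroup G) ≤ L → L < H → L ≤ M) :
    H ⊓ normalizer (JJ (S : Subgroup G) H K x : Set G) = M := by
  have h1 : M ≤ H ⊓ normalizer (JJ (S : Subgroup G) H K x : Set G) :=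
    le_inf hMH.le (h.le_normalizer_JJ hCM hMH)
  refine le_antisymm (hM _ (hCM.trans h1) (lt_of_le_of_ne inf_le_left fun he => ?_)) h1
  have h2 : JJ (S : Subgroup G) H K x ≤ o2 H := by
    refine MinSimple.VModule.le_o2 ?_ ?_ (he.ge.trans inf_le_right)
    · exact (h.JJ_le_o2 hCM hMH).trans ((MinSimple.VModule.o2_le _).trans hMH.le)
    · exact (o2_isPGroup _).to_le (h.JJ_le_o2 hCM hMH)
  refine h.toStar.not_le_o2 S H.one_mem ?_ hc
  rw [one_mul]
  exact h.toStar.le_JJ.trans h2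

/-- `H = ⟨(U_K)^(g x) : g ∈ H⟩ C` -/
theorem MinStar.sup_eq (h : MinStar (S : Subgroup G) H K x) (hc : IsCharacteristicTwoType G) :
    V (MulAut.conj x • zl (S : Subgroup G) K) H ⊔ CZ (S : Subgroup G) = H := by
  set N := V (MulAut.conj x • zl (S : Subgroup G) K) H with hN
  have hNH : N ≤ H := by
    refine V_le fun p hp => ?_
    have h1 := (conj_le_iff (g := p)).2 ((h.le₂.trans (MinSimple.VModule.o2_le _)).trans h.long₁.cz)
    rwa [NoFF.Basic.conj_self hp] at h1
  have hAN : MulAut.conj x • zl (S : Subgroup G) K ≤ N := by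
    have h1 := Z_le_V (Z := MulAut.conj x • zl (S : Subgroup G) K) H.one_mem
    rwa [map_one, one_smul] at h1
  by_contra hne
  have hlt : N ⊔ CZ (S : Subgroup G) < H := lt_of_le_of_ne (sup_le hNH h.long₁.cz) hne
  have h1 : MulAut.conj (1 * x) • zl (S : Subgroup G) K ≤ o2 (N ⊔ CZ (S : Subgroup G)) :=
    h.le_o2 le_sup_right hlt H.one_mem (by rw [one_mul]; exact h.le₂)
  have h2 : o2 (N ⊔ CZ (S : Subgroup G)) ⊓ N ≤ o2 N := by
    refine MinSimple.VModule.le_o2 inf_le_right ((o2_isPGroup _).to_le inf_le_left) ?_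
    intro n hn
    have h3 := le_normalizer_o2 (N ⊔ CZ (S : Subgroup G)) ((le_sup_left : N ≤ _) hn)
    rw [mem_normalizer_iff] at h3 ⊢
    intro y
    rw [Subgroup.mem_inf, Subgroup.mem_inf, h3 y]
    refine and_congr_right fun _ => ⟨fun hy => mul_mem (mul_mem hn hy) (inv_mem hn), fun hy => ?_⟩
    have h4 := mul_mem (mul_mem (inv_mem hn) hy) hn
    simpa [mul_assoc] using h4
  have h3 : o2 N ≤ o2 H := by
    refine MinSimple.VModule.le_o2 ((MinSimple.VModule.o2_le _).trans hNH) (o2_isPGroup _) ?_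
    exact (le_normalizer_V _ _).trans (Cfsg.Agent.Omega.normalizer_le_normalizer_o2' _)
  refine h.toStar.not_le_o2 S H.one_mem ?_ hc
  rw [one_mul] at h1 ⊢
  exact ((le_inf h1 hAN).trans h2).trans h3

/-! ### (L) -/

section abstr

omit [Finite G]

variable {V A Z : Subgroup G}

theorem relIndex_eq_two (hZV : Z ≤ V) (hV : Nat.card V = 4) (hZ : Nat.card Z = 2) : Z.relIndex V = 2 := by
  have h1 := Subgroup.card_mul_index (Z.subgroupOf V)
  have h2 : Nat.card (Z.subgroupOf V) = 2 := by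
    rw [← hZ]
    exact Nat.card_congr (Subgroup.subgroupOfEquivOfLe hZV).toEquiv
  rw [h2, hV] at h1
  change (Z.subgroupOf V).index = 2
  omega

/-- `|V| = 4`, `|Z| = 2`, `A` normalises `V` and centralises `Z < V`: `[v, a] ∈ Z`. -/
theorem comm_mem (hZV : Z ≤ V) (hV : Nat.card V = 4) (hZ : Nat.card Z = 2)
    (hA : A ≤ normalizer (V : Set G)) (hAZ : A ≤ centralizer (Z : Set G)) {v a : G} (hv : v ∈ V) (ha : a ∈ A) :
    v * a * v⁻¹ * a⁻¹ ∈ Z := by
  have hidx : Z.relIndex V = 2 := by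
    exact relIndex_eq_two hZV hV hZ
  have hw : a * v * a⁻¹ ∈ V := (mem_normalizer_iff.1 (hA ha) v).1 hv
  have hcz : ∀ z ∈ Z, a * z = z * a := fun z hz => (mem_centralizer_iff.1 (hAZ ha) z hz).symm
  have e : v * a * v⁻¹ * a⁻¹ = v * (a * v * a⁻¹)⁻¹ := by group
  rw [e]
  by_cases hvZ : v ∈ Z
  · rw [hcz v hvZ, mul_inv_cancel_right, mul_inv_cancel]
    exact Z.one_mem
  · have hwZ : a * v * a⁻¹ ∉ Z := by
      intro h
      apply hvZ
      have h1 := hcz _ h
      have h2 : v = a * v * a⁻¹ := by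
        have h3 : a * (a * v * a⁻¹) = a * v * a⁻¹ * a := h1
        rw [inv_mul_cancel_right] at h3
        exact (mul_left_cancel h3).symm
      rw [h2]
      exact h
    have hi : (Z.subgroupOf V).index = 2 := hidx
    have h1 := (Subgroup.mul_mem_iff_of_index_two hi (a := ⟨v, hv⟩) (b := ⟨(a * v * a⁻¹)⁻¹, V.inv_mem hw⟩)).2
    have h2 := h1 (by
      rw [mem_subgroupOf, mem_subgroupOf]
      exact ⟨fun h => absurd h hvZ, fun h => absurd ((Subgroup.inv_mem_iff Z).1 h) hwZ⟩)
    exact mem_subgroupOf.1 h2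

/-- `[V, A] = Z` -/
theorem comm_eq (hZV : Z ≤ V) (hV : Nat.card V = 4) (hZ : Nat.card Z = 2)
    (hA : A ≤ normalizer (V : Set G)) (hAZ : A ≤ centralizer (Z : Set G))
    (hne : ¬ V ≤ centralizer (A : Set G)) : ⁅V, A⁆ = Z := by
  have h1 : ⁅V, A⁆ ≤ Z := by
    rw [commutator_le]
    intro v hv a ha
    exact comm_mem hZV hV hZ hA hAZ hv ha
  have hfin : Finite Z := Nat.finite_of_card_ne_zero (by omega)
  refine Subgroup.eq_of_le_of_card_ge h1 ?_
  rw [hZ]
  have h2 : ⁅V, A⁆ ≠ ⊥ := fun h => hne (commutator_eq_bot_iff_le_centralizer.1 h)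
  have : Finite (⁅V, A⁆ : Subgroup G) := Finite.of_injective (Subgroup.inclusion h1) (Subgroup.inclusion_injective h1)
  exact (Subgroup.one_lt_card_iff_ne_bot _).2 h2

/-- `|A : C_A(V)| = 2` -/
theorem relIndex_centralizer (hZV : Z ≤ V) (hV : Nat.card V = 4) (hZ : Nat.card Z = 2)
    (hA : A ≤ normalizer (V : Set G)) (hAZ : A ≤ centralizer (Z : Set G))
    (hne : ¬ V ≤ centralizer (A : Set G)) : (centralizer (V : Set G)).relIndex A = 2 := by
  have hidx : (Z.subgroupOf V).index = 2 := by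
    exact relIndex_eq_two hZV hV hZ
  -- the involution of `Z`
  obtain ⟨z, hz, hzall⟩ : ∃ z ∈ Z, ∀ y ∈ Z, y = 1 ∨ y = z := by
    have hfin : Finite Z := Nat.finite_of_card_ne_zero (by omega)
    obtain ⟨a, b, hab, huniv⟩ := Nat.card_eq_two_iff.1 hZ
    have h1 : (1 : Z) ∈ ({a, b} : Set Z) := by rw [huniv]; trivial
    rcases h1 with h1 | h1
    · refine ⟨b, b.2, fun y hy => ?_⟩
      have h2 : (⟨y, hy⟩ : Z) ∈ ({a, b} : Set Z) := by rw [huniv]; trivial
      rcases h2 with h2 | h2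
      · left; rw [← h1] at h2; exact congrArg Subtype.val h2
      · right; exact congrArg Subtype.val h2
    · have h1' : (1 : Z) = b := h1
      refine ⟨a, a.2, fun y hy => ?_⟩
      have h2 : (⟨y, hy⟩ : Z) ∈ ({a, b} : Set Z) := by rw [huniv]; trivial
      rcases h2 with h2 | h2
      · right; exact congrArg Subtype.val h2
      · left
        have h3 : (⟨y, hy⟩ : Z) = b := h2
        rw [← h1'] at h3
        exact congrArg Subtype.val h3
  have hcz : ∀ a ∈ A, ∀ y ∈ Z, a * y = y * a := fun a ha y hy => (mem_centralizer_iff.1 (hAZ ha) y hy).symm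
  -- an element which does not centralise `V` acts as `v ↦ z⁻¹ v` outside `Z`
  have hcent : ∀ a ∈ A, ∀ v ∈ V, v ∉ Z → a * v = v * a → a ∈ centralizer (V : Set G) := by
    intro a ha v hv hvZ hav
    rw [mem_centralizer_iff]
    intro w hw
    by_cases hwZ : w ∈ Z
    · exact (hcz a ha w hwZ).symm
    · have h1 := (Subgroup.mul_mem_iff_of_index_two hidx (a := ⟨w, hw⟩) (b := ⟨v⁻¹, V.inv_mem hv⟩)).2 (by
        rw [mem_subgroupOf, mem_subgroupOf]
        exact ⟨fun h => absurd h hwZ, fun h => absurd ((Subgroup.inv_mem_iff Z).1 h) hvZ⟩)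
      have h2 : w * v⁻¹ ∈ Z := mem_subgroupOf.1 h1
      have h3 := hcz a ha _ h2
      have e : w = w * v⁻¹ * v := by group
      calc w * a = w * v⁻¹ * v * a := by rw [← e]
        _ = w * v⁻¹ * (v * a) := mul_assoc _ _ _
        _ = w * v⁻¹ * (a * v) := by rw [hav]
        _ = w * v⁻¹ * a * v := (mul_assoc _ _ _).symm
        _ = a * (w * v⁻¹) * v := by rw [h3]
        _ = a * w := by group
  obtain ⟨v, hv, hvn⟩ : ∃ v ∈ V, v ∉ centralizer (A : Set G) := by
    by_contra hcon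
    push Not at hcon
    exact hne hcon
  have hvZ : v ∉ Z := by
    intro h
    apply hvn
    rw [mem_centralizer_iff]
    intro a ha
    exact hcz a ha v h
  obtain ⟨s, hs, hsn⟩ : ∃ s ∈ A, s * v ≠ v * s := by
    by_contra hcon
    push Not at hcon
    apply hvn
    rw [mem_centralizer_iff]
    exact fun a ha => hcon a ha
  have hval : ∀ a ∈ A, a * v ≠ v * a → v * a * v⁻¹ * a⁻¹ = z := by
    intro a ha hn
    rcases hzall _ (comm_mem hZV hV hZ hA hAZ hv ha) with h | h
    · exfalso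
      apply hn
      have h1 : v * a * v⁻¹ * a⁻¹ * (a * v) = a * v := by rw [h, one_mul]
      rw [← h1]
      group
    · exact h
  have hzz : z * z = 1 := by
    rcases hzall _ (Z.mul_mem hz hz) with h | h
    · exact h
    · exfalso
      have hz1 : z = 1 := by
        have := mul_left_cancel (h.trans (mul_one z).symm)
        exact this
      have h1 := hval s hs hsn
      rw [hz1] at h1
      apply hsn
      have h2 : v * s * v⁻¹ * s⁻¹ * (s * v) = s * v := by rw [h1, one_mul]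
      rw [← h2]
      group
  rw [relIndex_eq_two_iff]
  refine ⟨s, hs, fun a ha => ?_⟩
  have hsC : s ∉ centralizer (V : Set G) := fun h => hsn ((mem_centralizer_iff.1 h v hv).symm)
  by_cases hac : a ∈ centralizer (V : Set G)
  · right
    exact ⟨hac, fun h => hsC ((Subgroup.mul_mem_cancel_left _ hac).1 h)⟩
  · left
    refine ⟨?_, hac⟩
    have han : a * v ≠ v * a := fun h => hac (hcent a ha v hv hvZ h)
    refine hcent _ (A.mul_mem ha hs) v hv hvZ ?_
    have h1 := hval a ha han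
    have h2 := hval s hs hsn
    -- `v a = z a v`, `v s = z s v`
    have h3 : v * a = z * (a * v) := by rw [← h1]; group
    have h4 : v * s = z * (s * v) := by rw [← h2]; group
    calc a * s * v = a * (s * v) := mul_assoc _ _ _
      _ = a * (z * z * (s * v)) := by rw [hzz, one_mul]
      _ = a * z * (z * (s * v)) := by simp only [mul_assoc]
      _ = z * a * (v * s) := by rw [hcz a ha z hz, ← h4]
      _ = z * (a * v) * s := by simp only [mul_assoc]
      _ = v * a * s := by rw [← h3]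
      _ = v * (a * s) := mul_assoc _ _ _

end abstr

/-- **(L)**: the lines of `H` on `Z` and the lines of `K^x` on `Z^x` commute. -/
theorem Star.lines_comm (h : Star (S : Subgroup G) H K x) (hc : IsCharacteristicTwoType G)
    (D : Data (S : Subgroup G)) {P P' : Subgroup G} (hP : IsParS (S : Subgroup G) P)
    (hPH : zl (S : Subgroup G) P ≤ zl (S : Subgroup G) H) (hP' : IsParS (S : Subgroup G) P')
    (hPK : zl (S : Subgroup G) P' ≤ zl (S : Subgroup G) K) {c d : G} (hcc : c ∈ CZ (S : Subgroup G))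
    (hd : d ∈ CZ (S : Subgroup G)) :
    MulAut.conj c • zl (S : Subgroup G) P ≤
      centralizer ((MulAut.conj (x * d) • zl (S : Subgroup G) P' : Subgroup G) : Set G) := by
  have D' := geo hc D
  have hS : (S : Subgroup G) ≠ ⊥ := by
    intro h0
    have h2 : Fact (Nat.Prime 2) := ⟨Nat.prime_two⟩
    have h1 := S.not_dvd_index
    rw [h0, index_bot] at h1
    exact h1 hc.1.two_dvd
  have hQS : o2 (CZ (S : Subgroup G)) ≤ (S : Subgroup G) := (isLoc_centralizer_zc S hS).o2_le S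
  refine D'.noff' hP hP' ?_ ?_
  · have e1 : MulAut.conj c • zl (S : Subgroup G) P ≤ zl (S : Subgroup G) H := by
      have := (conj_le_iff (g := c)).2 hPH
      rwa [conj_eq_of_mem (le_normalizer_zl _ _ (h.long₁.cz hcc))] at this
    refine e1.trans (h.le₁.trans ?_)
    rw [← conj_conj]
    refine conj_le_iff.2 ?_
    rw [← conj_eq_of_mem (le_normalizer_o2 _ hd)]
    exact conj_le_iff.2 (hQS.trans hP'.le)
  · have e1 : MulAut.conj (x * d) • zl (S : Subgroup G) P' ≤ MulAut.conj x • zl (S : Subgroup G) K := by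
      rw [← conj_conj]
      refine conj_le_iff.2 ?_
      have := (conj_le_iff (g := d)).2 hPK
      rwa [conj_eq_of_mem (le_normalizer_zl _ _ (h.long₂.cz hd))] at this
    refine e1.trans (h.le₂.trans ?_)
    rw [← conj_eq_of_mem (le_normalizer_o2 _ hcc)]
    exact conj_le_iff.2 (hQS.trans hP.le)

/-- **(L)**: a line `V` of `H` on `Z` of order 4 (`|Z| = 2`) not centralised by `(U_K)^x`: `[V, (U_K)^x] = Z`
and `|(U_K)^x : C(V)| = 2`. -/
theorem Star.transv (h : Star (S : Subgroup G) H K x) (hc : IsCharacteristicTwoType G)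
    (hZ : Nat.card (zc (S : Subgroup G)) = 2) {P : Subgroup G} (hP : IsParS (S : Subgroup G) P)
    (h4 : Nat.card (zl (S : Subgroup G) P) = 4) {c : G} (hcc : c ∈ CZ (S : Subgroup G))
    (hne : ¬ MulAut.conj c • zl (S : Subgroup G) P ≤
      centralizer ((MulAut.conj x • zl (S : Subgroup G) K : Subgroup G) : Set G)) :
    ⁅MulAut.conj c • zl (S : Subgroup G) P, MulAut.conj x • zl (S : Subgroup G) K⁆ = zc (S : Subgroup G) ∧
      (centralizer ((MulAut.conj c • zl (S : Subgroup G) P : Subgroup G) : Set G)).relIndex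
        (MulAut.conj x • zl (S : Subgroup G) K) = 2 := by
  have hS : (S : Subgroup G) ≠ ⊥ := by
    intro h0
    have h2 : Fact (Nat.Prime 2) := ⟨Nat.prime_two⟩
    have h1 := S.not_dvd_index
    rw [h0, index_bot] at h1
    exact h1 hc.1.two_dvd
  have hQS : o2 (CZ (S : Subgroup G)) ≤ (S : Subgroup G) := (isLoc_centralizer_zc S hS).o2_le S
  have hZc : MulAut.conj c • zc (S : Subgroup G) = zc (S : Subgroup G) :=
    conj_eq_of_mem (centralizer_le_normalizer _ hcc)
  have hZV : zc (S : Subgroup G) ≤ MulAut.conj c • zl (S : Subgroup G) P := by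
    have := (conj_le_iff (g := c)).2 (zc_le_zl (S : Subgroup G) P)
    rwa [hZc] at this
  have hV : Nat.card (MulAut.conj c • zl (S : Subgroup G) P : Subgroup G) = 4 := by
    rw [← h4]
    exact Nat.card_congr (Subgroup.equivSMul (MulAut.conj c) (zl (S : Subgroup G) P)).toEquiv.symm
  have hAN : MulAut.conj x • zl (S : Subgroup G) K ≤
      normalizer ((MulAut.conj c • zl (S : Subgroup G) P : Subgroup G) : Set G) := by
    have h1 : o2 (CZ (S : Subgroup G)) ≤ MulAut.conj c • P := by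
      rw [← conj_eq_of_mem (le_normalizer_o2 _ hcc)]
      exact conj_le_iff.2 (hQS.trans hP.le)
    refine h.le₂.trans (h1.trans ?_)
    intro y hy
    rw [mem_conj] at hy
    have h2 := le_normalizer_zl (S : Subgroup G) P hy
    rw [mem_normalizer_iff] at h2 ⊢
    intro w
    rw [mem_conj, mem_conj, h2]
    have e : c⁻¹ * y * c * (c⁻¹ * w * c) * (c⁻¹ * y * c)⁻¹ = c⁻¹ * (y * w * y⁻¹) * c := by group
    rw [e]
  have hAZ : MulAut.conj x • zl (S : Subgroup G) K ≤ centralizer (zc (S : Subgroup G) : Set G) :=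
    h.le₂.trans (MinSimple.VModule.o2_le _)
  exact ⟨comm_eq hZV hV hZ hAN hAZ hne, relIndex_centralizer hZV hV hZ hAN hAZ hne⟩

end sylow

end Cfsg.Agent.Omega.NOThreeL.MinOver
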