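import Cfsg.Agent.Omega.NOThreeL.LineNull
import Cfsg.Agent.Omega.NOThreeL.FourLine
import Cfsg.Agent.Omega.NOThreeL.MinOver

/-!
# NO-3L, not (A), `|Z| = 2`: the lines of order 4 are null (#15766, helper848)

`S` a Sylow 2-subgroup, `Z = Ω₁(Z(S))`, `|Z| = 2`, `C = C_G(Z) = CZ S`, `Q = O₂(C)`, long groups `H`,
`U_H = zl S H`.

* `caseA_of` : a conjugate `V` of a line `V_P`, `|V_P| = 4`, in `Q`, normalised but not centralised by `U_H`:
  case (A);
* `line_null` : not (A): such a `V ≤ Q^x` normalised by `(U_K)^x` centralises `(U_K)^x`;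
* `Star.line_comm` : in a critical pair (LEMMA P) the lines of order 4 of one side on its point centralise the
  other side;
* `not_caseB2` : (B2) is void if all lines have order 4; more precisely `CaseB2.exists_line` gives a line of order
  `≠ 4`.
-/

set_option autoImplicit false

namespace Cfsg.Agent.Omega.NOThreeL.LinePlug

open Subgroup Cfsg Cfsg.Agent.ZN Cfsg.Agent.Omega.MinPar Cfsg.Agent.Omega.Frame Cfsg.Agent.Omega.FrameNOFF
open Cfsg.Agent.Omega.Node.NO3L Cfsg.Agent.Omega.NOThreeL.Basic Cfsg.Agent.Omega.NOThreeL.MinOver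
open Cfsg.Agent.Omega.NoFF.Basic (V conj_conj mem_conj conj_le_iff conj_le_centralizer comm_symm comm_mono
  Z_le_V V_le conj_V_mul)
open Cfsg.Agent.Omega.NOThreeL.Pair (conj_eq_of_mem conj_le_normalizer zl_abel)
open Cfsg.Agent.MinSimple.VModule (zl_le le_normalizer_zl zc_le_zl zc_le zl_le_zc o2_isPGroup le_normalizer_o2
  mem_zc le_o2 o2_le le_centralizer_zc zc_sq)
open scoped Pointwise

universe u

variable {G : Type u} [Group G] [Finite G] {S : Sylow 2 G}

omit [Finite G] in
theorem exists_z (hZ : Nat.card (zc (S : Subgroup G)) = 2) :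
    ∃ z : G, z ≠ 1 ∧ z * z = 1 ∧ zc (S : Subgroup G) = zpowers z := by
  have hne : zc (S : Subgroup G) ≠ ⊥ := by
    intro h0
    rw [h0, card_bot] at hZ
    exact absurd hZ (by decide)
  obtain ⟨⟨z, hz⟩, hz1⟩ := Subgroup.ne_bot_iff_exists_ne_one.1 hne
  have hz1' : (z : G) ≠ 1 := fun h => hz1 (Subtype.ext h)
  have hsq : (z : G) * z = 1 := by
    have := (mem_zc.mp hz).2.2
    rwa [pow_two] at this
  refine ⟨z, hz1', hsq, ?_⟩
  have h1 : zpowers (z : G) ≤ zc (S : Subgroup G) := zpowers_le.2 hz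
  have h2 : Nat.card (zpowers (z : G)) = 2 := by
    rw [Nat.card_zpowers]
    exact orderOf_eq_prime (by rw [pow_two]; exact hsq) hz1'
  have h3 : Finite (zc (S : Subgroup G)) := Nat.finite_of_card_ne_zero (by rw [hZ]; decide)
  exact (Subgroup.eq_of_le_of_card_ge h1 (by rw [h2, hZ])).symm

omit [Finite G] in
theorem mem_CZ {z g : G} (hz : zc (S : Subgroup G) = zpowers z) : g ∈ CZ (S : Subgroup G) ↔ g * z = z * g := by
  rw [mem_centralizer_iff, hz]
  constructor
  · intro h
    exact (h z (mem_zpowers z)).symm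
  · rintro h _ ⟨n, rfl⟩
    have h1 : Commute g z := h
    exact (h1.zpow_right n).eq.symm

/-- `V_P` of order 4 is a four-group as in (K5). -/
theorem exists_four (hc : IsCharacteristicTwoType G) {z : G} (hz : zc (S : Subgroup G) = zpowers z)
    (hz1 : z ≠ 1) {P : Subgroup G} (hP : IsParS (S : Subgroup G) P)
    (h4 : Nat.card (zl (S : Subgroup G) P) = 4) : ∃ e, FourLine.Four S z e (zl (S : Subgroup G) P) := by
  have hzP : z ∈ zl (S : Subgroup G) P := by
    have := zc_le_zl (S : Subgroup G) P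
    rw [hz] at this
    exact this (mem_zpowers z)
  obtain ⟨p, hp, hpz⟩ : ∃ p ∈ P, p * z * p⁻¹ ≠ z := by
    by_contra hcon
    push Not at hcon
    apply hP.not_zc
    intro p hp
    rw [mem_normalizer_iff]
    have h1 : p * z * p⁻¹ = z := hcon p hp
    have h2 : ∀ n : ℤ, p * z ^ n * p⁻¹ = z ^ n := by
      intro n
      rw [← conj_zpow, h1]
    intro x
    rw [hz]
    constructor
    · rintro ⟨n, rfl⟩
      exact ⟨n, (h2 n).symm⟩
    · rintro ⟨n, hn⟩
      refine ⟨n, ?_⟩
      have hn' : z ^ n = p * x * p⁻¹ := hn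
      change z ^ n = x
      have h3 := h2 n
      have h4 : z ^ n = x := by
        have h5 : p * z ^ n * p⁻¹ = p * x * p⁻¹ := by rw [h3, hn']
        simpa using h5
      exact h4
  refine ⟨p * z * p⁻¹, hz, hz1, ?_, h4, hzP, ?_, hpz, ⟨p, rfl⟩, ?_⟩
  · intro x hx
    have := (zl_abel hc S hP.isLoc).2 x hx
    rwa [pow_two] at this
  · exact (mem_normalizer_iff.1 (le_normalizer_zl (S : Subgroup G) P hp) z).1 hzP
  · exact hP.le.trans (le_normalizer_zl (S : Subgroup G) P)

/-- **A line of order 4 in `Q`, normalised but not centralised by `U_H`: case (A).** -/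
theorem caseA_of (hc : IsCharacteristicTwoType G) (hZ : Nat.card (zc (S : Subgroup G)) = 2) {P H : Subgroup G}
    (hP : IsParS (S : Subgroup G) P) (h4 : Nat.card (zl (S : Subgroup G) P) = 4)
    (hH : IsLong (S : Subgroup G) H) {g : G}
    (h1 : MulAut.conj g • zl (S : Subgroup G) P ≤ o2 (CZ (S : Subgroup G)))
    (h2 : zl (S : Subgroup G) H ≤ normalizer ((MulAut.conj g • zl (S : Subgroup G) P : Subgroup G) : Set G))
    (hne : ¬ MulAut.conj g • zl (S : Subgroup G) P ≤ centralizer (zl (S : Subgroup G) H : Set G)) :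
    CaseA (S : Subgroup G) := by
  obtain ⟨z, hz1, hzz, hz⟩ := exists_z hZ
  have hS : (S : Subgroup G) ≠ ⊥ := by
    intro h0
    rw [h0] at hz
    have : z ∈ zc (⊥ : Subgroup G) := by rw [hz]; exact mem_zpowers z
    exact hz1 (mem_bot.1 (zc_le _ this))
  set U := zl (S : Subgroup G) H with hU
  set W := MulAut.conj g • zl (S : Subgroup G) P with hW
  have hcz : ∀ k, k * z = z * k → k ∈ H := fun k hk => hH.cz ((mem_CZ hz).2 hk)
  have hzU : z ∈ U := by
    have := zc_le_zl (S : Subgroup G) H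
    rw [hz] at this
    exact this (mem_zpowers z)
  obtain ⟨hUab, hUsq⟩ := zl_abel hc S hH.loc
  have hUcomm : ∀ a ∈ U, ∀ b ∈ U, a * b = b * a := fun a ha b hb => (mem_centralizer_iff.1 (hUab hb) a ha)
  have hUS : U ≤ (S : Subgroup G) := IsLong.zl_le_S hc hH
  have hWcard : Nat.card W = 4 := by
    rw [← h4]
    exact Nat.card_congr (Subgroup.equivSMul (MulAut.conj g) (zl (S : Subgroup G) P)).toEquiv.symm
  have hWsq : ∀ w ∈ W, w * w = 1 := by
    intro w hw
    rw [hW, mem_conj] at hw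
    have h3 := (zl_abel hc S hP.isLoc).2 _ hw
    have h4 : g * ((g⁻¹ * w * g) ^ 2) * g⁻¹ = w * w := by rw [pow_two]; group
    rw [← h4, h3]; group
  have hWcomm : ∀ a ∈ W, ∀ b ∈ W, a * b = b * a := fun a ha b hb =>
    AdjTransv.eq_of_sq (hWsq a ha) (hWsq b hb) (hWsq _ (mul_mem ha hb))
  have hWU : W ≤ normalizer (U : Set G) := by
    refine h1.trans ((o2_le _).trans (hH.cz.trans (le_normalizer_zl _ _)))
  -- a noncommuting pair
  obtain ⟨v, hv, u0, hu0, hvu⟩ : ∃ v ∈ W, ∃ u ∈ U, v * u * v⁻¹ ≠ u := by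
    by_contra hcon
    push Not at hcon
    apply hne
    intro v hv
    rw [mem_centralizer_iff]
    intro u hu
    have := hcon v hv u hu
    rw [mul_inv_eq_iff_eq_mul] at this
    exact this.symm
  have hcomm_mem : ∀ v ∈ W, ∀ u ∈ U, v * u * v⁻¹ * u⁻¹ ∈ W ⊓ U := by
    intro v hv u hu
    constructor
    · have h3 := (mem_normalizer_iff.1 (h2 hu) v⁻¹).1 (W.inv_mem hv)
      have e1 : v * u * v⁻¹ * u⁻¹ = v * (u * v⁻¹ * u⁻¹) := by group
      rw [e1]
      exact mul_mem hv h3
    · exact U.mul_mem ((mem_normalizer_iff.1 (hWU hv) u).1 hu) (U.inv_mem hu)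
  set y := v * u0 * v⁻¹ * u0⁻¹ with hy
  have hyWU := hcomm_mem v hv u0 hu0
  have hy1 : y ≠ 1 := by
    intro h0
    apply hvu
    rw [hy, mul_inv_eq_one] at h0
    exact h0
  have hinf : ∀ w ∈ W ⊓ U, w = 1 ∨ w = y := by
    -- `W ⊓ U` has order 2
    have h3 : Nat.card (W ⊓ U : Subgroup G) ∣ 4 := by
      rw [← hWcard]
      exact Subgroup.card_dvd_of_le inf_le_left
    have h4' : Nat.card (W ⊓ U : Subgroup G) ≠ 4 := by
      intro h5
      have h6 : W ⊓ U = W := Subgroup.eq_of_le_of_card_ge inf_le_left (by rw [h5, hWcard])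
      have h7 : v ∈ U := by
        have h8 : v ∈ W ⊓ U := by rw [h6]; exact hv
        exact h8.2
      apply hvu
      rw [hUcomm v h7 u0 hu0]
      group
    have h5 : Nat.card (W ⊓ U : Subgroup G) ≤ 2 := by
      have h6 : Nat.card (W ⊓ U : Subgroup G) ≤ 4 := Nat.le_of_dvd (by decide) h3
      interval_cases h7 : Nat.card (W ⊓ U : Subgroup G)
      · decide
      · decide
      · decide
      · exact absurd h3 (by decide)
      · exact absurd rfl h4'
    intro w hw
    by_contra hcon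
    push Not at hcon
    have h6 : ({1, w, y} : Set G) ⊆ (W ⊓ U : Subgroup G) := by
      rintro x (rfl | rfl | rfl)
      · exact one_mem _
      · exact hw
      · exact hyWU
    have h7 : ({1, w, y} : Set G).ncard = 3 := by
      rw [Set.ncard_eq_three]
      exact ⟨1, w, y, hcon.1.symm, hy1.symm, hcon.2, rfl⟩
    have h8 := Set.ncard_le_ncard h6 (Set.toFinite _)
    rw [h7, ← Nat.card_coe_set_eq] at h8
    exact absurd (h8.trans h5) (by decide)
  -- `y` is a point of the line `W`
  obtain ⟨e, hE⟩ := exists_four hc hz hz1 hP h4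
  have hyW : g⁻¹ * y * g ∈ zl (S : Subgroup G) P := by
    rw [← mem_conj]
    exact hyWU.1
  obtain ⟨n, hn, hnz⟩ := hE.conj_all hyW (fun h0 => hy1 (by
    have h9 : y = g * (g⁻¹ * y * g) * g⁻¹ := by group
    rw [h9, h0]; group))
  have hyz : (g * n) * z * (g * n)⁻¹ = y := by
    have e1 : (g * n) * z * (g * n)⁻¹ = g * (n * z * n⁻¹) * g⁻¹ := by group
    rw [e1, hnz]; group
  have hcard : Nat.card (centralizer ({y} : Set G)) ≤ Nat.card (centralizer ({z} : Set G)) := by
    refine Nat.card_le_card_of_injective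
      (fun c => ⟨(g * n)⁻¹ * (c : G) * (g * n), ?_⟩) ?_
    · rw [mem_centralizer_singleton_iff]
      have h9 := mem_centralizer_singleton_iff.1 c.2
      have e1 : (g * n)⁻¹ * (c : G) * (g * n) * z = (g * n)⁻¹ * ((c : G) * ((g * n) * z * (g * n)⁻¹)) * (g * n) := by
        group
      have e2 : z = (g * n)⁻¹ * y * (g * n) := by rw [← hyz]; group
      rw [e1, hyz, h9, e2]
      group
    · intro c d h
      have h9 := congrArg Subtype.val h
      have h10 : (g * n)⁻¹ * (c : G) * (g * n) = (g * n)⁻¹ * (d : G) * (g * n) := h9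
      exact Subtype.ext (by simpa using h10)
  have D : LineNull.Sit z y v U H (S : Subgroup G) (o2 (CZ (S : Subgroup G))) := by
    refine ⟨hzU, fun u hu => by have := hUsq u hu; rwa [pow_two] at this, fun h hh u hu =>
      (mem_normalizer_iff.1 (le_normalizer_zl (S : Subgroup G) H hh) u).1 hu, hcz, ?_, S.isPGroup', ?_, ?_, ?_, ?_,
      o2_isPGroup _, h1 hv, hyWU.2, ?_, ?_, ⟨u0, hu0, hvu⟩, hcard⟩
    · intro N hzN hNU hN
      refine zl_le (by rw [hz]; exact zpowers_le.2 hzN) ?_
      have key : ∀ h ∈ H, ∀ n ∈ N, h * n * h⁻¹ ∈ N := hN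
      intro h hh
      rw [mem_normalizer_iff]
      intro x
      constructor
      · exact key h hh x
      · intro hx
        have := key h⁻¹ (inv_mem hh) _ hx
        have e1 : h⁻¹ * (h * x * h⁻¹) * h⁻¹⁻¹ = x := by group
        rwa [e1] at this
    · intro s hs
      exact (mem_CZ hz).1 (le_centralizer_zc _ hs)
    · intro u hu hfix
      have h9 : u ∈ zc (S : Subgroup G) := by
        rw [mem_zc]
        refine ⟨hUS hu, fun b hb => ?_, hUsq u hu⟩
        have := hfix b hb
        rwa [mul_inv_eq_iff_eq_mul] at this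
      rw [hz] at h9
      exact (FourLine.mem_zpowers_iff hzz).1 h9
    · intro q hq
      exact (mem_CZ hz).1 (o2_le _ hq)
    · intro k hk q hq
      exact (mem_normalizer_iff.1 (le_normalizer_o2 _ ((mem_CZ hz).2 hk)) q).1 hq
    · rw [hWcomm v hv y hyWU.1]; group
    · intro u hu
      rcases hinf _ (hcomm_mem v hv u hu) with h9 | h9
      · left
        rw [mul_inv_eq_one] at h9
        exact h9
      · right
        have e1 : v * u * v⁻¹ = y * u := by rw [← h9]; group
        rw [e1, hUcomm y hyWU.2 u hu]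
  have hyz' := D.eq
  -- `g * n ∈ C`
  have hgn : g * n ∈ CZ (S : Subgroup G) := by
    rw [mem_CZ hz]
    rw [hyz'] at hyz
    rwa [mul_inv_eq_iff_eq_mul] at hyz
  refine ⟨P, H, hP, hH, fun hcon => hne ?_⟩
  have h9 : W = MulAut.conj (g * n) • zl (S : Subgroup G) P := by
    rw [hW, ← conj_conj, conj_eq_of_mem hn]
  rw [h9]
  have h10 := conj_le_centralizer (g := g * n) hcon
  rwa [conj_eq_of_mem (le_normalizer_zl (S : Subgroup G) H (hH.cz hgn))] at h10

/-- **Not (A), `|Z| = 2`: lines of order 4 are null.** -/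
theorem line_null (hc : IsCharacteristicTwoType G) (hZ : Nat.card (zc (S : Subgroup G)) = 2)
    (hA : ¬ CaseA (S : Subgroup G)) {P K : Subgroup G}
    (hP : IsParS (S : Subgroup G) P) (h4 : Nat.card (zl (S : Subgroup G) P) = 4)
    (hK : IsLong (S : Subgroup G) K) {g x : G}
    (h1 : MulAut.conj g • zl (S : Subgroup G) P ≤ MulAut.conj x • o2 (CZ (S : Subgroup G)))
    (h2 : MulAut.conj x • zl (S : Subgroup G) K ≤
      normalizer ((MulAut.conj g • zl (S : Subgroup G) P : Subgroup G) : Set G)) :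
    MulAut.conj g • zl (S : Subgroup G) P ≤
      centralizer ((MulAut.conj x • zl (S : Subgroup G) K : Subgroup G) : Set G) := by
  have e1 : MulAut.conj x • MulAut.conj (x⁻¹ * g) • zl (S : Subgroup G) P =
      MulAut.conj g • zl (S : Subgroup G) P := by rw [conj_conj, mul_inv_cancel_left]
  rw [← e1] at h1 h2 ⊢
  refine conj_le_centralizer ?_
  by_contra hne
  refine hA (caseA_of hc hZ hP h4 hK (conj_le_iff.1 h1) ?_ hne)
  have h3 := conj_le_normalizer (g := x⁻¹) h2
  rw [conj_conj, conj_conj, inv_mul_cancel, map_one, one_smul, one_smul] at h3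
  exact h3

theorem o2_CZ_le_S (hc : IsCharacteristicTwoType G) :
    o2 (CZ (S : Subgroup G)) ≤ (S : Subgroup G) := by
  have hS : (S : Subgroup G) ≠ ⊥ := by
    intro h0
    have h2 : Fact (Nat.Prime 2) := ⟨Nat.prime_two⟩
    have h1 := S.not_dvd_index
    rw [h0, index_bot] at h1
    exact h1 hc.1.two_dvd
  exact (isLoc_centralizer_zc S hS).o2_le S

/-- A subgroup of `Q^x` normalises all lines on `Z^x`. -/
theorem le_normalizer_line (hc : IsCharacteristicTwoType G) {P A : Subgroup G} (hP : IsParS (S : Subgroup G) P)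
    {x c : G} (hcc : c ∈ CZ (S : Subgroup G)) (hA : A ≤ MulAut.conj x • o2 (CZ (S : Subgroup G))) :
    A ≤ normalizer ((MulAut.conj (x * c) • zl (S : Subgroup G) P : Subgroup G) : Set G) := by
  refine hA.trans ?_
  have h1 : o2 (CZ (S : Subgroup G)) ≤ MulAut.conj c • P := by
    rw [← conj_eq_of_mem (le_normalizer_o2 _ hcc)]
    exact conj_le_iff.2 ((o2_CZ_le_S hc).trans hP.le)
  have h2 := (conj_le_iff (g := x)).2 h1
  rw [conj_conj] at h2
  exact h2.trans (conj_le_normalizer (le_normalizer_zl _ _))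

/-- **Critical pairs (LEMMA P)**: `U_H ≤ Q^x`, `(U_K)^x ≤ Q`: the lines of order 4 of `U_H` on `Z` centralise
`(U_K)^x`. -/
theorem Star.line_comm (hc : IsCharacteristicTwoType G) (hZ : Nat.card (zc (S : Subgroup G)) = 2)
    (hA : ¬ CaseA (S : Subgroup G)) {H K : Subgroup G} {x : G} (h : Star (S : Subgroup G) H K x)
    {P : Subgroup G} (hP : IsParS (S : Subgroup G) P) (h4 : Nat.card (zl (S : Subgroup G) P) = 4)
    (hPH : zl (S : Subgroup G) P ≤ zl (S : Subgroup G) H) {c : G} (hcc : c ∈ CZ (S : Subgroup G)) :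
    MulAut.conj c • zl (S : Subgroup G) P ≤
      centralizer ((MulAut.conj x • zl (S : Subgroup G) K : Subgroup G) : Set G) := by
  refine line_null hc hZ hA hP h4 h.long₂ ?_ ?_
  · refine le_trans ?_ h.le₁
    have := (conj_le_iff (g := c)).2 hPH
    rwa [conj_eq_of_mem (le_normalizer_zl _ _ (h.long₁.cz hcc))] at this
  · have h1 := le_normalizer_line hc hP hcc (A := MulAut.conj x • zl (S : Subgroup G) K) (x := 1)
      (by rw [map_one, one_smul]; exact h.le₂)
    rwa [one_mul] at h1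

/-- the same for the lines of `(U_K)^x` on `Z^x` -/
theorem Star.line_comm' (hc : IsCharacteristicTwoType G) (hZ : Nat.card (zc (S : Subgroup G)) = 2)
    (hA : ¬ CaseA (S : Subgroup G)) {H K : Subgroup G} {x : G} (h : Star (S : Subgroup G) H K x)
    {P : Subgroup G} (hP : IsParS (S : Subgroup G) P) (h4 : Nat.card (zl (S : Subgroup G) P) = 4)
    (hPK : zl (S : Subgroup G) P ≤ zl (S : Subgroup G) K) {c : G} (hcc : c ∈ CZ (S : Subgroup G)) :
    MulAut.conj (x * c) • zl (S : Subgroup G) P ≤ centralizer (zl (S : Subgroup G) H : Set G) := by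
  have h1 := Star.line_comm hc hZ hA h.symm hP h4 hPK hcc
  have h2 := conj_le_centralizer (g := x) h1
  rwa [conj_conj, conj_conj, mul_inv_cancel, map_one, one_smul] at h2

/-- **(B2), `|Z| = 2`: some line `V_P`, `P ∈ P*(S)`, has order `≠ 4`, and a conjugate of it, `V ≤ F_K`, does not
centralise some `U_H`; `V` and `U_H` normalise each other.** -/
theorem CaseB2.exists_line (hc : IsCharacteristicTwoType G) (D : Data (S : Subgroup G))
    (hZ : Nat.card (zc (S : Subgroup G)) = 2) (h : CaseB2 (S : Subgroup G)) :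
    ∃ H K P : Subgroup G, IsLong (S : Subgroup G) H ∧ IsLong (S : Subgroup G) K ∧ IsParS (S : Subgroup G) P ∧
      Nat.card (zl (S : Subgroup G) P) ≠ 4 ∧ ∃ k ∈ K,
        MulAut.conj k • zl (S : Subgroup G) P ≤ o2 K ∧
        zl (S : Subgroup G) H ≤ normalizer ((MulAut.conj k • zl (S : Subgroup G) P : Subgroup G) : Set G) ∧
        ¬ MulAut.conj k • zl (S : Subgroup G) P ≤ centralizer (zl (S : Subgroup G) H : Set G) := by
  obtain ⟨hA, hcomm, H, K, hH, hK, hne⟩ := h
  obtain ⟨P, hP, k, hk, hkne⟩ : ∃ P, IsParS (S : Subgroup G) P ∧ ∃ k ∈ K,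
      ¬ MulAut.conj k • zl (S : Subgroup G) P ≤ centralizer (zl (S : Subgroup G) H : Set G) := by
    by_contra hcon
    push Not at hcon
    apply hne
    refine comm_symm (FH_le fun x hx => ?_)
    rw [Subgroup.pointwise_smul_subset_iff]
    refine WP_le fun P hP c hcc => ?_
    rw [← Subgroup.pointwise_smul_subset_iff, conj_conj]
    exact hcon P hP (x * c) (mul_mem hx (hK.cz hcc))
  have h1 : MulAut.conj k • zl (S : Subgroup G) P ≤ o2 K :=
    ((conj_le_iff.2 (zl_le_WP hP)).trans (conj_WP_le_FH _ hk)).trans (NotA.FH_le_o2 D hA hK)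
  have h2 : zl (S : Subgroup G) H ≤ o2 K :=
    le_o2_of_comm ((IsLong.zl_le_o2 hc S hH).trans (hH.o2_le S)) hK (hcomm H K hH hK)
  have h3 : zl (S : Subgroup G) H ≤ normalizer ((MulAut.conj k • zl (S : Subgroup G) P : Subgroup G) : Set G) := by
    have h4 : zl (S : Subgroup G) H ≤ MulAut.conj k • o2 (CZ (S : Subgroup G)) := by
      rw [← conj_eq_of_mem (le_normalizer_o2 K hk)] at h2
      exact h2.trans (conj_le_iff.2 (hK.o2_le S))
    have h5 := le_normalizer_line hc hP (one_mem _) h4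
    rwa [mul_one] at h5
  refine ⟨H, K, P, hH, hK, hP, ?_, k, hk, h1, h3, hkne⟩
  intro h4
  exact hA (caseA_of hc hZ hP h4 hH (h1.trans (hK.o2_le S)) h3 hkne)

/-- **(B2) is void if `|Z| = 2` and all lines have order 4.** -/
theorem not_caseB2 (hc : IsCharacteristicTwoType G) (D : Data (S : Subgroup G))
    (hZ : Nat.card (zc (S : Subgroup G)) = 2)
    (h4 : ∀ P : Subgroup G, IsParS (S : Subgroup G) P → Nat.card (zl (S : Subgroup G) P) = 4) :
    ¬ CaseB2 (S : Subgroup G) := by
  intro h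
  obtain ⟨-, -, P, -, -, hP, hne, -⟩ := CaseB2.exists_line hc D hZ h
  exact hne (h4 P hP)

end Cfsg.Agent.Omega.NOThreeL.LinePlug
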