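import Cfsg.Agent.Omega.NOThreeL.MergeNF
import Cfsg.Agent.Omega.NOThreeL.StarEnd

/-!
# NO-3L, `|Z| = 2`, lines of order four, not (A): the NotFF frame with `L = ⟨P*(S)⟩` (#16235, helper999)

`merge` : `NFRoot S (YS S)`; the only socket of the rest of the frame (`Merge.lean`) is `Wc.StmtOff` (THEOREM OFF).
-/

set_option autoImplicit false

namespace Cfsg.Agent.Omega.NOThreeL.MergeNF

open Subgroup Cfsg
open Cfsg.Agent.ZN
open Cfsg.Agent.Omega.MinPar Cfsg.Agent.Omega.Frame Cfsg.Agent.Omega.FrameNOFF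
open Cfsg.Agent.Omega.Node.NO3L
open Cfsg.Agent.Omega.NOThreeL.Basic (CaseA)
open Cfsg.Agent.Omega.NOThreeL.Star (YS)

universe u

variable {G : Type u} [Group G] [Finite G] {S : Sylow 2 G}

/-- **The merge for `|Z| = 2`, all lines of order four, not (A).** -/
theorem merge (h : Ctx G) (hF : Full (S : Subgroup G)) (D : Data (S : Subgroup G))
    (hZ : Nat.card (zc (S : Subgroup G)) = 2) (hA : ¬ CaseA (S : Subgroup G))
    (h4 : ∀ P : Subgroup G, IsParS (S : Subgroup G) P → Nat.card (zl (S : Subgroup G) P) = 4) :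
    NFRoot (S : Subgroup G) (YS (S : Subgroup G)) :=
  nfRoot h hF D (MutLine.nullF_of_four h.char2 hZ hA le_rfl h4)
    (StarEnd.notFF h hF D hZ fun P hP _ => h4 P hP)

end Cfsg.Agent.Omega.NOThreeL.MergeNF
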