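import Cfsg.Agent.Omega.NOThreeL.LNqPlug
import Cfsg.Agent.Omega.NOThreeL.NF.Nat

/-!
# NO-3L: natural modules with one summand (`NatKM .. k = 1`)

`W = V_P` is a natural `SL₂(F)`-module (`M : NatKM F S P W ⊥ 1`), `R = ln M {0}` the line fixed by the root group.

* `exists_conj` : `P` is transitive on `W - 1`;
* `zc_le` : `Z ≤ R` if `W = zl S P`;
* `acts_up` : the elements of `C_S(R)` act on `W` as `up c`, `c ∈ F`;
* `natLine_of` : `W = zl S P`, `|Z| = |F|`: `NatLine S P`.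
-/

set_option autoImplicit false

namespace Cfsg.Agent.Omega.NOThreeL.NatLineOf

open Subgroup Cfsg Cfsg.Agent.ZN Cfsg.Agent.Omega.MinPar
open Cfsg.Agent.Omega.FFThm (ElemM OffM NoOverM ConclM NatKM ActsSL)
open Cfsg.Agent.Omega.NatPair (ap ap_mul ap_one ap_inv_ap ap_zero' ap_one' ext2 exists_ap)
open Cfsg.Agent.Omega.NOThreeL.NF.NatR
open Cfsg.Agent.Omega.NOThreeL.LNqPlug (NatLine)
open Cfsg.Agent.Lib.SL2Mat
open Cfsg.Agent.MinSimple.VModule (zc_le_zl mem_zc)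

universe u

variable {G : Type u} [Group G] {F : Type} [Field F] {S P W : Subgroup G}

section

variable (M : NatKM F S P W ⊥ 1)

theorem mem_R {v : G} : v ∈ ln M {0} ↔ v ∈ W ∧ M.e v 0 1 = 0 := by
  constructor
  · intro h
    exact ⟨h.1, h.2.1 0⟩
  · rintro ⟨h1, h2⟩
    refine ⟨h1, fun j => ?_, fun j hj => absurd (Subsingleton.elim j 0) hj⟩
    rw [Subsingleton.elim j 0]; exact h2

theorem e_ext {v w : G} (hv : v ∈ W) (hw : w ∈ W) (h : M.e v 0 = M.e w 0) : v = w :=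
  e_inj (M := M) hv hw (funext fun j => by rw [Subsingleton.elim j 0]; exact h)

theorem exists_e (x : Fin 2 → F) : ∃ v ∈ W, M.e v 0 = x := by
  obtain ⟨v, hv, h⟩ := M.surj fun _ => x
  exact ⟨v, hv, by rw [h]⟩

theorem e_ne {v : G} (hv : v ∈ W) (h : v ≠ 1) : M.e v 0 ≠ 0 := by
  intro h0
  refine h (e_ext M hv (one_mem _) ?_)
  rw [h0, e_one]; rfl

variable (hPW : P ≤ normalizer (W : Set G))
include hPW

include M in
/-- `P` is transitive on the nontrivial elements of `W`. -/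
theorem exists_conj {v w : G} (hv : v ∈ W) (hw : w ∈ W) (hv1 : v ≠ 1) (hw1 : w ≠ 1) :
    ∃ p ∈ P, w = p * v * p⁻¹ :=
  conj_of (M := M) hPW hv hw (fun j => by have hj : j = 0 := Subsingleton.elim j 0
                                          rw [hj]; exact e_ne M hv hv1)
    (fun j => by have hj : j = 0 := Subsingleton.elim j 0
                 rw [hj]; exact e_ne M hw hw1)

variable (hSP : S ≤ P)
include hSP

/-- `s ∈ S` acts as `up c` if it centralises `R`. -/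
theorem acts_up [CharP F 2] (hS : IsPGroup 2 S) {s : G} (hs : s ∈ S)
    (hR : ∀ r ∈ ln M {0}, s * r = r * s) :
    ∃ c : F, ∀ v ∈ W, M.e (s * v * s⁻¹) 0 = ![M.e v 0 0 + c * M.e v 0 1, M.e v 0 1] := by
  have hsP : s ∈ P := hSP hs
  have hsR : ∀ r ∈ ln M {0}, s * r * s⁻¹ = r := fun r hr => by rw [hR r hr]; group
  -- `t` acts as `up 1`
  obtain ⟨t, ht, htu⟩ := M.unip fun _ => 1
  have htv : ∀ v ∈ W, M.e (t * v * t⁻¹) 0 = ![M.e v 0 0 + M.e v 0 1, M.e v 0 1] := by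
    intro v hv
    rw [htu.1 v hv 0, ap_up, one_mul]
  have htP : t ∈ P := hSP ht
  -- `s t s⁻¹` acts as a matrix `B`
  obtain ⟨B, hB⟩ := M.norm s hsP t htP (fun _ => up 1) htu.1
  have hcv : ∀ g ∈ P, ∀ v ∈ W, g * v * g⁻¹ ∈ W := fun g hg v hv => cmem hPW hg hv
  -- `t` moves `v` by an element of `R`
  have hmv : ∀ v ∈ W, t * v * t⁻¹ * v⁻¹ ∈ ln M {0} ∧ M.e (t * v * t⁻¹ * v⁻¹) 0 = ![M.e v 0 1, 0] := by
    intro v hv
    have h1 : M.e (t * v * t⁻¹ * v⁻¹) 0 = ![M.e v 0 1, 0] := by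
      rw [M.mul _ (hcv t htP v hv) _ (inv_mem hv), e_inv hv, Pi.add_apply, htv v hv, Pi.neg_apply]
      exact ext2 (by simp) (by simp)
    refine ⟨(mem_R M).2 ⟨mul_mem (hcv t htP v hv) (inv_mem hv), ?_⟩, h1⟩
    rw [h1]; rfl
  have hB1 : ∀ v ∈ W, ap (B 0) (M.e (s * v * s⁻¹) 0) = ![M.e v 0 1, 0] + M.e (s * v * s⁻¹) 0 := by
    intro v hv
    have h1 := hB (s * v * s⁻¹) (hcv s hsP v hv) 0
    rw [← h1]
    have e1 : s * t * s⁻¹ * (s * v * s⁻¹) * (s * t * s⁻¹)⁻¹ =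
        s * (t * v * t⁻¹ * v⁻¹) * s⁻¹ * (s * v * s⁻¹) := by group
    rw [e1, hsR _ (hmv v hv).1, M.mul _ (hmv v hv).1.1 _ (hcv s hsP v hv), Pi.add_apply, (hmv v hv).2]
  -- a vector in `R`
  obtain ⟨r, hr, hre⟩ := exists_e M ![1, 0]
  have hrR : r ∈ ln M {0} := (mem_R M).2 ⟨hr, by rw [hre]; rfl⟩
  have hB2 := hB1 r hr
  rw [hsR r hrR, hre] at hB2
  have hB00 : ent (B 0) 0 0 = 1 := by
    have := congrFun hB2 0
    rw [ap_zero'] at this
    simpa using this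
  have hlam : ∀ v ∈ W, ent (B 0) 0 1 * M.e (s * v * s⁻¹) 0 1 = M.e v 0 1 := by
    intro v hv
    have h1 := congrFun (hB1 v hv) 0
    rw [ap_zero', hB00, one_mul, Pi.add_apply, add_comm] at h1
    exact add_right_cancel h1
  set lam := ent (B 0) 0 1 with hlamd
  have hpow : ∀ n : ℕ, ∀ v ∈ W, lam ^ n * M.e (s ^ n * v * (s ^ n)⁻¹) 0 1 = M.e v 0 1 := by
    intro n
    induction n with
    | zero => intro v _; simp
    | succ n ih =>
      intro v hv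
      have h1 := hlam _ (hcv (s ^ n) (P.pow_mem hsP n) v hv)
      have e1 : s * (s ^ n * v * (s ^ n)⁻¹) * s⁻¹ = s ^ (n + 1) * v * (s ^ (n + 1))⁻¹ := by
        rw [pow_succ' s n]; group
      rw [e1] at h1
      rw [pow_succ, mul_assoc, h1, ih v hv]
  obtain ⟨n, hn⟩ := hS ⟨s, hs⟩
  have hn' : s ^ (2 ^ n) = 1 := congrArg Subtype.val hn
  obtain ⟨u, hu, hue⟩ := exists_e M ![0, 1]
  have h1 := hpow (2 ^ n) u hu
  rw [hn', one_mul, inv_one, mul_one, hue] at h1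
  have h2 : lam ^ 2 ^ n = 1 := by simpa using h1
  have hlam1 : lam = 1 := by
    have h3 : (lam - 1) ^ 2 ^ n = 0 := by
      rw [sub_pow_char_pow, h2, one_pow, sub_self]
    exact sub_eq_zero.1 (pow_eq_zero_iff (pow_ne_zero n two_ne_zero) |>.1 h3)
  have hy : ∀ v ∈ W, M.e (s * v * s⁻¹) 0 1 = M.e v 0 1 := by
    intro v hv
    have := hlam v hv
    rwa [hlam1, one_mul] at this
  -- the Weyl element
  obtain ⟨h, hh, hhe⟩ := M.lift fun _ => wm 1 one_ne_zero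
  obtain ⟨B', hB'⟩ := M.norm s hsP h hh (fun _ => wm 1 one_ne_zero) hhe.1
  have hhv : ∀ v ∈ W, M.e (h * v * h⁻¹) 0 1 = - M.e v 0 0 := by
    intro v hv
    rw [hhe.1 v hv 0, ap_one', wm_10, wm_11]
    simp
  have hB3 : ∀ v ∈ W, - M.e v 0 0 = ent (B' 0) 1 0 * M.e (s * v * s⁻¹) 0 0 + ent (B' 0) 1 1 * M.e v 0 1 := by
    intro v hv
    have h3 := hB' (s * v * s⁻¹) (hcv s hsP v hv) 0
    have e1 : s * h * s⁻¹ * (s * v * s⁻¹) * (s * h * s⁻¹)⁻¹ = s * (h * v * h⁻¹) * s⁻¹ := by group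
    rw [e1] at h3
    have h4 := congrFun h3 1
    rw [hy _ (hcv h hh v hv), hhv v hv, ap_one', hy v hv] at h4
    exact h4
  have hB4 : ent (B' 0) 1 0 = -1 := by
    have h3 := hB3 r hr
    rw [hsR r hrR, hre] at h3
    simpa using h3.symm
  refine ⟨ent (B' 0) 1 1, fun v hv => ext2 ?_ ?_⟩
  · have h3 := hB3 v hv
    rw [hB4] at h3
    change M.e (s * v * s⁻¹) 0 0 = M.e v 0 0 + ent (B' 0) 1 1 * M.e v 0 1
    linear_combination h3
  · exact hy v hv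

end

theorem zc_le_ln (M : NatKM F S P (zl S P) ⊥ 1) : zc S ≤ ln M {0} := by
  intro z hz
  have hzW : z ∈ zl S P := zc_le_zl _ _ hz
  obtain ⟨t, ht, htu⟩ := M.unip fun _ => 1
  have h1 := htu.1 z hzW 0
  have e1 : t * z * t⁻¹ = z := by
    rw [(mem_zc.1 hz).2.1 t ht]; group
  rw [e1, ap_up, one_mul] at h1
  have h2 := congrFun h1 0
  refine (mem_R M).2 ⟨hzW, ?_⟩
  simpa using h2

/-- **`NatLine` from `NatKM`**, `k = 1`, `|Z| = |F|`. -/
theorem natLine_of [Finite G] [Finite F] [CharP F 2] (M : NatKM F S P (zl S P) ⊥ 1) (hPW : P ≤ normalizer (zl S P : Set G))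
    (hSP : S ≤ P) (hS : IsPGroup 2 S) (hZ : Nat.card (zc S) = Nat.card F) : NatLine S P := by
  have hR : zc S = ln M {0} :=
    Subgroup.eq_of_le_of_card_ge (zc_le_ln M) (by rw [card_ln, hZ])
  have key : ∀ s ∈ S, ∃ c : F, ∀ v ∈ zl S P, M.e (s * v * s⁻¹) 0 = ![M.e v 0 0 + c * M.e v 0 1, M.e v 0 1] := by
    intro s hs
    exact acts_up M hPW hSP hS hs fun r hr => (mem_zc.1 (hR ▸ hr)).2.1 s hs
  refine ⟨?_, fun s hs v hv => ?_, fun s hs v hv hvZ hsv w hw => ?_⟩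
  · rw [card_W M, hZ]
  · obtain ⟨c, hc⟩ := key s hs
    have h1 : s * v * s⁻¹ ∈ zl S P := cmem hPW (hSP hs) hv
    rw [hR, mem_R]
    refine ⟨mul_mem h1 (inv_mem hv), ?_⟩
    rw [M.mul _ h1 _ (inv_mem hv), e_inv hv, Pi.add_apply, hc v hv]
    simp
  · obtain ⟨c, hc⟩ := key s hs
    have h1 : s * v * s⁻¹ = v := by rw [hsv]; group
    have h2 := congrFun (hc v hv) 0
    rw [h1] at h2
    have h3 : c * M.e v 0 1 = 0 := by simpa using h2
    have h4 : M.e v 0 1 ≠ 0 := fun h0 => hvZ (by rw [hR, mem_R]; exact ⟨hv, h0⟩)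
    have h5 : c = 0 := (mul_eq_zero.1 h3).resolve_right h4
    have h6 : s * w * s⁻¹ = w := by
      refine e_ext M (cmem hPW (hSP hs) hw) hw ?_
      rw [hc w hw, h5]
      exact ext2 (by simp) rfl
    exact mul_inv_eq_iff_eq_mul.1 h6

end Cfsg.Agent.Omega.NOThreeL.NatLineOf
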