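import Cfsg.Agent.Omega.NOThreeL.MutLine
import Cfsg.Agent.Omega.NO3b.Wc.Alt

/-!
# NO-3L, the link (L) for lines which are not FF (#17634; text bb OMEGA helper184)

`S` a Sylow 2-subgroup, `P ∈ P*(S)`, `V_P = zl S P` not FF (`NotFF`), `V_P ≤ O₂(C_G(Z))`.

* `root_of_par` : the w.c. frame (`Wc.Root S P`) for `L = P`;
* `ti_line` : two conjugates of `V_P` which meet nontrivially commute (THEOREM TI for the lines of the frame, which
  contain the conjugates of `V_P`; BETA is dead by THEOREM OFF, socket `Wc.StmtOff`);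
* `comm_of_norm` : `X` a group with `U ⊴ X` elementary abelian, `O₂(X) ≤ C(U)`; a conjugate `V ≤ X` of `V_P` which
  is normalised by `U` centralises `U`;
* `comm_zl` : in particular for `U = U_H = zl S H`, `X = H ∈ L(S)`;
* `nullF_nff` : `NullF S F` for a set `F` of members of `P*(S)` with `V_P` not FF.

Nothing on case (A), on `|Z|` or on nonlocality is used.
-/

set_option autoImplicit false

namespace Cfsg.Agent.Omega.NOThreeL.NullNff

open Subgroup Cfsg
open Cfsg.Agent.ZN (o2 zc zl)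
open Cfsg.Agent.ZN.ChoiceBase (cj cj_mono cj_eq_of_mem_normalizer cj_cj mem_cj isPGroup_cj)
open Cfsg.Agent.Omega.MinPar Cfsg.Agent.Omega.Frame Cfsg.Agent.Omega.FrameNOFF
open Cfsg.Agent.Omega.Node.NO3L
open Cfsg.Agent.Omega.NO3b (NoEmp.Lines)
open Cfsg.Agent.Omega.NO3b.EZero (NotFF cj_cent cj_eq_cj_iff)
open Cfsg.Agent.Omega.NO3b.Wc
open Cfsg.Agent.Omega.NOThreeL.MutLine (NullF)
open Cfsg.Agent.MinSimple.VModule (zl_le le_normalizer_zl zc_le_zl zc_le mem_zc zc_sq zc_comm o2_isPGroup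
  le_normalizer_o2)
open scoped Pointwise

universe u

variable {G : Type u} [Group G] [Finite G] {S : Sylow 2 G}

/-- The w.c. frame for `L = P`. -/
theorem root_of_par (hc : IsCharacteristicTwoType G) {P : Subgroup G} (hP : IsParS (S : Subgroup G) P)
    (hn : NotFF (zl (S : Subgroup G) P)) : Root S P where
  le := hP.isLoc.le
  comm := fun x hx => mem_centralizer_iff.2 fun y hy =>
    zc_comm _ _ (hP.isLoc.zl_le S hc hy) _ (hP.isLoc.zl_le S hc hx)
  sq := fun v hv => zc_sq _ v (hP.isLoc.zl_le S hc hv)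
  nff := hn
  cs := by
    rw [hP.inf_centralizer S hc]
    exact le_normalizer_o2 P

/-- **TI for the lines.** -/
theorem ti_line (hc : IsCharacteristicTwoType G) (hoff : StmtOff G) (hS : zc (S : Subgroup G) ≠ ⊥)
    {P : Subgroup G} (hP : IsParS (S : Subgroup G) P) (hn : NotFF (zl (S : Subgroup G) P))
    (hlow : zl (S : Subgroup G) P ≤ o2 (centralizer (zc (S : Subgroup G) : Set G))) {a b : G}
    (hI : cj a (zl (S : Subgroup G) P) ⊓ cj b (zl (S : Subgroup G) P) ≠ ⊥) :
    cj a (zl (S : Subgroup G) P) ≤ centralizer ((cj b (zl (S : Subgroup G) P) : Subgroup G) : Set G) := by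
  have hr := root_of_par hc hP hn
  have hL := hr.lines' hc hoff hlow hS
  have h2 : IsPGroup 2 (VL (S : Subgroup G) P : Subgroup G) := hr.V_two
  have h1 := hL.comm_of_inter (fun D hD hD1 => NOne.LemmaT.char2_centralizer hc (h2.to_le hD) hD1)
    (a := a) (b := b) (fun h0 => hI (le_bot_iff.1 ((inf_le_inf (cj_mono a hr.zl_le_V)
      (cj_mono b hr.zl_le_V)).trans h0.le)))
  exact (cj_mono a hr.zl_le_V).trans (h1.trans (centralizer_le (cj_mono b hr.zl_le_V)))

/-- A conjugate `V ≤ X` of `V_P` which is normalised by the elementary abelian normal subgroup `U` of `X`,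
`O₂(X) ≤ C(U)`, centralises `U`. -/
theorem comm_of_norm (hc : IsCharacteristicTwoType G) (hoff : StmtOff G) (hS : zc (S : Subgroup G) ≠ ⊥)
    {P : Subgroup G} (hP : IsParS (S : Subgroup G) P) (hn : NotFF (zl (S : Subgroup G) P))
    (hlow : zl (S : Subgroup G) P ≤ o2 (centralizer (zc (S : Subgroup G) : Set G))) {X U : Subgroup G}
    (hUc : ∀ a ∈ U, ∀ b ∈ U, a * b = b * a) (hU2 : ∀ a ∈ U, a ^ 2 = 1)
    (hXU : X ≤ normalizer (U : Set G)) (hoU : o2 X ≤ centralizer (U : Set G)) {g : G}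
    (hV : cj g (zl (S : Subgroup G) P) ≤ X)
    (hUV : U ≤ normalizer ((cj g (zl (S : Subgroup G) P) : Subgroup G) : Set G)) :
    cj g (zl (S : Subgroup G) P) ≤ centralizer (U : Set G) := by
  have hr := root_of_par hc hP hn
  by_contra hne
  have hVcc : cj g (zl (S : Subgroup G) P) ≤
      centralizer ((cj g (zl (S : Subgroup G) P) : Subgroup G) : Set G) := cj_cent hr.comm
  have hVc : ∀ a ∈ cj g (zl (S : Subgroup G) P), ∀ b ∈ cj g (zl (S : Subgroup G) P), a * b = b * a :=
    fun a ha b hb => ((mem_centralizer_iff.1 (hVcc ha)) b hb).symm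
  have hV2 : ∀ a ∈ cj g (zl (S : Subgroup G) P), a ^ 2 = 1 := by
    intro v hv
    have h1 := hr.sq _ (mem_cj.1 hv)
    have e : v ^ 2 = g * (g⁻¹ * v * g) ^ 2 * g⁻¹ := by rw [pow_two, pow_two]; group
    rw [e, h1]; group
  have hle := NO3b.NoEmp.le_o2_of (X := X) (D := ⊥) (U := U) hV hVc hV2 hUc hU2 hXU hUV bot_le bot_le
    (by rw [Subgroup.le_centralizer_iff]; exact bot_le) (fun h0 => hne (by
      intro v hv
      rw [mem_centralizer_iff]
      intro u hu
      have h1 := NO3b.NoEmp.comm_mem hUV (hV.trans hXU) hv hu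
      have h2 := mem_bot.1 (h0 h1)
      exact (commutatorElement_eq_one_iff_mul_comm.1 h2).symm))
    (inf_le_right.trans hoU) (hn.cj g) (fun a _ b _ hab => by
      rw [cj_cj, cj_cj] at hab ⊢
      by_contra h0
      exact hab (ti_line hc hoff hS hP hn hlow (fun h1 => h0 h1.le)))
  exact hne (hle.trans hoU)

/-- `V ≤ H ∈ L(S)` a conjugate of `V_P`, `U_H ≤ N(V)`: `[V, U_H] = 1`. -/
theorem comm_zl (hc : IsCharacteristicTwoType G) (hoff : StmtOff G) (hS : zc (S : Subgroup G) ≠ ⊥)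
    {P : Subgroup G} (hP : IsParS (S : Subgroup G) P) (hn : NotFF (zl (S : Subgroup G) P))
    (hlow : zl (S : Subgroup G) P ≤ o2 (centralizer (zc (S : Subgroup G) : Set G))) {H : Subgroup G}
    (hH : IsLoc (S : Subgroup G) H) {g : G} (hV : cj g (zl (S : Subgroup G) P) ≤ H)
    (hUV : zl (S : Subgroup G) H ≤ normalizer ((cj g (zl (S : Subgroup G) P) : Subgroup G) : Set G)) :
    cj g (zl (S : Subgroup G) P) ≤ centralizer (zl (S : Subgroup G) H : Set G) := by
  have h1 := hH.zl_le S hc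
  refine comm_of_norm hc hoff hS hP hn hlow (fun a ha b hb => zc_comm _ _ (h1 ha) _ (h1 hb))
    (fun a ha => zc_sq _ a (h1 ha)) (le_normalizer_zl _ _) ?_ hV hUV
  intro x hx
  rw [mem_centralizer_iff]
  intro u hu
  exact ((mem_zc.1 (h1 hu)).2.1 x hx).symm

/-- `[V_P, U_H] = 1` for every `H ∈ L(S)`. -/
theorem comm_self (hc : IsCharacteristicTwoType G) (hoff : StmtOff G) (hS : zc (S : Subgroup G) ≠ ⊥)
    {P : Subgroup G} (hP : IsParS (S : Subgroup G) P) (hn : NotFF (zl (S : Subgroup G) P))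
    (hlow : zl (S : Subgroup G) P ≤ o2 (centralizer (zc (S : Subgroup G) : Set G))) {H : Subgroup G}
    (hH : IsLoc (S : Subgroup G) H) :
    zl (S : Subgroup G) P ≤ centralizer (zl (S : Subgroup G) H : Set G) := by
  have hr := root_of_par hc hP hn
  have h1 : cj 1 (zl (S : Subgroup G) P) = zl (S : Subgroup G) P := ZN.ChoiceBase.cj_one _
  have h2 : zl (S : Subgroup G) H ≤ (S : Subgroup G) :=
    (hH.zl_le S hc |>.trans (zc_le _)).trans (hH.o2_le S)
  have h3 := comm_zl hc hoff hS hP hn hlow hH (g := 1) (by rw [h1]; exact hr.zl_le_S.trans hH.le)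
    (by rw [h1]; exact h2.trans (hP.isLoc.le.trans (le_normalizer_zl _ _)))
  rwa [h1] at h3

/-- **(L) for the lines which are not FF.** -/
theorem nullF_nff (hc : IsCharacteristicTwoType G) (hoff : StmtOff G) (hS : zc (S : Subgroup G) ≠ ⊥)
    {F : Set (Subgroup G)} (hF : F ⊆ PS (S : Subgroup G)) (hn : ∀ P ∈ F, NotFF (zl (S : Subgroup G) P))
    (hlow : ∀ P ∈ F, zl (S : Subgroup G) P ≤ o2 (CZ (S : Subgroup G))) : NullF (S : Subgroup G) F := by
  intro P H g hP hH h1 h2
  exact comm_zl hc hoff hS (hF hP) (hn P hP) (hlow P hP) hH.loc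
    ((h1.trans (ZN.ChoiceSit.o2_le _)).trans hH.cz) h2

end Cfsg.Agent.Omega.NOThreeL.NullNff
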