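import Mathlib

/-!
# NO-3L: LEMMA GT, the odd closure (#16491, helper535)

`N` abelian, `D` a subgroup normalising `N`, `u ∈ N` and `t` normalise `D`, `t` has odd order and is inverted
by `u`. `Y = N ⊓ D`, `Y₁ = N^t ⊓ D`, `T = C_Y(t)`.

* `Odd.mem_T` : `Y ⊓ N^(t^i) = T` for `i = ±1, ±2`;
* `Odd.comm_T` : `[Y, Y₁] ≤ T`;
* `Odd.surj` : `Y = [u, Y₁] T`;
* `Odd.fixed` : no `p` with `C_G(p) ≤ N_G(N)` commutes with `t`, unless `t = 1`.
-/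

set_option autoImplicit false

namespace Cfsg.Agent.Omega.NOThreeL.OddClosure

open Subgroup
open scoped Pointwise

variable {G : Type*} [Group G]

/-- The data of LEMMA GT. -/
structure Odd (N D : Subgroup G) (u t : G) : Prop where
  comm : ∀ a ∈ N, ∀ b ∈ N, a * b = b * a
  nD : ∀ d ∈ D, ∀ n ∈ N, d * n * d⁻¹ ∈ N
  uN : u ∈ N
  uD : ∀ d ∈ D, u * d * u⁻¹ ∈ D
  tD : ∀ d ∈ D, t * d * t⁻¹ ∈ D
  tD' : ∀ d ∈ D, t⁻¹ * d * t ∈ D
  inv : u * t * u⁻¹ = t⁻¹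
  odd : ∃ n : ℕ, t ^ (2 * n + 1) = 1

namespace Odd

variable {N D : Subgroup G} {u t : G}

theorem uu (h : Odd N D u t) : u * u * t = t * (u * u) := by
  have h1 := h.inv
  have h2 : u * t⁻¹ * u⁻¹ = t := by
    have := congrArg (·⁻¹) h1
    simp only [mul_inv_rev, inv_inv] at this
    rw [← mul_assoc] at this
    exact this
  calc u * u * t = u * (u * t * u⁻¹) * u := by group
    _ = (u * t⁻¹ * u⁻¹) * (u * u) := by rw [h1]; group
    _ = t * (u * u) := by rw [h2]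

/-- an element commuting with `t²` commutes with `t` -/
theorem comm_of_sq (h : Odd N D u t) {y : G} (hy : t ^ 2 * y = y * t ^ 2) : t * y = y * t := by
  obtain ⟨n, hn⟩ := h.odd
  have h1 : t = (t ^ 2) ^ (n + 1) := by
    rw [← pow_mul, show 2 * (n + 1) = (2 * n + 1) + 1 by ring, pow_succ, hn, one_mul]
  have h2 : Commute (t ^ 2) y := hy
  have h3 : Commute ((t ^ 2) ^ (n + 1)) y := h2.pow_left _
  rw [← h1] at h3
  exact h3

/-- If `y` commutes with `u` and with `s u s⁻¹`, `s` a power of `t`, then `y` commutes with `s²`. -/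
theorem comm_sq {y s : G} (hs : u * s * u⁻¹ = s⁻¹) (h1 : u * y = y * u)
    (h2 : (s * u * s⁻¹) * y = y * (s * u * s⁻¹)) : s ^ 2 * y = y * s ^ 2 := by
  have e : (s * u * s⁻¹) * u⁻¹ = s ^ 2 := by
    have h3 : u * s⁻¹ * u⁻¹ = s := by
      have := congrArg (·⁻¹) hs
      simp only [mul_inv_rev, inv_inv] at this
      rw [← mul_assoc] at this
      exact this
    calc (s * u * s⁻¹) * u⁻¹ = s * (u * s⁻¹ * u⁻¹) := by group
      _ = s ^ 2 := by rw [h3, pow_two]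
  have h4 : u⁻¹ * y = y * u⁻¹ := by
    have : Commute u y := h1
    exact this.inv_left
  calc s ^ 2 * y = (s * u * s⁻¹) * (u⁻¹ * y) := by rw [← e]; group
    _ = ((s * u * s⁻¹) * y) * u⁻¹ := by rw [h4]; group
    _ = y * ((s * u * s⁻¹) * u⁻¹) := by rw [h2]; group
    _ = y * s ^ 2 := by rw [e]

theorem inv_pow (h : Odd N D u t) (k : ℕ) : u * t ^ k * u⁻¹ = (t ^ k)⁻¹ := by
  rw [← conj_pow, h.inv, _root_.inv_pow]

/-- `Y ⊓ N^(t^k) ≤ C(t)` if `t ∈ ⟨t^(2k)⟩`. -/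
theorem comm_of_mem (h : Odd N D u t) {y : G} {k : ℕ} (hk : ∃ m : ℕ, t = ((t ^ k) ^ 2) ^ m) (hy : y ∈ N)
    (hy' : (t ^ k)⁻¹ * y * t ^ k ∈ N) : t * y = y * t := by
  have h1 := h.comm _ h.uN _ hy
  have h2 : (t ^ k * u * (t ^ k)⁻¹) * y = y * (t ^ k * u * (t ^ k)⁻¹) := by
    have h3 := h.comm _ h.uN _ hy'
    calc (t ^ k * u * (t ^ k)⁻¹) * y = t ^ k * (u * ((t ^ k)⁻¹ * y * t ^ k)) * (t ^ k)⁻¹ := by group
      _ = t ^ k * (((t ^ k)⁻¹ * y * t ^ k) * u) * (t ^ k)⁻¹ := by rw [h3]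
      _ = y * (t ^ k * u * (t ^ k)⁻¹) := by group
  have h4 := comm_sq (h.inv_pow k) h1 h2
  obtain ⟨m, hm⟩ := hk
  have h5 : Commute ((t ^ k) ^ 2) y := h4
  have h6 := h5.pow_left m
  rw [← hm] at h6
  exact h6

theorem gen_one (h : Odd N D u t) : ∃ m : ℕ, t = ((t ^ 1) ^ 2) ^ m := by
  obtain ⟨n, hn⟩ := h.odd
  refine ⟨n + 1, ?_⟩
  rw [pow_one, ← pow_mul, show 2 * (n + 1) = (2 * n + 1) + 1 by ring, pow_succ, hn, one_mul]

theorem gen_two (h : Odd N D u t) : ∃ m : ℕ, t = ((t ^ 2) ^ 2) ^ m := by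
  obtain ⟨n, hn⟩ := h.odd
  have e : (t ^ 2) ^ (n + 1) = t := by
    rw [← pow_mul, show 2 * (n + 1) = (2 * n + 1) + 1 by ring, pow_succ, hn, one_mul]
  refine ⟨(n + 1) * (n + 1), ?_⟩
  calc t = (t ^ 2) ^ (n + 1) := e.symm
    _ = (((t ^ 2) ^ (n + 1)) ^ 2) ^ (n + 1) := by rw [e, e]
    _ = ((t ^ 2) ^ 2) ^ ((n + 1) * (n + 1)) := by
      simp only [← pow_mul]
      congr 1
      ring

/-- **(2)**, `i = 1`: `N ⊓ N^t ≤ C(t)`. -/
theorem mem_T (h : Odd N D u t) {y : G} (hy : y ∈ N) (hy' : t⁻¹ * y * t ∈ N) : t * y = y * t := by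
  refine h.comm_of_mem (k := 1) h.gen_one hy ?_
  rwa [pow_one]

/-- **(2)**, the points `c_1`, `c_{-1}`: `N^t ⊓ N^(t⁻¹) ≤ C(t)`. -/
theorem mem_T' (h : Odd N D u t) {y : G} (hy : t⁻¹ * y * t ∈ N) (hy' : t * y * t⁻¹ ∈ N) : t * y = y * t := by
  have h1 : t * (t * y * t⁻¹) = (t * y * t⁻¹) * t := by
    refine h.comm_of_mem (k := 2) h.gen_two hy' ?_
    have : (t ^ 2)⁻¹ * (t * y * t⁻¹) * t ^ 2 = t⁻¹ * y * t := by
      rw [pow_two]; group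
    rwa [this]
  have h2 : t * y * t⁻¹ * t = t * y := by group
  rw [h2] at h1
  have h3 : y = t * y * t⁻¹ := by
    have := congrArg (t⁻¹ * ·) h1
    simp only [inv_mul_cancel_left] at this
    exact this.symm
  calc t * y = t * y * t⁻¹ * t := by group
    _ = y * t := by rw [← h3]

/-- **(1)** `t` moves every `p` whose centraliser normalises `N`. -/
theorem fixed (h : Odd N D u t) {p : G} (hp : ∀ g : G, g * p = p * g → ∀ n ∈ N, g * n * g⁻¹ ∈ N)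
    (ht : t * p = p * t) : t = 1 := by
  have h1 := hp t ht u h.uN
  have h2 := h.comm _ h1 _ h.uN
  have h3 : u * t⁻¹ * u⁻¹ = t := by
    have := congrArg (·⁻¹) h.inv
    simp only [mul_inv_rev, inv_inv] at this
    rw [← mul_assoc] at this
    exact this
  -- `t u t⁻¹ = t² u`
  have h4 : t * u * t⁻¹ = t * t * u := by
    calc t * u * t⁻¹ = t * (u * t⁻¹ * u⁻¹) * u := by group
      _ = t * t * u := by rw [h3]
  have h5 : t ^ 2 * u = u * t ^ 2 := by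
    rw [h4] at h2
    have h6 : t * t * u * u = u * (t * t) * u := by rw [h2]; group
    have h7 := mul_right_cancel h6
    rw [pow_two]; exact h7
  have h8 : t * u = u * t := h.comm_of_sq h5
  have h9 : t⁻¹ = t := by rw [← h.inv, ← h8]; group
  obtain ⟨n, hn⟩ := h.odd
  have h10 : t ^ 2 = 1 := by rw [pow_two]; nth_rewrite 1 [← h9]; group
  rw [pow_succ, pow_mul, h10, one_pow, one_mul] at hn
  exact hn

/-- the commutator `[u, y'] = u⁻¹ y'⁻¹ u y'` of `y' ∈ N^t ⊓ D` is in `N ⊓ D` -/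
theorem br_mem (h : Odd N D u t) {y : G} (hD : y ∈ D) : u⁻¹ * (y⁻¹ * u * y) ∈ N ⊓ D := by
  refine ⟨N.mul_mem (N.inv_mem h.uN) ?_, ?_⟩
  · have := h.nD y⁻¹ (D.inv_mem hD) u h.uN
    rwa [inv_inv] at this
  · have h1 : ∀ d ∈ D, u⁻¹ * d * u ∈ D := by
      intro d hd
      -- `u⁻¹ = u⁻² u`; use that conjugation by `u` maps the finite-index.. : via `t`
      have h2 := h.uD _ hd
      have h3 := h.nD
      -- `u ∈ N`, `d` normalises `N`, so `u d u⁻¹ d⁻¹ ∈ N ⊓ D`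
      have h4 : u * d * u⁻¹ * d⁻¹ ∈ N ⊓ D := by
        refine ⟨?_, D.mul_mem h2 (D.inv_mem hd)⟩
        have h5 : u * d * u⁻¹ * d⁻¹ = u * (d * u⁻¹ * d⁻¹) := by group
        rw [h5]
        exact N.mul_mem h.uN (h.nD d hd _ (N.inv_mem h.uN))
      -- `u⁻¹ d u = (u⁻¹ (d u d⁻¹)) d` and `u⁻¹ (d u d⁻¹) = (u d u⁻¹ d⁻¹)⁻¹` conjugated inside the abelian `N`
      have h6 : u⁻¹ * d * u = (u * d * u⁻¹ * d⁻¹)⁻¹ * d := by
        have h7 : d * u * d⁻¹ ∈ N := h.nD d hd _ h.uN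
        have h8 : (d * u * d⁻¹) * u⁻¹ = u⁻¹ * (d * u * d⁻¹) := h.comm _ h7 _ (N.inv_mem h.uN)
        calc u⁻¹ * d * u = u⁻¹ * (d * u * d⁻¹) * d := by group
          _ = (d * u * d⁻¹) * u⁻¹ * d := by rw [h8]
          _ = (u * d * u⁻¹ * d⁻¹)⁻¹ * d := by group
      rw [h6]
      exact D.mul_mem (D.inv_mem h4.2) hd
    have h9 : u⁻¹ * (y⁻¹ * u * y) = (u⁻¹ * y⁻¹ * u) * y := by group
    rw [h9]
    exact D.mul_mem (h1 _ (D.inv_mem hD)) hD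

/-- **(3), injectivity**: `y ∈ N^t ⊓ D`, `[u, y] ∈ C(t)` imply `y ∈ C(t)`. -/
theorem inj (h : Odd N D u t) {y : G} (hy : t⁻¹ * y * t ∈ N) (hD : y ∈ D)
    (hc : t * (u⁻¹ * (y⁻¹ * u * y)) = (u⁻¹ * (y⁻¹ * u * y)) * t) : t * y = y * t := by
  set b := u⁻¹ * (y⁻¹ * u * y) with hb
  obtain ⟨hbN, hbD⟩ := h.br_mem hD
  -- `u⁻¹ y u = y b⁻¹`
  have e1 : u⁻¹ * y * u = y * b⁻¹ := by
    have h1 : y⁻¹ * u * y ∈ N := by
      have := h.nD y⁻¹ (D.inv_mem hD) u h.uN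
      rwa [inv_inv] at this
    have h2 : (y⁻¹ * u * y) * u⁻¹ = u⁻¹ * (y⁻¹ * u * y) := h.comm _ h1 _ (N.inv_mem h.uN)
    have h3 : y * u⁻¹ * y⁻¹ ∈ N := h.nD y hD _ (N.inv_mem h.uN)
    have h4 : (y * u⁻¹ * y⁻¹) * u = u * (y * u⁻¹ * y⁻¹) := h.comm _ h3 _ h.uN
    have h5 : u * u * y = y * (u * u) := by
      -- `y = t (t⁻¹ y t) t⁻¹`, and `u²` commutes with `t` and with `N`
      have h6 := h.comm _ (N.mul_mem h.uN h.uN) _ hy
      have h7 := h.uu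
      have h8 : u * u * t⁻¹ = t⁻¹ * (u * u) := by
        have : Commute (u * u) t := h7
        exact this.inv_right
      calc u * u * y = (u * u * t) * (t⁻¹ * y * t) * t⁻¹ := by group
        _ = t * ((u * u) * (t⁻¹ * y * t)) * t⁻¹ := by rw [h7]; group
        _ = t * (t⁻¹ * y * t) * (u * u * t⁻¹) := by rw [h6]; group
        _ = y * (u * u) := by rw [h8]; group
    have h9 : u⁻¹ * y * u = u * y * u⁻¹ := by
      have : u * (u⁻¹ * y * u) * u = u * (u * y * u⁻¹) * u := by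
        calc u * (u⁻¹ * y * u) * u = y * (u * u) := by group
          _ = u * u * y := h5.symm
          _ = u * (u * y * u⁻¹) * u := by group
      exact mul_left_cancel (mul_right_cancel this)
    rw [h9]
    have h10 : y * b⁻¹ = y * (y⁻¹ * u * y * u⁻¹)⁻¹ := by rw [hb, ← h2]
    rw [h10]
    have h11 : y * (y⁻¹ * u * y * u⁻¹)⁻¹ = y * u * y⁻¹ * u⁻¹ * y := by group
    rw [h11]
    have h12 : y * u * y⁻¹ ∈ N := h.nD y hD _ h.uN
    have h13 : (y * u * y⁻¹) * u⁻¹ = u⁻¹ * (y * u * y⁻¹) := h.comm _ h12 _ (N.inv_mem h.uN)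
    calc u * y * u⁻¹ = u⁻¹ * y * u := h9.symm
      _ = u⁻¹ * (y * u * y⁻¹) * y := by group
      _ = (y * u * y⁻¹) * u⁻¹ * y := by rw [h13]
      _ = y * u * y⁻¹ * u⁻¹ * y := by group
  -- `t` commutes with `b`, so `b ∈ N^t`
  have hbt : t⁻¹ * b * t = b := by
    calc t⁻¹ * b * t = t⁻¹ * (b * t) := by group
      _ = t⁻¹ * (t * b) := by rw [← hc]
      _ = b := by group
  set x := u⁻¹ * y * u with hx
  have hxt : t⁻¹ * x * t ∈ N := by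
    rw [e1]
    have : t⁻¹ * (y * b⁻¹) * t = (t⁻¹ * y * t) * (t⁻¹ * b * t)⁻¹ := by group
    rw [this, hbt]
    exact N.mul_mem hy (N.inv_mem hbN)
  have hxt' : t * x * t⁻¹ ∈ N := by
    -- `x^(t⁻¹) = (y^t)^u`
    have h3 : t * u⁻¹ = u⁻¹ * t⁻¹ := by
      rw [← h.inv]; group
    have h4 : u * t⁻¹ = t * u := by
      have : u * t⁻¹ * u⁻¹ = t := by
        have := congrArg (·⁻¹) h.inv
        simp only [mul_inv_rev, inv_inv] at this
        rw [← mul_assoc] at this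
        exact this
      calc u * t⁻¹ = u * t⁻¹ * u⁻¹ * u := by group
        _ = t * u := by rw [this]
    have h5 : t * x * t⁻¹ = u⁻¹ * (t⁻¹ * y * t) * u := by
      calc t * x * t⁻¹ = (t * u⁻¹) * y * (u * t⁻¹) := by rw [hx]; group
        _ = u⁻¹ * (t⁻¹ * y * t) * u := by rw [h3, h4]; group
    rw [h5]
    exact N.mul_mem (N.mul_mem (N.inv_mem h.uN) hy) h.uN
  have h6 := h.mem_T' hxt hxt'
  have h7 : y = x * b := by rw [e1]; group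
  rw [h7]
  calc t * (x * b) = t * x * b := by group
    _ = x * (t * b) := by rw [h6]; group
    _ = x * b * t := by rw [hc]; group

/-- **(2)** `[Y, Y₁] ≤ T` -/
theorem comm_T (h : Odd N D u t) {y y' : G} (hy : y ∈ N ⊓ D) (hy' : t⁻¹ * y' * t ∈ N) (hD : y' ∈ D) :
    y⁻¹ * (y'⁻¹ * y * y') ∈ N ⊓ D ∧ t * (y⁻¹ * (y'⁻¹ * y * y')) = (y⁻¹ * (y'⁻¹ * y * y')) * t := by
  have h1 : y'⁻¹ * y * y' ∈ N := by
    have := h.nD y'⁻¹ (D.inv_mem hD) y hy.1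
    rwa [inv_inv] at this
  have h2 : y⁻¹ * (y'⁻¹ * y * y') ∈ N := N.mul_mem (N.inv_mem hy.1) h1
  refine ⟨⟨h2, D.mul_mem (D.inv_mem hy.2) (D.mul_mem (D.mul_mem (D.inv_mem hD) hy.2) hD)⟩, h.mem_T h2 ?_⟩
  have h3 : t⁻¹ * y * t ∈ D := h.tD' y hy.2
  have h4 : (t⁻¹ * y * t)⁻¹ * (t⁻¹ * y' * t)⁻¹ * (t⁻¹ * y * t) ∈ N := by
    have := h.nD (t⁻¹ * y * t)⁻¹ (D.inv_mem h3) _ (N.inv_mem hy')
    rwa [inv_inv] at this
  have h5 : t⁻¹ * (y⁻¹ * (y'⁻¹ * y * y')) * t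
      = ((t⁻¹ * y * t)⁻¹ * (t⁻¹ * y' * t)⁻¹ * (t⁻¹ * y * t)) * (t⁻¹ * y' * t) := by group
  rw [h5]
  exact N.mul_mem h4 hy'

/-- the subgroup `Y₁ = N^t ⊓ D` -/
def Y1 (N D : Subgroup G) (t : G) : Subgroup G := (MulAut.conj t • N) ⊓ D

theorem mem_Y1 {N D : Subgroup G} {t y : G} : y ∈ Y1 N D t ↔ t⁻¹ * y * t ∈ N ∧ y ∈ D := by
  unfold Y1
  rw [mem_inf, mem_pointwise_smul_iff_inv_smul_mem]
  have : (MulAut.conj t)⁻¹ • y = t⁻¹ * y * t := by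
    rw [← map_inv, MulAut.smul_def, MulAut.conj_apply, inv_inv]
  rw [this]

/-- `T = C_Y(t)` -/
def T (N D : Subgroup G) (t : G) : Subgroup G := (N ⊓ D) ⊓ centralizer {t}

theorem mem_T_iff {N D : Subgroup G} {t y : G} : y ∈ T N D t ↔ y ∈ N ⊓ D ∧ t * y = y * t := by
  unfold T
  rw [mem_inf, mem_centralizer_singleton_iff]
  exact ⟨fun h => ⟨h.1, h.2.symm⟩, fun h => ⟨h.1, h.2.symm⟩⟩

theorem T_le_Y1 : T N D t ≤ Y1 N D t := by
  intro y hy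
  obtain ⟨h1, h2⟩ := mem_T_iff.1 hy
  refine mem_Y1.2 ⟨?_, h1.2⟩
  have : t⁻¹ * y * t = y := by
    calc t⁻¹ * y * t = t⁻¹ * (y * t) := by group
      _ = t⁻¹ * (t * y) := by rw [h2]
      _ = y := by group
  rw [this]; exact h1.1

theorem card_Y1 [Finite G] (h : Odd N D u t) : Nat.card (Y1 N D t) = Nat.card ↥(N ⊓ D) := by
  have e : Y1 N D t = MulAut.conj t • (N ⊓ D) := by
    ext y
    rw [mem_Y1, mem_pointwise_smul_iff_inv_smul_mem]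
    have : (MulAut.conj t)⁻¹ • y = t⁻¹ * y * t := by
      rw [← map_inv, MulAut.smul_def, MulAut.conj_apply, inv_inv]
    rw [this, mem_inf]
    refine ⟨fun h1 => ⟨h1.1, h.tD' _ h1.2⟩, fun h1 => ⟨h1.1, ?_⟩⟩
    have h2 := h.tD _ h1.2
    have h3 : t * (t⁻¹ * y * t) * t⁻¹ = y := by group
    rwa [h3] at h2
  rw [e]
  exact Nat.card_congr (Subgroup.equivSMul (MulAut.conj t) (N ⊓ D)).toEquiv.symm

/-- the commutator map `Y₁ → Y`, `y ↦ [u, y]` -/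
def f (h : Odd N D u t) (y : Y1 N D t) : ↥(N ⊓ D) := ⟨u⁻¹ * ((y : G)⁻¹ * u * y), h.br_mem (mem_Y1.1 y.2).2⟩

theorem f_val (h : Odd N D u t) (y : Y1 N D t) : (h.f y : G) = u⁻¹ * ((y : G)⁻¹ * u * y) := rfl

/-- **(3)** `Y = [u, Y₁] T`. -/
theorem surj [Finite G] (h : Odd N D u t) {y : G} (hy : y ∈ N ⊓ D) : ∃ y' : G, (t⁻¹ * y' * t ∈ N ∧ y' ∈ D) ∧
    ∃ τ ∈ N ⊓ D, t * τ = τ * t ∧ y = u⁻¹ * (y'⁻¹ * u * y') * τ := by
  classical
  set Y := N ⊓ D with hY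
  set T₁ : Subgroup (Y1 N D t) := (T N D t).subgroupOf (Y1 N D t) with hT1
  set T₂ : Subgroup Y := (T N D t).subgroupOf Y with hT2
  have hTY : T N D t ≤ Y := inf_le_left
  have key : ∀ a b : Y1 N D t, a⁻¹ * b ∈ T₁ ↔ (h.f a)⁻¹ * h.f b ∈ T₂ := by
    intro a b
    obtain ⟨ha, haD⟩ := mem_Y1.1 a.2
    obtain ⟨hb, hbD⟩ := mem_Y1.1 b.2
    rw [hT1, hT2, mem_subgroupOf, mem_subgroupOf]
    -- `w = a⁻¹ b`
    set w : G := (a : G)⁻¹ * b with hw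
    have hwN : t⁻¹ * w * t ∈ N := by
      have : t⁻¹ * w * t = (t⁻¹ * (a : G) * t)⁻¹ * (t⁻¹ * b * t) := by rw [hw]; group
      rw [this]; exact N.mul_mem (N.inv_mem ha) hb
    have hwD : w ∈ D := D.mul_mem (D.inv_mem haD) hbD
    have hfa : (h.f a : G) ∈ Y := (h.f a).2
    have hfb : (h.f b : G) ∈ Y := (h.f b).2
    have hC := h.comm_T hfa hwN hwD
    -- `[u, w] = f b (f a)⁻¹ [f a, w]⁻¹` up to the order
    have e1 : (h.f b : G) = (u⁻¹ * (w⁻¹ * u * w)) * (w⁻¹ * (h.f a : G) * w) := by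
      rw [f_val, f_val, hw]; group
    have hbr := h.br_mem hwD
    have e3 : (h.f a : G)⁻¹ * (h.f b : G)
        = (u⁻¹ * (w⁻¹ * u * w)) * ((h.f a : G)⁻¹ * (w⁻¹ * (h.f a : G) * w)) := by
      have h3 := h.comm _ hbr.1 _ hfa.1
      rw [e1]
      calc (h.f a : G)⁻¹ * (u⁻¹ * (w⁻¹ * u * w) * (w⁻¹ * (h.f a : G) * w))
          = (h.f a : G)⁻¹ * (u⁻¹ * (w⁻¹ * u * w) * (h.f a : G)) * ((h.f a : G)⁻¹ * (w⁻¹ * (h.f a : G) * w)) := by
            group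
        _ = (h.f a : G)⁻¹ * ((h.f a : G) * (u⁻¹ * (w⁻¹ * u * w))) *
              ((h.f a : G)⁻¹ * (w⁻¹ * (h.f a : G) * w)) := by rw [h3]
        _ = (u⁻¹ * (w⁻¹ * u * w)) * ((h.f a : G)⁻¹ * (w⁻¹ * (h.f a : G) * w)) := by group
    have hvC : ((h.f a : G)⁻¹ * (w⁻¹ * (h.f a : G) * w)) ∈ T N D t := mem_T_iff.2 hC
    have hval1 : (((a⁻¹ * b : Y1 N D t)) : G) = w := rfl
    have hval2 : ((((h.f a)⁻¹ * h.f b : Y)) : G) = (h.f a : G)⁻¹ * (h.f b : G) := rfl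
    rw [hval1, hval2, e3]
    constructor
    · intro hwT
      obtain ⟨h4, h5⟩ := mem_T_iff.1 hwT
      have h6 : u⁻¹ * (w⁻¹ * u * w) = 1 := by
        have := h.comm _ h.uN _ h4.1
        calc u⁻¹ * (w⁻¹ * u * w) = u⁻¹ * (w⁻¹ * (u * w)) := by group
          _ = u⁻¹ * (w⁻¹ * (w * u)) := by rw [this]
          _ = 1 := by group
      rw [h6, one_mul]; exact hvC
    · intro hx
      have h4 : u⁻¹ * (w⁻¹ * u * w) ∈ T N D t := by
        have h5 := (T N D t).mul_mem hx ((T N D t).inv_mem hvC)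
        have h6 : u⁻¹ * (w⁻¹ * u * w) * ((h.f a : G)⁻¹ * (w⁻¹ * (h.f a : G) * w)) *
            ((h.f a : G)⁻¹ * (w⁻¹ * (h.f a : G) * w))⁻¹ = u⁻¹ * (w⁻¹ * u * w) := by
          rw [mul_assoc, mul_inv_cancel, mul_one]
        rwa [h6] at h5
      have h5 := h.inj hwN hwD (mem_T_iff.1 h4).2
      refine mem_T_iff.2 ⟨⟨?_, hwD⟩, h5⟩
      have h6 : t⁻¹ * w * t = w := by
        calc t⁻¹ * w * t = t⁻¹ * (w * t) := by group
          _ = t⁻¹ * (t * w) := by rw [h5]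
          _ = w := by group
      rwa [h6] at hwN
  let g : (Y1 N D t ⧸ T₁) → (Y ⧸ T₂) :=
    Quotient.map' (fun a => h.f a) (fun a b hab => by
      rw [QuotientGroup.leftRel_apply] at hab ⊢
      exact (key a b).1 hab)
  have hinj : Function.Injective g := by
    rintro ⟨a⟩ ⟨b⟩ hab
    have h1 : (QuotientGroup.mk (h.f a) : Y ⧸ T₂) = QuotientGroup.mk (h.f b) := hab
    have h2 := QuotientGroup.eq.1 h1
    exact QuotientGroup.eq.2 ((key a b).2 h2)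
  have hcard : Nat.card (Y1 N D t ⧸ T₁) = Nat.card (Y ⧸ T₂) := by
    have h1 := card_eq_card_quotient_mul_card_subgroup T₁
    have h2 := card_eq_card_quotient_mul_card_subgroup T₂
    have h3 : Nat.card T₁ = Nat.card (T N D t) := Nat.card_congr (subgroupOfEquivOfLe (T_le_Y1)).toEquiv
    have h4 : Nat.card T₂ = Nat.card (T N D t) := Nat.card_congr (subgroupOfEquivOfLe hTY).toEquiv
    rw [h.card_Y1, h2, h3, h4] at h1
    exact (Nat.eq_of_mul_eq_mul_right Nat.card_pos h1).symm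
  have hsurj : Function.Surjective g := (hinj.bijective_of_nat_card_le hcard.symm.le).2
  obtain ⟨⟨a⟩, ha⟩ := hsurj (QuotientGroup.mk ⟨y, hy⟩)
  have h1 : (QuotientGroup.mk (h.f a) : Y ⧸ T₂) = QuotientGroup.mk ⟨y, hy⟩ := ha
  have h2 := QuotientGroup.eq.1 h1
  rw [hT2, mem_subgroupOf] at h2
  obtain ⟨h3, h4⟩ := mem_T_iff.1 h2
  refine ⟨a, mem_Y1.1 a.2, _, h3, h4, ?_⟩
  change y = (h.f a : G) * ((h.f a : G)⁻¹ * y)
  rw [mul_inv_cancel_left]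

/-- **(4)**: a subgroup `W ≤ N` with `u ∈ W`, normalised by `Y₁`: `Y = (W ⊓ Y) T`. -/
theorem closure [Finite G] (h : Odd N D u t) {W : Subgroup G} (huW : u ∈ W)
    (hW : ∀ d ∈ D, ∀ w ∈ W, d * w * d⁻¹ ∈ W) {y : G} (hy : y ∈ N ⊓ D) :
    ∃ w ∈ W ⊓ D, ∃ τ ∈ N ⊓ D, t * τ = τ * t ∧ y = w * τ := by
  obtain ⟨y', hy', τ, hτ, hτt, he⟩ := h.surj hy
  have h1 := h.br_mem hy'.2
  refine ⟨_, ⟨W.mul_mem (W.inv_mem huW) ?_, h1.2⟩, τ, hτ, hτt, he⟩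
  have := hW y'⁻¹ (D.inv_mem hy'.2) u huW
  rwa [inv_inv] at this

end Odd

end Cfsg.Agent.Omega.NOThreeL.OddClosure
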