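import Cfsg.Agent.Omega.Node.NO3L
import Cfsg.Agent.Omega.NoFF.LinesPlug

/-!
# NO-3L, the local exit: LEMMA NS (#17863, helper908)

`S` Sylow, `Z = Ω₁(Z(S))`, `C = C_G(Z)`, `M ∈ L(S)`, `⟨M, C⟩` nonlocal.  Suppose there are `Y₁ ≥ Z` and
`1 ≠ M₁ ⊴ M` with (i) `C` normalises `Y₁`; (ii) `M = M₁ N_M(Y₁)`; (iii) `C ≤ C_G(Y₁) N_M(Y₁)`;
(iv) `⟨M₁, C⟩` local.  Contradiction: `Γ := ⟨C_G(Y₁), M₁⟩` is normalised by `M` and `C`, and normal in the
local group `⟨M₁, C⟩`.

It kills the one-sided tensor shape in NO-3L, including the parabolics of type (c).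
-/

set_option autoImplicit false

namespace Cfsg.Agent.Omega.NOThreeL.OneSided

open Subgroup Cfsg Cfsg.Agent.ZN Cfsg.Agent.Omega.MinPar Cfsg.Agent.Omega.Frame Cfsg.Agent.Omega.FrameNOFF
open Cfsg.Agent.Omega.Node.NO3L
open Cfsg.Agent.MinSimple.VModule
open scoped Pointwise

universe u

variable {G : Type u} [Group G]

/-- A nontrivial normal subgroup of a group of characteristic 2 has `O₂ ≠ 1`. -/
theorem o2_ne_of_normal {L N : Subgroup G} (hL : L ⊓ centralizer (o2 L : Set G) ≤ o2 L) (hN : N ≤ L)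
    (hn : L ≤ normalizer (N : Set G)) (h1 : N ≠ ⊥) : o2 N ≠ ⊥ := by
  intro h0
  have hint : N ⊓ o2 L = ⊥ := by
    rw [← le_bot_iff, ← h0]
    refine le_o2 inf_le_left ((o2_isPGroup L).to_le inf_le_right) ?_
    refine (le_inf le_normalizer (hN.trans (le_normalizer_o2 L))).trans ?_
    exact inf_normalizer_le_normalizer_inf
  have hcomm : N ≤ centralizer (o2 L : Set G) := by
    have h2 : ⁅N, o2 L⁆ ≤ N ⊓ o2 L := by
      refine le_inf ?_ ?_
      · rw [Subgroup.commutator_le]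
        intro a ha b hb
        have hb' := hn ((o2_le L) hb)
        have := (mem_normalizer_iff.mp hb' a⁻¹).mp (N.inv_mem ha)
        rw [commutatorElement_def, mul_assoc, mul_assoc, ← mul_assoc b]
        exact N.mul_mem ha this
      · rw [Subgroup.commutator_le]
        intro a ha b hb
        have ha' := le_normalizer_o2 L (hN ha)
        have := (mem_normalizer_iff.mp ha' b).mp hb
        rw [commutatorElement_def]
        exact (o2 L).mul_mem this ((o2 L).inv_mem hb)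
    rw [hint, le_bot_iff] at h2
    exact Subgroup.commutator_eq_bot_iff_le_centralizer.mp h2
  have h3 : N ≤ o2 L := (le_inf hN hcomm).trans hL
  exact h1 (by rw [← inf_eq_left.mpr h3, hint])

/-- **LEMMA NS.** -/
theorem contra [Finite G] (hG : IsCharacteristicTwoType G) (S : Sylow 2 G) {M M₁ Y₁ : Subgroup G}
    (hn : NonLoc M (CZ (S : Subgroup G))) (hZ : zc (S : Subgroup G) ≤ Y₁)
    (h0 : M₁ ≤ M) (h0n : M ≤ normalizer (M₁ : Set G)) (h01 : M₁ ≠ ⊥)
    (h1 : CZ (S : Subgroup G) ≤ normalizer (Y₁ : Set G))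
    (h2 : M ≤ M₁ ⊔ (M ⊓ normalizer (Y₁ : Set G)))
    (h3 : CZ (S : Subgroup G) ≤ centralizer (Y₁ : Set G) ⊔ (M ⊓ normalizer (Y₁ : Set G)))
    (h4 : IsLoc (S : Subgroup G) (M₁ ⊔ CZ (S : Subgroup G))) : False := by
  set C : Subgroup G := CZ (S : Subgroup G) with hC
  set K₁ : Subgroup G := centralizer (Y₁ : Set G) with hK
  have hKC : K₁ ≤ C := centralizer_le hZ
  set Γ : Subgroup G := K₁ ⊔ M₁ with hΓ
  have hNK : normalizer (Y₁ : Set G) ≤ normalizer (K₁ : Set G) :=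
    NoFF.LinesPlug.normalizer_le_normalizer_centralizer' Y₁
  have hMY : M ⊓ normalizer (Y₁ : Set G) ≤ normalizer (Γ : Set G) := by
    refine (le_inf (inf_le_right.trans hNK) (inf_le_left.trans h0n)).trans ?_
    exact normalizer_inf_normalizer_le_normalizer_sup K₁ M₁
  have hMΓ : M ≤ normalizer (Γ : Set G) :=
    h2.trans (sup_le ((le_sup_right : M₁ ≤ Γ).trans le_normalizer) hMY)
  have hCΓ : C ≤ normalizer (Γ : Set G) :=
    h3.trans (sup_le ((le_sup_left : K₁ ≤ Γ).trans le_normalizer) hMY)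
  have hΓL : Γ ≤ M₁ ⊔ C := sup_le (hKC.trans le_sup_right) le_sup_left
  have hLn : M₁ ⊔ C ≤ normalizer (Γ : Set G) := sup_le (h0.trans hMΓ) hCΓ
  have hΓ1 : Γ ≠ ⊥ := fun h => h01 (le_bot_iff.mp (h ▸ (le_sup_right : M₁ ≤ Γ)))
  have hO := o2_ne_of_normal (h4.char2 S hG) hΓL hLn hΓ1
  have hNO : normalizer (Γ : Set G) ≤ normalizer (o2 Γ : Set G) :=
    Cfsg.Agent.Omega.normalizer_le_normalizer_o2' Γ
  exact hO (hn (o2 Γ) (o2_isPGroup Γ) (hMΓ.trans hNO) (hCΓ.trans hNO))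

end Cfsg.Agent.Omega.NOThreeL.OneSided
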