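import Cfsg.Agent.Omega.ML.Dual

/-!
# OPP LEMMA: an opposite point kills over-offenders (OMEGA, NO-3L, (ML)); #16272 of helper6, report #16371 of
helper928; K-free

`H` acts on the finite abelian group `M` (`hc : ∀ v w, v * w = w * v`), `A, B ≤ H`, `z, o : M`;
`F_A = C_M(A) = cv M A`; `cm A o = [o, A]`; `cvm hc D F` = the preimage of `C_{M/F}(D)`.

* `Fx A o` : `A` centralises `[o, A]`;  `mem_cm`, `cm_le`, `card_cm : |[o, A]| = |A : C_A(o)|`;
* `(1)` `relIndex_le : [o, A] ∩ F = 1 ⟹ |A : D| ≤ |C_{M/F}(D)|`, `D = C_A(o)`;  `card_le : |A| ≤ |D| |C_{M/F}(D)|`;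
  `over : |M : F| < |A| ⟹ |M/F : C_{M/F}(D)| < |D|`;  `ne_bot`;  `Strict.rel` : the relative form;
* `(2)` `dual` : `|A : C_A(f)| ≤ |M : F_A|` (= `dc` of `ML/Dual.lean`);
* `(3)` `Ex A` (exact), `Opp A B z o` (opposite points, symmetric: `Opp.symm`): `Opp.cm_eq : F_A = [o, A]`,
  `Opp.sup_eq : F_A F_B = M`, `Opp.card : |M| = |F_A|²`, `Opp.orbit : o F_A = o^A`, `Opp.orbit' : z F_B = z^B`,
  `Opp.of_cj` : the constructor for `B = A^x`, `o = x z`;
* `(3')` `pair_eq`, `pair` : the adjacent null pair: `[U₁, U₂] = D₁ = D₂ = U₁ ∩ U₂`, `|U_i| = |R|²`;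
* `(4)` `Opp.not_mem`, `Opp.fix` : `v ∈ F_A` not a point `⟹ o ∉ [v, B]`, `C_B(v) ≠ C_B(M)`;
* `(5)` `MinB B` : minimal best of value `|M|`;  `MinB.no_two`, `MinB.line` : the `G₂`-local structure.
-/

set_option autoImplicit false
set_option linter.unusedVariables false
set_option linter.dupNamespace false
set_option linter.unusedSectionVars false

namespace Cfsg.Agent.Omega.NOThreeL.Opp

open Subgroup Cfsg.Agent.ClassTwoFusion.Quad Cfsg.Agent.Omega.NOThree.NoOver Cfsg.Agent.Omega.ML.Dual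
open Cfsg.Agent.Omega.ML.CD (Strict card_eq_relIndex_mul)

variable {H : Type*} [Group H] {M : Type*} [Group M] [MulDistribMulAction H M]

/-! ### (1) -/

/-- `A` centralises `[o, A]` -/
def Fx (A : Subgroup H) (o : M) : Prop := ∀ a ∈ A, (a • o) * o⁻¹ ∈ cv M (A : Set H)

/-- `[o, A]` -/
def cm (A : Subgroup H) (o : M) : Subgroup M := closure {m | ∃ a ∈ A, (a • o) * o⁻¹ = m}

theorem Fx.mul (hc : ∀ v w : M, v * w = w * v) {A : Subgroup H} {o : M} (h : Fx A o) {a b : H} (ha : a ∈ A)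
    (hb : b ∈ A) : ((a * b) • o) * o⁻¹ = ((a • o) * o⁻¹) * ((b • o) * o⁻¹) := by
  have h1 : b • o = ((b • o) * o⁻¹) * o := by rw [inv_mul_cancel_right]
  have h2 : a • ((b • o) * o⁻¹) = (b • o) * o⁻¹ := h b hb a ha
  rw [hc ((a • o) * o⁻¹), mul_smul]
  conv_lhs => rw [h1]
  rw [smul_mul', h2, mul_assoc]

/-- `a ↦ [o, a]` -/
def Fx.hom (hc : ∀ v w : M, v * w = w * v) {A : Subgroup H} {o : M} (h : Fx A o) : A →* M where
  toFun := fun a => ((a : H) • o) * o⁻¹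
  map_one' := by rw [Subgroup.coe_one, one_smul, mul_inv_cancel]
  map_mul' := fun a b => h.mul hc a.2 b.2

theorem Fx.range (hc : ∀ v w : M, v * w = w * v) {A : Subgroup H} {o : M} (h : Fx A o) :
    (h.hom hc).range = cm A o := by
  apply le_antisymm
  · rintro _ ⟨a, rfl⟩
    exact subset_closure ⟨a, a.2, rfl⟩
  · rw [cm, closure_le]
    rintro _ ⟨a, ha, rfl⟩
    exact ⟨⟨a, ha⟩, rfl⟩

theorem Fx.mem_cm (hc : ∀ v w : M, v * w = w * v) {A : Subgroup H} {o : M} (h : Fx A o) {m : M} :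
    m ∈ cm A o ↔ ∃ a ∈ A, (a • o) * o⁻¹ = m := by
  rw [← h.range hc]
  constructor
  · rintro ⟨a, rfl⟩
    exact ⟨a, a.2, rfl⟩
  · rintro ⟨a, ha, rfl⟩
    exact ⟨⟨a, ha⟩, rfl⟩

theorem Fx.cm_le {A : Subgroup H} {o : M} (h : Fx A o) : cm A o ≤ cv M (A : Set H) := by
  rw [cm, closure_le]
  rintro _ ⟨a, ha, rfl⟩
  exact h a ha

/-- `|[o, A]| = |A : C_A(o)|` -/
theorem Fx.card_cm (hc : ∀ v w : M, v * w = w * v) {A : Subgroup H} {o : M} (h : Fx A o) :
    Nat.card (cm A o) = (A ⊓ MulAction.stabilizer H o).relIndex A := by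
  rw [← h.range hc, ← Subgroup.index_ker, Subgroup.relIndex]
  congr 1
  ext a
  rw [MonoidHom.mem_ker, mem_subgroupOf]
  constructor
  · intro h1
    exact ⟨a.2, MulAction.mem_stabilizer_iff.2 (mul_inv_eq_one.1 h1)⟩
  · intro h1
    exact mul_inv_eq_one.2 (MulAction.mem_stabilizer_iff.1 h1.2)

/-- the preimage of `C_{M/F}(D)` -/
def cvm (hc : ∀ v w : M, v * w = w * v) (D : Subgroup H) (F : Subgroup M) : Subgroup M where
  carrier := {u | ∀ d ∈ D, (d • u) * u⁻¹ ∈ F}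
  one_mem' := fun d _ => by rw [smul_one, mul_inv_cancel]; exact one_mem _
  mul_mem' := by
    intro u v hu hv d hd
    have h1 : (d • (u * v)) * (u * v)⁻¹ = ((d • u) * u⁻¹) * ((d • v) * v⁻¹) := by
      rw [smul_mul', mul_inv_rev]
      calc d • u * d • v * (v⁻¹ * u⁻¹) = d • u * ((d • v * v⁻¹) * u⁻¹) := by group
        _ = d • u * (u⁻¹ * (d • v * v⁻¹)) := by rw [hc (d • v * v⁻¹)]
        _ = _ := by group
    rw [h1]
    exact mul_mem (hu d hd) (hv d hd)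
  inv_mem' := by
    intro u hu d hd
    have h1 : (d • u⁻¹) * u⁻¹⁻¹ = ((d • u) * u⁻¹)⁻¹ := by
      rw [smul_inv', mul_inv_rev, inv_inv, hc]
    rw [h1]
    exact inv_mem (hu d hd)

theorem mem_cvm {hc : ∀ v w : M, v * w = w * v} {D : Subgroup H} {F : Subgroup M} {u : M} :
    u ∈ cvm hc D F ↔ ∀ d ∈ D, (d • u) * u⁻¹ ∈ F := Iff.rfl

theorem le_cvm {hc : ∀ v w : M, v * w = w * v} {D : Subgroup H} {F : Subgroup M} (hF : Iv D F) : F ≤ cvm hc D F :=
  fun u hu d hd => mul_mem (hF d hd u hu) (inv_mem hu)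

theorem cv_le_cvm {hc : ∀ v w : M, v * w = w * v} {D : Subgroup H} {F : Subgroup M} :
    cv M (D : Set H) ≤ cvm hc D F := by
  intro u hu d hd
  rw [hu d hd, mul_inv_cancel]
  exact one_mem _

theorem relIndex_of_disj {W F : Subgroup M} (h : W ⊓ F = ⊥) : F.relIndex W = Nat.card W := by
  rw [← inf_relIndex_right, inf_comm, h, relIndex_bot_left]

/-- **(1)** `|A : C_A(o)| ≤ |C_{M/F}(D)|` for every `D ≤ A` -/
theorem Fx.relIndex_le [Finite M] (hc : ∀ v w : M, v * w = w * v) {A D : Subgroup H} {o : M} (h : Fx A o)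
    {F : Subgroup M} (hd : cm A o ⊓ F = ⊥) (hD : D ≤ A) :
    (A ⊓ MulAction.stabilizer H o).relIndex A ≤ F.relIndex (cvm hc D F) := by
  rw [← h.card_cm hc, ← relIndex_of_disj hd]
  refine relIndex_le_of_le_right ?_ (relIndex_ne _ _)
  exact h.cm_le.trans ((cv_anti (SetLike.coe_subset_coe.2 hD)).trans cv_le_cvm)

/-- **(1)** `|A| ≤ |D| |C_{M/F}(D)|`, `D = C_A(o)` -/
theorem Fx.card_le [Finite H] [Finite M] (hc : ∀ v w : M, v * w = w * v) {A : Subgroup H} {o : M} (h : Fx A o)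
    {F : Subgroup M} (hd : cm A o ⊓ F = ⊥) :
    Nat.card A ≤ Nat.card (A ⊓ MulAction.stabilizer H o : Subgroup H) *
      F.relIndex (cvm hc (A ⊓ MulAction.stabilizer H o) F) := by
  rw [card_eq_relIndex_mul (inf_le_left : A ⊓ MulAction.stabilizer H o ≤ A), mul_comm]
  exact Nat.mul_le_mul_left _ (h.relIndex_le hc hd inf_le_left)

/-- **(1)** if `|M : F| < |A|` then `D = C_A(o)` over-offends on `M / F` -/
theorem Fx.over [Finite H] [Finite M] (hc : ∀ v w : M, v * w = w * v) {A : Subgroup H} {o : M} (h : Fx A o)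
    {F : Subgroup M} (hd : cm A o ⊓ F = ⊥) (hF : Iv (A ⊓ MulAction.stabilizer H o) F) (ho : F.index < Nat.card A) :
    (cvm hc (A ⊓ MulAction.stabilizer H o) F).index < Nat.card (A ⊓ MulAction.stabilizer H o : Subgroup H) := by
  have h1 := h.card_le hc hd
  set C := cvm hc (A ⊓ MulAction.stabilizer H o) F with hC
  have h2 : F.relIndex C * C.index = F.index := relIndex_mul_index (le_cvm hF)
  have h3 : 0 < F.relIndex C := Nat.pos_of_ne_zero (relIndex_ne _ _)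
  rw [← h2] at ho
  have h4 := lt_of_lt_of_le ho h1
  rw [mul_comm] at h4
  exact Nat.lt_of_mul_lt_mul_right h4

theorem Fx.ne_bot [Finite H] [Finite M] (hc : ∀ v w : M, v * w = w * v) {A : Subgroup H} {o : M} (h : Fx A o)
    {F : Subgroup M} (hd : cm A o ⊓ F = ⊥) (hF : Iv (A ⊓ MulAction.stabilizer H o) F) (ho : F.index < Nat.card A) :
    ∃ a ∈ A, a ≠ 1 ∧ a • o = o := by
  have h1 := h.over hc hd hF ho
  have h2 : A ⊓ MulAction.stabilizer H o ≠ ⊥ := by
    intro h3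
    rw [h3, card_bot] at h1
    have : (cvm hc (⊥ : Subgroup H) F).index ≠ 0 := index_ne_zero_of_finite
    omega
  obtain ⟨⟨a, ha⟩, hne⟩ := (Subgroup.ne_bot_iff_exists_ne_one).1 h2
  exact ⟨a, ha.1, fun h3 => hne (Subtype.ext h3), MulAction.mem_stabilizer_iff.1 ha.2⟩

/-- `(D normalises B)`: `C_M(B)` is `D`-invariant -/
theorem iv_cv {B D : Subgroup H} (h : D ≤ normalizer (B : Set H)) : Iv D (cv M (B : Set H)) := by
  intro d hd m hm b hb
  have h1 : d⁻¹ * b * d ∈ B := by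
    have h2 := (mem_normalizer_iff.1 (h (inv_mem hd)) b).1 hb
    rwa [inv_inv] at h2
  have h2 := hm _ h1
  rw [mul_smul, mul_smul, inv_smul_eq_iff] at h2
  exact h2

/-- **(1)**, relative form: `A` strict, `B` a conjugate (same order of `C_M`), `A ∩ B ≠ A`, `B` fixes `o`: either
`C_A(o) ≠ A ∩ B` or `[o, A]` meets `C_M(B)`. -/
theorem rel [Finite H] [Finite M] (hc : ∀ v w : M, v * w = w * v) {A B : Subgroup H} {o : M} (h : Fx A o)
    (hA : Strict (fo M) A) (hcard : Nat.card (cv M (B : Set H)) = Nat.card (cv M (A : Set H)))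
    (hne : ¬ A ≤ B) (hst : A ⊓ MulAction.stabilizer H o = A ⊓ B) : cm A o ⊓ cv M (B : Set H) ≠ ⊥ := by
  intro hd
  have h1 := h.card_cm hc
  rw [hst] at h1
  have h2 : Nat.card (cm A o) ≤ (cv M (B : Set H)).relIndex (cv M ((A ⊓ B : Subgroup H) : Set H)) := by
    rw [← relIndex_of_disj hd]
    refine relIndex_le_of_le_right ?_ (relIndex_ne _ _)
    exact h.cm_le.trans (cv_anti (SetLike.coe_subset_coe.2 inf_le_left))
  have h3 := hA (A ⊓ B) (lt_of_le_of_ne inf_le_left fun h2 => hne (inf_eq_left.1 h2))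
  unfold fo at h3
  have h4 := card_eq_relIndex_mul (inf_le_left : A ⊓ B ≤ A)
  have h5 := card_eq_relIndex_mul (cv_anti (V := M) (SetLike.coe_subset_coe.2 (inf_le_right : A ⊓ B ≤ B)))
  rw [h1] at h2
  rw [h4, h5, hcard] at h3
  have h6 : Nat.card (A ⊓ B : Subgroup H) * ((cv M (B : Set H)).relIndex (cv M ((A ⊓ B : Subgroup H) : Set H)) *
      Nat.card (cv M (A : Set H))) = (cv M (B : Set H)).relIndex (cv M ((A ⊓ B : Subgroup H) : Set H)) *
      (Nat.card (A ⊓ B : Subgroup H) * Nat.card (cv M (A : Set H))) := by ring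
  rw [h6, mul_assoc] at h3
  exact absurd (Nat.mul_le_mul_right (Nat.card (A ⊓ B : Subgroup H) * Nat.card (cv M (A : Set H))) h2) (not_le.2 h3)

/-- **(2)** = `dc` of `ML/Dual.lean` with `W = M` -/
theorem dual [Finite H] [Finite M] {A : Subgroup H} {f : M → ℤˣ} (hf : ∀ v w, f (v * w) = f v * f w) :
    (st A (⊤ : Subgroup M) f).relIndex A ≤ (cv M (A : Set H)).index := by
  have h1 := dc (X := A) (W := (⊤ : Subgroup M)) (fun _ _ _ _ => mem_top _) (u := f) (fun v _ w _ => hf v w)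
  rwa [relIndex_top_right] at h1

/-! ### (3) the exact case -/

variable (M) in
/-- `A` is quadratic and exact on `M`: `|A : C_A(M)| = |M : C_M(A)|` -/
structure Ex (A : Subgroup H) : Prop where
  quad : ∀ o : M, Fx A o
  idx : (cw A (⊤ : Subgroup M)).relIndex A = (cv M (A : Set H)).index

/-- opposite points `z`, `o` with the exact groups `A = A_z`, `B = A_o` -/
structure Opp (A B : Subgroup H) (z o : M) : Prop where
  exA : Ex M A
  exB : Ex M B
  disj : cv M (A : Set H) ⊓ cv M (B : Set H) = ⊥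
  card : Nat.card (cv M (A : Set H)) = Nat.card (cv M (B : Set H))
  hz : z ∈ cv M (A : Set H)
  ho : o ∈ cv M (B : Set H)
  stab : ∀ a ∈ A, a • o = o → ∀ m : M, a • m = m
  norm : ∀ b ∈ B, b • z = z → ∀ m ∈ cv M (A : Set H), b • m ∈ cv M (A : Set H)

namespace Opp

theorem stab_eq {A : Subgroup H} {o : M} (h : ∀ a ∈ A, a • o = o → ∀ m : M, a • m = m) :
    A ⊓ MulAction.stabilizer H o = cw A (⊤ : Subgroup M) := by
  ext a
  constructor
  · rintro ⟨h1, h2⟩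
    exact ⟨h1, fun w _ => h a h1 (MulAction.mem_stabilizer_iff.1 h2) w⟩
  · rintro ⟨h1, h2⟩
    exact ⟨h1, MulAction.mem_stabilizer_iff.2 (h2 o (mem_top _))⟩

variable [Finite M] {A B : Subgroup H} {z o : M}

/-- first half -/
theorem aux (hc : ∀ v w : M, v * w = w * v) (hA : Ex M A)
    (hd : cv M (A : Set H) ⊓ cv M (B : Set H) = ⊥)
    (hcard : Nat.card (cv M (A : Set H)) = Nat.card (cv M (B : Set H)))
    (hst : ∀ a ∈ A, a • o = o → ∀ m : M, a • m = m) :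
    cm A o = cv M (A : Set H) ∧ (cv M (A : Set H)).index = Nat.card (cv M (A : Set H)) := by
  have h1 := (hA.quad o).card_cm hc
  rw [stab_eq hst, hA.idx] at h1
  have h2 : Nat.card (cv M (A : Set H)) ≤ (cv M (B : Set H)).index := by
    rw [← relIndex_of_disj hd, ← relIndex_top_right]
    exact relIndex_le_of_le_right le_top (relIndex_ne _ _)
  have h3 : (cv M (B : Set H)).index = (cv M (A : Set H)).index := by
    have e1 := card_mul_index (cv M (A : Set H))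
    have e2 := card_mul_index (cv M (B : Set H))
    rw [← hcard, ← e1] at e2
    exact Nat.eq_of_mul_eq_mul_left Nat.card_pos e2
  rw [h3, ← h1] at h2
  have h4 := eq_of_le_of_card_ge (hA.quad o).cm_le h2
  refine ⟨h4, ?_⟩
  rw [← h1, h4]

variable (hc : ∀ v w : M, v * w = w * v) (h : Opp A B z o)
include hc h

/-- `F_A = [o, A]` -/
theorem cm_eq : cm A o = cv M (A : Set H) := (aux hc h.exA h.disj h.card h.stab).1

theorem index : (cv M (A : Set H)).index = Nat.card (cv M (A : Set H)) := (aux hc h.exA h.disj h.card h.stab).2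

/-- `|M| = |F_A|²` -/
theorem card_eq : Nat.card M = Nat.card (cv M (A : Set H)) ^ 2 := by
  rw [← card_mul_index (cv M (A : Set H)), index hc h, sq]

/-- `M = F_A F_B` -/
theorem sup_eq : cv M (A : Set H) ⊔ cv M (B : Set H) = ⊤ := by
  refine eq_of_le_of_card_ge le_top ?_
  have h1 := card_sup_mul (cv M (A : Set H)) (cv M (B : Set H)) (by
    intro x _
    rw [mem_normalizer_iff]
    intro y
    rw [hc x y, mul_inv_cancel_right])
  rw [h.disj, card_bot, mul_one, ← h.card] at h1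
  rw [h1, Nat.card_congr Subgroup.topEquiv.toEquiv, card_eq hc h, sq]

/-- `m = f f'` -/
theorem exists_mul (m : M) : ∃ f ∈ cv M (A : Set H), ∃ f' ∈ cv M (B : Set H), f * f' = m := by
  have h1 : m ∈ cv M (A : Set H) ⊔ cv M (B : Set H) := by rw [sup_eq hc h]; exact mem_top _
  let _ : CommGroup M := { ‹Group M› with mul_comm := hc }
  exact Subgroup.mem_sup.1 h1

/-- `o F_A = o^A` -/
theorem orbit {v : M} : v * o⁻¹ ∈ cv M (A : Set H) ↔ ∃ a ∈ A, v = a • o := by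
  rw [← cm_eq hc h, (h.exA.quad o).mem_cm hc]
  constructor
  · rintro ⟨a, ha, h1⟩
    exact ⟨a, ha, (mul_right_cancel h1).symm⟩
  · rintro ⟨a, ha, rfl⟩
    exact ⟨a, ha, rfl⟩

/-- `C_B(z) = C_B(M)` -/
theorem stab' : ∀ b ∈ B, b • z = z → ∀ m : M, b • m = m := by
  intro b hb hbz m
  obtain ⟨f, hf, f', hf', rfl⟩ := exists_mul hc h m
  rw [smul_mul', hf' b hb]
  have h1 : (b • f) * f⁻¹ ∈ cv M (B : Set H) := h.exB.quad f b hb
  have h2 : (b • f) * f⁻¹ ∈ cv M (A : Set H) := mul_mem (h.norm b hb hbz f hf) (inv_mem hf)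
  have h3 : (b • f) * f⁻¹ ∈ cv M (A : Set H) ⊓ cv M (B : Set H) := ⟨h2, h1⟩
  rw [h.disj, mem_bot] at h3
  rw [mul_inv_eq_one.1 h3]

/-- the symmetric statement -/
theorem symm : Opp B A o z where
  exA := h.exB
  exB := h.exA
  disj := by rw [inf_comm]; exact h.disj
  card := h.card.symm
  hz := h.ho
  ho := h.hz
  stab := stab' hc h
  norm := fun a ha hao m hm => by rw [h.stab a ha hao m]; exact hm

/-- `z F_B = z^B` -/
theorem orbit' {v : M} : v * z⁻¹ ∈ cv M (B : Set H) ↔ ∃ b ∈ B, v = b • z := orbit hc (symm hc h)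

/-! ### (4) -/

/-- **(4)** a point cannot be in `[v, B]` for a nonpoint `v ∈ F_A` -/
theorem not_mem {Pt : M → Prop} (hPt : ∀ (g : H) (m : M), Pt m → Pt (g • m)) (ho : Pt o) {v : M}
    (hv : v ∈ cv M (A : Set H)) (hn : ¬ Pt v) : o ∉ cm B v := by
  intro h1
  obtain ⟨b, hb, h2⟩ := ((h.exB.quad v).mem_cm hc).1 h1
  obtain ⟨a, ha, h3⟩ := (orbit hc h (v := v * o)).1 (by rwa [mul_inv_cancel_right])
  have h4 : b • v = v * o := by rw [hc v o, ← h2, inv_mul_cancel_right]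
  apply hn
  have h5 : Pt (b • v) := by rw [h4, h3]; exact hPt a o ho
  have h6 := hPt b⁻¹ _ h5
  rwa [inv_smul_smul] at h6

/-- **(4)** `C_B(v) ≠ C_B(M)` -/
theorem fix {Pt : M → Prop} (hPt : ∀ (g : H) (m : M), Pt m → Pt (g • m)) (ho : Pt o) {v : M}
    (hv : v ∈ cv M (A : Set H)) (hn : ¬ Pt v) : ∃ b ∈ B, b • v = v ∧ ∃ m : M, b • m ≠ m := by
  by_contra hcon
  push Not at hcon
  apply not_mem hc h hPt ho hv hn
  have h1 := (h.exB.quad v).card_cm hc
  rw [stab_eq hcon, h.exB.idx, index hc (symm hc h)] at h1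
  rw [eq_of_le_of_card_ge (h.exB.quad v).cm_le h1.ge]
  exact h.ho

end Opp

/-! ### The constructor for conjugates -/

theorem mem_cv_cj {A : Subgroup H} {x : H} {m : M} :
    m ∈ cv M (cj x A : Set H) ↔ x⁻¹ • m ∈ cv M (A : Set H) := by
  constructor
  · intro h a ha
    have h1 := h (x * a * x⁻¹) ⟨a, ha, rfl⟩
    rw [mul_smul, mul_smul] at h1
    rw [eq_inv_smul_iff]
    exact h1
  · rintro h _ ⟨a, ha, rfl⟩
    have h1 := h a ha
    rw [eq_inv_smul_iff] at h1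
    change (x * a * x⁻¹) • m = m
    rw [mul_smul, mul_smul]
    exact h1

theorem card_cv_cj (A : Subgroup H) (x : H) :
    Nat.card (cv M (cj x A : Set H)) = Nat.card (cv M (A : Set H)) := by
  have h3 : cv M (cj x A : Set H) = _ := QData.cv_map_conj (V := M) A x
  rw [h3]
  exact (Nat.card_congr ((cv M (A : Set H)).equivMapOfInjective _
    (MulDistribMulAction.toMulEquiv M x : M ≃* M).injective).toEquiv).symm

theorem cw_cj (A : Subgroup H) (x : H) : cw (cj x A) (⊤ : Subgroup M) = cj x (cw A (⊤ : Subgroup M)) := by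
  ext b
  constructor
  · rintro ⟨⟨a, ha, rfl⟩, h⟩
    refine ⟨a, ⟨ha, fun w _ => ?_⟩, rfl⟩
    have h1 : (x * a * x⁻¹) • (x • w) = x • w := h (x • w) (mem_top _)
    rw [mul_smul, mul_smul, inv_smul_smul, smul_left_cancel_iff] at h1
    exact h1
  · rintro ⟨a, ⟨ha, h⟩, rfl⟩
    refine ⟨⟨a, ha, rfl⟩, fun w _ => ?_⟩
    change (x * a * x⁻¹) • w = w
    rw [mul_smul, mul_smul, h _ (mem_top _), smul_inv_smul]

theorem Ex.cj [Finite M] {A : Subgroup H} (h : Ex M A) (x : H) :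
    Ex M (Cfsg.Agent.Omega.NOThree.NoOver.cj x A) where
  quad := by
    rintro o _ ⟨a, ha, rfl⟩
    rw [mem_cv_cj]
    change x⁻¹ • (((x * a * x⁻¹) • o) * o⁻¹) ∈ _
    rw [smul_mul', mul_smul, mul_smul, inv_smul_smul, smul_inv']
    exact h.quad _ a ha
  idx := by
    rw [cw_cj]
    have h1 : (Cfsg.Agent.Omega.NOThree.NoOver.cj x (cw A (⊤ : Subgroup M))).relIndex
        (Cfsg.Agent.Omega.NOThree.NoOver.cj x A) = (cw A (⊤ : Subgroup M)).relIndex A :=
      relIndex_map_map_of_injective _ _ (MulAut.conj x).injective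
    rw [h1, h.idx]
    have e1 := card_mul_index (cv M (A : Set H))
    have e2 := card_mul_index (cv M (Cfsg.Agent.Omega.NOThree.NoOver.cj x A : Set H))
    rw [card_cv_cj, ← e1] at e2
    exact (Nat.eq_of_mul_eq_mul_left Nat.card_pos e2).symm

/-- **(3)** the opposite points `z`, `x z` -/
theorem Opp.of_cj [Finite M] {A : Subgroup H} {z : M} {x : H} (hA : Ex M A)
    (hd : cv M (A : Set H) ⊓ cv M (cj x A : Set H) = ⊥) (hz : z ∈ cv M (A : Set H))
    (hN : MulAction.stabilizer H z ≤ normalizer (A : Set H))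
    (hst : ∀ a ∈ A, a • x • z = x • z → ∀ m : M, a • m = m) : Opp A (cj x A) z (x • z) where
  exA := hA
  exB := hA.cj x
  disj := hd
  card := (card_cv_cj A x).symm
  hz := hz
  ho := by rw [mem_cv_cj, inv_smul_smul]; exact hz
  stab := hst
  norm := fun b _ hbz m hm => iv_cv hN b (MulAction.mem_stabilizer_iff.2 hbz) m hm

/-! ### (3') the adjacent null pair -/

section Pair

variable {G : Type*} [Group G] [Finite G] {U V F : Subgroup G}

/-- one side -/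
theorem half (hU : ∀ a ∈ U, ∀ b ∈ U, a * b = b * a) (hV : ∀ a ∈ V, ∀ b ∈ V, a * b = b * a)
    (n1 : V ≤ normalizer (U : Set G)) (n2 : U ≤ normalizer (V : Set G)) (hF : F ≤ U)
    (hcard : Nat.card F = Nat.card (U ⊓ centralizer (V : Set G) : Subgroup G))
    (hd : F ⊓ (U ⊓ centralizer (V : Set G)) = ⊥)
    (hidx : (V ⊓ centralizer (U : Set G)).relIndex V = (U ⊓ centralizer (V : Set G)).relIndex U) {o : G}
    (ho : o ∈ U) (hst : ∀ v ∈ V, v * o = o * v → v ∈ centralizer (U : Set G)) :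
    (∀ d ∈ U ⊓ centralizer (V : Set G), ∃ v ∈ V, v * o * v⁻¹ * o⁻¹ = d) ∧
      ⁅U, V⁆ = U ⊓ centralizer (V : Set G) ∧ U ⊓ centralizer (V : Set G) = U ⊓ V ∧
      Nat.card U = Nat.card (U ⊓ V : Subgroup G) ^ 2 := by
  have hmem : ∀ v ∈ V, v * o * v⁻¹ * o⁻¹ ∈ U ⊓ V := by
    intro v hv
    refine ⟨U.mul_mem ((mem_normalizer_iff.1 (n1 hv) o).1 ho) (inv_mem ho), ?_⟩
    have h1 := (mem_normalizer_iff.1 (n2 ho) v⁻¹).1 (inv_mem hv)
    have h2 : v * o * v⁻¹ * o⁻¹ = v * (o * v⁻¹ * o⁻¹) := by group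
    rw [h2]
    exact mul_mem hv h1
  let f : V →* G :=
    { toFun := fun v => (v : G) * o * (v : G)⁻¹ * o⁻¹
      map_one' := by rw [Subgroup.coe_one]; group
      map_mul' := by
        intro v w
        have h1 := hmem w w.2
        have h2 := hmem v v.2
        have h3 := hV v v.2 _ h1.2
        have h4 := hU _ h1.1 _ h2.1
        rw [Subgroup.coe_mul]
        calc (v : G) * w * o * ((v : G) * w)⁻¹ * o⁻¹
            = ((v : G) * ((w : G) * o * (w : G)⁻¹ * o⁻¹)) * (v : G)⁻¹ * ((v : G) * o * (v : G)⁻¹ * o⁻¹) := by group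
          _ = ((w : G) * o * (w : G)⁻¹ * o⁻¹) * ((v : G) * o * (v : G)⁻¹ * o⁻¹) := by rw [h3]; group
          _ = _ := h4 }
  have hker : f.ker = (V ⊓ centralizer (U : Set G)).subgroupOf V := by
    ext v
    rw [MonoidHom.mem_ker, mem_subgroupOf]
    change (v : G) * o * (v : G)⁻¹ * o⁻¹ = 1 ↔ _
    rw [mul_inv_eq_one, mul_inv_eq_iff_eq_mul]
    exact ⟨fun h => ⟨v.2, hst v v.2 h⟩, fun h => (mem_centralizer_iff.1 h.2 o ho).symm⟩
  have hle : f.range ≤ U ⊓ V := by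
    rintro _ ⟨v, rfl⟩
    exact hmem v v.2
  have hUV : U ⊓ V ≤ U ⊓ centralizer (V : Set G) :=
    fun x hx => ⟨hx.1, mem_centralizer_iff.2 fun v hv => hV v hv x hx.2⟩
  have h1 : Nat.card f.range = (U ⊓ centralizer (V : Set G)).relIndex U := by
    rw [← Subgroup.index_ker, hker, ← hidx]
    rfl
  have h2 : Nat.card (U ⊓ centralizer (V : Set G) : Subgroup G) ≤ Nat.card f.range := by
    rw [h1, ← hcard, ← relIndex_of_disj hd]
    exact relIndex_le_of_le_right hF (relIndex_ne _ _)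
  have h3 : f.range = U ⊓ centralizer (V : Set G) := eq_of_le_of_card_ge (hle.trans hUV) h2
  have h4 : U ⊓ centralizer (V : Set G) = U ⊓ V := le_antisymm (h3 ▸ hle) hUV
  refine ⟨?_, ?_, h4, ?_⟩
  · intro d hd'
    rw [← h3] at hd'
    obtain ⟨v, hv⟩ := hd'
    exact ⟨v, v.2, hv⟩
  · apply le_antisymm
    · refine le_trans ?_ hUV
      rw [Subgroup.commutator_le]
      intro a ha b hb
      rw [commutatorElement_def]
      constructor
      · have h5 := (mem_normalizer_iff.1 (n1 hb) a⁻¹).1 (inv_mem ha)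
        have h6 : a * b * a⁻¹ * b⁻¹ = a * (b * a⁻¹ * b⁻¹) := by group
        rw [h6]
        exact mul_mem ha h5
      · exact V.mul_mem ((mem_normalizer_iff.1 (n2 ha) b).1 hb) (inv_mem hb)
    · rw [← h3]
      rintro _ ⟨v, rfl⟩
      change (v : G) * o * (v : G)⁻¹ * o⁻¹ ∈ _
      rw [commutator_comm]
      exact Subgroup.commutator_mem_commutator v.2 ho
  · rw [card_eq_relIndex_mul (inf_le_left : U ⊓ centralizer (V : Set G) ≤ U), ← h1, h3, h4, sq]

/-- **(3')** the adjacent null pair with opposite points on both sides -/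
theorem pair {U₁ U₂ F₁ F₂ : Subgroup G} {o₁ o₂ : G} (hU₁ : ∀ a ∈ U₁, ∀ b ∈ U₁, a * b = b * a)
    (hU₂ : ∀ a ∈ U₂, ∀ b ∈ U₂, a * b = b * a) (n1 : U₂ ≤ normalizer (U₁ : Set G)) (n2 : U₁ ≤ normalizer (U₂ : Set G))
    (hidx : (U₂ ⊓ centralizer (U₁ : Set G)).relIndex U₂ = (U₁ ⊓ centralizer (U₂ : Set G)).relIndex U₁)
    (hF₁ : F₁ ≤ U₁) (hc₁ : Nat.card F₁ = Nat.card (U₁ ⊓ centralizer (U₂ : Set G) : Subgroup G))
    (hd₁ : F₁ ⊓ (U₁ ⊓ centralizer (U₂ : Set G)) = ⊥) (ho₁ : o₁ ∈ U₁)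
    (hs₁ : ∀ v ∈ U₂, v * o₁ = o₁ * v → v ∈ centralizer (U₁ : Set G))
    (hF₂ : F₂ ≤ U₂) (hc₂ : Nat.card F₂ = Nat.card (U₂ ⊓ centralizer (U₁ : Set G) : Subgroup G))
    (hd₂ : F₂ ⊓ (U₂ ⊓ centralizer (U₁ : Set G)) = ⊥) (ho₂ : o₂ ∈ U₂)
    (hs₂ : ∀ v ∈ U₁, v * o₂ = o₂ * v → v ∈ centralizer (U₂ : Set G)) :
    ⁅U₁, U₂⁆ = U₁ ⊓ U₂ ∧ U₁ ⊓ centralizer (U₂ : Set G) = U₁ ⊓ U₂ ∧ U₂ ⊓ centralizer (U₁ : Set G) = U₁ ⊓ U₂ ∧
      Nat.card U₁ = Nat.card (U₁ ⊓ U₂ : Subgroup G) ^ 2 ∧ Nat.card U₂ = Nat.card (U₁ ⊓ U₂ : Subgroup G) ^ 2 := by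
  obtain ⟨-, a2, a3, a4⟩ := half hU₁ hU₂ n1 n2 hF₁ hc₁ hd₁ hidx ho₁ hs₁
  obtain ⟨-, -, b3, b4⟩ := half hU₂ hU₁ n2 n1 hF₂ hc₂ hd₂ hidx.symm ho₂ hs₂
  rw [inf_comm (a := U₂) (b := U₁)] at b3 b4
  exact ⟨a2.trans a3, a3, b3, a4, b4⟩

end Pair

/-! ### (5) -/

variable (M) in
/-- `B` is a minimal nontrivial subgroup of value `|M|`, `|B| > 2` -/
structure MinB (B : Subgroup H) : Prop where
  val : fo M B = Nat.card M
  min : ∀ B₁ < B, B₁ ≠ ⊥ → fo M B₁ < Nat.card M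
  card : 2 < Nat.card B

namespace MinB

variable [Finite H] [Finite M] {B : Subgroup H} (h : MinB M B)
include h

/-- no orbit of length two -/
theorem no_two (w : M) : (B ⊓ MulAction.stabilizer H w).relIndex B ≠ 2 := by
  intro h2
  set B₁ := B ⊓ MulAction.stabilizer H w with hB₁
  have h3 : Nat.card B = B₁.relIndex B * Nat.card B₁ := card_eq_relIndex_mul inf_le_left
  rw [h2] at h3
  have h4 : B₁ ≠ ⊥ := by
    intro h5
    rw [h5, card_bot] at h3
    have := h.card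
    omega
  have h5 : B₁ < B := by
    refine lt_of_le_of_ne inf_le_left fun h6 => ?_
    rw [h6, relIndex_self] at h2
    omega
  have h6 := h.min B₁ h5 h4
  have h7 : cv M (B : Set H) < cv M (B₁ : Set H) := by
    refine lt_of_le_of_ne (cv_anti (SetLike.coe_subset_coe.2 inf_le_left)) fun h8 => ?_
    have h9 : w ∈ cv M (B₁ : Set H) := fun b hb => MulAction.mem_stabilizer_iff.1 (Subgroup.mem_inf.1 hb).2
    rw [← h8] at h9
    apply h5.ne
    exact inf_eq_left.2 fun b hb => MulAction.mem_stabilizer_iff.2 (h9 b hb)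
  have h8 := card_eq_relIndex_mul h7.le
  have h9 : 2 ≤ (cv M (B : Set H)).relIndex (cv M (B₁ : Set H)) := by
    have h10 := relIndex_ne (cv M (B : Set H)) (cv M (B₁ : Set H))
    have h11 : (cv M (B : Set H)).relIndex (cv M (B₁ : Set H)) ≠ 1 := fun h12 =>
      absurd (relIndex_eq_one.1 h12) (not_le_of_gt h7)
    omega
  have h10 := h.val
  unfold fo at h10 h6
  rw [h3] at h10
  rw [h8, ← h10] at h6
  have h11 : 2 * Nat.card B₁ * Nat.card (cv M (B : Set H)) ≤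
      Nat.card B₁ * ((cv M (B : Set H)).relIndex (cv M (B₁ : Set H)) * Nat.card (cv M (B : Set H))) := by
    calc 2 * Nat.card B₁ * Nat.card (cv M (B : Set H)) = Nat.card B₁ * (2 * Nat.card (cv M (B : Set H))) := by ring
      _ ≤ _ := Nat.mul_le_mul_left _ (Nat.mul_le_mul_right _ h9)
  exact absurd h6 (not_lt.2 h11)

/-- `[w, B] ≤ L`, `L` of order two, centralised by `B`: `B` fixes `w` -/
theorem fix_of_two (hc : ∀ v w : M, v * w = w * v) {Y : Subgroup M} (hY : Nat.card Y = 2)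
    (hYB : Y ≤ cv M (B : Set H)) {w : M} (hw : ∀ b ∈ B, (b • w) * w⁻¹ ∈ Y) : ∀ b ∈ B, b • w = w := by
  have hfx : Fx B w := fun b hb => hYB (hw b hb)
  have h1 := hfx.card_cm hc
  have h2 : cm B w ≤ Y := by
    rw [cm, closure_le]
    rintro _ ⟨b, hb, rfl⟩
    exact hw b hb
  have h3 := card_dvd_of_le h2
  rw [hY, Nat.dvd_prime Nat.prime_two, h1] at h3
  rcases h3 with h3 | h3
  · intro b hb
    exact MulAction.mem_stabilizer_iff.1 (Subgroup.mem_inf.1 (relIndex_eq_one.1 h3 hb)).2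
  · exact absurd h3 (h.no_two w)

/-- `[w, B] ≤ L`, `L` of order four, centralised by `B`: `B` fixes `w`, or `[w, B] = L` and `|B : C_B(w)| = 4` -/
theorem of_four (hc : ∀ v w : M, v * w = w * v) {L : Subgroup M} (hL : Nat.card L = 4)
    (hLB : L ≤ cv M (B : Set H)) {w : M} (hw : ∀ b ∈ B, (b • w) * w⁻¹ ∈ L) (hne : ∃ b ∈ B, b • w ≠ w) :
    cm B w = L ∧ (B ⊓ MulAction.stabilizer H w).relIndex B = 4 := by
  have hfx : Fx B w := fun b hb => hLB (hw b hb)
  have h1 := hfx.card_cm hc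
  have h2 : cm B w ≤ L := by
    rw [cm, closure_le]
    rintro _ ⟨b, hb, rfl⟩
    exact hw b hb
  have h3 := card_dvd_of_le h2
  have h4 : Nat.card (cm B w) = 4 := by
    rw [hL] at h3
    have h5 : Nat.card (cm B w) ≤ 4 := Nat.le_of_dvd (by omega) h3
    have h6 : Nat.card (cm B w) ≠ 1 := by
      rw [h1]
      intro h6
      obtain ⟨b, hb, hb'⟩ := hne
      exact hb' (MulAction.mem_stabilizer_iff.1 (Subgroup.mem_inf.1 (relIndex_eq_one.1 h6 hb)).2)
    have h7 : Nat.card (cm B w) ≠ 2 := by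
      rw [h1]
      exact h.no_two w
    interval_cases h8 : Nat.card (cm B w) <;> omega
  refine ⟨eq_of_le_of_card_ge h2 (by rw [h4, hL]), by rw [← h1, h4]⟩

/-- **(5)** the `G₂`-local structure: `W' ≤ W` of index two, `[W', B] ≤ Y` (order two), `[W, B] ≤ L` (order four), `Y, L`
centralised by `B`, `[W, B] ≠ 1`: then `C_W(B) = W'`, `|B : C_B(W)| = 4` and `[w, B] = L` for `w ∈ W - W'`. -/
theorem line (hc : ∀ v w : M, v * w = w * v) {Y L W W' : Subgroup M} (hY : Nat.card Y = 2) (hL : Nat.card L = 4)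
    (hYB : Y ≤ cv M (B : Set H)) (hLB : L ≤ cv M (B : Set H)) (hWW : W' ≤ W) (hidx : W'.relIndex W = 2)
    (h1 : ∀ w ∈ W', ∀ b ∈ B, (b • w) * w⁻¹ ∈ Y) (h2 : ∀ w ∈ W, ∀ b ∈ B, (b • w) * w⁻¹ ∈ L)
    (hne : ∃ w ∈ W, ∃ b ∈ B, b • w ≠ w) :
    cv M (B : Set H) ⊓ W = W' ∧ (cw B W).relIndex B = 4 ∧ ∀ w ∈ W, w ∉ W' → cm B w = L := by
  have k1 : W' ≤ cv M (B : Set H) := fun w hw b hb => h.fix_of_two hc hY hYB (h1 w hw) b hb
  have hmul := fun x y : W => mul_mem_iff_of_index_two (H := W'.subgroupOf W) hidx (a := x) (b := y)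
  have k2 : ∀ v ∈ W, ∀ w ∈ W, (v * w ∈ W' ↔ (v ∈ W' ↔ w ∈ W')) := fun v hv w hw => hmul ⟨v, hv⟩ ⟨w, hw⟩
  obtain ⟨w₀, hw₀, b₀, hb₀, hne₀⟩ := hne
  have hw₀' : w₀ ∉ W' := fun h3 => hne₀ (k1 h3 b₀ hb₀)
  -- every element of `W - W'` is in `W' w₀`
  have k3 : ∀ w ∈ W, w ∉ W' → w * w₀⁻¹ ∈ W' := by
    intro w hw hw'
    rw [k2 w hw _ (inv_mem hw₀), inv_mem_iff]
    tauto
  have k4 : ∀ w ∈ W, w ∉ W' → ∀ b : H, b ∈ B → (b • w = w ↔ b • w₀ = w₀) := by
    intro w hw hw' b hb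
    have h3 : b • (w * w₀⁻¹) = w * w₀⁻¹ := k1 (k3 w hw hw') b hb
    rw [smul_mul', smul_inv'] at h3
    constructor
    · intro h4
      rw [h4] at h3
      exact inv_injective (mul_left_cancel h3)
    · intro h4
      rw [h4] at h3
      exact mul_right_cancel h3
  refine ⟨?_, ?_, ?_⟩
  · apply le_antisymm
    · rintro w ⟨hw, hw'⟩
      by_contra h3
      exact hne₀ ((k4 w hw' h3 b₀ hb₀).1 (hw b₀ hb₀))
    · exact fun w hw => ⟨k1 hw, hWW hw⟩
  · have h3 : cw B W = B ⊓ MulAction.stabilizer H w₀ := by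
      ext b
      constructor
      · rintro ⟨hb, hb'⟩
        exact ⟨hb, MulAction.mem_stabilizer_iff.2 (hb' w₀ hw₀)⟩
      · rintro ⟨hb, hb'⟩
        refine ⟨hb, fun w hw => ?_⟩
        by_cases h4 : w ∈ W'
        · exact k1 h4 b hb
        · exact (k4 w hw h4 b hb).2 (MulAction.mem_stabilizer_iff.1 hb')
    rw [h3]
    exact (h.of_four hc hL hLB (h2 w₀ hw₀) ⟨b₀, hb₀, hne₀⟩).2
  · intro w hw hw'
    refine (h.of_four hc hL hLB (h2 w hw) ⟨b₀, hb₀, fun h3 => hne₀ ((k4 w hw hw' b₀ hb₀).1 h3)⟩).1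

end MinB

end Cfsg.Agent.Omega.NOThreeL.Opp
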