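import Cfsg.Agent.Omega.NOThreeL.ThmX

/-!
# NO-3L, adjacent pairs: LEMMA KL (helper371)

A subgroup is *pure* for `F` if `C(u) ≤ N(F)` for all its elements `u ≠ 1`.

* `card_le` : (KL1), `K` pure, `K ≤ E ⊓ F`, `w ∈ F`, `w ∉ O₂(H)`: `|K| ≤ |[E,w]|`;
* `le_o2` : (KL2), abstract: `K'` with `|K'| ≤ |K|` normalised by `E` is in `O₂(H)`;
* `fh_le_o2`, `fh_comm` : the instance `F = F_{H₁}`, `E = F_{H₂}`;
* `u_comm` : the instance `F = F_{H₁}`, `E = U_{H₂}` (when `K ≤ U_{H₂}`).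
-/

set_option autoImplicit false

namespace Cfsg.Agent.Omega.NOThreeL.Pure

open Subgroup Cfsg Cfsg.Agent.ZN Cfsg.Agent.Omega.MinPar Cfsg.Agent.Omega.Frame Cfsg.Agent.Omega.FrameNOFF
open Cfsg.Agent.Omega.Node.NO3L Cfsg.Agent.Omega.NOThreeL.Basic
open Cfsg.Agent.MinSimple.VModule (zl_le le_normalizer_zl zc_le_zl zc_le zl_le_zc o2_isPGroup le_o2 o2_le
  le_normalizer_o2 mem_zc)
open scoped Pointwise commutatorElement

universe u

variable {G : Type u} [Group G]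

/-- All elements `≠ 1` of `K` have their centraliser in `N(F)`. -/
def IsPure (F K : Subgroup G) : Prop :=
  ∀ u ∈ K, u ≠ 1 → centralizer ({u} : Set G) ≤ normalizer (F : Set G)

theorem IsPure.mono {F K L : Subgroup G} (h : IsPure F K) (hL : L ≤ K) : IsPure F L :=
  fun u hu => h u (hL hu)

/-- **(KL1)** -/
theorem card_le [Finite G] {H F E K : Subgroup G} {w : G} (hF : F ≤ centralizer (F : Set G)) (hw : w ∈ F)
    (hw2 : w * w = 1) (hwH : w ∈ H) (hwO : w ∉ o2 H) (hE : E ≤ centralizer (E : Set G))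
    (hH : H ≤ normalizer (E : Set G)) (hKE : K ≤ E) (hKF : K ≤ F) (hK : IsPure F K) :
    Nat.card K ≤ Nat.card ↥⁅E, zpowers w⁆ :=
  ThmX.thmX hF hw hw2 hwH hwO hE hH hKE hKF hK

/-- **(KL2)** -/
theorem le_o2' [Finite G] {H F E K K' : Subgroup G} (hF : F ≤ centralizer (F : Set G))
    (hE : E ≤ centralizer (E : Set G)) (hH : H ≤ normalizer (E : Set G)) (hEO : E ≤ o2 H) (hKE : K ≤ E)
    (hKF : K ≤ F) (hK : IsPure F K) (hcard : Nat.card K' ≤ Nat.card K) (hF' : K' ≤ F) (hH' : K' ≤ H)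
    (hsq : ∀ w ∈ K', w * w = 1) (hN : E ≤ normalizer (K' : Set G)) : K' ≤ o2 H := by
  intro w hw
  by_contra hwO
  have h1 := card_le hF (hF' hw) (hsq w hw) (hH' hw) hwO hE hH hKE hKF hK
  have h2 : ⁅E, zpowers w⁆ ≤ K' ⊓ E := by
    rw [commutator_le]
    intro e he x hx
    have hxK : x ∈ K' := zpowers_le.2 hw hx
    refine ⟨?_, ?_⟩
    · rw [commutatorElement_def]
      exact K'.mul_mem ((mem_normalizer_iff.1 (hN he) x).1 hxK) (K'.inv_mem hxK)
    · have h3 : x * e⁻¹ * x⁻¹ ∈ E := (mem_normalizer_iff.1 (hH (hH' hxK)) e⁻¹).1 (E.inv_mem he)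
      have h4 : ⁅e, x⁆ = e * (x * e⁻¹ * x⁻¹) := by
        rw [commutatorElement_def]
        group
      rw [h4]
      exact E.mul_mem he h3
  have h3 : Nat.card ↥(K' ⊓ E) < Nat.card K' := by
    refine lt_of_le_of_ne (Nat.card_le_card_of_injective _ (inclusion_injective inf_le_left)) fun h => ?_
    have h4 : K' ⊓ E = K' := eq_of_le_of_card_ge inf_le_left h.ge
    exact hwO (hEO (inf_eq_left.1 h4 hw))
  have h5 := Nat.card_le_card_of_injective _ (inclusion_injective h2)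
  omega

section inst

variable [Finite G] {S : Sylow 2 G}

/-- a subgroup of `F_{H₁}` all of whose elements `≠ 1` are (in) points of `H₁` -/
theorem isPure_of_points {H₁ K : Subgroup G} (h₁ : IsLong (S : Subgroup G) H₁)
    (hpt : ∀ u ∈ K, u ≠ 1 → ∃ h ∈ H₁, centralizer ({u} : Set G) ≤ MulAut.conj h • CZ (S : Subgroup G)) :
    IsPure (FH (S : Subgroup G) H₁) K := by
  intro u hu hu1
  obtain ⟨p, hp, h3⟩ := hpt u hu hu1
  refine h3.trans ?_
  have h4 : MulAut.conj p • CZ (S : Subgroup G) ≤ MulAut.conj p • H₁ := NoFF.Basic.conj_le_iff.2 h₁.cz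
  have h5 : MulAut.conj p • H₁ = H₁ := Pair.conj_eq_of_mem (le_normalizer hp)
  rw [h5] at h4
  exact h4.trans (le_normalizer_FH _ _)

variable (h : Ctx G) (D : Data (S : Subgroup G)) (hA : ¬ CaseA (S : Subgroup G)) {H₁ H₂ : Subgroup G}
  (h₁ : IsLong (S : Subgroup G) H₁) (h₂ : IsLong (S : Subgroup G) H₂)
include h D hA h₁ h₂

/-- **LEMMA KL**, `E` any abelian normal 2-subgroup of `H₂`: a pure subgroup `K` of `E ⊓ F_{H₁}`, `x ∈ H₁`,
`E` normalises `K^x`: then `K^x ≤ O₂(H₂)`. -/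
theorem conj_le_o2 {E : Subgroup G} (hE : E ≤ centralizer (E : Set G)) (hH : H₂ ≤ normalizer (E : Set G))
    (hEO : E ≤ o2 H₂) {K : Subgroup G} (hKE : K ≤ E) (hKF : K ≤ FH (S : Subgroup G) H₁)
    (hK : IsPure (FH (S : Subgroup G) H₁) K) {x : G} (hx : x ∈ H₁)
    (hN : E ≤ normalizer ((MulAut.conj x • K : Subgroup G) : Set G)) : MulAut.conj x • K ≤ o2 H₂ := by
  have hc := h.char2
  have hF' : MulAut.conj x • K ≤ FH (S : Subgroup G) H₁ := by
    have h1 := (NoFF.Basic.conj_le_iff (g := x)).2 hKF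
    rwa [Pair.conj_eq_of_mem (le_normalizer_FH _ _ hx)] at h1
  have hFH : FH (S : Subgroup G) H₁ ≤ H₂ :=
    ((NotA.FH_le_o2 D hA h₁).trans (h₁.o2_le S)).trans ((o2_le _).trans h₂.cz)
  refine le_o2' (NotA.FH_comm hc D hA h₁) hE hH hEO hKE hKF hK (le_of_eq ?_) hF' (hF'.trans hFH) ?_ hN
  · exact (Nat.card_congr (Subgroup.equivSMul (MulAut.conj x) K).toEquiv).symm
  · intro w hw
    rw [← pow_two]
    exact NotA.FH_sq hc D hA h₁ w (hF' hw)

/-- **LEMMA KL**, `E = F_{H₂}`. -/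
theorem fh_le_o2 {K : Subgroup G} (hKE : K ≤ FH (S : Subgroup G) H₂) (hKF : K ≤ FH (S : Subgroup G) H₁)
    (hK : IsPure (FH (S : Subgroup G) H₁) K) {x : G} (hx : x ∈ H₁)
    (hN : FH (S : Subgroup G) H₂ ≤ normalizer ((MulAut.conj x • K : Subgroup G) : Set G)) :
    MulAut.conj x • K ≤ o2 H₂ :=
  conj_le_o2 h D hA h₁ h₂ (NotA.FH_comm h.char2 D hA h₂) (le_normalizer_FH _ _) (NotA.FH_le_o2 D hA h₂) hKE
    hKF hK hx hN

omit D hA h₁ in
theorem comm_of_le_o2 {A : Subgroup G} (hAO : A ≤ o2 H₂) :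
    A ≤ centralizer (zl (S : Subgroup G) H₂ : Set G) := by
  intro a ha
  rw [mem_centralizer_iff]
  intro y hy
  have h1 := mem_zc.mp (h₂.loc.zl_le S h.char2 hy)
  exact (h1.2.1 a (hAO ha)).symm

/-- **LEMMA KL**, `E = F_{H₂}`: `K^x` centralises `U_{H₂}`. -/
theorem fh_comm {K : Subgroup G} (hKE : K ≤ FH (S : Subgroup G) H₂) (hKF : K ≤ FH (S : Subgroup G) H₁)
    (hK : IsPure (FH (S : Subgroup G) H₁) K) {x : G} (hx : x ∈ H₁)
    (hN : FH (S : Subgroup G) H₂ ≤ normalizer ((MulAut.conj x • K : Subgroup G) : Set G)) :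
    MulAut.conj x • K ≤ centralizer (zl (S : Subgroup G) H₂ : Set G) :=
  comm_of_le_o2 h h₂ (fh_le_o2 h D hA h₁ h₂ hKE hKF hK hx hN)

/-- **LEMMA KL**, `E = U_{H₂}`, `K ≤ U_{H₂}`: `K^x` centralises `U_{H₂}`. -/
theorem u_comm {K : Subgroup G} (hKE : K ≤ zl (S : Subgroup G) H₂) (hKF : K ≤ FH (S : Subgroup G) H₁)
    (hK : IsPure (FH (S : Subgroup G) H₁) K) {x : G} (hx : x ∈ H₁)
    (hN : zl (S : Subgroup G) H₂ ≤ normalizer ((MulAut.conj x • K : Subgroup G) : Set G)) :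
    MulAut.conj x • K ≤ centralizer (zl (S : Subgroup G) H₂ : Set G) :=
  comm_of_le_o2 h h₂ (conj_le_o2 h D hA h₁ h₂
    ((h₂.zl_le_o2 h.char2 S).trans ((comm_of_le_o2 h h₂ le_rfl)))
    (le_normalizer_zl _ _) (h₂.zl_le_o2 h.char2 S) hKE hKF hK hx hN)

end inst

end Cfsg.Agent.Omega.NOThreeL.Pure
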