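import Cfsg.Agent.Omega.NOThreeL.RAbigPlug
import Cfsg.Agent.Omega.NOThreeL.RF.Final

/-!
# NO-3L, box `R ∩ (A)` is empty

* **`natBig`** : `RTreeA.NatBig`; **`rabig`** : `RTree.RAbig K` for every `K`;
* **`caseA_false`** : `¬ CaseA S` in the situation of NO-3L (`Data S`);
* `rg_of` : `RBz K`, `RBc K` imply `Merge.RG K`.
-/

set_option autoImplicit false

namespace Cfsg.Agent.Omega.NOThreeL.RAClosed

open Cfsg Cfsg.Agent.Omega.Frame Cfsg.Agent.Omega.MinPar Cfsg.Agent.Omega.FrameNOFF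
open Cfsg.Agent.Omega.Node.NO3L Cfsg.Agent.Omega.NOThreeL.Basic
open Cfsg.Agent.Omega.NOThreeL.RTree (RAbig RBz RBc)

universe u

/-- **`NatBig`** -/
theorem natBig : RTreeA.NatBig.{u} := RTreeNsF.natBig_of_nsF RF.nsF

/-- **the socket `RTree.RAbig K`** -/
theorem rabig (K : Cls.{u}) : RAbig K := RAbigPlug.rabig_of_nsF RF.nsF

/-- **case (A) of NO-3L is empty** -/
theorem caseA_false {G : Type u} [Group G] [Finite G] (hG : Ctx G) {S : Sylow 2 G} (D : Data (S : Subgroup G)) :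
    ¬ CaseA (S : Subgroup G) := RTreeA.caseA_false natBig hG D

/-- **box R** -/
theorem rg_of {K : Cls.{u}} (hz : RBz K) (hc : RBc K) : Merge.RG K := RTreeA.rg_of' natBig hz hc

end Cfsg.Agent.Omega.NOThreeL.RAClosed
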