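import Cfsg.Agent.Omega.NOThreeL.RTreeNsF

/-!
# NO-3L, box R, case (A): the socket `RTree.RAbig K` from `NatBig`, `NsF`

`Node.NO3LMain` and `RTreeF` use the socket `RTree.RAbig K`:

* `rabig_of_natBig` : `RTreeA.NatBig` implies `RTree.RAbig K` (for every `K`);
* `rabig_of_nsF` : `RTreeA.NsF` implies `RTree.RAbig K`.
-/

set_option autoImplicit false

namespace Cfsg.Agent.Omega.NOThreeL.RAbigPlug

open Cfsg Cfsg.Agent.Omega.Frame Cfsg.Agent.Omega.MinPar
open Cfsg.Agent.Omega.NOThreeL.RTree (RAbig)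
open Cfsg.Agent.Omega.NOThreeL.RTreeA

universe u

/-- **`RAbig K` from `NatBig`** -/
theorem rabig_of_natBig {K : Cls.{u}} (h : NatBig.{u}) : RAbig K := by
  intro G _ _ hG _ S _ D P H E _ _ _ _ _ _ _ _
  exact (pair_false h hG D E).elim

/-- **`RAbig K` from `NsF`** -/
theorem rabig_of_nsF {K : Cls.{u}} (hf : NsF.{u}) : RAbig K :=
  rabig_of_natBig (RTreeNsF.natBig_of_nsF hf)

end Cfsg.Agent.Omega.NOThreeL.RAbigPlug
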