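import Cfsg.Agent.Omega.NOThreeL.ThmT

/-!
# NO-3L, socket R: (R4), (R5) of #15623 (helper691), group theoretic part

`N` acts on `V`, `U ≤ N` is abelian, `C_G(V) ≤ N_G(U)`; in the application `N = P'`, `V = V_P'` (R4) or `N = K`,
`V = U_K` (R5), and `U = U_H` for long groups `H`, `K`. `Y = C_U(V)`; the points are the elements `g` of `N`
(`U^g = MulAut.conj g • U`). No hypothesis on `N_N(Z)` is needed.

* `Base.comm` : `[U^g, C_G(V)] ≤ Y^g`;
* `NN N U V = ⟨Y^g : g ∈ N⟩` is normal in `N` and in `C_G(V)`; `Base.comm_NN` : `[U^g, NN] ≤ Y^g`;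
* `Base.comm_YY` : `[Y^g, Y^h] ≤ Y^g ∩ Y^h`;
* `Rad` : `Y ∩ Y^g = T` for `g ∈ N` in a set `O` of "opposite" elements, `T ⊴ N`; then for `u ∈ U - Y`, `g ∈ O` with
  `g⁻¹ u g ∈ O` the map `t ↦ [u, t]` induces an isomorphism `Y^g / T → Y / T` of `C_G(V)`-groups: `Rad.hom`,
  `Rad.inj`, `Rad.surj`, `Rad.eqv`.
-/

set_option autoImplicit false

namespace Cfsg.Agent.Omega.NOThreeL.RFour

open Subgroup MulAction Pointwise
open Cfsg.Agent.Omega.NOThreeL (mem_normalizer_of_conj_eq)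
open Cfsg.Agent.Omega.NoFF.Basic (conj_conj mem_conj conj_le_iff conj_le_centralizer comm_symm
  comm_mono)
open Cfsg.Agent.Omega.NOThreeL.ThmT (conj_eq_of_mem_normalizer mem_normalizer_of_forall
  conj_centralizer_eq card_conj)

universe u

variable {G : Type u} [Group G]

/-- `Y = C_U(V)` -/
def Y (U V : Subgroup G) : Subgroup G := U ⊓ centralizer (V : Set G)

/-- `⟨Y^g : g ∈ N⟩` -/
def NN (N U V : Subgroup G) : Subgroup G := ⨆ g : N, MulAut.conj (g : G) • Y U V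

/-- The hypotheses. -/
structure Base (N U V : Subgroup G) : Prop where
  UN : U ≤ N
  NV : N ≤ normalizer (V : Set G)
  ab : U ≤ centralizer (U : Set G)
  CU : centralizer (V : Set G) ≤ normalizer (U : Set G)

theorem mem_conj_smul {g x : G} {A : Subgroup G} (h : x ∈ A) : g * x * g⁻¹ ∈ MulAut.conj g • A := by
  rw [mem_conj]
  have e : g⁻¹ * (g * x * g⁻¹) * g = x := by group
  rwa [e]

/-- `g` normalises `A` and `B`, `[a, b] ∈ A ∩ B`. -/
theorem comm_mem {A B : Subgroup G} {a b : G} (ha : a ∈ A) (hb : b ∈ B)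
    (h1 : a ∈ normalizer (B : Set G)) (h2 : b ∈ normalizer (A : Set G)) : a * b * a⁻¹ * b⁻¹ ∈ A ⊓ B := by
  refine mem_inf.2 ⟨?_, mul_mem ((mem_normalizer_iff.1 h1 b).1 hb) (inv_mem hb)⟩
  have e : a * b * a⁻¹ * b⁻¹ = a * (b * a⁻¹ * b⁻¹) := by group
  rw [e]
  exact mul_mem ha ((mem_normalizer_iff.1 h2 _).1 (inv_mem ha))

theorem conj_mono_normalizer {g : G} {A B : Subgroup G} (h : A ≤ normalizer (B : Set G)) :
    MulAut.conj g • A ≤ normalizer ((MulAut.conj g • B : Subgroup G) : Set G) := by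
  intro a ha
  rw [mem_conj] at ha
  refine mem_normalizer_of_conj_eq ?_
  have h1 := conj_eq_of_mem_normalizer (h ha)
  rw [conj_conj]
  have e : a * g = g * (g⁻¹ * a * g) := by group
  rw [e, ← conj_conj, h1]

namespace Base

variable {N U V : Subgroup G} (D : Base N U V)
include D

theorem conj_cent {g : G} (hg : g ∈ N) :
    MulAut.conj g • centralizer (V : Set G) = centralizer (V : Set G) :=
  conj_centralizer_eq (D.NV hg)

theorem conj_Y {g : G} (hg : g ∈ N) :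
    MulAut.conj g • Y U V = MulAut.conj g • U ⊓ centralizer (V : Set G) := by
  rw [Y, Subgroup.smul_inf, D.conj_cent hg]

theorem conj_Y_le {g : G} (hg : g ∈ N) : MulAut.conj g • Y U V ≤ centralizer (V : Set G) := by
  rw [D.conj_Y hg]
  exact inf_le_right

omit D in
theorem conj_Y_le_U {g : G} : MulAut.conj g • Y U V ≤ MulAut.conj g • U := conj_le_iff.2 inf_le_left

theorem conj_U_le {g : G} (hg : g ∈ N) : MulAut.conj g • U ≤ N := by
  have h1 := (conj_le_iff (g := g)).2 D.UN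
  rwa [conj_eq_of_mem_normalizer (le_normalizer hg)] at h1

theorem cent_le {g : G} (hg : g ∈ N) :
    centralizer (V : Set G) ≤ normalizer ((MulAut.conj g • U : Subgroup G) : Set G) := by
  have h1 := conj_mono_normalizer (g := g) D.CU
  rwa [D.conj_cent hg] at h1

theorem cent_le_Y {g : G} (hg : g ∈ N) :
    centralizer (V : Set G) ≤ normalizer ((MulAut.conj g • Y U V : Subgroup G) : Set G) := by
  intro x hx
  refine mem_normalizer_of_conj_eq ?_
  rw [D.conj_Y hg, Subgroup.smul_inf, conj_eq_of_mem_normalizer (D.cent_le hg hx),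
    conj_eq_of_mem_normalizer (le_normalizer hx)]

omit D in
theorem N_cent {N V : Subgroup G} (h : N ≤ normalizer (V : Set G)) :
    N ≤ normalizer ((centralizer (V : Set G) : Subgroup G) : Set G) := fun _ hg =>
  mem_normalizer_of_conj_eq (conj_centralizer_eq (h hg))

/-- `[U^g, C_G(V)] ≤ Y^g` -/
theorem comm {g : G} (hg : g ∈ N) {u : G} (hu : u ∈ MulAut.conj g • U) {d : G}
    (hd : d ∈ centralizer (V : Set G)) : u * d * u⁻¹ * d⁻¹ ∈ MulAut.conj g • Y U V := by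
  rw [D.conj_Y hg]
  exact comm_mem hu hd (N_cent D.NV (D.conj_U_le hg hu)) (D.cent_le hg hd)

/-- `[Y^g, Y^h] ≤ Y^g ∩ Y^h` -/
theorem comm_YY {g h : G} (hg : g ∈ N) (hh : h ∈ N) {a b : G} (ha : a ∈ MulAut.conj g • Y U V)
    (hb : b ∈ MulAut.conj h • Y U V) :
    a * b * a⁻¹ * b⁻¹ ∈ MulAut.conj g • Y U V ⊓ MulAut.conj h • Y U V :=
  comm_mem ha hb (D.cent_le_Y hh (D.conj_Y_le hg ha)) (D.cent_le_Y hg (D.conj_Y_le hh hb))

/-! ### The group `⟨Y^g : g ∈ N⟩` -/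

omit D in
theorem conj_Y_le_NN {g : G} (hg : g ∈ N) : MulAut.conj g • Y U V ≤ NN N U V :=
  le_iSup (fun g : N => MulAut.conj (g : G) • Y U V) ⟨g, hg⟩

omit D in
theorem NN_le {A : Subgroup G} (h : ∀ g ∈ N, MulAut.conj g • Y U V ≤ A) : NN N U V ≤ A :=
  iSup_le fun g => h g g.2

theorem NN_cent : NN N U V ≤ centralizer (V : Set G) := NN_le fun _ hg => D.conj_Y_le hg

omit D in
/-- `⟨Y^g⟩ ⊴ N` -/
theorem le_normalizer_NN : N ≤ normalizer (NN N U V : Set G) := by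
  refine mem_normalizer_of_forall fun g hg => ?_
  rw [Subgroup.pointwise_smul_subset_iff]
  refine iSup_le fun h => ?_
  rw [← Subgroup.pointwise_smul_subset_iff, conj_conj]
  exact conj_Y_le_NN (mul_mem hg h.2)

/-- `⟨Y^g⟩ ⊴ C_G(V)` -/
theorem cent_le_normalizer_NN : centralizer (V : Set G) ≤ normalizer (NN N U V : Set G) := by
  refine mem_normalizer_of_forall fun x hx => ?_
  rw [Subgroup.pointwise_smul_subset_iff]
  refine iSup_le fun h => ?_
  rw [← Subgroup.pointwise_smul_subset_iff, conj_eq_of_mem_normalizer (D.cent_le_Y h.2 hx)]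
  exact conj_Y_le_NN h.2

/-- `[U^g, ⟨Y^h⟩] ≤ Y^g` -/
theorem comm_NN {g : G} (hg : g ∈ N) {u : G} (hu : u ∈ MulAut.conj g • U) {d : G}
    (hd : d ∈ NN N U V) : u * d * u⁻¹ * d⁻¹ ∈ MulAut.conj g • Y U V :=
  D.comm hg hu (D.NN_cent hd)

/-- (R5): `C_Y(N) ≤ T := C_Y(⟨U, U^g⟩)` -/
theorem le_T {g : G} (hg : g ∈ N) : Y U V ⊓ centralizer (N : Set G) ≤
    Y U V ⊓ centralizer ((U ⊔ MulAut.conj g • U : Subgroup G) : Set G) :=
  le_inf inf_le_left (inf_le_right.trans (centralizer_le (sup_le D.UN (D.conj_U_le hg))))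

/-- an abelian pair: `U ∩ U^g` is centralised by `⟨U, U^g⟩`. -/
theorem inf_comm (g : G) : U ⊔ MulAut.conj g • U ≤
    centralizer ((U ⊓ MulAut.conj g • U : Subgroup G) : Set G) :=
  sup_le (D.ab.trans (centralizer_le inf_le_left))
    ((conj_le_centralizer D.ab).trans (centralizer_le inf_le_right))

end Base

/-! ### `Y / T` and `Y^g / T` -/

/-- `T` is normal in `N`, `T ≤ Y` and `Y ∩ Y^g ≤ T` for `g ∈ O`. -/
structure Rad (N U V T : Subgroup G) (O : Set G) : Prop extends Base N U V where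
  TY : T ≤ Y U V
  NT : N ≤ normalizer (T : Set G)
  ON : O ⊆ N
  inf : ∀ g ∈ O, Y U V ⊓ MulAut.conj g • Y U V ≤ T

namespace Rad

variable {N U V T : Subgroup G} {O : Set G} (D : Rad N U V T O)
include D

theorem T_le {g : G} (hg : g ∈ N) : T ≤ MulAut.conj g • Y U V := by
  rw [← conj_eq_of_mem_normalizer (D.NT hg)]
  exact conj_le_iff.2 D.TY


theorem inf_eq {g : G} (hg : g ∈ O) : Y U V ⊓ MulAut.conj g • Y U V = T :=
  le_antisymm (D.inf g hg) (le_inf D.TY (D.T_le (D.ON hg)))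

/-- `Y^g ∩ Y^h = T` if `g⁻¹ h ∈ O`. -/
theorem inf_eq' {g h : G} (hg : g ∈ N) (hh : g⁻¹ * h ∈ O) :
    MulAut.conj g • Y U V ⊓ MulAut.conj h • Y U V = T := by
  have e : h = g * (g⁻¹ * h) := by group
  rw [e, ← conj_conj, ← Subgroup.smul_inf, D.inf_eq hh, conj_eq_of_mem_normalizer (D.NT hg)]

/-- `C_G(V)` normalises `T` (if there are opposite points). -/
theorem cent_le_T {g : G} (hg : g ∈ O) : centralizer (V : Set G) ≤ normalizer (T : Set G) := by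
  intro x hx
  refine mem_normalizer_of_conj_eq ?_
  have h1 := D.cent_le_Y N.one_mem hx
  rw [map_one, one_smul] at h1
  have h2 := D.cent_le_Y (D.ON hg) hx
  rw [← D.inf_eq hg, Subgroup.smul_inf, conj_eq_of_mem_normalizer h1, conj_eq_of_mem_normalizer h2]

/-- `[Y, Y^g] ≤ T` -/
theorem comm_T {g : G} (hg : g ∈ O) {a b : G} (ha : a ∈ Y U V) (hb : b ∈ MulAut.conj g • Y U V) :
    a * b * a⁻¹ * b⁻¹ ∈ T := by
  have h1 := D.comm_YY N.one_mem (D.ON hg) (by rwa [map_one, one_smul]) hb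
  rw [map_one, one_smul] at h1
  exact D.inf g hg h1

/-- `[u, t] ∈ Y` for `u ∈ U`, `t ∈ Y^g`. -/
theorem mem_Y {g : G} (hg : g ∈ N) {u t : G} (hu : u ∈ U) (ht : t ∈ MulAut.conj g • Y U V) :
    u * t * u⁻¹ * t⁻¹ ∈ Y U V := by
  have h1 := D.comm N.one_mem (u := u) (by rwa [map_one, one_smul]) (D.conj_Y_le hg ht)
  rwa [map_one, one_smul] at h1

theorem comm_Y {a b : G} (ha : a ∈ Y U V) (hb : b ∈ Y U V) : a * b = b * a :=
  (mem_centralizer_iff.1 (D.ab (mem_inf.1 ha).1) b (mem_inf.1 hb).1).symm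

/-- `[u, s t] ≡ [u, s] [u, t]` -/
theorem hom {g : G} (hg : g ∈ O) {u s t : G} (hu : u ∈ U) (hs : s ∈ MulAut.conj g • Y U V)
    (ht : t ∈ MulAut.conj g • Y U V) :
    (u * (s * t) * u⁻¹ * (s * t)⁻¹) * ((u * s * u⁻¹ * s⁻¹) * (u * t * u⁻¹ * t⁻¹))⁻¹ ∈ T := by
  have h1 := D.mem_Y (D.ON hg) hu hs
  have h2 := D.mem_Y (D.ON hg) hu ht
  have hy := D.comm_T hg h2 hs
  -- `[u, s t] = [u, s] * (s [u, t] s⁻¹)`
  have e1 : u * (s * t) * u⁻¹ * (s * t)⁻¹ =
      (u * s * u⁻¹ * s⁻¹) * (s * (u * t * u⁻¹ * t⁻¹) * s⁻¹) := by group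
  have e2 : (u * (s * t) * u⁻¹ * (s * t)⁻¹) * ((u * s * u⁻¹ * s⁻¹) * (u * t * u⁻¹ * t⁻¹))⁻¹ =
      (u * s * u⁻¹ * s⁻¹) * ((u * t * u⁻¹ * t⁻¹) * s * (u * t * u⁻¹ * t⁻¹)⁻¹ * s⁻¹)⁻¹ *
        (u * s * u⁻¹ * s⁻¹)⁻¹ := by
    rw [e1]; group
  rw [e2]
  have h3 : u * s * u⁻¹ * s⁻¹ ∈ normalizer (T : Set G) :=
    D.NT (D.UN (mem_inf.1 h1).1)
  exact (mem_normalizer_iff.1 h3 _).1 (inv_mem hy)

/-- injective: `[u, t] ∈ T` implies `t ∈ T` -/
theorem inj {g : G} (hg : g ∈ O) {u t : G} (hu : u ∈ U) (hug : g⁻¹ * u * g ∈ O)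
    (ht : t ∈ MulAut.conj g • Y U V) (h : u * t * u⁻¹ * t⁻¹ ∈ T) : t ∈ T := by
  have h1 : u * t * u⁻¹ ∈ MulAut.conj g • Y U V := by
    have h2 := mul_mem (D.T_le (D.ON hg) h) ht
    have e : u * t * u⁻¹ * t⁻¹ * t = u * t * u⁻¹ := by group
    rwa [e] at h2
  have h2 : u * t * u⁻¹ ∈ MulAut.conj (u * g) • Y U V := by
    rw [← conj_conj]
    exact mem_conj_smul ht
  have h3 : u * t * u⁻¹ ∈ T := by
    have h4 := D.inf_eq' (D.ON hg) (h := u * g) (by rwa [← mul_assoc])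
    rw [← h4]
    exact mem_inf.2 ⟨h1, h2⟩
  exact (mem_normalizer_iff.1 (D.NT (D.UN hu)) t).2 h3

/-- `C_G(V)`-equivariance: `[u, t]^d ≡ [u, t^d]` -/
theorem eqv {g : G} (hg : g ∈ O) {u t d : G} (hu : u ∈ U) (ht : t ∈ MulAut.conj g • Y U V)
    (hd : d ∈ centralizer (V : Set G)) :
    (d * (u * t * u⁻¹ * t⁻¹) * d⁻¹) * (u * (d * t * d⁻¹) * u⁻¹ * (d * t * d⁻¹)⁻¹)⁻¹ ∈ T := by
  have ht' : d * t * d⁻¹ ∈ MulAut.conj g • Y U V := (mem_normalizer_iff.1 (D.cent_le_Y (D.ON hg) hd) t).1 ht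
  -- `u^d = u y`, `y = [u⁻¹, d] ∈ Y`
  have hy : u⁻¹ * d * u⁻¹⁻¹ * d⁻¹ ∈ Y U V := by
    have h1 := D.comm N.one_mem (u := u⁻¹) (by rw [map_one, one_smul]; exact inv_mem hu) hd
    rwa [map_one, one_smul] at h1
  set y := u⁻¹ * d * u⁻¹⁻¹ * d⁻¹ with hydef
  set w := d * t * d⁻¹ with hw
  have e1 : d * (u * t * u⁻¹ * t⁻¹) * d⁻¹ = u * y * w * y⁻¹ * u⁻¹ * w⁻¹ := by
    rw [hydef, hw]; group
  have h2 := D.comm_T hg hy ht'
  have e2 : (u * y * w * y⁻¹ * u⁻¹ * w⁻¹) * (u * w * u⁻¹ * w⁻¹)⁻¹ = u * (y * w * y⁻¹ * w⁻¹) * u⁻¹ := by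
    group
  rw [e1, e2]
  exact (mem_normalizer_iff.1 (D.NT (D.UN hu)) _).1 h2

variable [Finite G]

/-- surjective: every `y ∈ Y` is `≡ [u, t]` for some `t ∈ Y^g`. -/
theorem surj {g : G} (hg : g ∈ O) {u : G} (hu : u ∈ U) (hug : g⁻¹ * u * g ∈ O) {y : G}
    (hy : y ∈ Y U V) : ∃ t ∈ MulAut.conj g • Y U V, (u * t * u⁻¹ * t⁻¹) * y⁻¹ ∈ T := by
  have hab : ∀ a b : Y U V, a * b = b * a := fun a b => Subtype.ext (D.comm_Y a.2 b.2)
  have hn : (T.subgroupOf (Y U V)).Normal := by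
    refine ⟨fun a ha b => ?_⟩
    have e : b * a * b⁻¹ = a := by rw [hab b a]; group
    rwa [e]
  let A := MulAut.conj g • Y U V
  let f : A →* Y U V ⧸ T.subgroupOf (Y U V) :=
    { toFun := fun t => QuotientGroup.mk ⟨u * t * u⁻¹ * (t : G)⁻¹, D.mem_Y (D.ON hg) hu t.2⟩
      map_one' := by
        rw [QuotientGroup.eq_one_iff]
        rw [mem_subgroupOf]
        simp
      map_mul' := by
        intro s t
        rw [← QuotientGroup.mk_mul, eq_comm, QuotientGroup.eq, mem_subgroupOf]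
        have h1 := D.hom hg hu s.2 t.2
        have h2 : ∀ a b : G, a ∈ Y U V → b ∈ Y U V → a * b⁻¹ ∈ T → b⁻¹ * a ∈ T := by
          intro a b ha hb h
          rwa [← D.comm_Y ha (inv_mem hb)]
        refine h2 _ _ (D.mem_Y (D.ON hg) hu (mul_mem s.2 t.2))
          (mul_mem (D.mem_Y (D.ON hg) hu s.2) (D.mem_Y (D.ON hg) hu t.2)) h1 }
  have hker : f.ker = T.subgroupOf A := by
    ext t
    rw [MonoidHom.mem_ker, mem_subgroupOf]
    change (QuotientGroup.mk _ : Y U V ⧸ T.subgroupOf (Y U V)) = 1 ↔ _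
    rw [QuotientGroup.eq_one_iff, mem_subgroupOf]
    constructor
    · exact fun h => D.inj hg hu hug t.2 h
    · intro h
      have h1 : u * (t : G) * u⁻¹ ∈ T := (mem_normalizer_iff.1 (D.NT (D.UN hu)) _).1 h
      exact mul_mem h1 (inv_mem h)
  have hTA : T ≤ A := D.T_le (D.ON hg)
  have hcard : Nat.card f.range = Nat.card (Y U V ⧸ T.subgroupOf (Y U V)) := by
    have h1 : Nat.card (f.ker) * Nat.card f.range = Nat.card A := by
      rw [mul_comm, ← Nat.card_congr (QuotientGroup.quotientKerEquivRange f).toEquiv]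
      exact (card_eq_card_quotient_mul_card_subgroup f.ker).symm
    have h2 : Nat.card (Y U V) =
        Nat.card (Y U V ⧸ T.subgroupOf (Y U V)) * Nat.card (T.subgroupOf (Y U V)) :=
      card_eq_card_quotient_mul_card_subgroup _
    have h3 : Nat.card (T.subgroupOf (Y U V)) = Nat.card T :=
      Nat.card_congr (subgroupOfEquivOfLe D.TY).toEquiv
    have h4 : Nat.card f.ker = Nat.card T := by
      rw [hker]
      exact Nat.card_congr (subgroupOfEquivOfLe hTA).toEquiv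
    have h5 : Nat.card A = Nat.card (Y U V) := card_conj g _
    rw [h4, h5, h2, h3, mul_comm] at h1
    exact Nat.eq_of_mul_eq_mul_right Nat.card_pos h1
  have htop : f.range = ⊤ := eq_top_of_card_eq _ hcard
  obtain ⟨t, ht⟩ := MonoidHom.range_eq_top.1 htop (QuotientGroup.mk ⟨y, hy⟩)
  refine ⟨t, t.2, ?_⟩
  have h1 : (QuotientGroup.mk ⟨y, hy⟩ : Y U V ⧸ T.subgroupOf (Y U V)) =
      QuotientGroup.mk ⟨u * t * u⁻¹ * (t : G)⁻¹, D.mem_Y (D.ON hg) hu t.2⟩ := ht.symm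
  rw [QuotientGroup.eq, mem_subgroupOf] at h1
  have h2 : y⁻¹ * (u * t * u⁻¹ * (t : G)⁻¹) ∈ T := h1
  rwa [D.comm_Y (inv_mem hy) (D.mem_Y (D.ON hg) hu t.2)] at h2

end Rad

end Cfsg.Agent.Omega.NOThreeL.RFour
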