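import Cfsg.Agent.Omega.NoFF.Lines

/-!
# NO-3L, socket R: (R1) of #15623 (helper691): NOFF goes down

`Sys S Z F` (`Omega/NoFF/Basic.lean`), `V_P = ⟨Z^P⟩`, `P ∈ F`.

* `noff_down` : `X₁ ≤ V_{P₁}`, `X₂ ≤ V_{P₂}` normalised by `S`, `V_{P_i} ≤ X_i Z`: if `X₁^g` and `X₂^h` normalise
  each other, they commute;
* `sys_down` : for `Z₀ ≤ Z` the `P ∈ F` with `V_P ≤ ⟨Z₀^P⟩ Z` form with `Z₀` again a system (`NOFF` for the lines
  `⟨Z₀^P⟩`).
-/

set_option autoImplicit false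

namespace Cfsg.Agent.Omega.NOThreeL.ROne

open Subgroup Cfsg.Agent.Omega.NoFF.Basic
open Cfsg.Agent.Omega.NoFF.Lines (conj_eq noff_lines)
open scoped Pointwise

variable {G : Type*} [Group G]

/-- A maximal 2-subgroup of `M` contains every 2-subgroup of `M` which it normalises. -/
theorem le_of_max {p : ℕ} {M R Q : Subgroup G} (hR : IsPGroup p R)
    (hRM : R ≤ M) (hmax : ∀ T : Subgroup G, IsPGroup p T → T ≤ M → R ≤ T → T ≤ R)
    (hQ : IsPGroup p Q) (hQM : Q ≤ M) (h : R ≤ normalizer (Q : Set G) ∨ Q ≤ normalizer (R : Set G)) :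
    Q ≤ R := by
  have h1 : IsPGroup p (R ⊔ Q : Subgroup G) := by
    rcases h with h | h
    · exact IsPGroup.to_sup_of_normal_right' hR hQ h
    · rw [sup_comm]
      exact IsPGroup.to_sup_of_normal_right' hQ hR h
  exact le_sup_right.trans (hmax _ h1 (sup_le hRM hQM) le_sup_left)

theorem exists_max [Finite G] (p : ℕ) (M : Subgroup G) :
    ∃ R : Subgroup G, IsPGroup p R ∧ R ≤ M ∧
      ∀ T : Subgroup G, IsPGroup p T → T ≤ M → R ≤ T → T ≤ R := by
  have hfin : {R : Subgroup G | IsPGroup p R ∧ R ≤ M}.Finite := Set.toFinite _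
  obtain ⟨R, hR, hmax⟩ := hfin.exists_maximal ⟨⊥, IsPGroup.of_bot, bot_le⟩
  exact ⟨R, hR.1, hR.2, fun T hT hTM hRT => hmax ⟨hT, hTM⟩ hRT⟩

/-- `P` normalises `⟨Z^P⟩`. -/
theorem le_normalizer_V (Z P : Subgroup G) : P ≤ normalizer (V Z P : Set G) := by
  intro q hq
  have e := conj_V_mul (Z := Z) (P := P) (g := 1) hq
  rw [one_mul, map_one, one_smul] at e
  rw [mem_normalizer_iff]
  intro y
  constructor
  · intro hy
    rw [← e, mem_conj]
    simpa [mul_assoc] using hy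
  · intro hy
    rw [← e, mem_conj] at hy
    simpa [mul_assoc] using hy

theorem V_mono {Z₀ Z P : Subgroup G} (h : Z₀ ≤ Z) : V Z₀ P ≤ V Z P :=
  V_le fun _ hp => (conj_le_iff.2 h).trans (Z_le_V hp)

section

variable [Finite G] {p : ℕ} [Fact p.Prime] {S : Sylow p G} {Z : Subgroup G} {F : Set (Subgroup G)}

/-- **(R1) NOFF goes down.** -/
theorem noff_down (D : Sys (S : Subgroup G) Z F) {P₁ P₂ X₁ X₂ : Subgroup G} (h₁ : P₁ ∈ F) (h₂ : P₂ ∈ F)
    (hX₁ : X₁ ≤ V Z P₁) (hX₂ : X₂ ≤ V Z P₂) (hS₁ : (S : Subgroup G) ≤ normalizer (X₁ : Set G))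
    (hS₂ : (S : Subgroup G) ≤ normalizer (X₂ : Set G)) (hV₁ : V Z P₁ ≤ X₁ ⊔ Z) (hV₂ : V Z P₂ ≤ X₂ ⊔ Z)
    {g h : G} (hn₁ : MulAut.conj g • X₁ ≤ normalizer ((MulAut.conj h • X₂ : Subgroup G) : Set G))
    (hn₂ : MulAut.conj h • X₂ ≤ normalizer ((MulAut.conj g • X₁ : Subgroup G) : Set G)) :
    MulAut.conj g • X₁ ≤ centralizer ((MulAut.conj h • X₂ : Subgroup G) : Set G) := by
  have hp : ∀ {P X : Subgroup G}, P ∈ F → X ≤ V Z P → ∀ g : G, IsPGroup p (MulAut.conj g • X : Subgroup G) :=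
    fun {P X} hP hX g => (S.2.to_le (hX.trans (D.V_le_S hP))).map (MulAut.conj g).toMonoidHom
  set M := normalizer ((MulAut.conj g • X₁ : Subgroup G) : Set G) ⊓
    normalizer ((MulAut.conj h • X₂ : Subgroup G) : Set G) with hM
  obtain ⟨R, hR, hRM, hmax⟩ := exists_max p M
  have hX₁R : MulAut.conj g • X₁ ≤ R :=
    le_of_max hR hRM hmax (hp h₁ hX₁ g) (le_inf le_normalizer hn₁) (Or.inl (hRM.trans inf_le_left))
  have hX₂R : MulAut.conj h • X₂ ≤ R :=
    le_of_max hR hRM hmax (hp h₂ hX₂ h) (le_inf hn₂ le_normalizer) (Or.inl (hRM.trans inf_le_right))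
  -- `R ≤ S^(g m)`, `m ∈ N(X)`
  have key : ∀ {X : Subgroup G}, (S : Subgroup G) ≤ normalizer (X : Set G) → ∀ g : G,
      R ≤ normalizer ((MulAut.conj g • X : Subgroup G) : Set G) →
      ∃ m ∈ normalizer (X : Set G), R ≤ MulAut.conj (g * m) • (S : Subgroup G) := by
    intro X hSX g hRX
    rw [NoFF.Main.normalizer_conj] at hRX
    have h3 := conj_le_iff (g := g⁻¹) |>.2 hRX
    rw [conj_conj, inv_mul_cancel, map_one, one_smul] at h3
    obtain ⟨m, hm, h4⟩ := NoFF.Main.exists_le_conj S hSX (hR.map (MulAut.conj g⁻¹).toMonoidHom) h3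
    refine ⟨m, hm, ?_⟩
    have h5 := conj_le_iff (g := g) |>.2 h4
    change MulAut.conj g • (MulAut.conj g⁻¹ • R) ≤ _ at h5
    rwa [conj_conj, mul_inv_cancel, map_one, one_smul, conj_conj] at h5
  obtain ⟨m, hm, hRm⟩ := key hS₁ g (hRM.trans inf_le_left)
  obtain ⟨k, hk, hRk⟩ := key hS₂ h (hRM.trans inf_le_right)
  -- `V_P^(g m) ≤ R`
  have key2 : ∀ {P X : Subgroup G}, P ∈ F → V Z P ≤ X ⊔ Z → ∀ g m : G, m ∈ normalizer (X : Set G) →
      R ≤ MulAut.conj (g * m) • (S : Subgroup G) → MulAut.conj g • X ≤ R →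
      MulAut.conj (g * m) • V Z P ≤ R := by
    intro P X hP hV g m hm hRm hXR
    have e1 : MulAut.conj (g * m) • X = MulAut.conj g • X := by rw [← conj_conj, conj_eq hm]
    have h3 : R ≤ centralizer ((MulAut.conj (g * m) • Z : Subgroup G) : Set G) :=
      hRm.trans (conj_le_centralizer D.cent)
    have h4 : MulAut.conj (g * m) • Z ≤ centralizer (R : Set G) := comm_symm h3
    have h5 : MulAut.conj (g * m) • Z ≤ M := by
      refine le_inf ?_ ?_
      · exact (h4.trans (centralizer_le hX₁R)).trans (centralizer_le_normalizer _)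
      · exact (h4.trans (centralizer_le hX₂R)).trans (centralizer_le_normalizer _)
    have h6 : MulAut.conj (g * m) • Z ≤ R :=
      le_of_max hR hRM hmax ((S.2.to_le D.ZS).map (MulAut.conj (g * m)).toMonoidHom) h5
        (Or.inr (h4.trans (centralizer_le_normalizer _)))
    refine (conj_le_iff.2 hV).trans ?_
    rw [Subgroup.smul_sup]
    exact sup_le (e1.trans_le hXR) h6
  have hV1 := key2 h₁ hV₁ g m hm hRm hX₁R
  have hV2 := key2 h₂ hV₂ h k hk hRk hX₂R
  have h3 := D.noff' h₁ h₂ (g := g * m) (h := h * k) ((hV1.trans hRk).trans (conj_le_iff.2 (D.SP _ h₂)))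
    ((hV2.trans hRm).trans (conj_le_iff.2 (D.SP _ h₁)))
  refine comm_mono h3 ?_ ?_
  · have e1 : MulAut.conj (g * m) • X₁ = MulAut.conj g • X₁ := by rw [← conj_conj, conj_eq hm]
    rw [← e1]
    exact conj_le_iff.2 hX₁
  · have e1 : MulAut.conj (h * k) • X₂ = MulAut.conj h • X₂ := by rw [← conj_conj, conj_eq hk]
    rw [← e1]
    exact conj_le_iff.2 hX₂

/-- **(R1)**, the smaller frame: `Z₀ ≤ Z` and the `P ∈ F` with `V_P ≤ ⟨Z₀^P⟩ Z`. -/
theorem sys_down (D : Sys (S : Subgroup G) Z F) {Z₀ : Subgroup G} (hZ : Z₀ ≤ Z) :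
    Sys (S : Subgroup G) Z₀ {P | P ∈ F ∧ V Z P ≤ V Z₀ P ⊔ Z} where
  ZS := hZ.trans D.ZS
  cent := D.cent.trans (centralizer_le hZ)
  SP P hP := D.SP P hP.1
  abel P hP := ((V_mono hZ).trans (D.abel P hP.1)).trans (centralizer_le (V_mono hZ))
  core P hP p hp x hx hxc := by
    refine D.core P hP.1 p hp x hx ?_
    have h1 : V Z₀ P ⊔ Z ≤ centralizer ({x} : Set G) := by
      refine sup_le (fun v hv => ?_) fun z hz => ?_
      · rw [mem_centralizer_singleton_iff]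
        exact mem_centralizer_iff.1 hxc v hv
      · rw [mem_centralizer_singleton_iff]
        exact mem_centralizer_iff.1 (D.cent hx) z hz
    rw [mem_centralizer_iff]
    intro v hv
    exact mem_centralizer_singleton_iff.1 (h1 (hP.2 hv))
  noff P hP P' hP' g h1 h2 := by
    have hPN := fun P => le_normalizer_V Z₀ P
    have h3 := noff_down D hP.1 hP'.1 (X₁ := V Z₀ P) (X₂ := V Z₀ P') (V_mono hZ) (V_mono hZ)
      ((D.SP _ hP.1).trans (hPN P)) ((D.SP _ hP'.1).trans (hPN P')) hP.2 hP'.2 (g := 1) (h := g)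
    rw [map_one, one_smul] at h3
    refine h3 ?_ ?_
    · rw [NoFF.Main.normalizer_conj]
      exact h1.trans (conj_le_iff.2 (hPN P'))
    · exact h2.trans (hPN P)

end

end Cfsg.Agent.Omega.NOThreeL.ROne
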