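import Cfsg.Agent.Omega.NOThreeL.RTransv
import Cfsg.Agent.Omega.NOThreeL.AOne

/-!
# NO-3L, R ∩ (A), `q = 2`, `k = 1`: the plug of `RTransv` (#16559, helper797)

* `exists_gen` : a long `H` contains a long `H₁` with `U_{H₁} = U_H` generated by `C` and members of `P*(S)`;
* `inf_eq_bot` : (A) implies `C_Z(⟨P, H⟩) = 1`;
* `exists_two` : `V_P` natural for `SL₂(2)`, `U_H` an offender on `V_P`: `Two S P H t p` for some `t`, `p`;
* `exists_Tt` : **R ∩ (A), `q = 2`, `k = 1`**: `T^t = U^t ∩ (U^t)^p` is moved by `⟨V^H⟩`.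
-/

set_option autoImplicit false

namespace Cfsg.Agent.Omega.NOThreeL.RTransv

open Subgroup Cfsg Cfsg.Agent.ZN Cfsg.Agent.Omega.MinPar Cfsg.Agent.Omega.Frame Cfsg.Agent.Omega.FrameNOFF
open Cfsg.Agent.Omega.Node.NO3L Cfsg.Agent.Omega.NOThreeL.Basic
open Cfsg.Agent.Omega.NoFF.Basic (V conj_conj mem_conj conj_le_iff conj_le_centralizer comm_symm comm_mono
  Z_le_V V_le conj_V_mul)
open Cfsg.Agent.Omega.NOThreeL.Pair (conj_eq_of_mem conj_le_normalizer zl_abel)
open Cfsg.Agent.Omega.NOThreeL.AOne (Act)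
open Cfsg.Agent.Omega.FFThm (Off NoOver Concl NatK SymK ActsSL)
open Cfsg.Agent.Omega.NatPair (ap ap_mul ap_one ap_inv_ap)
open Cfsg.Agent.Lib.SL2Mat
open Cfsg.Agent.MinSimple.VModule (zl_le le_normalizer_zl zc_le_zl zc_le mem_zc
  normalizer_le_normalizer_zc)
open scoped Pointwise

universe u

variable {G : Type u} [Group G] [Finite G] {S : Sylow 2 G}

/-! ### Generation -/

/-- `H` is generated by `C` and the members of `P*(S)` in `H`. -/
def Gen (S H : Subgroup G) : Prop :=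
  ∀ X : Subgroup G, CZ S ≤ X → (∀ P', IsParS S P' → P' ≤ H → P' ≤ X) → H ≤ X

omit [Finite G] in
theorem conj_CZ {n : G} (hn : n ∈ normalizer ((S : Subgroup G) : Set G)) :
    MulAut.conj n • CZ (S : Subgroup G) = CZ (S : Subgroup G) :=
  conj_eq_of_mem (conj_cent (normalizer_le_normalizer_zc _ hn))

omit [Finite G] in
theorem isParS_conj {P : Subgroup G} (hP : IsParS (S : Subgroup G) P) {n : G}
    (hn : n ∈ normalizer ((S : Subgroup G) : Set G)) : IsParS (S : Subgroup G) (MulAut.conj n • P) := by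
  have h5 := IsParS.map (MulAut.conj n) hP
  have h6 : (S : Subgroup G).map (MulAut.conj n).toMonoidHom = S := conj_eq_of_mem hn
  rw [h6] at h5
  exact h5

/-- **WLOG** `H` is generated by `C` and members of `P*(S)`. -/
theorem exists_gen {H : Subgroup G} (hH : IsLong (S : Subgroup G) H) :
    ∃ H₁ ≤ H, IsLong (S : Subgroup G) H₁ ∧ zl (S : Subgroup G) H₁ = zl (S : Subgroup G) H ∧
      Gen (S : Subgroup G) H₁ := by
  set F : Set (Subgroup G) := {P' | IsParS (S : Subgroup G) P' ∧ P' ≤ H} with hF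
  set H₁ := CZ (S : Subgroup G) ⊔ sSup F with hH₁
  have hle : H₁ ≤ H := sup_le hH.cz (sSup_le fun P' h => h.2)
  have hC : CZ (S : Subgroup G) ≤ H₁ := le_sup_left
  have hS : (S : Subgroup G) ≤ H₁ := (le_CZ S).trans hC
  have hL : IsLong (S : Subgroup G) H₁ := ⟨hH.loc.of_le S hS hle, hC⟩
  have hmem : ∀ P', IsParS (S : Subgroup G) P' → P' ≤ H → P' ≤ H₁ := by
    intro P' h1 h2
    have h3 : P' ∈ F := ⟨h1, h2⟩
    exact (le_sSup h3).trans le_sup_right
  -- `N_H(S)` normalises `H₁`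
  have hconj : ∀ n ∈ H ⊓ normalizer ((S : Subgroup G) : Set G), MulAut.conj n • H₁ ≤ H₁ := by
    rintro n ⟨hnH, hn⟩
    rw [← conj_le_iff (g := n⁻¹), conj_conj, inv_mul_cancel, map_one, one_smul]
    refine sup_le ?_ (sSup_le fun P' h => ?_)
    · rw [← conj_le_iff (g := n), conj_conj, mul_inv_cancel, map_one, one_smul, conj_CZ hn]
      exact hC
    · rw [← conj_le_iff (g := n), conj_conj, mul_inv_cancel, map_one, one_smul]
      refine hmem _ (isParS_conj h.1 hn) ?_
      have h2 := conj_le_iff (g := n).2 h.2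
      rwa [conj_eq_of_mem (le_normalizer hnH)] at h2
  refine ⟨H₁, hle, hL, le_antisymm ?_ ?_, fun X h1 h2 => sup_le h1 (sSup_le fun P' h => ?_)⟩
  · exact zl_le (zc_le_zl _ _) (hle.trans (le_normalizer_zl _ _))
  · refine zl_le (zc_le_zl _ _) (hH.loc.le_of_forall S ?_ fun P hP hPH => ?_)
    · have key : ∀ n ∈ H ⊓ normalizer ((S : Subgroup G) : Set G),
          MulAut.conj n • zl (S : Subgroup G) H₁ ≤ zl (S : Subgroup G) H₁ := by
        intro n hn
        rw [← conj_le_iff (g := n⁻¹), conj_conj, inv_mul_cancel, map_one, one_smul]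
        change V (zc (S : Subgroup G)) H₁ ≤ _
        refine V_le fun h hh => ?_
        rw [← conj_le_iff (g := n), conj_conj, conj_conj, mul_inv_cancel, map_one, one_smul]
        have e : n * h = (n * h * n⁻¹) * n := by group
        rw [e, ← conj_conj, conj_eq_of_mem (normalizer_le_normalizer_zc _ hn.2)]
        refine Z_le_V (hconj n hn ?_)
        rw [mem_conj]
        have e2 : n⁻¹ * (n * h * n⁻¹) * n = h := by group
        rwa [e2]
      intro n hn
      refine mem_normalizer_of_conj (le_antisymm (key n hn) ?_)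
      have h1 := conj_le_iff (g := n).2 (key n⁻¹ (inv_mem hn))
      rwa [conj_conj, mul_inv_cancel, map_one, one_smul] at h1
    · by_cases hs : IsParS (S : Subgroup G) P
      · exact (hmem P hs hPH).trans (le_normalizer_zl _ _)
      · exact ((par_le_CZ S hP hs).trans hC).trans (le_normalizer_zl _ _)
  · exact h2 P' h.1 (hmem P' h.1 h.2)

/-! ### `C_Z(⟨P, H⟩) = 1` -/

/-- **(A)** implies `C_Z(⟨P, H⟩) = 1`. -/
theorem inf_eq_bot (hc : IsCharacteristicTwoType G) {P H : Subgroup G}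
    (hPH : PairA (S : Subgroup G) P H) :
    zc (S : Subgroup G) ⊓ centralizer (P : Set G) ⊓ centralizer (H : Set G) = ⊥ := by
  by_contra hne
  obtain ⟨⟨z, hz⟩, hz0⟩ := Subgroup.ne_bot_iff_exists_ne_one.1 hne
  have hz1 : z ≠ 1 := fun h0 => hz0 (Subtype.ext h0)
  have hK := RTools.isLong S hz.1.1 hz1
  have hPK : P ≤ centralizer ({z} : Set G) := fun p hp => by
    rw [mem_centralizer_singleton_iff]
    exact mem_centralizer_iff.1 hz.1.2 p hp
  have hHK : H ≤ centralizer ({z} : Set G) := fun p hp => by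
    rw [mem_centralizer_singleton_iff]
    exact mem_centralizer_iff.1 hz.2 p hp
  have h1 : ∀ {L : Subgroup G}, L ≤ centralizer ({z} : Set G) →
      zl (S : Subgroup G) L ≤ zl (S : Subgroup G) (centralizer ({z} : Set G)) := fun hL =>
    zl_le (zc_le_zl _ _) (hL.trans (le_normalizer_zl _ _))
  refine hPH.ne fun v hv => ?_
  rw [mem_centralizer_iff]
  intro u hu
  have h2 := (FFThm.elem_zl hc S hK.loc).1.1.1 ⟨u, h1 hHK hu⟩ ⟨v, h1 hPK hv⟩
  exact congrArg Subtype.val h2

/-! ### The natural module of `SL₂(2)` -/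

section nat

variable {F : Type} [Field F] [CharP F 2]

omit [CharP F 2] in
theorem eq_one_of_ne (hF : ∀ x : F, x = 0 ∨ x = 1) {x : F} (hx : x ≠ 0) : x = 1 := (hF x).resolve_left hx

theorem word_eq : (up 1 * lo 1) * (up (1 : F))⁻¹ * (up 1 * lo 1)⁻¹ * up 1 * (up 1 * lo 1) = 1 := by
  have h2 : (1 : F) + 1 = 0 := CharTwo.add_self_eq_zero 1
  have hu : (up (1 : F))⁻¹ = up 1 := by
    rw [inv_eq_iff_mul_eq_one, up_mul, h2, up_zero]
  have hl : (lo (1 : F))⁻¹ = lo 1 := by
    rw [inv_eq_iff_mul_eq_one, lo_mul, h2, lo_zero]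
  have huu : up (1 : F) * up 1 = 1 := by rw [up_mul, h2, up_zero]
  rw [mul_inv_rev, hu, hl]
  have e : up (1 : F) * lo 1 * up 1 * (lo 1 * up 1) * up 1 * (up 1 * lo 1) =
      up 1 * lo 1 * up 1 * lo 1 * (up 1 * up 1) * up 1 * lo 1 := by group
  rw [e, huu, mul_one]
  apply ext_ent <;> simp only [ent_mul, up_00, up_01, up_10, up_11, lo_00, lo_01, lo_10, lo_11, ent_one_00,
    ent_one_01, ent_one_10, ent_one_11, mul_one, mul_zero, add_zero, zero_add, h2]

variable {P H D : Subgroup G}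

/-- `V_P / D` natural for `SL₂(2)`, `U_H` an offender on `V_P`. -/
theorem exists_two (hc : IsCharacteristicTwoType G) (hPH : PairA (S : Subgroup G) P H)
    (hoff : Off (zl (S : Subgroup G) P) (zl (S : Subgroup G) H)) (hF : ∀ x : F, x = 0 ∨ x = 1)
    (M : NatK F (S : Subgroup G) P (zl (S : Subgroup G) P) D 1) (hDV : D ≤ zl (S : Subgroup G) P)
    (hgen : Gen (S : Subgroup G) H) : ∃ t p, Two (S : Subgroup G) P H t p := by
  set W := zl (S : Subgroup G) P with hW
  set U := zl (S : Subgroup G) H with hU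
  set e : G → Fin 2 → F := fun g => M.e g 0 with he
  have hS := hPH.par.le
  have h2 : (1 : F) + 1 = 0 := CharTwo.add_self_eq_zero 1
  have mul : ∀ v ∈ W, ∀ w ∈ W, e (v * w) = e v + e w := fun v hv w hw => by
    rw [he]
    simp only
    rw [M.mul v hv w hw]
    rfl
  have ker : ∀ v ∈ W, e v = 0 ↔ v ∈ D := fun v hv => by
    rw [← M.ker v hv]
    constructor
    · intro h
      funext i
      rw [Subsingleton.elim i 0]
      exact h
    · intro h
      rw [he]
      simp only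
      rw [h]
      rfl
  have hnW : ∀ {g : G}, g ∈ P → g ∈ normalizer (W : Set G) := fun hg => le_normalizer_zl _ _ hg
  have hcon : ∀ {g v : G}, g ∈ P → v ∈ W → g * v * g⁻¹ ∈ W := fun hg hv =>
    (mem_normalizer_iff.1 (hnW hg) _).1 hv
  have ker' : ∀ g ∈ P, ∀ v ∈ W, e (g * v * g⁻¹) = 0 ↔ e v = 0 := by
    intro g hg v hv
    obtain ⟨σ, hσ⟩ := M.perm g hg
    have h1 := hσ v hv 0
    rwa [Subsingleton.elim (σ 0) 0] at h1
  have hPD : P ≤ normalizer (D : Set G) := by
    intro g hg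
    rw [mem_normalizer_iff]
    intro x
    constructor
    · intro hx
      have hxW := hDV hx
      rw [← ker _ (hcon hg hxW), ker' g hg x hxW]
      exact (ker x hxW).2 hx
    · intro hx
      have hxW : x ∈ W := (mem_normalizer_iff.1 (hnW hg) _).2 (hDV hx)
      rw [← ker x hxW, ← ker' g hg x hxW]
      exact (ker _ (hcon hg hxW)).2 hx
  have hsqW : ∀ v ∈ W, v * v = 1 := fun v hv => by
    rw [← pow_two]; exact (FFThm.elem_zl hc S hPH.par.isLoc).2 v hv
  have habW : ∀ v ∈ W, ∀ w ∈ W, v * w = w * v := fun v hv w hw =>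
    congrArg Subtype.val ((FFThm.elem_zl hc S hPH.par.isLoc).1.1.1 ⟨v, hv⟩ ⟨w, hw⟩)
  have one : e 1 = 0 := by
    have := mul 1 W.one_mem 1 W.one_mem
    rw [mul_one] at this
    exact (left_eq_add.1 this)
  have inv : ∀ v ∈ W, e v⁻¹ = - e v := fun v hv => by
    have := mul v⁻¹ (W.inv_mem hv) v hv
    rw [inv_mul_cancel, one] at this
    exact (neg_eq_of_add_eq_zero_left this.symm).symm
  -- elements acting trivially on `W / D` and `D`
  have cent : ∀ x ∈ P, (∀ v ∈ W, e (x * v * x⁻¹) = e v) → x ∈ centralizer (D : Set G) →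
      x ∈ centralizer (W : Set G) := by
    intro x hx h1 h3
    refine le_centralizer S hS hDV hPD hsqW ⟨hnW hx, fun v hv => ?_⟩ h3
    rw [← ker _ (W.mul_mem (hcon hx hv) (W.inv_mem hv)), mul _ (hcon hx hv) _ (W.inv_mem hv), h1 v hv,
      inv v hv, add_neg_cancel]
  have hUS : U ≤ (S : Subgroup G) := IsLong.zl_le_S hc hPH.long
  have hVS : W ≤ (S : Subgroup G) := IsParS.zl_le_S hc hPH.par
  have hSU : (S : Subgroup G) ≤ normalizer (U : Set G) := hPH.long.loc.le.trans (le_normalizer_zl _ _)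
  -- the action of `U`
  have acts : ∀ u ∈ U, ∃ b : F, Act e W u (up b) ∧ u ∈ centralizer (D : Set G) := by
    intro u hu
    obtain ⟨I, h1, -⟩ := M.off U hUS hoff
    obtain ⟨b, -, h3, h4⟩ := h1 u hu
    refine ⟨b 0, fun v hv => h3 v hv 0, mem_centralizer_iff.2 fun d hd => (h4 d hd).symm⟩
  have acts1 : ∀ u ∈ U, u ∉ centralizer (W : Set G) → Act e W u (up 1) ∧ u ∈ centralizer (D : Set G) := by
    intro u hu huV
    obtain ⟨b, h1, h3⟩ := acts u hu
    by_cases hb : b = 0
    · exfalso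
      refine huV (cent u (hS (hUS hu)) (fun v hv => ?_) h3)
      rw [h1 v hv, hb, up_zero, ap_one]
    · rw [eq_one_of_ne hF hb] at h1
      exact ⟨h1, h3⟩
  obtain ⟨u₀, hu₀, hu₀V⟩ := SetLike.not_le_iff_exists.1 hPH.ne'
  obtain ⟨a₀, d₀⟩ := acts1 u₀ hu₀ hu₀V
  obtain ⟨w, hw, hew⟩ := M.surj fun _ => ![0, 1]
  have hew0 : e w = ![0, 1] := congrFun hew 0
  -- a point of `Z`
  have hz : ∃ z ∈ zc (S : Subgroup G), e z = ![1, 0] := by
    by_contra hcon'
    push Not at hcon'
    have hZD : zc (S : Subgroup G) ≤ D := by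
      intro z hz
      have hzW : z ∈ W := zc_le_zl _ _ hz
      by_contra hzD
      refine hcon' z hz ?_
      have h1 : e z ≠ 0 := fun h => hzD ((ker z hzW).1 h)
      have h3 := a₀ z hzW
      have h4 : u₀ * z * u₀⁻¹ = z := by
        rw [(mem_zc.1 hz).2.1 u₀ (hUS hu₀)]
        group
      rw [h4] at h3
      have h5 : e z 0 = e z 0 + 1 * e z 1 := by
        have := congrFun h3 0
        rwa [AOne.ap_up_0] at this
      have h6 : e z 1 = 0 := by
        rw [one_mul] at h5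
        exact (left_eq_add.1 h5)
      have h7 : e z 0 = 1 := by
        refine eq_one_of_ne hF fun h => h1 ?_
        funext i
        fin_cases i
        · exact h
        · exact h6
      funext i
      fin_cases i
      · exact h7
      · exact h6
    have h1 : W ≤ D := zl_le hZD hPD
    have h3 := (ker w hw).2 (h1 hw)
    rw [hew0] at h3
    have := congrFun h3 1
    simp at this
  obtain ⟨z, hz, hez⟩ := hz
  have hzW : z ∈ W := zc_le_zl _ _ hz
  -- (c1)
  have c1 : ∀ u ∈ U, ∀ v ∈ W, e v 1 = 0 → u * v * u⁻¹ = v := by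
    intro u hu v hv h1
    obtain ⟨b, -, hd⟩ := acts u hu
    have hzu : u * z = z * u := (mem_zc.1 hz).2.1 u (hUS hu)
    rcases hF (e v 0) with h0 | h0
    · have h3 : v ∈ D := (ker v hv).1 (by funext i; fin_cases i; exacts [h0, h1])
      rw [← mem_centralizer_iff.1 hd v h3]
      group
    · have h3 : v * z⁻¹ ∈ D := by
        rw [← ker _ (W.mul_mem hv (W.inv_mem hzW)), mul v hv _ (W.inv_mem hzW), inv z hzW, hez]
        funext i
        fin_cases i
        · change e v 0 + -(1 : F) = 0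
          rw [h0, add_neg_cancel]
        · change e v 1 + -(0 : F) = 0
          rw [h1, neg_zero, add_zero]
      have h4 := mem_centralizer_iff.1 hd _ h3
      have h5 : u * (v * z⁻¹) * z = v * z⁻¹ * z * u := by
        rw [← h4, mul_assoc, mul_assoc, hzu]
        group
      have h6 : u * v = v * u := by
        calc u * v = u * (v * z⁻¹) * z := by group
          _ = v * z⁻¹ * z * u := h5
          _ = v * u := by group
      rw [h6]
      group
  set t := u₀ * w * u₀⁻¹ * w⁻¹ with ht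
  -- (c2)
  have c2 : ∀ u ∈ U, u ∉ centralizer (W : Set G) → ∀ v ∈ W, e v 1 ≠ 0 → u * v * u⁻¹ * v⁻¹ = t := by
    intro u hu huV v hv h1
    obtain ⟨a, d⟩ := acts1 u hu huV
    -- `u₀⁻¹ u` centralises `W`
    have hnorm : ∀ {x}, x ∈ U → x ∈ normalizer (W : Set G) := fun hx => hnW (hS (hUS hx))
    have h3 : u₀⁻¹ * u ∈ centralizer (W : Set G) := by
      refine cent _ (hS (hUS (mul_mem (inv_mem hu₀) hu))) ?_ (mul_mem (inv_mem d₀) d)
      have h4 := (a₀.inv (hnorm hu₀)).mul a (hnorm hu)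
      rw [inv_mul_cancel] at h4
      intro x hx
      rw [h4 x hx, ap_one]
    have h4 : u * w * u⁻¹ = u₀ * w * u₀⁻¹ := by
      have h5 := mem_centralizer_iff.1 h3 w hw
      calc u * w * u⁻¹ = u₀ * (u₀⁻¹ * u * w) * u⁻¹ := by group
        _ = u₀ * (w * (u₀⁻¹ * u)) * u⁻¹ := by rw [h5]
        _ = u₀ * w * u₀⁻¹ := by group
    have h5 : e (v * w⁻¹) 1 = 0 := by
      rw [mul v hv _ (W.inv_mem hw), inv w hw, hew0, Pi.add_apply, Pi.neg_apply, eq_one_of_ne hF h1]
      change (1 : F) + -1 = 0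
      rw [add_neg_cancel]
    have h6 := c1 u hu _ (W.mul_mem hv (W.inv_mem hw)) h5
    have h7 : u * v * u⁻¹ * v⁻¹ = (u * (v * w⁻¹) * u⁻¹) * (u * w * u⁻¹ * w⁻¹) * (v * w⁻¹)⁻¹ := by group
    have htW : u * w * u⁻¹ * w⁻¹ ∈ W := W.mul_mem (hcon (hS (hUS hu)) hw) (W.inv_mem hw)
    rw [h7, h6, habW _ (W.mul_mem hv (W.inv_mem hw)) _ htW, mul_inv_cancel_right, h4, ht]
  have htW : t ∈ W := W.mul_mem (hcon (hS (hUS hu₀)) hw) (W.inv_mem hw)
  have htz : t ∈ zc (S : Subgroup G) := by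
    refine mem_zc.2 ⟨hVS htW, fun s hs => ?_, by rw [pow_two]; exact hsqW t htW⟩
    have hsU : s * u₀ * s⁻¹ ∈ U := (mem_normalizer_iff.1 (hSU hs) _).1 hu₀
    have hsV : s * u₀ * s⁻¹ ∉ centralizer (W : Set G) := fun h =>
      hu₀V ((mem_normalizer_iff.1 (conj_cent (hnW (hS hs))) _).2 h)
    have h1 : e (s * w * s⁻¹) 1 ≠ 0 := by
      obtain ⟨σ, hσ⟩ := M.line s hs
      have h3 := hσ w hw 0
      rw [Subsingleton.elim (σ 0) 0] at h3
      intro h4
      have h5 : e w 1 = 0 := h3.1 h4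
      rw [hew0] at h5
      exact one_ne_zero h5
    have h3 := c2 _ hsU hsV _ (hcon (hS hs) hw) h1
    have h4 : s * u₀ * s⁻¹ * (s * w * s⁻¹) * (s * u₀ * s⁻¹)⁻¹ * (s * w * s⁻¹)⁻¹ = s * t * s⁻¹ := by
      rw [ht]; group
    rw [h4] at h3
    calc s * t = s * t * s⁻¹ * s := by group
      _ = t * s := by rw [h3]
  -- the element `p`
  obtain ⟨p, hp, hpA, hpD⟩ := M.lift fun _ => up 1 * lo 1
  have hpa : Act e W p (up 1 * lo 1) := fun v hv => hpA v hv 0
  have hpd : p ∈ centralizer (D : Set G) := mem_centralizer_iff.2 fun d hd => (hpD d hd).symm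
  refine ⟨t, p, hPH.par, hPH.long, htz, fun v hv u hu => ?_, hPH.ne', hp, fun u hu huV => ?_, hgen⟩
  · by_cases huV : u ∈ centralizer (W : Set G)
    · left
      have h1 := mem_centralizer_iff.1 huV v hv
      rw [← h1]
      group
    · by_cases h1 : e v 1 = 0
      · left
        rw [c1 u hu v hv h1, mul_inv_cancel]
      · exact Or.inr (c2 u hu huV v hv h1)
  · have huP : u ∈ P := hS (hUS hu)
    obtain ⟨a, d⟩ := acts1 u hu huV
    have h1 : p * u⁻¹ * p⁻¹ * u * p ∈ centralizer (W : Set G) := by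
      refine cent _ (mul_mem (mul_mem (mul_mem (mul_mem hp (inv_mem huP)) (inv_mem hp)) huP) hp) ?_
        (mul_mem (mul_mem (mul_mem (mul_mem hpd (inv_mem d)) (inv_mem hpd)) d) hpd)
      have nu : u ∈ normalizer (W : Set G) := hnW huP
      have np : p ∈ normalizer (W : Set G) := hnW hp
      have h3 := (((hpa.mul (a.inv nu) (inv_mem nu)).mul (hpa.inv np) (inv_mem np)).mul a nu).mul hpa np
      rw [word_eq] at h3
      intro x hx
      rw [h3 x hx, ap_one]
    exact ((centralizer_le (zc_le_zl _ _)).trans hPH.long.cz) h1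

/-- **R ∩ (A), `q = 2`, `k = 1`** (#16559 (0)-(3)): there is a long `H₁ ≤ H` with `U_{H₁} = U_H` such that
`T^t = U^t ∩ (U^t)^p` is moved by `⟨V^{H₁}⟩`. -/
theorem exists_Tt (hc : IsCharacteristicTwoType G) (Da : Data (S : Subgroup G))
    (hPH : PairA (S : Subgroup G) P H)
    (hoff : Off (zl (S : Subgroup G) P) (zl (S : Subgroup G) H)) (hF : ∀ x : F, x = 0 ∨ x = 1)
    (M : NatK F (S : Subgroup G) P (zl (S : Subgroup G) P) D 1) (hDV : D ≤ zl (S : Subgroup G) P) :
    ∃ H₁ ≤ H, ∃ t p, zl (S : Subgroup G) H₁ = zl (S : Subgroup G) H ∧ Two (S : Subgroup G) P H₁ t p ∧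
      ¬ Tt t p H₁ ≤ centralizer (V (zl (S : Subgroup G) P) H₁ : Set G) := by
  obtain ⟨H₁, h1, h3, h4, h5⟩ := exists_gen hPH.long
  have hPH' : PairA (S : Subgroup G) P H₁ := ⟨hPH.par, h3, by rw [h4]; exact hPH.ne⟩
  obtain ⟨t, p, T⟩ := exists_two hc hPH' (by rw [h4]; exact hoff) hF M hDV h5
  exact ⟨H₁, h1, t, p, h4, T, T.not_le_K hc Da⟩

end nat

end Cfsg.Agent.Omega.NOThreeL.RTransv
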