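import Cfsg.Agent.Omega.NOThreeL.RSplit.Final
import Cfsg.Agent.Omega.NOThreeL.RA.NsOne
import Cfsg.Agent.Omega.NOThreeL.KTwo.End

/-!
# NO-3L, box `R ∩ (A)`: `NatBig` from its last leaf `NsF`

* `natBig_of_nsF` : `NsF` (`k = 1`, not split, `|Z/C_Z(P)| < |F|`) implies `NatBig`;
* `rg_of_nsF` : `NsF`, `RBz K`, `RBc K` imply `Merge.RG K`.
-/

set_option autoImplicit false

namespace Cfsg.Agent.Omega.NOThreeL.RTreeNsF

open Cfsg Cfsg.Agent.Omega.Frame Cfsg.Agent.Omega.MinPar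
open Cfsg.Agent.Omega.NOThreeL.RTree (RBz RBc)
open Cfsg.Agent.Omega.NOThreeL.RTreeA

universe u

/-- **`NatBig` from `NsF`** -/
theorem natBig_of_nsF (hf : NsF.{u}) : NatBig.{u} :=
  RSplit.Final.natBig_of' KTwo.thmK RA.nsOne hf

/-- **box R** from `NsF` and the leaves of the other boxes -/
theorem rg_of_nsF {K : Cls.{u}} (hf : NsF.{u}) (hz : RBz K) (hc : RBc K) : Merge.RG K :=
  rg_of' (natBig_of_nsF hf) hz hc

end Cfsg.Agent.Omega.NOThreeL.RTreeNsF
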