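import Cfsg.Agent.Omega.NO3b.NoEmp

/-!
# LEMMA SM (helper833 #16516): semi-mutual pairs commute

Frame: `V` is not FF, the lines (= conjugates of `V`) satisfy THEOREM TI (`TIprop`): two lines which meet
nontrivially commute. K-free, no `NOOVER`.

* `semi` : LEMMA SM. `U = ⟨V_b : b ∈ B⟩` abelian, normalised by `X`, `O₂(X) ≤ N(V_b)` for `b ∈ B`,
  `V_a ≤ X` a line, `U ≤ N(V_a)`. Then `[U,V_a] = 1`;
* `wx_comm`, `not_le_of_critical` : COROLLARY (1), for the points `Z^x`, `W_x = ⟨lines on Z^x⟩`;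
* `wx_le_cent_clo`, `exists_critical` : COROLLARY (2), for `H₁, H₂ ≥ C_G(Z)` of characteristic 2 and
  `F_i = ⟨V^{H_i}⟩`;
* `inf_cent_eq_bot`, `card_inf_le`, `isPGroup_of_inf` : COROLLARY (3).
-/

set_option autoImplicit false

namespace Cfsg.Agent.Omega.NOThreeL.SemiMutual

open Subgroup Cfsg Cfsg.Agent.ZN.ChoiceBase Cfsg.Agent.ZN.ChoiceSit
open Cfsg.Agent.ZN (o2 zc)
open Cfsg.Agent.MinSimple.EmptyTI (syl_of_le)
open Cfsg.Agent.Omega.NO3b.EZero (NotFF comm_of_norm cent_symm cj_cent cj_norm cj_eq_cj_iff mem_cj_self)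
open Cfsg.Agent.Omega.NO3b.NoEmp
open scoped commutatorElement

universe u

variable {G : Type u} [Group G]

/-- Two lines which meet nontrivially commute (the conclusion of THEOREM TI, `Lines.comm_of_inter`). -/
def TIprop (V : Subgroup G) : Prop :=
  ∀ a b : G, cj a V ⊓ cj b V ≠ ⊥ → cj a V ≤ centralizer ((cj b V : Subgroup G) : Set G)

theorem tiprop_of_lines [Finite G] {S : Sylow 2 G} {J V : Subgroup G} (h : Lines S J V)
    (hc : ∀ D : Subgroup G, D ≤ V → D ≠ ⊥ →
      centralizer (D : Set G) ⊓ centralizer (o2 (centralizer (D : Set G)) : Set G) ≤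
        o2 (centralizer (D : Set G))) : TIprop V := fun _ _ hD => h.comm_of_inter hc hD

theorem comm_iff {v w : G} : ⁅v, w⁆ = 1 ↔ v * w = w * v := commutatorElement_eq_one_iff_mul_comm

/-- A subgroup generated by lines which is abelian has exponent 2. -/
theorem sq_of_gen {U V : Subgroup G} {B : Set G} (hU : U = ⨆ b ∈ B, cj b V)
    (hV2 : ∀ v ∈ V, v ^ 2 = 1) (hUc : ∀ x ∈ U, ∀ y ∈ U, x * y = y * x) : ∀ x ∈ U, x ^ 2 = 1 := by
  let E : Subgroup G :=
    { carrier := {x | x ∈ U ∧ x ^ 2 = 1}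
      mul_mem' := by
        rintro x y ⟨hx, hx2⟩ ⟨hy, hy2⟩
        refine ⟨mul_mem hx hy, ?_⟩
        have e : (x * y) ^ 2 = x * (y * x) * y := by rw [pow_two]; group
        rw [e, hUc y hy x hx]
        have e2 : x * (x * y) * y = x ^ 2 * y ^ 2 := by rw [pow_two, pow_two]; group
        rw [e2, hx2, hy2, one_mul]
      one_mem' := ⟨one_mem _, one_pow 2⟩
      inv_mem' := by
        rintro x ⟨hx, hx2⟩
        exact ⟨inv_mem hx, by rw [inv_pow, hx2, inv_one]⟩ }
  have hE : U ≤ E := by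
    conv_lhs => rw [hU]
    refine iSup₂_le fun b hb x hx => ?_
    refine ⟨?_, ?_⟩
    · rw [hU]; exact (le_iSup₂_of_le (f := fun b (_ : b ∈ B) => cj b V) b hb le_rfl) hx
    · have h1 := hV2 _ (mem_cj.1 hx)
      have e : x ^ 2 = b * (b⁻¹ * x * b) ^ 2 * b⁻¹ := by rw [pow_two, pow_two]; group
      rw [e, h1]; group
  exact fun x hx => (hE hx).2

/-- **LEMMA SM** (helper833): semi-mutual pairs commute. -/
theorem semi [Finite G] {V : Subgroup G} (hnff : NotFF V) (hV : V ≤ centralizer (V : Set G))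
    (hV2 : ∀ v ∈ V, v ^ 2 = 1) (hTI : TIprop V) {X U : Subgroup G} {B : Set G}
    (hU : U = ⨆ b ∈ B, cj b V) (hUc : ∀ x ∈ U, ∀ y ∈ U, x * y = y * x)
    (hXU : X ≤ normalizer (U : Set G))
    (hB : ∀ b ∈ B, o2 X ≤ normalizer ((cj b V : Subgroup G) : Set G))
    {a : G} (haX : cj a V ≤ X) (hUa : U ≤ normalizer ((cj a V : Subgroup G) : Set G)) :
    cj a V ≤ centralizer (U : Set G) := by
  have hU2 := sq_of_gen hU hV2 hUc
  have hac : cj a V ≤ centralizer ((cj a V : Subgroup G) : Set G) := cj_cent hV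
  have haU : cj a V ≤ normalizer (U : Set G) := haX.trans hXU
  have hbU : ∀ b ∈ B, cj b V ≤ U := fun b hb => by
    rw [hU]; exact le_iSup₂_of_le (f := fun b (_ : b ∈ B) => cj b V) b hb le_rfl
  have hV0 : cj a V ⊓ o2 X ≤ centralizer (U : Set G) := by
    rintro v ⟨hv, hvo⟩
    have h1 : U ≤ centralizer ({v} : Set G) := by
      conv_lhs => rw [hU]
      refine iSup₂_le fun b hb w hw => ?_
      rw [mem_centralizer_iff]
      rintro y hy
      rw [Set.mem_singleton_iff] at hy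
      subst hy
      by_contra hcon
      have h2 : ⁅y, w⁆ ∈ cj a V ⊓ cj b V := by
        have e1 : ⁅y, w⁆ = y * (w * y⁻¹ * w⁻¹) := by simp only [commutatorElement_def]; group
        refine ⟨?_, ?_⟩
        · rw [e1]
          exact mul_mem hv (norm_iff (hUa (hbU b hb hw)) (inv_mem hv))
        · rw [commutatorElement_def]
          exact (cj b V).mul_mem (norm_iff (hB b hb hvo) hw) ((cj b V).inv_mem hw)
      have h3 : cj a V ⊓ cj b V ≠ ⊥ := by
        intro h0
        rw [h0, mem_bot, comm_iff] at h2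
        exact hcon h2
      exact hcon ((mem_centralizer_iff.1 (hTI a b h3 hv)) w hw).symm
    rw [mem_centralizer_iff]
    intro u hu
    exact ((mem_centralizer_iff.1 (h1 hu)) v rfl).symm
  by_cases hne : cj a V ⊓ U ≤ ⊥
  · intro v hv
    rw [mem_centralizer_iff]
    intro u hu
    have h1 := hne (comm_mem hUa haU hv hu)
    rw [mem_bot, comm_iff] at h1
    exact h1.symm
  · have h1 : cj a V ≤ o2 X := by
      refine le_o2_of (D := ⊥) (U := U) haX ?_ ?_ hUc hU2 hXU hUa bot_le bot_le ?_ hne hV0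
        (hnff.cj a) ?_
      · exact fun y hy z hz => ((mem_centralizer_iff.1 (hac hy)) z hz).symm
      · intro v hv
        have h1 := hV2 _ (mem_cj.1 hv)
        have e : v ^ 2 = a * (a⁻¹ * v * a) ^ 2 * a⁻¹ := by rw [pow_two, pow_two]; group
        rw [e, h1]; group
      · intro y _
        rw [mem_centralizer_iff]
        intro d hd
        rw [mem_bot.1 hd, one_mul, mul_one]
      · intro y hy z hz hyz
        rw [cj_cj, cj_cj] at hyz ⊢
        by_contra h0
        exact hyz (hTI _ _ fun h1 => h0 h1.le)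
    exact fun v hv => hV0 ⟨hv, h1 hv⟩

/-! ### The subgroups generated by lines -/

/-- `W_x`: the subgroup generated by the lines on the point `Z^x`. -/
def wx (V Z : Subgroup G) (x : G) : Subgroup G := ⨆ b ∈ {b : G | cj x Z ≤ cj b V}, cj b V

/-- `⟨V^H⟩`. -/
def clo (V H : Subgroup G) : Subgroup G := ⨆ b ∈ (H : Set G), cj b V

theorem le_wx {V Z : Subgroup G} {x b : G} (hb : cj x Z ≤ cj b V) : cj b V ≤ wx V Z x :=
  le_iSup₂_of_le (f := fun b (_ : b ∈ {b : G | cj x Z ≤ cj b V}) => cj b V) b hb le_rfl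

theorem le_clo {V H : Subgroup G} {b : G} (hb : b ∈ H) : cj b V ≤ clo V H :=
  le_iSup₂_of_le (f := fun b (_ : b ∈ (H : Set G)) => cj b V) b hb le_rfl

theorem comm_of_gen {V : Subgroup G} {B : Set G} {W : Subgroup G} (hW : W = ⨆ b ∈ B, cj b V)
    (h : ∀ a ∈ B, ∀ b ∈ B, cj a V ≤ centralizer ((cj b V : Subgroup G) : Set G)) :
    ∀ x ∈ W, ∀ y ∈ W, x * y = y * x := by
  have h1 : ∀ a ∈ B, W ≤ centralizer ((cj a V : Subgroup G) : Set G) := fun a ha => by
    rw [hW]; exact iSup₂_le fun b hb => h b hb a ha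
  have h2 : W ≤ centralizer (W : Set G) := by
    conv_lhs => rw [hW]
    exact iSup₂_le fun a ha => cent_symm (h1 a ha)
  exact fun x hx y hy => ((mem_centralizer_iff.1 (h2 hx)) y hy).symm

theorem le_norm_clo [Finite G] (V H : Subgroup G) : H ≤ normalizer (clo V H : Set G) := by
  intro g hg
  refine mem_normalizer_of_cj_le ?_
  change Subgroup.map _ (⨆ b ∈ (H : Set G), cj b V) ≤ _
  rw [Subgroup.map_iSup]
  refine iSup_le fun b => ?_
  rw [Subgroup.map_iSup]
  refine iSup_le fun hb => ?_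
  change cj g (cj b V) ≤ _
  rw [cj_cj]
  exact le_clo (mul_mem hg hb)

theorem cj_point_eq {Z : Subgroup G} {x c : G} (hc : c ∈ centralizer ((cj x Z : Subgroup G) : Set G)) :
    cj c (cj x Z) = cj x Z :=
  cj_eq_of_mem_normalizer (centralizer_le_normalizer _ hc)

theorem le_norm_wx [Finite G] (V Z : Subgroup G) (x : G) :
    centralizer ((cj x Z : Subgroup G) : Set G) ≤ normalizer (wx V Z x : Set G) := by
  intro g hg
  refine mem_normalizer_of_cj_le ?_
  change Subgroup.map _ (⨆ b ∈ {b : G | cj x Z ≤ cj b V}, cj b V) ≤ _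
  rw [Subgroup.map_iSup]
  refine iSup_le fun b => ?_
  rw [Subgroup.map_iSup]
  refine iSup_le fun hb => ?_
  change cj g (cj b V) ≤ _
  have h1 : cj x Z ≤ cj g (cj b V) := by
    have h2 := cj_mono g hb
    rwa [cj_point_eq hg] at h2
  rw [cj_cj] at h1 ⊢
  exact le_wx h1

section Points

variable {S : Sylow 2 G} {V : Subgroup G}

theorem wx_abel (hTI : TIprop V) (hZ : zc (S : Subgroup G) ≠ ⊥) (x : G) :
    ∀ y ∈ wx V (zc (S : Subgroup G)) x, ∀ z ∈ wx V (zc (S : Subgroup G)) x, y * z = z * y := by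
  refine comm_of_gen rfl fun a ha b hb => hTI a b ?_
  intro h0
  have h1 : cj x (zc (S : Subgroup G)) ≤ ⊥ := (le_inf ha hb).trans h0.le
  apply hZ
  have h2 := cj_mono x⁻¹ h1
  rw [cj_inv_cj] at h2
  exact le_bot_iff.1 (h2.trans (Subgroup.map_bot _).le)

variable [Finite G] {J : Subgroup G} (h : Lines S J V) (hTI : TIprop V)
include h

theorem cj_J_le {x b : G} (hb : cj x (zc (S : Subgroup G)) ≤ cj b V) :
    cj b J ≤ centralizer ((cj x (zc (S : Subgroup G)) : Subgroup G) : Set G) :=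
  (cj_cent h.JV).trans (centralizer_le hb)

/-- `O₂(C_G(Z^x))` normalises the lines on `Z^x`. -/
theorem q_le_norm {x b : G} (hb : cj x (zc (S : Subgroup G)) ≤ cj b V) :
    o2 (centralizer ((cj x (zc (S : Subgroup G)) : Subgroup G) : Set G)) ≤
      normalizer ((cj b V : Subgroup G) : Set G) := by
  have h1 := h.o2_le_norm (cj_J_le h hb) (one_mem _)
  rwa [one_mul] at h1

include hTI

/-- **COROLLARY (1)**: `W_x ≤ O₂(C_G(Z_y))` and `W_y ≤ C_G(Z_x)` imply `[W_x,W_y] = 1`. -/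
theorem wx_comm (hZ : zc (S : Subgroup G) ≠ ⊥) {x y : G}
    (h1 : wx V (zc (S : Subgroup G)) x ≤
      o2 (centralizer ((cj y (zc (S : Subgroup G)) : Subgroup G) : Set G)))
    (h2 : wx V (zc (S : Subgroup G)) y ≤
      centralizer ((cj x (zc (S : Subgroup G)) : Subgroup G) : Set G)) :
    wx V (zc (S : Subgroup G)) y ≤ centralizer (wx V (zc (S : Subgroup G)) x : Set G) := by
  refine iSup₂_le fun b hb => ?_
  exact semi h.nff h.comm h.sq hTI (X := centralizer ((cj x (zc (S : Subgroup G)) : Subgroup G) : Set G))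
    (U := wx V (zc (S : Subgroup G)) x) rfl (wx_abel hTI hZ x) (le_norm_wx _ _ _)
    (fun c hc => q_le_norm h hc) ((le_wx hb).trans h2) (h1.trans (q_le_norm h hb))

/-- In every critical pair `W_x ≰ O₂(C_G(Z_y))` and `W_y ≰ O₂(C_G(Z_x))`. -/
theorem not_le_of_critical (hZ : zc (S : Subgroup G) ≠ ⊥) {x y : G}
    (h1 : wx V (zc (S : Subgroup G)) x ≤
      centralizer ((cj y (zc (S : Subgroup G)) : Subgroup G) : Set G))
    (h2 : wx V (zc (S : Subgroup G)) y ≤
      centralizer ((cj x (zc (S : Subgroup G)) : Subgroup G) : Set G))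
    (hn : ¬ wx V (zc (S : Subgroup G)) y ≤ centralizer (wx V (zc (S : Subgroup G)) x : Set G)) :
    ¬ wx V (zc (S : Subgroup G)) x ≤
      o2 (centralizer ((cj y (zc (S : Subgroup G)) : Subgroup G) : Set G)) ∧
    ¬ wx V (zc (S : Subgroup G)) y ≤
      o2 (centralizer ((cj x (zc (S : Subgroup G)) : Subgroup G) : Set G)) :=
  ⟨fun h3 => hn (wx_comm h hTI hZ h3 h2), fun h3 => hn (cent_symm (wx_comm h hTI hZ h3 h1))⟩

end Points

/-! ### Two groups `H₁, H₂ ≥ C_G(Z)` of characteristic 2 -/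

section Two

variable [Finite G] {S : Sylow 2 G} {J V : Subgroup G} (h : Lines S J V)
  (hc : ∀ D : Subgroup G, D ≤ V → D ≠ ⊥ →
      centralizer (D : Set G) ⊓ centralizer (o2 (centralizer (D : Set G)) : Set G) ≤
        o2 (centralizer (D : Set G)))
  {H H₁ H₂ : Subgroup G}
include h

theorem J_le (hCH : centralizer (zc (S : Subgroup G) : Set G) ≤ H) : J ≤ H :=
  (h.JV.trans (centralizer_le h.ZV)).trans hCH

theorem V_le (hCH : centralizer (zc (S : Subgroup G) : Set G) ≤ H) : V ≤ H :=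
  (h.comm.trans (centralizer_le h.ZV)).trans hCH

omit [Finite G] h in
theorem S_le_cent : (S : Subgroup G) ≤ centralizer (zc (S : Subgroup G) : Set G) := by
  intro s hs
  rw [mem_centralizer_iff]
  exact fun z hz => ((mem_zc.1 hz).2.2 s hs).symm

/-- The lines on the points of `H` lie in `⟨V^H⟩`. -/
theorem wx_le_clo (hCH : centralizer (zc (S : Subgroup G) : Set G) ≤ H) {x : G} (hx : x ∈ H) :
    wx V (zc (S : Subgroup G)) x ≤ clo V H := by
  refine iSup₂_le fun b hb => ?_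
  obtain ⟨c, hc', hcb⟩ := h.exists_conj (cj_J_le h (x := x) (b := x) (cj_mono x h.ZV)) (cj_J_le h hb)
  have h1 : centralizer ((cj x (zc (S : Subgroup G)) : Subgroup G) : Set G) ≤ H := by
    rw [← cj_centralizer]
    have h2 := cj_mono x hCH
    rwa [cj_eq_of_mem_normalizer (Subgroup.le_normalizer hx)] at h2
  rw [← hcb, cj_cj]
  exact le_clo (mul_mem (h1 hc') hx)

omit h in
/-- `O₂(H) ≤ O₂(C_G(Z))` for `H ≥ C_G(Z)`. -/
theorem o2_le_q (hCH : centralizer (zc (S : Subgroup G) : Set G) ≤ H) :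
    o2 H ≤ o2 (centralizer (zc (S : Subgroup G) : Set G)) := by
  have h1 : o2 H ≤ (S : Subgroup G) := o2_le_syl (syl_of_le (S_le_cent.trans hCH))
  exact Cfsg.Agent.ZN.ChoiceSit.le_o2 (isPGroup_o2 H) (h1.trans S_le_cent) (hCH.trans (le_normalizer_o2 H))

include hc

theorem clo_abel (hX : H ⊓ centralizer (o2 H : Set G) ≤ o2 H)
    (hCH : centralizer (zc (S : Subgroup G) : Set G) ≤ H) :
    ∀ x ∈ clo V H, ∀ y ∈ clo V H, x * y = y * x :=
  comm_of_gen rfl fun _ ha _ hb => h.comm_of_mem hc hX (J_le h hCH) (V_le h hCH) ha hb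

theorem clo_le_o2 (hX : H ⊓ centralizer (o2 H : Set G) ≤ o2 H)
    (hCH : centralizer (zc (S : Subgroup G) : Set G) ≤ H) : clo V H ≤ o2 H := by
  have h1 := h.le_o2 hc hX (J_le h hCH) (V_le h hCH)
  refine iSup₂_le fun b hb => ?_
  have h3 := cj_mono b h1
  rwa [cj_eq_of_mem_normalizer (le_normalizer_o2 H hb)] at h3

theorem clo_le_cent (hX : H ⊓ centralizer (o2 H : Set G) ≤ o2 H)
    (hCH : centralizer (zc (S : Subgroup G) : Set G) ≤ H) :
    clo V H ≤ centralizer (zc (S : Subgroup G) : Set G) := by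
  intro x hx
  rw [mem_centralizer_iff]
  intro z hz
  refine clo_abel h hc hX hCH z ?_ x hx
  have h1 := le_clo (V := V) (one_mem H)
  rw [cj_one] at h1
  exact h1 (h.ZV hz)

/-- **COROLLARY (2)**, first half: for the points `x` of `H₁`, `F₂ ≤ O₂(C_G(Z_x))` implies
`[F₂,W_x] = 1`. -/
theorem wx_le_cent_clo (hX₁ : H₁ ⊓ centralizer (o2 H₁ : Set G) ≤ o2 H₁)
    (hC₁ : centralizer (zc (S : Subgroup G) : Set G) ≤ H₁)
    (hX₂ : H₂ ⊓ centralizer (o2 H₂ : Set G) ≤ o2 H₂)
    (hC₂ : centralizer (zc (S : Subgroup G) : Set G) ≤ H₂) {x : G} (hx : x ∈ H₁)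
    (h1 : clo V H₂ ≤ o2 (centralizer ((cj x (zc (S : Subgroup G)) : Subgroup G) : Set G))) :
    wx V (zc (S : Subgroup G)) x ≤ centralizer (clo V H₂ : Set G) := by
  refine iSup₂_le fun b hb => ?_
  refine semi h.nff h.comm h.sq (tiprop_of_lines h hc) (X := H₂) (U := clo V H₂) (B := (H₂ : Set G)) rfl
    (clo_abel h hc hX₂ hC₂) (le_norm_clo V H₂) (fun c hc' => ?_) ?_ (h1.trans (q_le_norm h hb))
  · have h2 := h.o2_le_norm (a := 1) (by rw [cj_one]; exact J_le h hC₂) hc'
    rwa [mul_one] at h2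
  · exact (le_wx hb).trans ((wx_le_clo h hC₁ hx).trans ((clo_le_cent h hc hX₁ hC₁).trans hC₂))

/-- **COROLLARY (2)**: if `F₁`, `F₂` do not commute and `H₁ = ⟨C_G(Z), N_{H₁}(V)⟩`, there are a point
`Z_x` and a line `V_b` on it, both in `F₁`, with `F₂ ≤ O₂(C_G(V_b))` (hence `F₂ ≤ C_G(Z_x)`) and
`F₂ ≰ O₂(C_G(Z_x))`. -/
theorem exists_critical (hX₁ : H₁ ⊓ centralizer (o2 H₁ : Set G) ≤ o2 H₁)
    (hC₁ : centralizer (zc (S : Subgroup G) : Set G) ≤ H₁)
    (hconn : H₁ ≤ centralizer (zc (S : Subgroup G) : Set G) ⊔ (H₁ ⊓ normalizer (V : Set G)))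
    (hX₂ : H₂ ⊓ centralizer (o2 H₂ : Set G) ≤ o2 H₂)
    (hC₂ : centralizer (zc (S : Subgroup G) : Set G) ≤ H₂)
    (hn : ¬ clo V H₁ ≤ centralizer (clo V H₂ : Set G)) :
    ∃ x ∈ H₁, ∃ b ∈ H₁, cj x (zc (S : Subgroup G)) ≤ cj b V ∧
      clo V H₂ ≤ o2 (centralizer ((cj b V : Subgroup G) : Set G)) ∧
      clo V H₂ ≤ centralizer ((cj x (zc (S : Subgroup G)) : Subgroup G) : Set G) ∧
      ¬ clo V H₂ ≤ o2 (centralizer ((cj x (zc (S : Subgroup G)) : Subgroup G) : Set G)) := by
  by_contra hcon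
  have key : ∀ x ∈ H₁, ∀ b ∈ H₁, cj x (zc (S : Subgroup G)) ≤ cj b V →
      clo V H₂ ≤ o2 (centralizer ((cj b V : Subgroup G) : Set G)) →
      clo V H₂ ≤ o2 (centralizer ((cj x (zc (S : Subgroup G)) : Subgroup G) : Set G)) := by
    intro x hx b hb h1 h2
    by_contra h3
    exact hcon ⟨x, hx, b, hb, h1, h2, (h2.trans (o2_le _)).trans (centralizer_le h1), h3⟩
  -- `F₂ ≤ O₂(C_G(Z_x))` for all points of `H₁`
  have hall : ∀ x ∈ centralizer (zc (S : Subgroup G) : Set G) ⊔ (H₁ ⊓ normalizer (V : Set G)),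
      clo V H₂ ≤ o2 (centralizer ((cj x (zc (S : Subgroup G)) : Subgroup G) : Set G)) := by
    have hsup : centralizer (zc (S : Subgroup G) : Set G) ⊔ (H₁ ⊓ normalizer (V : Set G)) ≤ H₁ :=
      sup_le hC₁ inf_le_left
    have step : ∀ x ∈ H₁, clo V H₂ ≤
        o2 (centralizer ((cj x (zc (S : Subgroup G)) : Subgroup G) : Set G)) →
        ∀ y : G, (y ∈ centralizer (zc (S : Subgroup G) : Set G) ∨ y ∈ H₁ ⊓ normalizer (V : Set G)) →
        clo V H₂ ≤ o2 (centralizer ((cj (x * y) (zc (S : Subgroup G)) : Subgroup G) : Set G)) := by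
      rintro x hx h1 y (hy | hy)
      · rw [← cj_cj, cj_eq_of_mem_normalizer (centralizer_le_normalizer _ hy)]
        exact h1
      · have h2 : cj (x * y) V = cj x V := by
          rw [← cj_cj, cj_eq_of_mem_normalizer hy.2]
        refine key (x * y) (mul_mem hx hy.1) x hx ?_ ?_
        · rw [← h2]; exact cj_mono _ h.ZV
        · have h3 := wx_le_cent_clo h hc hX₁ hC₁ hX₂ hC₂ hx h1
          have h4 : clo V H₂ ≤ centralizer ((cj x V : Subgroup G) : Set G) :=
            cent_symm ((le_wx (cj_mono x h.ZV)).trans h3)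
          have h5 : centralizer ((cj x V : Subgroup G) : Set G) ≤
              centralizer ((cj x (zc (S : Subgroup G)) : Subgroup G) : Set G) :=
            centralizer_le (cj_mono x h.ZV)
          refine (le_inf h1 h4).trans ?_
          refine Cfsg.Agent.ZN.ChoiceSit.le_o2 ((isPGroup_o2 _).to_le inf_le_left) inf_le_right ?_
          intro g hg
          refine mem_normalizer_of_cj_le ?_
          rw [cj_inf, cj_eq_of_mem_normalizer (le_normalizer_o2 _ (h5 hg)),
            cj_eq_of_mem_normalizer (Subgroup.le_normalizer hg)]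
    intro x hx
    rw [Subgroup.sup_eq_closure] at hx
    have hin : ∀ y ∈ Subgroup.closure ((centralizer (zc (S : Subgroup G) : Set G) : Set G) ∪
        ((H₁ ⊓ normalizer (V : Set G) : Subgroup G) : Set G)), y ∈ H₁ := fun y hy =>
      hsup (by rw [Subgroup.sup_eq_closure]; exact hy)
    induction hx using Subgroup.closure_induction_right with
    | one =>
      rw [cj_one]
      exact (clo_le_o2 h hc hX₂ hC₂).trans (o2_le_q hC₂)
    | mul_right x hx y hy ih => exact step x (hin x hx) ih y hy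
    | mul_inv_cancel x hx y hy ih =>
      refine step x (hin x hx) ih y⁻¹ ?_
      rcases hy with hy | hy
      · exact Or.inl (inv_mem hy)
      · exact Or.inr ((H₁ ⊓ normalizer (V : Set G)).inv_mem hy)
  apply hn
  refine iSup₂_le fun b hb => ?_
  exact (le_wx (cj_mono b h.ZV)).trans
    (wx_le_cent_clo h hc hX₁ hC₁ hX₂ hC₂ hb (hall b (hconn hb)))

/-- `V_b ≤ O₂(C_G(r))` for `1 ≠ r ∈ V_b`: COROLLARY (*) of THEOREM TI. -/
theorem line_le_o2_cent {b r : G} (hr : r ∈ cj b V) (hr1 : r ≠ 1) :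
    cj b V ≤ o2 (centralizer ({r} : Set G)) := by
  set D : Subgroup G := zpowers (b⁻¹ * r * b) with hD
  have hDV : D ≤ V := by rw [hD, zpowers_le]; exact mem_cj.1 hr
  have hD1 : D ≠ ⊥ := by
    rw [hD, Ne, zpowers_eq_bot]
    intro h0
    apply hr1
    have e : r = b * (b⁻¹ * r * b) * b⁻¹ := by group
    rw [e, h0]; group
  have hX := hc D hDV hD1
  have hX' : cj b (centralizer (D : Set G)) ⊓
      centralizer (o2 (cj b (centralizer (D : Set G))) : Set G) ≤ o2 (cj b (centralizer (D : Set G))) := by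
    rw [o2_cj]
    have h1 := cj_mono b hX
    rw [cj_inf, cj_centralizer b (o2 (centralizer (D : Set G)))] at h1
    exact h1
  have h2 := h.le_o2' hc hX' (cj_mono b (h.JV.trans (centralizer_le hDV)))
    (cj_mono b (h.comm.trans (centralizer_le hDV)))
  have hcr : cj b (centralizer (D : Set G)) = centralizer ({r} : Set G) := by
    have h3 : cj b D = zpowers r := by
      rw [hD]
      change Subgroup.map _ _ = _
      rw [MonoidHom.map_zpowers]
      congr 1
      simp only [MulEquiv.toMonoidHom_eq_coe, MonoidHom.coe_coe, MulAut.conj_apply]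
      group
    rw [cj_centralizer, h3, zpowers_eq_closure, centralizer_closure]
  rwa [hcr] at h2

/-- **COROLLARY (3)**, first part: an element `a` of a line `V_b` inverts `t ≠ 1` of odd order:
`C_{V_b}(t) = 1`. -/
theorem inf_cent_eq_bot {b a t : G} (ha : a ∈ cj b V) (ht : Odd (orderOf t)) (ht1 : t ≠ 1)
    (hat : a * t * a⁻¹ = t⁻¹) : cj b V ⊓ centralizer ({t} : Set G) = ⊥ := by
  rw [eq_bot_iff]
  rintro r ⟨hr, hrt⟩
  rw [mem_bot]
  by_contra hr1
  have h2 := line_le_o2_cent h hc hr hr1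
  have htX : t ∈ centralizer ({r} : Set G) := by
    rw [mem_centralizer_iff]
    intro y hy
    rw [Set.mem_singleton_iff] at hy
    rw [hy]
    exact (mem_centralizer_iff.1 hrt t rfl).symm
  have h3 : t * a * t⁻¹ ∈ o2 (centralizer ({r} : Set G)) := norm_iff (le_normalizer_o2 _ htX) (h2 ha)
  have h4 : t * a * t⁻¹ * a⁻¹ ∈ o2 (centralizer ({r} : Set G)) := mul_mem h3 (inv_mem (h2 ha))
  have e : t * a * t⁻¹ * a⁻¹ = t * t := by
    have e1 : a * t⁻¹ * a⁻¹ = t := by
      have h5 := congrArg (·⁻¹) hat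
      simp only [mul_inv_rev, inv_inv] at h5
      rw [← mul_assoc] at h5
      exact h5
    calc t * a * t⁻¹ * a⁻¹ = t * (a * t⁻¹ * a⁻¹) := by group
      _ = t * t := by rw [e1]
  rw [e, ← pow_two] at h4
  obtain ⟨k, hk⟩ := (isPGroup_o2 (centralizer ({r} : Set G))) ⟨t ^ 2, h4⟩
  have hk' : (t ^ 2) ^ 2 ^ k = 1 := by simpa using congrArg Subtype.val hk
  have h5 : orderOf t ∣ 2 ^ (k + 1) := by
    rw [orderOf_dvd_iff_pow_eq_one, pow_succ', pow_mul]; exact hk'
  have h6 : Nat.Coprime (orderOf t) (2 ^ (k + 1)) := ht.coprime_two_right.pow_right _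
  have h7 : orderOf t = 1 := by
    rw [← Nat.gcd_eq_left h5]; exact h6
  exact ht1 (orderOf_eq_one_iff.1 h7)

/-- **COROLLARY (3)**, second part: `|V_b ∩ U| ≤ |U : C_U(a)|` for every subgroup `U` normalised by `t`. -/
theorem card_inf_le {b a t : G} {U : Subgroup G} (ha : a ∈ cj b V) (ht : Odd (orderOf t)) (ht1 : t ≠ 1)
    (hat : a * t * a⁻¹ = t⁻¹) (htU : t ∈ normalizer (U : Set G)) :
    Nat.card (cj b V ⊓ U : Subgroup G) ≤ (centralizer ({a} : Set G)).relIndex U := by
  have hbot := inf_cent_eq_bot h hc ha ht ht1 hat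
  have e1 : a * t⁻¹ * a⁻¹ = t := by
    have h5 := congrArg (·⁻¹) hat
    simp only [mul_inv_rev, inv_inv] at h5
    rw [← mul_assoc] at h5
    exact h5
  let f : (cj b V ⊓ U : Subgroup G) → U ⧸ ((centralizer ({a} : Set G)).subgroupOf U) :=
    fun u => QuotientGroup.mk ⟨t * u * t⁻¹, norm_iff htU u.2.2⟩
  have hf : Function.Injective f := by
    intro u u' huu
    have h1 := QuotientGroup.eq.1 huu
    rw [mem_subgroupOf, mem_centralizer_iff] at h1
    have h2 := h1 a rfl
    set w : G := (u : G)⁻¹ * u' with hw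
    have hwV : w ∈ cj b V := mul_mem (inv_mem u.2.1) u'.2.1
    have hwa : a * w * a⁻¹ = w := by
      have h3 := (mem_centralizer_iff.1 (cj_cent (g := b) h.comm ha)) w hwV
      rw [← h3, mul_inv_cancel_right]
    have h3 : a * (t * w * t⁻¹) = t * w * t⁻¹ * a := by
      have e2 : ((t * (u : G) * t⁻¹)⁻¹ * (t * (u' : G) * t⁻¹)) = t * w * t⁻¹ := by
        rw [hw]; group
      rw [← e2]; exact h2
    have h4 : t⁻¹ * w * t = t * w * t⁻¹ := by
      calc t⁻¹ * w * t = (a * t * a⁻¹) * (a * w * a⁻¹) * (a * t⁻¹ * a⁻¹) := by rw [hat, hwa, e1]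
        _ = a * (t * w * t⁻¹) * a⁻¹ := by group
        _ = t * w * t⁻¹ := by rw [h3, mul_inv_cancel_right]
    have h5 : w * t ^ 2 = t ^ 2 * w := by
      calc w * t ^ 2 = t * (t⁻¹ * w * t) * t := by rw [pow_two]; group
        _ = t * (t * w * t⁻¹) * t := by rw [h4]
        _ = t ^ 2 * w := by rw [pow_two]; group
    have h6 : Commute w t := by
      obtain ⟨k, hk⟩ := ht
      have h7 : t = (t ^ 2) ^ (k + 1) := by
        have h8 : t ^ (2 * k + 1) = 1 := by rw [← hk]; exact pow_orderOf_eq_one t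
        rw [← pow_mul, show 2 * (k + 1) = (2 * k + 1) + 1 by ring, pow_succ, h8, one_mul]
      rw [h7]
      exact (show Commute w (t ^ 2) from h5).pow_right _
    have h7 : w ∈ cj b V ⊓ centralizer ({t} : Set G) := by
      refine ⟨hwV, mem_centralizer_iff.2 ?_⟩
      intro y hy
      rw [Set.mem_singleton_iff] at hy
      rw [hy]; exact h6.eq.symm
    rw [hbot, mem_bot, hw, inv_mul_eq_one] at h7
    exact Subtype.ext h7
  exact Nat.card_le_card_of_injective f hf

/-- **COROLLARY (3)**, third part: `a` in the line `V_b` and in the abelian 2-group `F`; if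
`V_b ∩ F^g ≠ 1` then `⟨a,a^g⟩` is a 2-group. -/
theorem isPGroup_of_inf {b a g : G} {F : Subgroup G} (ha : a ∈ cj b V) (haF : a ∈ F)
    (hFc : ∀ x ∈ F, ∀ y ∈ F, x * y = y * x) (hF : IsPGroup 2 F) (hne : cj b V ⊓ cj g F ≠ ⊥) :
    IsPGroup 2 (Subgroup.closure {a, g * a * g⁻¹} : Subgroup G) := by
  have : Fact (Nat.Prime 2) := ⟨Nat.prime_two⟩
  obtain ⟨r, hr, hr1⟩ : ∃ r, r ∈ cj b V ⊓ cj g F ∧ r ≠ 1 := by
    obtain ⟨r, hr⟩ := Subgroup.ne_bot_iff_exists_ne_one.1 hne
    exact ⟨r.1, r.2, fun h0 => hr (Subtype.ext h0)⟩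
  have h2 := line_le_o2_cent h hc hr.1 hr1
  have h3 : cj g F ≤ centralizer ({r} : Set G) := by
    intro y hy
    rw [mem_centralizer_iff]
    intro x hx
    rw [Set.mem_singleton_iff] at hx
    rw [hx]
    have h4 := hFc _ (mem_cj.1 hr.2) _ (mem_cj.1 hy)
    have e1 : r * y = g * ((g⁻¹ * r * g) * (g⁻¹ * y * g)) * g⁻¹ := by group
    have e2 : y * r = g * ((g⁻¹ * y * g) * (g⁻¹ * r * g)) * g⁻¹ := by group
    rw [e1, e2, h4]
  have h4 : IsPGroup 2 (cj g F ⊔ o2 (centralizer ({r} : Set G)) : Subgroup G) :=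
    IsPGroup.to_sup_of_normal_right' (isPGroup_cj g hF) (isPGroup_o2 _)
      (h3.trans (le_normalizer_o2 _))
  refine h4.to_le ?_
  rw [Subgroup.closure_le]
  rintro x (hx | hx)
  · rw [hx]; exact mem_sup_right (h2 ha)
  · rw [Set.mem_singleton_iff] at hx
    rw [hx]; exact mem_sup_left (mem_cj_self haF)

end Two

end Cfsg.Agent.Omega.NOThreeL.SemiMutual
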