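import Cfsg.Agent.Omega.NOThreeL.AdjTransv

/-!
# NO-3L, `|Z| = 2`: DICHOTOMY and SWAP TRICK (#15935 (1), (2), helper658): abstract form (helper340)

`z` an involution, `C_G(z)` normalises the elementary abelian group `U ∋ z`; for a conjugate `x` of `z` let `U_x` be
the conjugate of `U` (`PU z U x u` : `u ∈ U_x`). `E ∋ z` of order 4 is normalised by `P ≥ S`, `S ≤ C_G(z)` a 2-group,
`P` moves `z`, `C_E(S) = ⟨z⟩`, `[U, E] = 1`, and `z` is the only involution of the `U_x`, `x ∈ E^#`, fixed by `S`.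

* `Sit.dichotomy` : `E ≤ U`, or `U_x ∩ U_{x'} = 1` for all `x ≠ x'` in `E^#`;
* `Sit.comm` : in the second case `[U_x, U_{x'}] = 1`;
* `Sit.swap` : in the second case, if `W ≥ E` is abelian, normalised by `C_G(z)`, and `t ∈ C_G(z)` is trivial on
  `W / ⟨z⟩`, but not on `E`: `[W_x, U] ≤ ⟨z⟩` for all `x ∈ E^#`.
-/

set_option autoImplicit false

namespace Cfsg.Agent.Omega.NOThreeL.SwapTrick

open Subgroup

variable {G : Type*} [Group G]

/-- `u ∈ U_x` -/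
def PU (z : G) (U : Subgroup G) (x u : G) : Prop := ∃ g, g * z * g⁻¹ = x ∧ g⁻¹ * u * g ∈ U

/-- `E = {1, z, y, z y}` -/
theorem eq_or_of_card {z : G} {E : Subgroup G} (hz1 : z ≠ 1) (hz : z ∈ E) (hE4 : Nat.card E = 4)
    (hsq : ∀ e ∈ E, e * e = 1) {y e : G} (hy : y ∈ E) (hy1 : y ≠ 1) (hyz : y ≠ z) (he : e ∈ E) :
    e = 1 ∨ e = z ∨ e = y ∨ e = z * y := by
  classical
  have : Finite E := Nat.finite_of_card_ne_zero (by rw [hE4]; norm_num)
  have : Fintype E := Fintype.ofFinite E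
  by_contra hcon
  push Not at hcon
  obtain ⟨h1, h2, h3, h4⟩ := hcon
  have hzy : z * y ∈ E := mul_mem hz hy
  let s : Finset E := {1, ⟨z, hz⟩, ⟨y, hy⟩, ⟨z * y, hzy⟩, ⟨e, he⟩}
  have hs : s.card = 5 := by
    have hzy1 : z * y ≠ 1 := fun h => hyz (by rw [← inv_eq_of_mul_eq_one_left (hsq z hz)]; exact (eq_inv_of_mul_eq_one_right h))
    have hzyz : z * y ≠ z := fun h => hy1 (by simpa using h)
    have hzyy : z * y ≠ y := fun h => hz1 (by simpa using h)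
    have n1 : (1 : E) ∉ ({⟨z, hz⟩, ⟨y, hy⟩, ⟨z * y, hzy⟩, ⟨e, he⟩} : Finset E) := by
      simp only [Finset.mem_insert, Finset.mem_singleton, not_or, Subtype.ext_iff, OneMemClass.coe_one]
      exact ⟨hz1.symm, hy1.symm, hzy1.symm, h1.symm⟩
    have n2 : (⟨z, hz⟩ : E) ∉ ({⟨y, hy⟩, ⟨z * y, hzy⟩, ⟨e, he⟩} : Finset E) := by
      simp only [Finset.mem_insert, Finset.mem_singleton, not_or, Subtype.ext_iff]
      exact ⟨hyz.symm, hzyz.symm, h2.symm⟩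
    have n3 : (⟨y, hy⟩ : E) ∉ ({⟨z * y, hzy⟩, ⟨e, he⟩} : Finset E) := by
      simp only [Finset.mem_insert, Finset.mem_singleton, not_or, Subtype.ext_iff]
      exact ⟨hzyy.symm, h3.symm⟩
    have n4 : (⟨z * y, hzy⟩ : E) ∉ ({⟨e, he⟩} : Finset E) := by
      simp only [Finset.mem_singleton, Subtype.ext_iff]
      exact h4.symm
    rw [Finset.card_insert_of_notMem n1, Finset.card_insert_of_notMem n2, Finset.card_insert_of_notMem n3,
      Finset.card_insert_of_notMem n4, Finset.card_singleton]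
  have h5 := Finset.card_le_univ s
  rw [hs, ← Nat.card_eq_fintype_card, hE4] at h5
  omega

/-- The situation. -/
structure Sit (z : G) (U S P E : Subgroup G) : Prop where
  z1 : z ≠ 1
  zE : z ∈ E
  card : Nat.card E = 4
  sqE : ∀ e ∈ E, e * e = 1
  nE : ∀ p ∈ P, ∀ e ∈ E, p * e * p⁻¹ ∈ E
  SP : S ≤ P
  S2 : IsPGroup 2 S
  cS : ∀ s ∈ S, s * z = z * s
  mov : ∃ p ∈ P, p * z * p⁻¹ ≠ z
  fixE : ∀ e ∈ E, (∀ s ∈ S, s * e * s⁻¹ = e) → e = 1 ∨ e = z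
  zU : z ∈ U
  nU : ∀ g, g * z = z * g → ∀ u ∈ U, g * u * g⁻¹ ∈ U
  sqU : ∀ u ∈ U, u * u = 1
  UE : ∀ u ∈ U, ∀ e ∈ E, u * e = e * u
  fixU : ∀ p ∈ P, ∀ u ∈ U, (∀ s ∈ S, s * (p * u * p⁻¹) * s⁻¹ = p * u * p⁻¹) → p * u * p⁻¹ = 1 ∨ p * u * p⁻¹ = z

namespace Sit

variable {z : G} {U S P E : Subgroup G} (D : Sit z U S P E)
include D

theorem commE {a b : G} (ha : a ∈ E) (hb : b ∈ E) : a * b = b * a :=
  AdjTransv.eq_of_sq (D.sqE a ha) (D.sqE b hb) (D.sqE _ (mul_mem ha hb))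

theorem invE {a : G} (ha : a ∈ E) : a⁻¹ = a := inv_eq_of_mul_eq_one_left (D.sqE a ha)

theorem conj_ne {g : G} : g * z * g⁻¹ ≠ 1 := fun h => D.z1 (conj_eq_one_iff.1 h)

/-- `E = {1, z, y, z y}` -/
theorem eq_or {y e : G} (hy : y ∈ E) (hy1 : y ≠ 1) (hyz : y ≠ z) (he : e ∈ E) :
    e = 1 ∨ e = z ∨ e = y ∨ e = z * y := eq_or_of_card D.z1 D.zE D.card D.sqE hy hy1 hyz he

/-! ### The groups `U_x` -/

theorem pu_iff {x u : G} {g : G} (hg : g * z * g⁻¹ = x) : PU z U x u ↔ g⁻¹ * u * g ∈ U := by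
  refine ⟨fun ⟨k, hk, hu⟩ => ?_, fun h => ⟨g, hg, h⟩⟩
  have h1 : g⁻¹ * k * z = z * (g⁻¹ * k) := by
    have h2 : k * z * k⁻¹ = g * z * g⁻¹ := hk.trans hg.symm
    calc g⁻¹ * k * z = g⁻¹ * (k * z * k⁻¹) * k := by group
      _ = z * (g⁻¹ * k) := by rw [h2]; group
  have h3 := D.nU _ h1 _ hu
  have h4 : g⁻¹ * k * (k⁻¹ * u * k) * (g⁻¹ * k)⁻¹ = g⁻¹ * u * g := by group
  rwa [h4] at h3

omit D in
theorem PU.conj {x u : G} (h : PU z U x u) (k : G) : PU z U (k * x * k⁻¹) (k * u * k⁻¹) := by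
  obtain ⟨g, hg, hu⟩ := h
  refine ⟨k * g, by rw [← hg]; group, ?_⟩
  have h4 : (k * g)⁻¹ * (k * u * k⁻¹) * (k * g) = g⁻¹ * u * g := by group
  rwa [h4]

theorem PU.mul {x u v : G} (h : PU z U x u) (h' : PU z U x v) : PU z U x (u * v) := by
  obtain ⟨g, hg, hu⟩ := h
  rw [D.pu_iff hg] at h'
  refine ⟨g, hg, ?_⟩
  have h4 : g⁻¹ * (u * v) * g = (g⁻¹ * u * g) * (g⁻¹ * v * g) := by group
  rw [h4]
  exact mul_mem hu h'

omit D in
theorem PU.inv {x u : G} (h : PU z U x u) : PU z U x u⁻¹ := by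
  obtain ⟨g, hg, hu⟩ := h
  refine ⟨g, hg, ?_⟩
  have h4 : g⁻¹ * u⁻¹ * g = (g⁻¹ * u * g)⁻¹ := by group
  rw [h4]
  exact inv_mem hu

theorem PU.sq {x u : G} (h : PU z U x u) : u * u = 1 := by
  obtain ⟨g, hg, hu⟩ := h
  have h1 := D.sqU _ hu
  calc u * u = g * ((g⁻¹ * u * g) * (g⁻¹ * u * g)) * g⁻¹ := by group
    _ = 1 := by rw [h1]; group

theorem pu_z {u : G} : PU z U z u ↔ u ∈ U := by
  rw [D.pu_iff (g := 1) (by group)]
  simp

theorem pu_self {x g : G} (hg : g * z * g⁻¹ = x) : PU z U x x := by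
  refine ⟨g, hg, ?_⟩
  have h4 : g⁻¹ * x * g = z := by rw [← hg]; group
  rw [h4]
  exact D.zU

omit D in
/-- an element centralising `x` normalises `U_x` -/
theorem PU.cen {x u k : G} (h : PU z U x u) (hk : k * x = x * k) : PU z U x (k * u * k⁻¹) := by
  have h1 := PU.conj h k
  rwa [hk, mul_inv_cancel_right] at h1

/-! ### The action on `E` -/

/-- some element of `S` swaps `y` and `z y` -/
theorem exists_swap {y : G} (hy : y ∈ E) (hy1 : y ≠ 1) (hyz : y ≠ z) : ∃ s ∈ S, s * y * s⁻¹ = z * y := by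
  by_contra hcon
  push Not at hcon
  refine hyz ((D.fixE y hy fun s hs => ?_).resolve_left hy1)
  rcases D.eq_or hy hy1 hyz (D.nE s (D.SP hs) y hy) with h | h | h | h
  · exact absurd (conj_eq_one_iff.1 h) hy1
  · exfalso
    apply hyz
    have h1 : s * z * s⁻¹ = z := by rw [D.cS s hs, mul_inv_cancel_right]
    have h2 : s * y * s⁻¹ = s * z * s⁻¹ := h.trans h1.symm
    exact mul_left_cancel (mul_right_cancel h2)
  · exact h
  · exact absurd h (hcon s hs)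

/-- `P` is transitive on `E^#` -/
theorem trans {x : G} (hx : x ∈ E) (hx1 : x ≠ 1) : ∃ p ∈ P, p * z * p⁻¹ = x := by
  obtain ⟨p, hp, hpz⟩ := D.mov
  have hy := D.nE p hp z D.zE
  obtain ⟨s, hs, hsy⟩ := D.exists_swap hy D.conj_ne hpz
  rcases D.eq_or hy D.conj_ne hpz hx with h | h | h | h
  · exact absurd h hx1
  · exact ⟨1, one_mem _, by rw [h]; group⟩
  · exact ⟨p, hp, h.symm⟩
  · refine ⟨s * p, mul_mem (D.SP hs) hp, ?_⟩
    rw [h, ← hsy]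
    group

/-- `P` is 2-transitive on `E^#` -/
theorem trans2 {y x x' : G} (hy : y ∈ E) (hy1 : y ≠ 1) (hyz : y ≠ z) (hx : x ∈ E) (hx1 : x ≠ 1) (hx' : x' ∈ E)
    (hx'1 : x' ≠ 1) (hne : x' ≠ x) : ∃ p ∈ P, p * z * p⁻¹ = x ∧ p * y * p⁻¹ = x' := by
  obtain ⟨p, hp, hpx⟩ := D.trans hx hx1
  have h1 : p⁻¹ * x' * p ∈ E := by
    have := D.nE p⁻¹ (inv_mem hp) x' hx'
    rwa [inv_inv] at this
  rcases D.eq_or hy hy1 hyz h1 with h | h | h | h
  · exfalso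
    apply hx'1
    calc x' = p * (p⁻¹ * x' * p) * p⁻¹ := by group
      _ = 1 := by rw [h]; group
  · exfalso
    apply hne
    rw [← hpx]
    calc x' = p * (p⁻¹ * x' * p) * p⁻¹ := by group
      _ = _ := by rw [h]
  · refine ⟨p, hp, hpx, ?_⟩
    rw [← h]
    group
  · obtain ⟨s, hs, hsy⟩ := D.exists_swap hy hy1 hyz
    refine ⟨p * s, mul_mem hp (D.SP hs), ?_, ?_⟩
    · rw [← hpx]
      calc p * s * z * (p * s)⁻¹ = p * (s * z * s⁻¹) * p⁻¹ := by group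
        _ = _ := by rw [D.cS s hs, mul_inv_cancel_right]
    · calc p * s * y * (p * s)⁻¹ = p * (s * y * s⁻¹) * p⁻¹ := by group
        _ = x' := by rw [hsy, ← h]; group

/-- `U_x` centralises `E` -/
theorem pu_cen {x u e : G} (hx : x ∈ E) (hx1 : x ≠ 1) (h : PU z U x u) (he : e ∈ E) : u * e = e * u := by
  obtain ⟨p, hp, hpx⟩ := D.trans hx hx1
  rw [D.pu_iff hpx] at h
  have h1 : p⁻¹ * e * p ∈ E := by
    have := D.nE p⁻¹ (inv_mem hp) e he
    rwa [inv_inv] at this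
  have h2 := D.UE _ h _ h1
  calc u * e = p * ((p⁻¹ * u * p) * (p⁻¹ * e * p)) * p⁻¹ := by group
    _ = e * u := by rw [h2]; group

/-! ### The dichotomy -/

/-- **(1) DICHOTOMY.** -/
theorem dichotomy [Finite G] : E ≤ U ∨
    ∀ x ∈ E, ∀ x' ∈ E, x ≠ 1 → x' ≠ 1 → x' ≠ x → ∀ u, PU z U x u → PU z U x' u → u = 1 := by
  obtain ⟨p₀, hp₀, hpz⟩ := D.mov
  obtain ⟨y, hyd⟩ : ∃ y, y = p₀ * z * p₀⁻¹ := ⟨_, rfl⟩
  have hy : y ∈ E := by rw [hyd]; exact D.nE p₀ hp₀ z D.zE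
  have hy1 : y ≠ 1 := by rw [hyd]; exact D.conj_ne
  have hyz : y ≠ z := by rw [hyd]; exact hpz
  have hzy : z * y ∈ E := mul_mem D.zE hy
  have hzy1 : z * y ≠ 1 := fun h => hyz (by rw [← D.invE D.zE]; exact (eq_inv_of_mul_eq_one_right h))
  have hzyz : z * y ≠ z := fun h => hy1 (by simpa using h)
  have hzyy : z * y ≠ y := fun h => D.z1 (by simpa using h)
  obtain ⟨q₀, hq₀, hq⟩ := D.trans hzy hzy1
  let N : Subgroup G :=
    { carrier := {u | PU z U y u ∧ PU z U (z * y) u}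
      mul_mem' := fun {a b} ha hb => ⟨PU.mul D ha.1 hb.1, PU.mul D ha.2 hb.2⟩
      one_mem' := ⟨⟨p₀, hyd.symm, by simp⟩, ⟨q₀, hq, by simp⟩⟩
      inv_mem' := fun {a} ha => ⟨PU.inv ha.1, PU.inv ha.2⟩ }
  have hSN : ∀ s ∈ S, ∀ n ∈ N, s * n * s⁻¹ ∈ N := by
    intro s hs n hn
    have hsz : s * z * s⁻¹ = z := by rw [D.cS s hs, mul_inv_cancel_right]
    have h1 := PU.conj hn.1 s
    have h2 := PU.conj hn.2 s
    have h2' : s * (z * y) * s⁻¹ = z * (s * y * s⁻¹) := by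
      calc s * (z * y) * s⁻¹ = (s * z * s⁻¹) * (s * y * s⁻¹) := by group
        _ = _ := by rw [hsz]
    rw [h2'] at h2
    rcases D.eq_or hy hy1 hyz (D.nE s (D.SP hs) y hy) with h | h | h | h
    · exact absurd (conj_eq_one_iff.1 h) hy1
    · exfalso
      apply hyz
      have h2 : s * y * s⁻¹ = s * z * s⁻¹ := h.trans hsz.symm
      exact mul_left_cancel (mul_right_cancel h2)
    · rw [h] at h1 h2
      exact ⟨h1, h2⟩
    · rw [h] at h1 h2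
      rw [← mul_assoc, D.sqE z D.zE, one_mul] at h2
      exact ⟨h2, h1⟩
  by_cases hN : N = ⊥
  · right
    intro x hx x' hx' hx1 hx'1 hne u hu hu'
    -- a pair `(y, z y)` is mapped to `(x, x')`
    obtain ⟨p, hp, h1, h2⟩ := D.trans2 hy hy1 hyz hx hx1 hx' hx'1 hne
    obtain ⟨q, hqP, h3, h4⟩ := D.trans2 hy hy1 hyz hy hy1 hzy hzy1 hzyy
    have h5 := PU.conj hu (q * p⁻¹)
    have h6 := PU.conj hu' (q * p⁻¹)
    have e1 : q * p⁻¹ * x * (q * p⁻¹)⁻¹ = y := by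
      rw [← h1, ← h3]; group
    have e2 : q * p⁻¹ * x' * (q * p⁻¹)⁻¹ = z * y := by
      rw [← h2, ← h4]; group
    rw [e1] at h5
    rw [e2] at h6
    have h7 : q * p⁻¹ * u * (q * p⁻¹)⁻¹ ∈ N := ⟨h5, h6⟩
    rw [hN, mem_bot] at h7
    exact conj_eq_one_iff.1 h7
  · left
    obtain ⟨n, hn, hn1, hnS⟩ := AdjTransv.exists_fixed D.S2 hN (fun n hn => PU.sq D hn.1) hSN
    have h1 : p₀⁻¹ * n * p₀ ∈ U := (D.pu_iff hyd.symm).1 hn.1
    have e : p₀ * (p₀⁻¹ * n * p₀) * p₀⁻¹ = n := by group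
    have h2 : n = 1 ∨ n = z := by
      have := D.fixU p₀ hp₀ _ h1 (by rw [e]; exact hnS)
      rwa [e] at this
    have hnz : n = z := h2.resolve_left hn1
    have h3 : PU z U y z := by
      have h4 := hn.1
      rwa [hnz] at h4
    intro x hx
    by_cases hx1 : x = 1
    · rw [hx1]; exact one_mem _
    by_cases hxz : x = z
    · rw [hxz]; exact D.zU
    obtain ⟨p, hp, h4, h5⟩ := D.trans2 hy hy1 hyz hx hx1 D.zE D.z1 (Ne.symm hxz)
    have h6 := PU.conj h3 p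
    rw [h4, h5] at h6
    exact D.pu_z.1 h6

/-- In the second case the `U_x` commute. -/
theorem comm (hβ : ∀ x ∈ E, ∀ x' ∈ E, x ≠ 1 → x' ≠ 1 → x' ≠ x → ∀ u, PU z U x u → PU z U x' u → u = 1)
    {x x' : G} (hx : x ∈ E) (hx' : x' ∈ E) (hx1 : x ≠ 1) (hx'1 : x' ≠ 1) (hne : x' ≠ x) {u v : G}
    (hu : PU z U x u) (hv : PU z U x' v) : u * v = v * u := by
  have h1 : PU z U x' (u * v * u⁻¹) := PU.cen hv (D.pu_cen hx hx1 hu hx')
  have h2 : PU z U x (v * u⁻¹ * v⁻¹) := PU.cen (PU.inv hu) (D.pu_cen hx' hx'1 hv hx)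
  have h3 : u * v * u⁻¹ * v⁻¹ = 1 := by
    refine hβ x hx x' hx' hx1 hx'1 hne _ ?_ (PU.mul D h1 (PU.inv hv))
    have e : u * v * u⁻¹ * v⁻¹ = u * (v * u⁻¹ * v⁻¹) := by group
    rw [e]
    exact PU.mul D hu h2
  calc u * v = u * v * u⁻¹ * v⁻¹ * (v * u) := by group
    _ = v * u := by rw [h3, one_mul]

/-! ### The swap trick -/

/-- **(2) SWAP TRICK**: `[W, U_v] ≤ ⟨v⟩` for `v ∈ E`, `v ≠ 1, z`. -/
theorem swap_aux (hβ : ∀ x ∈ E, ∀ x' ∈ E, x ≠ 1 → x' ≠ 1 → x' ≠ x → ∀ u, PU z U x u → PU z U x' u → u = 1)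
    {W : Subgroup G} (ab : ∀ a ∈ W, ∀ b ∈ W, a * b = b * a) (hEW : E ≤ W)
    (nW : ∀ g, g * z = z * g → ∀ w ∈ W, g * w * g⁻¹ ∈ W) {t : G} (htz : t * z = z * t)
    (htW : ∀ w ∈ W, t * w * t⁻¹ = w ∨ t * w * t⁻¹ = w * z) (htE : ∃ e ∈ E, t * e * t⁻¹ ≠ e)
    {v : G} (hv : v ∈ E) (hv1 : v ≠ 1) (hvz : v ≠ z) {w u : G} (hw : w ∈ W) (hu : PU z U v u) :
    w * u * w⁻¹ = u ∨ w * u * w⁻¹ = u * v := by
  have hzv : z * v ∈ E := mul_mem D.zE hv
  have hzv1 : z * v ≠ 1 := fun h => hvz (by rw [← D.invE D.zE]; exact (eq_inv_of_mul_eq_one_right h))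
  have hzvv : z * v ≠ v := fun h => D.z1 (by simpa using h)
  have hzz := D.sqE z D.zE
  have hvv := D.sqE v hv
  have hcomm := D.commE D.zE hv
  -- `t` swaps `v` and `z v`
  have htv : t * v * t⁻¹ = z * v := by
    rcases htW v (hEW hv) with h | h
    · exfalso
      obtain ⟨e, he, hne⟩ := htE
      have htz' : t * z * t⁻¹ = z := by rw [htz, mul_inv_cancel_right]
      rcases D.eq_or hv hv1 hvz he with h1 | h1 | h1 | h1
      · exact hne (by rw [h1]; group)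
      · exact hne (by rw [h1, htz'])
      · exact hne (by rw [h1, h])
      · refine hne ?_
        rw [h1]
        calc t * (z * v) * t⁻¹ = (t * z * t⁻¹) * (t * v * t⁻¹) := by group
          _ = z * v := by rw [htz', h]
    · rw [h, hcomm]
  have uz : u * z = z * u := D.pu_cen hv hv1 hu D.zE
  have uv : u * v = v * u := D.pu_cen hv hv1 hu hv
  have wz : w * z = z * w := ab w hw z (hEW D.zE)
  have wv : w * v = v * w := ab w hw v (hEW hv)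
  -- `a`
  obtain ⟨a, had⟩ : ∃ a, a = w * u * w⁻¹ * u⁻¹ := ⟨_, rfl⟩
  have haU : PU z U v a := by
    rw [had]
    exact PU.mul D (PU.cen hu wv) (PU.inv hu)
  have haW : a ∈ W := by
    have h1 := nW u uz _ (inv_mem hw)
    have e : a = w * (u * w⁻¹ * u⁻¹) := by rw [had]; group
    rw [e]
    exact mul_mem hw h1
  -- `b = t a t⁻¹`
  have htu : PU z U (z * v) (t * u * t⁻¹) := by
    have := PU.conj hu t
    rwa [htv] at this
  have htuz : (t * u * t⁻¹) * z = z * (t * u * t⁻¹) := D.pu_cen hzv hzv1 htu D.zE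
  have wzv : w * (z * v) = z * v * w := ab w hw _ (hEW hzv)
  obtain ⟨b, hbd⟩ : ∃ b, b = w * (t * u * t⁻¹) * w⁻¹ * (t * u * t⁻¹)⁻¹ := ⟨_, rfl⟩
  have hbU : PU z U (z * v) b := by
    rw [hbd]
    exact PU.mul D (PU.cen htu wzv) (PU.inv htu)
  have hab : t * a * t⁻¹ = b := by
    have e1 : t * a * t⁻¹ = (t * w * t⁻¹) * (t * u * t⁻¹) * (t * w * t⁻¹)⁻¹ * (t * u * t⁻¹)⁻¹ := by
      rw [had]; group
    rw [e1, hbd]
    rcases htW w hw with h | h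
    · rw [h]
    · rw [h, mul_inv_rev]
      have h2 : w * z * (t * u * t⁻¹) * (z⁻¹ * w⁻¹) = w * (z * (t * u * t⁻¹)) * z⁻¹ * w⁻¹ := by group
      rw [h2, ← htuz]
      have h3 : w * (t * u * t⁻¹ * z) * z⁻¹ * w⁻¹ = w * (t * u * t⁻¹) * w⁻¹ := by group
      rw [h3]
  have hav : a = 1 ∨ a = v := by
    rcases htW a haW with h | h
    · left
      rw [hab] at h
      refine hβ v hv (z * v) hzv hv1 hzv1 hzvv a haU ?_
      rw [← h]
      exact hbU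
    · right
      rw [hab] at h
      obtain ⟨p, -, hp⟩ := D.trans hv hv1
      obtain ⟨q, -, hq⟩ := D.trans hzv hzv1
      have h1 : PU z U v (a * v) := PU.mul D haU (D.pu_self hp)
      have h2 : PU z U (z * v) (b * (z * v)) := PU.mul D hbU (D.pu_self hq)
      have h3 : b * (z * v) = a * v := by
        rw [h]
        calc a * z * (z * v) = a * (z * z) * v := by group
          _ = a * v := by rw [hzz, mul_one]
      rw [h3] at h2
      have h4 := hβ v hv (z * v) hzv hv1 hzv1 hzvv _ h1 h2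
      rw [← D.invE hv]
      exact eq_inv_of_mul_eq_one_left h4
  have e : w * u * w⁻¹ = a * u := by rw [had]; group
  rcases hav with h | h
  · left
    rw [e, h, one_mul]
  · right
    rw [e, h, uv]

/-- **(2) SWAP TRICK**: `[W^p, U] ≤ ⟨z⟩` for `p ∈ P`, `z^p ≠ z`. -/
theorem swap (hβ : ∀ x ∈ E, ∀ x' ∈ E, x ≠ 1 → x' ≠ 1 → x' ≠ x → ∀ u, PU z U x u → PU z U x' u → u = 1)
    {W : Subgroup G} (ab : ∀ a ∈ W, ∀ b ∈ W, a * b = b * a) (hEW : E ≤ W)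
    (nW : ∀ g, g * z = z * g → ∀ w ∈ W, g * w * g⁻¹ ∈ W) {t : G} (htz : t * z = z * t)
    (htW : ∀ w ∈ W, t * w * t⁻¹ = w ∨ t * w * t⁻¹ = w * z) (htE : ∃ e ∈ E, t * e * t⁻¹ ≠ e)
    {p : G} (hp : p ∈ P) (hpz : p * z * p⁻¹ ≠ z) {w u : G} (hw : w ∈ W) (hu : u ∈ U) :
    (p * w * p⁻¹) * u * (p * w * p⁻¹)⁻¹ = u ∨ (p * w * p⁻¹) * u * (p * w * p⁻¹)⁻¹ = u * z := by
  have hv : p⁻¹ * z * p ∈ E := by
    have := D.nE p⁻¹ (inv_mem hp) z D.zE
    rwa [inv_inv] at this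
  have hv1 : p⁻¹ * z * p ≠ 1 := by
    intro h
    apply D.z1
    calc z = p * (p⁻¹ * z * p) * p⁻¹ := by group
      _ = 1 := by rw [h]; group
  have hvz : p⁻¹ * z * p ≠ z := by
    intro h
    apply hpz
    calc p * z * p⁻¹ = p * (p⁻¹ * z * p) * p⁻¹ := by rw [h]
      _ = z := by group
  have hu' : PU z U (p⁻¹ * z * p) (p⁻¹ * u * p) := by
    have := PU.conj (D.pu_z.2 hu) p⁻¹
    rwa [inv_inv] at this
  have e : (p * w * p⁻¹) * u * (p * w * p⁻¹)⁻¹ = p * (w * (p⁻¹ * u * p) * w⁻¹) * p⁻¹ := by group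
  rcases D.swap_aux hβ ab hEW nW htz htW htE hv hv1 hvz hw hu' with h | h
  · left
    rw [e, h]
    group
  · right
    rw [e, h]
    group

end Sit

end Cfsg.Agent.Omega.NOThreeL.SwapTrick
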