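import Cfsg.Agent.Omega.NOThreeL.ThmL
import Cfsg.Agent.Omega.NOThreeL.AdjTransv

/-!
# (TR) of bb #15808 (helper999): `V_P` is the only `T`-invariant fours group

`X` acts on the `F_2`-space `M`, `T` is a Sylow 2-subgroup of `X` with `C_M(T) = {0, z}`, `{0, z, v, v + z}` is
`T`-invariant, some `g ∈ X` exchanges `z` and `v`, the elements of `gTg⁻¹` fixing `z` lie in `T`, and `X` induces
a transvection `u ↦ u + f(u) z` with `f(v) = 1` (`Sit X T z v`).

* `Sit.mem` : if `[w, T] ≤ {0, z}`, then `w ∈ {0, z, v, v + z}`;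
* `Grp.mem`, `Grp.eq` : the same for an elementary abelian subgroup `V` of a group `G`.
-/

set_option autoImplicit false

namespace Cfsg.Agent.Omega.NOThreeL.TR

open Cfsg.Agent.Omega.NOThreeL.ThmL

variable {X M : Type*} [Group X] [AddCommGroup M] [Module (ZMod 2) M] [DistribMulAction X M]

/-! ### Sylow -/

/-- a 2-subgroup normalised by a 2-subgroup of odd index lies in it -/
theorem le_of_odd {R : Type*} [Group R] {T A : Subgroup R} (hT : IsPGroup 2 T) (hi : ¬ 2 ∣ T.index)
    (hA : IsPGroup 2 A) (hn : T ≤ Subgroup.normalizer (A : Set R)) : A ≤ T := by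
  have h1 : IsPGroup 2 (T ⊔ A : Subgroup R) := IsPGroup.to_sup_of_normal_right' hT hA hn
  have h2 : T.relIndex (T ⊔ A) = 1 := by
    have hi0 : T.index ≠ 0 := fun h => hi (by rw [h]; exact dvd_zero 2)
    have h3 : T.relIndex (T ⊔ A) ∣ T.index := Subgroup.relIndex_dvd_index_of_le le_sup_left
    have h4 : T.relIndex (T ⊔ A) ≠ 0 := fun h => hi0 (by rw [h, zero_dvd_iff] at h3; exact h3)
    have : Fact (Nat.Prime 2) := ⟨Nat.prime_two⟩
    have : (T.subgroupOf (T ⊔ A)).FiniteIndex := ⟨h4⟩
    obtain ⟨n, hn⟩ := h1.index (T.subgroupOf (T ⊔ A))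
    change (T.subgroupOf (T ⊔ A)).index = 1
    rcases Nat.eq_zero_or_pos n with h | h
    · rw [hn, h, pow_zero]
    · exfalso
      apply hi
      refine dvd_trans ?_ h3
      change 2 ∣ (T.subgroupOf (T ⊔ A)).index
      rw [hn]
      exact dvd_pow_self 2 (by omega)
  exact le_sup_right.trans (Subgroup.relIndex_eq_one.mp h2)

theorem tr_add {f g : M →+ ZMod 2} {e : M} (hf : Tr X f e) (hg : Tr X g e) : Tr X (f + g) e := by
  obtain ⟨h1, x, hx⟩ := hf
  obtain ⟨h2, y, hy⟩ := hg
  refine ⟨by rw [AddMonoidHom.add_apply, h1, h2, add_zero], x * y, fun u => ?_⟩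
  rw [mul_smul, hy, smul_add, smul_zmod, hx, hx, h1, zero_smul, add_zero, AddMonoidHom.add_apply, add_smul,
    add_assoc]

theorem tr_conj {f : M →+ ZMod 2} {e : M} (hf : Tr X f e) (x : X) : Tr X (act x f) (x • e) :=
  smul_mem_Y (X := X) (f := f) (e := e) hf x

/-- A transvection with centre `v` induced by `X` is induced by every Sylow 2-subgroup fixing `v`. -/
theorem exists_mem {T : Subgroup X} (hT : IsPGroup 2 T) (hi : ¬ 2 ∣ T.index) {v : M}
    (hv : ∀ t ∈ T, t • v = v) {f : M →+ ZMod 2} (hf : Tr X f v) :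
    ∃ t ∈ T, ∀ u : M, t • u = u + f u • v := by
  let ρ : X →* Equiv.Perm M := MulAction.toPermHom X M
  let T' : Subgroup ρ.range := T.map ρ.rangeRestrict
  have hval : ∀ (x : X) (u : M), ((ρ.rangeRestrict x : ρ.range) : Equiv.Perm M) u = x • u := fun _ _ => rfl
  have hT' : IsPGroup 2 T' := hT.map ρ.rangeRestrict
  have hi' : ¬ 2 ∣ T'.index := fun h =>
    hi (h.trans (Subgroup.index_map_dvd T ρ.rangeRestrict_surjective))
  have sq : ∀ (φ : M →+ ZMod 2), φ v = 0 → ∀ u : M, φ (φ u • v) = 0 := by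
    intro φ h1 u
    rcases z2 (φ u) with h | h <;> simp [h, h1]
  have dbl : ∀ (φ : M →+ ZMod 2), φ v = 0 → ∀ u : M, (u + φ u • v) + φ (u + φ u • v) • v = u := by
    intro φ h1 u
    rw [map_add, sq φ h1 u, add_zero, add_assoc, ← add_smul, CharTwo.add_self_eq_zero, zero_smul, add_zero]
  let A : Subgroup ρ.range :=
    { carrier := {a | ∃ φ : M →+ ZMod 2, φ v = 0 ∧ ∀ u : M, (a : Equiv.Perm M) u = u + φ u • v}
      one_mem' := ⟨0, rfl, fun u => by simp⟩
      mul_mem' := by
        rintro a b ⟨φ, h1, ha⟩ ⟨ψ, h2, hb⟩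
        refine ⟨φ + ψ, by rw [AddMonoidHom.add_apply, h1, h2, add_zero], fun u => ?_⟩
        change (a : Equiv.Perm M) ((b : Equiv.Perm M) u) = _
        have h3 : φ (ψ u • v) = 0 := by
          rcases z2 (ψ u) with h | h <;> simp [h, h1]
        rw [hb, ha, map_add, h3, add_zero, AddMonoidHom.add_apply, add_smul]
        abel
      inv_mem' := by
        rintro a ⟨φ, h1, ha⟩
        refine ⟨φ, h1, fun u => ?_⟩
        change (a : Equiv.Perm M).symm u = _
        rw [Equiv.symm_apply_eq, ha, dbl φ h1 u] }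
  have hA : IsPGroup 2 A := by
    rintro ⟨a, φ, h1, ha⟩
    refine ⟨1, ?_⟩
    apply Subtype.ext
    apply Subtype.ext
    ext u
    change ((a : Equiv.Perm M) ^ (2 ^ 1)) u = u
    rw [pow_one, pow_two]
    change (a : Equiv.Perm M) ((a : Equiv.Perm M) u) = u
    rw [ha, ha, dbl φ h1 u]
  have key : ∀ t ∈ T', ∀ a ∈ A, t * a * t⁻¹ ∈ A := by
    rintro _ ⟨t, ht, rfl⟩ a ⟨φ, h1, ha⟩
    refine ⟨act t φ, ?_, fun u => ?_⟩
    · rw [act_apply]
      have h3 : t⁻¹ • v = v := by rw [inv_smul_eq_iff, hv t ht]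
      rw [h3, h1]
    · change t • ((a : Equiv.Perm M) (t⁻¹ • u)) = _
      rw [ha, smul_add, smul_inv_smul, smul_zmod, hv t ht]
      rfl
  have hn : T' ≤ Subgroup.normalizer (A : Set ρ.range) := by
    intro t ht
    rw [Subgroup.mem_normalizer_iff]
    refine fun a => ⟨key t ht a, fun h => ?_⟩
    have h1 := key t⁻¹ (inv_mem ht) _ h
    have h2 : t⁻¹ * (t * a * t⁻¹) * t⁻¹⁻¹ = a := by group
    rwa [h2] at h1
  have hle := le_of_odd hT' hi' hA hn
  obtain ⟨h0, x, hx⟩ := hf
  have hxA : ρ.rangeRestrict x ∈ A := ⟨f, h0, fun u => hx u⟩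
  obtain ⟨t, ht, htx⟩ := hle hxA
  refine ⟨t, ht, fun u => ?_⟩
  rw [← hx u, ← hval t u, htx]
  rfl

/-! ### The module form -/

/-- The hypotheses of (TR). -/
structure Sit (X : Type*) {M : Type*} [Group X] [AddCommGroup M] [Module (ZMod 2) M] [DistribMulAction X M]
    (T : Subgroup X) (z v : M) : Prop where
  T2 : IsPGroup 2 T
  odd : ¬ 2 ∣ T.index
  z0 : z ≠ 0
  vz : v ≠ z
  fz : ∀ t ∈ T, t • z = z
  fix : ∀ u : M, (∀ t ∈ T, t • u = u) → u = 0 ∨ u = z
  Tv : ∀ t ∈ T, t • v = v ∨ t • v = v + z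
  swap : ∃ g : X, g • z = v ∧ g • v = z ∧ ∀ t ∈ T, (g * t * g⁻¹) • z = z → g * t * g⁻¹ ∈ T
  tr : ∃ f : M →+ ZMod 2, Tr X f z ∧ f v = 1

namespace Sit

variable {T : Subgroup X} {z v : M} (D : Sit X T z v)
include D

/-- (i) -/
theorem step1 {f : M →+ ZMod 2} (hf : Tr X f v) (h0 : f z = 0) : Tr X f z := by
  obtain ⟨p, hp, hpv⟩ := D.tr
  obtain ⟨hfv, x, hx⟩ := hf
  have h1 : act x p = p + f := Data.smul_functional hfv hx hpv
  have h2 := tr_conj hp x
  have h3 : x • z = z := by rw [hx, h0, zero_smul, add_zero]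
  rw [h1, h3] at h2
  have h4 := tr_add hp h2
  have h5 : p + (p + f) = f := by
    ext u
    rw [AddMonoidHom.add_apply, AddMonoidHom.add_apply, ← add_assoc, CharTwo.add_self_eq_zero, zero_add]
  rwa [h5] at h4

/-- (ii) -/
theorem step2 {f : M →+ ZMod 2} (hf : Tr X f z) (h0 : f v = 0) : Tr X f v := by
  obtain ⟨g, hg1, hg2, -⟩ := D.swap
  have e1 : g⁻¹ • z = v := by rw [inv_smul_eq_iff, hg2]
  have e2 : g⁻¹ • v = z := by rw [inv_smul_eq_iff, hg1]
  have h1 := tr_conj hf g⁻¹
  rw [e1] at h1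
  have h2 := D.step1 h1 (by rw [act_apply, inv_inv, hg1, h0])
  have h3 := tr_conj h2 g
  rw [hg1] at h3
  have h4 : act g (act g⁻¹ f) = f := by ext u; simp
  rwa [h4] at h3

/-- a functional `f`, `f(z) = 0 = f(v)` of a transvection with centre `z` vanishes on every `T`-invariant
fours group on `z` -/
theorem step3 {f : M →+ ZMod 2} (hf : Tr X f z) (h0 : f v = 0) {w : M}
    (hw : ∀ t ∈ T, t • w = w ∨ t • w = w + z) : f w = 0 := by
  rcases z2 (f w) with h | h
  · exact h
  exfalso
  have h1 := D.step2 hf h0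
  obtain ⟨g, hg1, hg2, hgT⟩ := D.swap
  have e2 : g⁻¹ • v = z := by rw [inv_smul_eq_iff, hg1]
  -- the conjugate of `T`
  let T' : Subgroup X := T.map (MulAut.conj g).toMonoidHom
  have hT' : IsPGroup 2 T' := D.T2.map _
  have hi' : ¬ 2 ∣ T'.index := by
    have : T'.index = T.index := Subgroup.index_map_equiv T (MulAut.conj g)
    rw [this]
    exact D.odd
  have hv' : ∀ t ∈ T', t • v = v := by
    rintro _ ⟨t, ht, rfl⟩
    simp only [MulEquiv.coe_toMonoidHom, MulAut.conj_apply]
    rw [mul_smul, mul_smul, e2, D.fz t ht, hg1]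
  obtain ⟨_, ⟨t, ht, rfl⟩, hx⟩ := exists_mem hT' hi' hv' h1
  simp only [MulEquiv.coe_toMonoidHom, MulAut.conj_apply] at hx
  have h2 : (g * t * g⁻¹) • z = z := by rw [hx, hf.1, zero_smul, add_zero]
  have h3 := hgT t ht h2
  have h4 := hx w
  rw [h, one_smul] at h4
  rcases hw _ h3 with h5 | h5
  · rw [h4] at h5
    have h6 : v = 0 := by simpa using h5
    have h7 : g • z = 0 := by rw [hg1, h6]
    rw [smul_eq_zero_iff_eq] at h7
    exact D.z0 h7
  · rw [h4] at h5
    exact D.vz (add_left_cancel h5)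

theorem mem {w : M} (hw : ∀ t ∈ T, t • w = w ∨ t • w = w + z) : w = 0 ∨ w = z ∨ w = v ∨ w = v + z := by
  by_contra hcon
  have hw0 : w ≠ 0 := fun h => hcon (Or.inl h)
  have hwz : w ≠ z := fun h => hcon (Or.inr (Or.inl h))
  have hwv : w ≠ v := fun h => hcon (Or.inr (Or.inr (Or.inl h)))
  have hwvz : w ≠ v + z := fun h => hcon (Or.inr (Or.inr (Or.inr h)))
  have hzz : z + z = 0 := add_self z
  have hvv : v + v = 0 := add_self v
  have ne : ∀ a : M, a + z ≠ a := fun a h => D.z0 (by simpa using h)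
  -- an element of `T` which fixes `v` and moves `w`
  have hex : ∃ h ∈ T, h • v = v ∧ h • w = w + z := by
    by_contra hno
    push Not at hno
    have h1 : ∀ h ∈ T, h • v = v → h • w = w := fun h hh hv => (hw h hh).resolve_right (hno h hh hv)
    -- some element moves `v`, some element moves `w`
    have hmw : ∃ b ∈ T, b • w = w + z := by
      by_contra hno'
      push Not at hno'
      rcases D.fix w (fun t ht => (hw t ht).resolve_right (hno' t ht)) with h | h
      · exact hw0 h
      · exact hwz h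
    obtain ⟨b, hb, hbw⟩ := hmw
    have hbv : b • v = v + z := by
      rcases D.Tv b hb with h | h
      · exact absurd (h1 b hb h) (by rw [hbw]; exact ne w)
      · exact h
    have h2 : ∀ t ∈ T, t • (w + v) = w + v := by
      intro t ht
      rcases D.Tv t ht with h | h
      · rw [smul_add, h, h1 t ht h]
      · have h3 : (b * t) • v = v := by
          rw [mul_smul, h, smul_add, hbv, D.fz b hb, add_assoc, hzz, add_zero]
        have h4 := h1 _ (mul_mem hb ht) h3
        rcases hw t ht with h5 | h5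
        · rw [mul_smul, h5, hbw] at h4
          exact absurd h4 (ne w)
        · rw [smul_add, h, h5]
          have : w + z + (v + z) = w + v + (z + z) := by abel
          rw [this, hzz, add_zero]
    rcases D.fix _ h2 with h | h
    · apply hwv
      have : w = w + v + v := by rw [add_assoc, hvv, add_zero]
      rw [this, h, zero_add]
    · apply hwvz
      have : w = w + v + v := by rw [add_assoc, hvv, add_zero]
      rw [this, h, add_comm]
  obtain ⟨h, hh, hhv, hhw⟩ := hex
  obtain ⟨g, hg1, hg2, -⟩ := D.swap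
  have e1 : g⁻¹ • z = v := by rw [inv_smul_eq_iff, hg2]
  obtain ⟨p, hp, hpv⟩ := D.tr
  -- `p₁ ∈ F_v`, `p₁ z = 1`
  have h1 := tr_conj hp g
  rw [hg1] at h1
  have h2 : act g p z = 1 := by rw [act_apply, e1, hpv]
  set q := act g p with hq
  have h3 := tr_conj h1 h
  rw [hhv] at h3
  have h4 := tr_add h1 h3
  have i1 : h⁻¹ • z = z := by rw [inv_smul_eq_iff, D.fz h hh]
  have i2 : h⁻¹ • v = v := by rw [inv_smul_eq_iff, hhv]
  have i3 : h⁻¹ • w = w + z := by
    rw [inv_smul_eq_iff, smul_add, hhw, D.fz h hh, add_assoc, hzz, add_zero]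
  have h5 : (q + act h q) z = 0 := by
    rw [AddMonoidHom.add_apply, act_apply h, i1, CharTwo.add_self_eq_zero]
  have h6 : (q + act h q) v = 0 := by
    rw [AddMonoidHom.add_apply, act_apply h, i2, CharTwo.add_self_eq_zero]
  have h7 := D.step3 (D.step1 h4 h5) h6 hw
  rw [AddMonoidHom.add_apply, act_apply h, i3, map_add, h2, ← add_assoc, CharTwo.add_self_eq_zero, zero_add] at h7
  exact absurd h7 (by decide)

end Sit

/-! ### The group form -/

open Subgroup

variable {G : Type*} [Group G]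

/-- The hypotheses of (TR) inside a group `G`: `V` is elementary abelian, normalised by `Y`, `S` is a Sylow
2-subgroup of `Y`. -/
structure Grp (z v : G) (V Y S : Subgroup G) : Prop where
  zV : z ∈ V
  vV : v ∈ V
  sq : ∀ u ∈ V, u * u = 1
  nV : ∀ y ∈ Y, ∀ u ∈ V, y * u * y⁻¹ ∈ V
  SY : S ≤ Y
  S2 : IsPGroup 2 S
  odd : ¬ 2 ∣ S.relIndex Y
  z1 : z ≠ 1
  vz : v ≠ z
  cS : ∀ s ∈ S, s * z = z * s
  fix : ∀ u ∈ V, (∀ s ∈ S, s * u * s⁻¹ = u) → u = 1 ∨ u = z
  Sv : ∀ s ∈ S, s * v * s⁻¹ = v ∨ s * v * s⁻¹ = v * z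
  swap : ∃ g ∈ Y, g * z * g⁻¹ = v ∧ g * v * g⁻¹ = z ∧
    ∀ s ∈ S, g * s * g⁻¹ * z = z * (g * s * g⁻¹) → g * s * g⁻¹ ∈ S
  tr : ∃ t ∈ Y, t * v * t⁻¹ ≠ v ∧ ∀ u ∈ V, t * u * t⁻¹ = u ∨ t * u * t⁻¹ = u * z

namespace Grp

variable {z v : G} {V Y S : Subgroup G}

/-- **(TR), group form.** -/
theorem mem (D : Grp z v V Y S) {w : G} (hwV : w ∈ V)
    (hw : ∀ s ∈ S, s * w * s⁻¹ = w ∨ s * w * s⁻¹ = w * z) : w = 1 ∨ w = z ∨ w = v ∨ w = v * z := by
  classical
  have comm : ∀ {u w : G}, u ∈ V → w ∈ V → u * w = w * u := fun hu hw =>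
    AdjTransv.eq_of_sq (D.sq _ hu) (D.sq _ hw) (D.sq _ (mul_mem hu hw))
  -- the module
  let i0 : CommGroup V :=
    { (inferInstance : Group V) with
      mul_comm := fun a b => Subtype.ext (comm a.2 b.2) }
  let M := Additive V
  let i1 : AddCommGroup M := inferInstanceAs (AddCommGroup (Additive V))
  let i2 : Module (ZMod 2) M := AddCommGroup.zmodModule (n := 2) fun a => by
    rw [two_nsmul]
    exact Subtype.ext (D.sq _ (Additive.toMul a).2)
  let i3 : DistribMulAction Y M :=
    { smul := fun x a => Additive.ofMul ⟨(x : G) * (Additive.toMul a : V) * (x : G)⁻¹,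
        D.nV x x.2 _ (Additive.toMul a : V).2⟩
      one_smul := fun a => Subtype.ext (by
        change (1 : G) * ((Additive.toMul a : V) : G) * (1 : G)⁻¹ = ((Additive.toMul a : V) : G)
        rw [one_mul, inv_one, mul_one])
      mul_smul := fun a b c => Subtype.ext (by
        change ((a : G) * b) * ((Additive.toMul c : V) : G) * ((a : G) * b)⁻¹ =
          (a : G) * ((b : G) * ((Additive.toMul c : V) : G) * (b : G)⁻¹) * (a : G)⁻¹
        rw [mul_inv_rev]; simp only [mul_assoc])
      smul_zero := fun a => Subtype.ext (by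
        change (a : G) * 1 * (a : G)⁻¹ = 1
        rw [mul_one, mul_inv_cancel])
      smul_add := fun a b c => Subtype.ext (by
        change (a : G) * (((Additive.toMul b : V) : G) * ((Additive.toMul c : V) : G)) * (a : G)⁻¹ =
          ((a : G) * ((Additive.toMul b : V) : G) * (a : G)⁻¹) * ((a : G) * ((Additive.toMul c : V) : G) * (a : G)⁻¹)
        group) }
  -- coercion to `G`
  let co : M → G := fun a => ((Additive.toMul a : V) : G)
  have co_inj : ∀ {a b : M}, co a = co b → a = b := fun h => Subtype.ext h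
  have co_mem : ∀ a : M, co a ∈ V := fun a => (Additive.toMul a : V).2
  have co_add : ∀ a b : M, co (a + b) = co a * co b := fun a b => rfl
  have co_zero : co 0 = 1 := rfl
  have co_smul : ∀ (x : Y) (a : M), co (x • a) = (x : G) * co a * (x : G)⁻¹ := fun x a => rfl
  let mk : ∀ u : G, u ∈ V → M := fun u hu => Additive.ofMul ⟨u, hu⟩
  have co_mk : ∀ (u : G) (hu : u ∈ V), co (mk u hu) = u := fun u hu => rfl
  let c : M := mk z D.zV
  let d : M := mk v D.vV
  obtain ⟨t, htY, htv, ht⟩ := D.tr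
  have hzz : z * z = 1 := D.sq z D.zV
  have hne : ∀ w : G, w * z ≠ w := fun w h => D.z1 (by simpa using h)
  have htz : t * z * t⁻¹ = z := by
    rcases ht z D.zV with h | h
    · exact h
    · rw [hzz, conj_eq_one_iff] at h
      exact absurd h D.z1
  let f : M →+ ZMod 2 :=
    { toFun := fun a => if t * co a * t⁻¹ = co a then 0 else 1
      map_zero' := by
        rw [if_pos]
        rw [co_zero, mul_one, mul_inv_cancel]
      map_add' := fun a b => by
        have e1 : t * co (a + b) * t⁻¹ = (t * co a * t⁻¹) * (t * co b * t⁻¹) := by rw [co_add]; group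
        rcases ht _ (co_mem a) with ha | ha <;> rcases ht _ (co_mem b) with hb | hb
        · have h3 : t * co (a + b) * t⁻¹ = co (a + b) := by rw [e1, ha, hb, co_add]
          rw [if_pos h3, if_pos ha, if_pos hb, add_zero]
        · have h3 : ¬ t * co (a + b) * t⁻¹ = co (a + b) := by
            rw [e1, ha, hb, ← mul_assoc, ← co_add]
            exact hne _
          have hb' : ¬ t * co b * t⁻¹ = co b := by rw [hb]; exact hne _
          rw [if_neg h3, if_pos ha, if_neg hb', zero_add]
        · have h3 : ¬ t * co (a + b) * t⁻¹ = co (a + b) := by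
            rw [e1, ha, hb, mul_assoc, comm D.zV (co_mem b), ← mul_assoc, ← co_add]
            exact hne _
          have ha' : ¬ t * co a * t⁻¹ = co a := by rw [ha]; exact hne _
          rw [if_neg h3, if_neg ha', if_pos hb, add_zero]
        · have h3 : t * co (a + b) * t⁻¹ = co (a + b) := by
            rw [e1, ha, hb, mul_assoc, ← mul_assoc z, comm D.zV (co_mem b), mul_assoc, hzz, mul_one, co_add]
          have ha' : ¬ t * co a * t⁻¹ = co a := by rw [ha]; exact hne _
          have hb' : ¬ t * co b * t⁻¹ = co b := by rw [hb]; exact hne _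
          rw [if_pos h3, if_neg ha', if_neg hb']
          decide }
  have hf0 : ∀ a : M, f a = 0 ↔ t * co a * t⁻¹ = co a := by
    intro a
    change (if t * co a * t⁻¹ = co a then (0 : ZMod 2) else 1) = 0 ↔ _
    constructor
    · intro h
      by_contra h1
      rw [if_neg h1] at h
      exact absurd h (by decide)
    · intro h
      rw [if_pos h]
  have cof : ∀ {a b : M}, a = b → co a = co b := fun h => congrArg co h
  have hSit : Sit Y (S.subgroupOf Y) c d := by
    refine ⟨D.S2.comap_subtype, D.odd, fun h => D.z1 (cof h), fun h => D.vz (cof h), ?_, ?_, ?_, ?_, ?_⟩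
    · intro s hs
      apply co_inj
      rw [co_smul, mul_inv_eq_iff_eq_mul]
      exact D.cS s hs
    · intro u hu
      rcases D.fix (co u) (co_mem u) (fun s hs => by
        have h1 := cof (hu ⟨s, D.SY hs⟩ hs)
        rwa [co_smul] at h1) with h | h
      · exact Or.inl (co_inj h)
      · exact Or.inr (co_inj h)
    · intro s hs
      rcases D.Sv s hs with h | h
      · exact Or.inl (co_inj h)
      · exact Or.inr (co_inj h)
    · obtain ⟨g, hgY, hg1, hg2, hg3⟩ := D.swap
      refine ⟨⟨g, hgY⟩, co_inj hg1, co_inj hg2, fun s hs h => ?_⟩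
      have h1 := cof h
      rw [co_smul, mul_inv_eq_iff_eq_mul] at h1
      exact hg3 s hs h1
    · refine ⟨f, ⟨(hf0 c).2 htz, ⟨t, htY⟩, fun u => ?_⟩, ?_⟩
      · apply co_inj
        rw [co_smul]
        change t * co u * t⁻¹ = _
        rcases z2 (f u) with h | h
        · rw [h, zero_smul, add_zero, (hf0 u).1 h]
        · rw [h, one_smul, co_add]
          rcases ht _ (co_mem u) with h1 | h1
          · rw [(hf0 u).2 h1] at h
            exact absurd h (by decide)
          · exact h1
      · rcases z2 (f d) with h | h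
        · exact absurd ((hf0 d).1 h) htv
        · exact h
  have hmem := hSit.mem (w := mk w hwV) (fun s hs => by
    rcases hw s hs with h | h
    · exact Or.inl (co_inj h)
    · exact Or.inr (co_inj h))
  rcases hmem with h | h | h | h
  · exact Or.inl (cof h)
  · exact Or.inr (Or.inl (cof h))
  · exact Or.inr (Or.inr (Or.inl (cof h)))
  · exact Or.inr (Or.inr (Or.inr (cof h)))

/-- an `S`-invariant group of order at most 4 contains with `w` only `w`, `w z` -/
theorem of_card [Finite G] (D : Grp z v V Y S) {E : Subgroup G} (hEV : E ≤ V) (hc : Nat.card E ≤ 4)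
    (hE1 : E ≠ ⊥) (hn : S ≤ normalizer (E : Set G)) :
    z ∈ E ∧ ∀ w ∈ E, ∀ s ∈ S, s * w * s⁻¹ = w ∨ s * w * s⁻¹ = w * z := by
  classical
  have hn' : ∀ s ∈ S, ∀ n ∈ E, s * n * s⁻¹ ∈ E := fun s hs n hn1 => (mem_normalizer_iff.mp (hn hs) n).mp hn1
  obtain ⟨n, hnE, hn1, hnS⟩ := AdjTransv.exists_fixed D.S2 hE1 (fun n hn => D.sq n (hEV hn)) hn'
  have hzE : z ∈ E := by
    rcases D.fix n (hEV hnE) hnS with h | h
    · exact absurd h hn1
    · rwa [h] at hnE
  refine ⟨hzE, fun w hw s hs => ?_⟩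
  by_contra hcon
  push Not at hcon
  obtain ⟨h1, h2⟩ := hcon
  set w' := s * w * s⁻¹ with hw'
  have hw'E : w' ∈ E := hn' s hs w hw
  have hzz : z * z = 1 := D.sq z D.zV
  have hww : w * w = 1 := D.sq w (hEV hw)
  have hw1 : w ≠ 1 := by
    rintro rfl
    apply h1
    rw [hw', mul_one, mul_inv_cancel]
  have hwz : w ≠ z := by
    rintro rfl
    apply h1
    rw [hw', D.cS s hs, mul_inv_cancel_right]
  have hw'1 : w' ≠ 1 := fun h => hw1 (conj_eq_one_iff.mp (hw'.symm.trans h))
  have hw'z : w' ≠ z := by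
    intro h
    apply hwz
    have h3 : s * w * s⁻¹ = s * z * s⁻¹ := by rw [← hw', h, D.cS s hs, mul_inv_cancel_right]
    exact mul_left_cancel (mul_right_cancel h3)
  have hwz1 : w * z ≠ 1 := fun h => hwz (by
    calc w = w * (z * z) := by rw [hzz, mul_one]
      _ = z := by rw [← mul_assoc, h, one_mul])
  have hwzz : w * z ≠ z := fun h => hw1 (by simpa using h)
  have hwzw : w * z ≠ w := fun h => D.z1 (by simpa using h)
  have hsub : ((({1, z, w, w * z, w'} : Finset G)) : Set G) ⊆ (E : Set G) := by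
    intro x hx
    simp only [Finset.coe_insert, Finset.coe_singleton, Set.mem_insert_iff, Set.mem_singleton_iff] at hx
    rcases hx with rfl | rfl | rfl | rfl | rfl
    · exact E.one_mem
    · exact hzE
    · exact hw
    · exact mul_mem hw hzE
    · exact hw'E
  have h5 := Set.ncard_le_ncard hsub (Set.toFinite _)
  rw [Set.ncard_coe_finset] at h5
  have h6 : ({1, z, w, w * z, w'} : Finset G).card = 5 := by
    rw [Finset.card_insert_of_notMem, Finset.card_insert_of_notMem, Finset.card_insert_of_notMem,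
      Finset.card_insert_of_notMem, Finset.card_singleton]
    · rw [Finset.mem_singleton]; exact Ne.symm h2
    · simp only [Finset.mem_insert, Finset.mem_singleton, not_or]
      exact ⟨hwzw.symm, Ne.symm h1⟩
    · simp only [Finset.mem_insert, Finset.mem_singleton, not_or]
      exact ⟨hwz.symm, hwzz.symm, hw'z.symm⟩
    · simp only [Finset.mem_insert, Finset.mem_singleton, not_or]
      exact ⟨D.z1.symm, hw1.symm, hwz1.symm, hw'1.symm⟩
  rw [h6] at h5
  have h7 : (E : Set G).ncard = Nat.card E := rfl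
  omega

/-- **(TR), group form**: `V_P = {1, z, v, v z}` is the only `S`-invariant fours group of `V`. -/
theorem eq [Finite G] (D : Grp z v V Y S) {E F : Subgroup G} (hE : E ≤ V) (hEc : Nat.card E = 4)
    (hEn : S ≤ normalizer (E : Set G)) (hF : F ≤ V) (hFc : Nat.card F = 4)
    (hFn : S ≤ normalizer (F : Set G)) : E = F := by
  classical
  have ne : ∀ {A : Subgroup G}, Nat.card A = 4 → A ≠ ⊥ := fun h h1 => by
    rw [h1, card_bot] at h; omega
  have key : ∀ {A : Subgroup G}, A ≤ V → Nat.card A = 4 → S ≤ normalizer (A : Set G) →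
      (A : Set G) = {1, z, v, v * z} := by
    intro A hA hAc hAn
    obtain ⟨-, h2⟩ := D.of_card hA hAc.le (ne hAc) hAn
    have hsub : (A : Set G) ⊆ ((({1, z, v, v * z} : Finset G)) : Set G) := by
      intro w hw
      simp only [Finset.coe_insert, Finset.coe_singleton, Set.mem_insert_iff, Set.mem_singleton_iff]
      exact D.mem (hA hw) (h2 w hw)
    have h3 : (({1, z, v, v * z} : Finset G) : Set G).ncard ≤ (A : Set G).ncard := by
      rw [Set.ncard_coe_finset]
      have h4 : (A : Set G).ncard = Nat.card A := rfl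
      rw [h4, hAc]
      exact Finset.card_le_four
    have h4 := Set.eq_of_subset_of_ncard_le hsub h3 (Set.toFinite _)
    rw [h4]
    simp
  exact SetLike.coe_injective ((key hE hEc hEn).trans (key hF hFc hFn).symm)

end Grp

end Cfsg.Agent.Omega.NOThreeL.TR
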