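import Cfsg.Agent.Omega.NOThreeL.ThmASys

/-!
# NO-3L, THEOREM A (#15935 (3), helper658): module form (helper340)

`X` acts irreducibly on the finite `F_2`-space `M`, `z ≠ 0` a vector, `B` a subgroup normalised by `C_X(z)`, acting
quadratically and fixing `z`, `T ≤ C_X(z)` such that `z` lies in every nonzero `T`-invariant subspace, and `B` fixes
some `x • z ≠ z`.

`Sit.main`: if some element of `B` acts as a transvection `u ↦ u + f u • z`, then every element of `B` acts as `1` or
as this transvection.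
-/

set_option autoImplicit false

namespace Cfsg.Agent.Omega.NOThreeL.ThmA

variable {X M : Type*} [Group X] [AddCommGroup M] [Module (ZMod 2) M] [DistribMulAction X M]

/-- The situation of THEOREM A. -/
structure Sit (z : M) (B T : Subgroup X) : Prop where
  z0 : z ≠ 0
  irr : ∀ N : AddSubgroup M, (∀ x : X, ∀ n ∈ N, x • n ∈ N) → N = ⊥ ∨ N = ⊤
  nB : ∀ x : X, x • z = z → ∀ b ∈ B, x * b * x⁻¹ ∈ B
  fixB : ∀ b ∈ B, b • z = z
  quad : ∀ b ∈ B, ∀ c ∈ B, ∀ u : M, b • (c • u + u) = c • u + u
  Tz : ∀ t ∈ T, t • z = z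
  fix : ∀ N : AddSubgroup M, (∀ t ∈ T, ∀ n ∈ N, t • n ∈ N) → N ≠ ⊥ → z ∈ N
  line : ∃ x : X, x • z ≠ z ∧ ∀ b ∈ B, b • x • z = x • z

/-- the functionals of the transvections with centre `x` induced by the conjugate of `B` belonging to `x` -/
def FF (z : M) (B : Subgroup X) (x : M) : Set (M →+ ZMod 2) :=
  {f | f x = 0 ∧ ∃ g : X, g • z = x ∧ ∃ b ∈ B, ∀ u : M, (g * b * g⁻¹) • u = u + f u • x}

/-- the action on functionals -/
def act (x : X) (f : M →+ ZMod 2) : M →+ ZMod 2 := f.comp (DistribSMul.toAddMonoidHom M x⁻¹)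

omit [Module (ZMod 2) M] in
@[simp] theorem act_apply (x : X) (f : M →+ ZMod 2) (u : M) : act x f u = f (x⁻¹ • u) := rfl

theorem smul_zmod (x : X) (a : ZMod 2) (m : M) : x • (a • m) = a • (x • m) := by
  rcases z2 a with h | h <;> simp [h]

theorem map_zmod (f : M →+ ZMod 2) (a : ZMod 2) (m : M) : f (a • m) = a * f m := by
  rcases z2 a with h | h <;> simp [h]

omit [Module (ZMod 2) M] in
theorem act_inj (x : X) {f g : M →+ ZMod 2} (h : act x f = act x g) : f = g := by
  ext u
  have h1 := DFunLike.congr_fun h (x • u)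
  simpa using h1

omit [Module (ZMod 2) M] in
theorem omem {z x : M} (t : X) (h : x ∈ MulAction.orbit X z) : t • x ∈ MulAction.orbit X z := by
  obtain ⟨g, rfl⟩ := h
  exact ⟨t * g, mul_smul t g z⟩

theorem act_mem {z : M} {B : Subgroup X} {x : M} {f : M →+ ZMod 2} (h : f ∈ FF z B x) (y : X) :
    act y f ∈ FF z B (y • x) := by
  obtain ⟨h0, g, hg, b, hb, hu⟩ := h
  refine ⟨by simpa using h0, y * g, by rw [mul_smul, hg], b, hb, fun u => ?_⟩
  have h1 : y * g * b * (y * g)⁻¹ = y * ((g * b * g⁻¹) * y⁻¹) := by group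
  rw [h1, mul_smul, mul_smul, hu, smul_add, smul_inv_smul, smul_zmod]
  rfl

namespace Sit

variable {z : M} {B T : Subgroup X} (D : Sit z B T)
include D

theorem mem_FF {x : M} {g : X} (hg : g • z = x) {f : M →+ ZMod 2} (h : f ∈ FF z B x) :
    ∃ b ∈ B, ∀ u : M, (g * b * g⁻¹) • u = u + f u • x := by
  obtain ⟨-, g', hg', b, hb, hu⟩ := h
  have h1 : (g⁻¹ * g') • z = z := by rw [mul_smul, hg', ← hg, inv_smul_smul]
  refine ⟨(g⁻¹ * g') * b * (g⁻¹ * g')⁻¹, D.nB _ h1 b hb, fun u => ?_⟩
  rw [← hu u]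
  congr 1
  group

theorem mem_FF_self {f : M →+ ZMod 2} (h : f ∈ FF z B z) : ∃ b ∈ B, ∀ u : M, b • u = u + f u • z := by
  obtain ⟨b, hb, h1⟩ := D.mem_FF (g := 1) (one_smul _ _) h
  refine ⟨b, hb, fun u => ?_⟩
  rw [← h1 u]
  congr 1
  group

theorem of_mem {b : X} (hb : b ∈ B) {f : M →+ ZMod 2} (h : ∀ u : M, b • u = u + f u • z) : f ∈ FF z B z := by
  refine ⟨?_, 1, one_smul _ _, b, hb, fun u => ?_⟩
  · have h1 := h z
    rw [D.fixB b hb] at h1
    rcases z2 (f z) with h2 | h2
    · exact h2
    · rw [h2, one_smul, add_self] at h1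
      exact absurd h1 D.z0
  · rw [← h u]
    congr 1
    group

omit [Module (ZMod 2) M] in
theorem orb_ne {x : M} (hx : x ∈ MulAction.orbit X z) : x ≠ 0 := by
  obtain ⟨g, rfl⟩ := hx
  intro h
  exact D.z0 ((smul_eq_zero_iff_eq g).1 h)

omit [Module (ZMod 2) M] in
theorem span : AddSubgroup.closure (MulAction.orbit X z) = ⊤ := by
  rcases D.irr (AddSubgroup.closure (MulAction.orbit X z)) (fun x n hn => by
      induction hn using AddSubgroup.closure_induction with
      | mem m hm =>
        exact AddSubgroup.subset_closure (omem x hm)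
      | zero => rw [smul_zero]; exact AddSubgroup.zero_mem _
      | add a b _ _ ha hb => rw [smul_add]; exact AddSubgroup.add_mem _ ha hb
      | neg a _ ha => rw [smul_neg]; exact AddSubgroup.neg_mem _ ha) with h1 | h1
  · have : z ∈ AddSubgroup.closure (MulAction.orbit X z) :=
      AddSubgroup.subset_closure (MulAction.mem_orbit_self z)
    rw [h1] at this
    exact absurd (AddSubgroup.mem_bot.mp this) D.z0
  · exact h1

theorem sys [Finite M] {f₀ : M →+ ZMod 2} (hf₀ : f₀ ∈ FF z B z) (hne : f₀ ≠ 0) :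
    Sys (MulAction.orbit X z) (FF z B) where
  add := by
    rintro x ⟨g, rfl⟩ f hf f' hf'
    obtain ⟨b, hb, h1⟩ := D.mem_FF rfl hf
    obtain ⟨b', hb', h2⟩ := D.mem_FF rfl hf'
    refine ⟨by rw [AddMonoidHom.add_apply, hf.1, hf'.1, add_zero], g, rfl, b * b', mul_mem hb hb', fun u => ?_⟩
    have h3 : g * (b * b') * g⁻¹ = (g * b * g⁻¹) * (g * b' * g⁻¹) := by group
    have h4 : f (f' u • g • z) = 0 := by rw [map_zmod, hf.1, mul_zero]
    rw [h3, mul_smul, h2, h1, map_add, h4, add_zero, AddMonoidHom.add_apply, add_smul]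
    abel
  self := fun x _ f hf => hf.1
  mapL := by
    rintro x ⟨g, rfl⟩ f hf y hy
    obtain ⟨b, hb, h1⟩ := D.mem_FF rfl hf
    rw [← h1 y]
    exact omem _ hy
  mapF := by
    rintro x ⟨g, rfl⟩ f hf y hy h hh
    obtain ⟨b, hb, h1⟩ := D.mem_FF rfl hf
    have h2 := act_mem hh (g * b * g⁻¹)
    rw [h1 y] at h2
    have h3 : act (g * b * g⁻¹) h = h + h (g • z) • f := by
      ext u
      rw [act_apply]
      have h4 : (g * b * g⁻¹)⁻¹ • u = u + f u • g • z := by
        rw [inv_smul_eq_iff, h1, map_add, map_zmod, hf.1, mul_zero, add_zero, add_assoc, add_self, add_zero]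
      rw [h4, map_add, map_zmod, AddMonoidHom.add_apply, AddMonoidHom.smul_apply, smul_eq_mul, mul_comm (f u)]
    rwa [h3] at h2
  eq := by
    rintro x ⟨g, rfl⟩ y ⟨g', rfl⟩ hsub
    have : Finite (M →+ ZMod 2) := Finite.of_injective (fun f => (f : M → ZMod 2)) DFunLike.coe_injective
    apply Set.eq_of_subset_of_ncard_le hsub
    refine Set.ncard_le_ncard_of_injOn (act (g * g'⁻¹)) (fun f hf => ?_) (fun f _ f' _ h => act_inj _ h)
      (Set.toFinite _)
    have h1 := act_mem hf (g * g'⁻¹)
    rwa [smul_smul, inv_mul_cancel_right] at h1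
  ker := by
    intro e he
    let N : AddSubgroup M :=
      { carrier := {m | ∀ x ∈ MulAction.orbit X z, ∀ f ∈ FF z B x, f m = 0}
        zero_mem' := fun x _ f _ => map_zero f
        add_mem' := fun {a b} ha hb x hx f hf => by rw [map_add, ha x hx f hf, hb x hx f hf, add_zero]
        neg_mem' := fun {a} ha x hx f hf => by rw [map_neg, ha x hx f hf, neg_zero] }
    rcases D.irr N (fun x n hn y hy f hf => by
        have h1 := hn _ (omem x⁻¹ hy) _ (act_mem hf x⁻¹)
        simpa using h1) with h | h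
    · have : e ∈ N := he
      rw [h] at this
      exact (AddSubgroup.mem_bot).mp this
    · exfalso
      apply hne
      ext m
      have : m ∈ N := by rw [h]; trivial
      exact this z (MulAction.mem_orbit_self z) f₀ hf₀
  span := D.span

/-- **At most one functional.** -/
theorem one [Finite M] {f g : M →+ ZMod 2} (hf : f ∈ FF z B z) (hg : g ∈ FF z B z) (hf0 : f ≠ 0) (hg0 : g ≠ 0) :
    f = g := by
  by_contra hne
  have S := D.sys hf hf0
  have four : ∀ x ∈ MulAction.orbit X z, ∃ a ∈ FF z B x, ∃ b ∈ FF z B x, a ≠ 0 ∧ b ≠ 0 ∧ a ≠ b := by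
    rintro x ⟨y, rfl⟩
    have h0 : act y (0 : M →+ ZMod 2) = 0 := by ext u; rfl
    exact ⟨act y f, act_mem hf y, act y g, act_mem hg y,
      fun h => hf0 (act_inj y (h.trans h0.symm)), fun h => hg0 (act_inj y (h.trans h0.symm)), fun h => hne (act_inj y h)⟩
  refine S.not_mem_closure four (MulAction.mem_orbit_self z) (D.fix _ (fun t ht n hn => ?_) ?_)
  · induction hn using AddSubgroup.closure_induction with
    | mem m hm =>
      obtain ⟨h1, h2, h3⟩ := hm
      refine AddSubgroup.subset_closure ⟨omem t h1, fun h => h2 ?_, fun h => h3 ?_⟩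
      · have h4 := congrArg (fun v => t⁻¹ • v) h
        have h5 : t⁻¹ • z = z := D.Tz _ (inv_mem ht)
        simpa [h5] using h4
      · obtain ⟨k, hk, hk1⟩ := h
        have h5 : t⁻¹ • z = z := D.Tz _ (inv_mem ht)
        have h4 := act_mem hk t⁻¹
        rw [h5] at h4
        exact ⟨_, h4, by simpa using hk1⟩
    | zero => rw [smul_zero]; exact AddSubgroup.zero_mem _
    | add a b _ _ ha hb => rw [smul_add]; exact AddSubgroup.add_mem _ ha hb
    | neg a _ ha => rw [smul_neg]; exact AddSubgroup.neg_mem _ ha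
  · obtain ⟨x, hx, hB⟩ := D.line
    intro h
    have h1 : x • z ∈ AddSubgroup.closure
        {y | y ∈ MulAction.orbit X z ∧ y ≠ z ∧ ¬ Adj (FF z B) z y} := by
      refine AddSubgroup.subset_closure ⟨MulAction.mem_orbit z x, hx, ?_⟩
      rintro ⟨k, hk, hk1⟩
      obtain ⟨b, hb, h2⟩ := D.mem_FF_self hk
      have h3 := h2 (x • z)
      rw [hB b hb, hk1, one_smul] at h3
      exact D.z0 (by simpa using h3)
    rw [h] at h1
    exact D.orb_ne (MulAction.mem_orbit z x) (AddSubgroup.mem_bot.mp h1)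

/-- **THEOREM A**, module form. -/
theorem main [Finite M] {b₀ : X} (hb₀ : b₀ ∈ B) {f₀ : M →+ ZMod 2} (h₀ : ∀ u : M, b₀ • u = u + f₀ u • z)
    (hne : f₀ ≠ 0) {b : X} (hb : b ∈ B) : (∀ u : M, b • u = u) ∨ (∀ u : M, b • u = u + f₀ u • z) := by
  classical
  have hf₀ : f₀ ∈ FF z B z := D.of_mem hb₀ h₀
  have S := D.sys hf₀ hne
  have hzL : z ∈ MulAction.orbit X z := MulAction.mem_orbit_self z
  have h00 : ∀ y : X, act y (0 : M →+ ZMod 2) = 0 := fun y => by ext u; rfl
  -- the function `φ`
  have hex : ∀ x ∈ MulAction.orbit X z, ∃ f ∈ FF z B x, f ≠ 0 := by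
    rintro x ⟨y, rfl⟩
    exact ⟨act y f₀, act_mem hf₀ y, fun h => hne (act_inj y (h.trans (h00 y).symm))⟩
  have hone : ∀ x ∈ MulAction.orbit X z, ∀ f ∈ FF z B x, ∀ g ∈ FF z B x, f ≠ 0 → g ≠ 0 → f = g := by
    rintro x ⟨y, rfl⟩ f hf g hg hf0 hg0
    have h1 := act_mem hf y⁻¹
    have h2 := act_mem hg y⁻¹
    have e : y⁻¹ • (fun m => m • z) y = z := inv_smul_smul y z
    rw [e] at h1 h2
    exact act_inj y⁻¹ (D.one h1 h2 (fun h => hf0 (act_inj _ (h.trans (h00 _).symm)))
      fun h => hg0 (act_inj _ (h.trans (h00 _).symm)))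
  let φ : M → (M →+ ZMod 2) := fun x => if h : ∃ f ∈ FF z B x, f ≠ 0 then h.choose else 0
  have hφ : ∀ x ∈ MulAction.orbit X z, φ x ∈ FF z B x ∧ φ x ≠ 0 := by
    intro x hx
    have h := hex x hx
    have e : φ x = h.choose := dif_pos h
    rw [e]
    exact h.choose_spec
  have huniq : ∀ x ∈ MulAction.orbit X z, ∀ f ∈ FF z B x, f ≠ 0 → f = φ x := fun x hx f hf h =>
    hone x hx f hf _ (hφ x hx).1 h (hφ x hx).2
  have hf₀z : f₀ = φ z := huniq z hzL f₀ hf₀ hne
  have hequiv : ∀ t : X, ∀ y ∈ MulAction.orbit X z, φ (t • y) = act t (φ y) := fun t y hy =>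
    (huniq _ (omem t hy) _ (act_mem (hφ y hy).1 t)
      fun h => (hφ y hy).2 (act_inj t (h.trans (h00 t).symm))).symm
  have hF : Form (MulAction.orbit X z) φ :=
    { self := fun x hx => (hφ x hx).1.1
      symm := by
        have key : ∀ x ∈ MulAction.orbit X z, ∀ y ∈ MulAction.orbit X z, φ x y = 1 → φ y x = 1 := by
          intro x hx y hy h
          obtain ⟨g, hg, hg1⟩ := S.adj_symm hx hy ⟨_, (hφ x hx).1, h⟩
          rw [← huniq y hy g hg (fun h0 => by
            rw [h0, AddMonoidHom.zero_apply] at hg1; exact absurd hg1 (by decide))]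
          exact hg1
        intro x hx y hy
        rcases z2 (φ x y) with h | h
        · rcases z2 (φ y x) with h' | h'
          · rw [h, h']
          · rw [key y hy x hx h'] at h
            exact absurd h (by decide)
        · rw [h, key x hx y hy h]
      map := fun x hx y hy h => by
        rw [add_comm]
        exact S.add_memL hx hy ⟨_, (hφ x hx).1, h⟩
      ker := fun e he => S.ker e fun x hx f hf => by
        by_cases h : f = 0
        · rw [h]; rfl
        · rw [huniq x hx f hf h]; exact he x hx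
      span := D.span }
  -- (d) `B` fixes `Λ ∩ z^⊥`
  have hd : ∀ b ∈ B, ∀ x ∈ MulAction.orbit X z, φ z x = 0 → b • x = x := by
    intro b hb x hx hzx
    by_contra hcon
    obtain ⟨g, hg⟩ := id hx
    have hg' : g • z = x := hg
    obtain ⟨b₁, hb₁, ht⟩ := D.mem_FF hg' (hφ x hx).1
    set t : X := g * b₁ * g⁻¹ with ht_def
    have hxx : φ x x = 0 := hF.self x hx
    have htz : t • z = z := by
      rw [ht, hF.symm x hx z hzL, hzx, zero_smul, add_zero]
    have hc : b * (t * b⁻¹ * t⁻¹) ∈ B := mul_mem hb (D.nB t htz _ (inv_mem hb))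
    set x' : M := b • x with hx'
    have hx'L : x' ∈ MulAction.orbit X z := omem b hx
    have hx'x' : φ x' x' = 0 := hF.self x' hx'L
    have htinv : ∀ u : M, t⁻¹ • u = u + φ x u • x := fun u => by
      rw [inv_smul_eq_iff, ht, map_add, map_zmod, hxx, mul_zero, add_zero, add_assoc, add_self, add_zero]
    have hbt : ∀ w : M, b • t • b⁻¹ • w = w + φ x' w • x' := fun w => by
      rw [ht, smul_add, smul_inv_smul, smul_zmod, hx', hequiv b x hx]
      rfl
    have hcu : ∀ u : M, (b * (t * b⁻¹ * t⁻¹)) • u + u = φ x u • x + (φ x' u + φ x u * φ x' x) • x' := fun u => by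
      rw [mul_smul, mul_smul, mul_smul, htinv, hbt, map_add, map_zmod]
      calc u + φ x u • x + (φ x' u + φ x u * φ x' x) • x' + u
          = (u + u) + (φ x u • x + (φ x' u + φ x u * φ x' x) • x') := by abel
        _ = _ := by rw [add_self, zero_add]
    have hq := D.quad
    rcases z2 (φ x' x) with h1 | h1
    · have hne' : φ x ≠ φ x' := fun h => hcon (hF.inj hx hx'L h).symm
      obtain ⟨u, hu⟩ : ∃ u, φ x u ≠ φ x' u := by
        by_contra hall
        push Not at hall
        exact hne' (by ext u; exact hall u)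
      have h2 := hq b hb _ hc u
      rw [hcu, h1, mul_zero, add_zero] at h2
      rcases z2 (φ x u) with h3 | h3
      · have h4 : φ x' u = 1 := (z2 _).resolve_left fun h => hu (by rw [h3, h])
        rw [h3, h4, zero_smul, one_smul, zero_add] at h2
        have h5 : b • x' = b • x := h2
        exact hcon (smul_left_cancel b h5)
      · have h4 : φ x' u = 0 := (z2 _).resolve_right fun h => hu (by rw [h3, h])
        rw [h3, h4, zero_smul, one_smul, add_zero] at h2
        exact hcon h2
    · have h1' : φ x x' = 1 := by rw [hF.symm x hx x' hx'L, h1]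
      have e1 : (b * (t * b⁻¹ * t⁻¹)) • x + x = x' := by
        rw [hcu, hxx, h1, zero_smul, zero_mul, zero_add, add_zero, one_smul]
      have e2 : (b * (t * b⁻¹ * t⁻¹)) • x' + x' = x + x' := by
        rw [hcu, h1', h1, hx'x', one_smul, mul_one, zero_add, one_smul]
      have h2 := hq _ hc _ hc x
      rw [e1] at h2
      rw [h2, add_self] at e2
      have h3 : x' = x := by
        have : x + x' = 0 := e2.symm
        rw [add_eq_zero_iff_eq_neg] at this
        rw [this]
        exact (neg_eq_of_add_eq_zero_left (add_self x')).symm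
      exact hcon h3
  -- (e), (f)
  have hW : ∀ u : M, φ z u = 0 → b • u = u := by
    intro u hu
    have h1 := hF.mem_of_perp hzL hu
    unfold Form.W at h1
    induction h1 using AddSubgroup.closure_induction with
    | mem x hx => exact hd b hb x hx.1 hx.2
    | zero => rw [smul_zero]
    | add p q hp hq hp' hq' => 
      have hker : ∀ w ∈ AddSubgroup.closure {x | x ∈ MulAction.orbit X z ∧ φ z x = 0}, φ z w = 0 := by
        intro w hw
        have h2 : AddSubgroup.closure {x | x ∈ MulAction.orbit X z ∧ φ z x = 0} ≤ (φ z).ker := by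
          rw [AddSubgroup.closure_le]
          intro x hx
          exact hx.2
        exact h2 hw
      rw [smul_add, hp' (hker p hp), hq' (hker q hq)]
    | neg p hp hp' =>
      have h2 : -p = p := neg_eq_of_add_eq_zero_left (add_self p)
      rw [h2] at hu ⊢
      exact hp' hu
  obtain ⟨y, hy, hy1⟩ := exists_one_of_span D.span (hφ z hzL).2
  have he : ∀ x ∈ MulAction.orbit X z, φ z x = 0 → φ x (b • y + y) = 0 := by
    intro x hx hzx
    have h1 : b • x = x := hd b hb x hx hzx
    have h2 := hequiv b x hx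
    rw [h1] at h2
    have h3 : φ x (b • y) = φ x y := by
      rw [h2, act_apply, inv_smul_smul, ← h2]
    rw [map_add, h3, zz]
  have hall : ∀ u : M, b • u = u + φ z u • (b • y + y) := by
    intro u
    rcases z2 (φ z u) with h | h
    · rw [h, zero_smul, add_zero]; exact hW u h
    · rw [h, one_smul]
      have h1 := hW (u + y) (by rw [map_add, h, hy1]; decide)
      rw [smul_add] at h1
      calc b • u = b • u + b • y + b • y := by rw [add_assoc, add_self, add_zero]
        _ = u + y + b • y := by rw [h1]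
        _ = u + (b • y + y) := by abel
  rcases hF.eq_of_fix hzL he with h | h
  · left
    intro u
    rw [hall u, h, smul_zero, add_zero]
  · right
    intro u
    rw [hall u, h, hf₀z]

end Sit

end Cfsg.Agent.Omega.NOThreeL.ThmA
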