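import Mathlib

/-!
# NO-3L, THEOREM A (#15935 (3), helper658): families of transvections (helper340)

`M` an `F_2`-space, `Λ` a set of nonzero vectors, `F x` (`x ∈ Λ`) a group of functionals `f` with `f x = 0`, the
whole system invariant under the transvections `t_{f,x} : u ↦ u + f u • x`, `f ∈ F x`.

* `Sys.adj_symm` : `F x` vanishes on `y` if and only if `F y` vanishes on `x`;
* `Sys.adj_trans` : if `|F x| ≥ 4`, then `x ~ y :⟺ F x` does not vanish on `y` is transitive;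
* `Form` : the case `F x = {0, φ x}`; `(x, y) ↦ φ x y` is symmetric;
  `Form.mem_of_perp` : `ker φ z` is spanned by `Λ ∩ ker φ z`;
  `Form.eq_of_fix` : `φ e = 0` on `Λ ∩ ker φ z` implies `e ∈ {0, z}`.
-/

set_option autoImplicit false

namespace Cfsg.Agent.Omega.NOThreeL.ThmA

variable {M : Type*} [AddCommGroup M] [Module (ZMod 2) M]

theorem z2 (a : ZMod 2) : a = 0 ∨ a = 1 := by
  revert a; decide

theorem zz (a : ZMod 2) : a + a = 0 := by
  revert a; decide

theorem add_self (x : M) : x + x = 0 := by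
  have h : (2 : ZMod 2) • x = x + x := two_smul _ _
  rw [← h]
  have : (2 : ZMod 2) = 0 := by decide
  rw [this, zero_smul]

omit [Module (ZMod 2) M] in
theorem fadd_self (f : M →+ ZMod 2) : f + f = 0 := by
  ext u; exact zz _

omit [Module (ZMod 2) M] in
theorem exists_one {f : M →+ ZMod 2} (h : f ≠ 0) : ∃ u, f u = 1 := by
  by_contra hcon
  push Not at hcon
  exact h (by ext u; exact (z2 (f u)).resolve_right (hcon u))

omit [Module (ZMod 2) M] in
theorem exists_one_of_span {Λ : Set M} (hs : AddSubgroup.closure Λ = ⊤) {f : M →+ ZMod 2} (h : f ≠ 0) :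
    ∃ u ∈ Λ, f u = 1 := by
  by_contra hcon
  push Not at hcon
  have h1 : AddSubgroup.closure Λ ≤ f.ker := by
    rw [AddSubgroup.closure_le]
    intro u hu
    exact (z2 (f u)).resolve_right (hcon u hu)
  apply h
  ext u
  have h2 : u ∈ f.ker := h1 (by rw [hs]; trivial)
  exact h2

/-- a system of transvection groups -/
structure Sys (Λ : Set M) (F : M → Set (M →+ ZMod 2)) : Prop where
  add : ∀ x ∈ Λ, ∀ f ∈ F x, ∀ g ∈ F x, f + g ∈ F x
  self : ∀ x ∈ Λ, ∀ f ∈ F x, f x = 0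
  mapL : ∀ x ∈ Λ, ∀ f ∈ F x, ∀ y ∈ Λ, y + f y • x ∈ Λ
  mapF : ∀ x ∈ Λ, ∀ f ∈ F x, ∀ y ∈ Λ, ∀ g ∈ F y, g + g x • f ∈ F (y + f y • x)
  eq : ∀ x ∈ Λ, ∀ y ∈ Λ, F x ⊆ F y → F x = F y
  ker : ∀ e : M, (∀ x ∈ Λ, ∀ f ∈ F x, f e = 0) → e = 0
  span : AddSubgroup.closure Λ = ⊤

/-- `F x` does not vanish on `y` -/
def Adj (F : M → Set (M →+ ZMod 2)) (x y : M) : Prop := ∃ f ∈ F x, f y = 1

namespace Sys

variable {Λ : Set M} {F : M → Set (M →+ ZMod 2)}

omit [Module (ZMod 2) M] in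
theorem not_adj {x y : M} (h : ¬ Adj F x y) {f : M →+ ZMod 2} (hf : f ∈ F x) : f y = 0 := by
  rcases z2 (f y) with h1 | h1
  · exact h1
  · exact absurd ⟨f, hf, h1⟩ h

variable (D : Sys Λ F)
include D

/-- (a) -/
theorem adj_symm {x y : M} (hx : x ∈ Λ) (hy : y ∈ Λ) (h : Adj F x y) : Adj F y x := by
  by_contra hcon
  obtain ⟨e, he, hey⟩ := h
  have key : F y ⊆ F x := by
    intro f hf
    have h1 := D.mapF y hy f hf x hx e he
    rw [not_adj hcon hf, zero_smul, add_zero, hey, one_smul] at h1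
    have h2 := D.add x hx e he _ h1
    rwa [← add_assoc, fadd_self, zero_add] at h2
  have h8 := D.eq y hy x hx key
  rw [← h8] at he
  rw [D.self y hy e he] at hey
  exact absurd hey (by decide)

theorem add_memL {x y : M} (hx : x ∈ Λ) (hy : y ∈ Λ) (h : Adj F x y) : y + x ∈ Λ := by
  obtain ⟨f, hf, h1⟩ := h
  have := D.mapL x hx f hf y hy
  rwa [h1, one_smul] at this

/-- (b) -/
theorem mem_add {x y : M} (hx : x ∈ Λ) (hy : y ∈ Λ) (h : Adj F x y) {f : M →+ ZMod 2} (hf : f ∈ F x)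
    (hfy : f y = 0) : f ∈ F (x + y) := by
  obtain ⟨g, hg, hgx⟩ := D.adj_symm hx hy h
  have h1 := D.mapF y hy g hg x hx f hf
  rwa [hfy, zero_smul, add_zero, hgx, one_smul] at h1

theorem mem_of {x y : M} (hx : x ∈ Λ) (hy : y ∈ Λ) (h : Adj F x y) {f : M →+ ZMod 2} (hf : f ∈ F x)
    (hfy : f y = 0) : f ∈ F y := by
  have h1 := D.mem_add hx hy h hf hfy
  have h2 := D.add_memL hx hy h
  rw [add_comm] at h2
  obtain ⟨g, hg, hgy⟩ := h
  have h3 := D.mapF x hx g hg (x + y) h2 f h1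
  rw [D.self x hx f hf, zero_smul, add_zero, map_add, D.self x hx g hg, hgy, zero_add, one_smul,
    add_comm x y, add_assoc, add_self, add_zero] at h3
  exact h3

/-- (c) -/
theorem eq_on {x z v : M} (hx : x ∈ Λ) (hz : z ∈ Λ) (h1 : Adj F x z) (h2 : Adj F x v)
    (h3 : ¬ Adj F z v) {h : M →+ ZMod 2} (hh : h ∈ F x) : h z = h v := by
  have key : ∀ g ∈ F x, g z = 0 → g v = 0 := fun g hg h0 => not_adj h3 (D.mem_of hx hz h1 hg h0)
  rcases z2 (h z) with h0 | h0
  · rw [h0, key h hh h0]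
  · obtain ⟨g, hg, hg1⟩ := h2
    have h4 : g z = 1 := by
      rcases z2 (g z) with h5 | h5
      · rw [key g hg h5] at hg1
        exact absurd hg1 (by decide)
      · exact h5
    have h5 := key (h + g) (D.add x hx h hh g hg) (by rw [AddMonoidHom.add_apply, h0, h4]; decide)
    rw [AddMonoidHom.add_apply, hg1] at h5
    rcases z2 (h v) with h6 | h6
    · rw [h6] at h5; exact absurd h5 (by decide)
    · rw [h0, h6]

/-- (d) -/
theorem not_eq_on {z k w : M} (hz : z ∈ Λ) (hk : k ∈ Λ) (hw : w ∈ Λ) (h1 : Adj F z k) {e : M →+ ZMod 2}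
    (he : e ∈ F z) (hek : e ∈ F k) (hew : e w = 1) (hall : ∀ h ∈ F w, h z = h k) : False := by
  have h2 : z + k ∈ Λ := by rw [add_comm]; exact D.add_memL hz hk h1
  have h3 : e ∈ F (z + k) := D.mem_add hz hk h1 he (D.self k hk e hek)
  obtain ⟨h, hh, h5⟩ := D.adj_symm h2 hw ⟨e, h3, hew⟩
  rw [map_add, hall h hh, zz] at h5
  exact absurd h5 (by decide)

/-- (e) -/
theorem no_mixed (four : ∀ x ∈ Λ, ∃ a ∈ F x, ∃ b ∈ F x, a ≠ 0 ∧ b ≠ 0 ∧ a ≠ b) {z x v k : M} (hz : z ∈ Λ)
    (hx : x ∈ Λ) (hv : v ∈ Λ) (hk : k ∈ Λ) (h1 : Adj F z x) (h2 : Adj F x v) (h3 : ¬ Adj F z v)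
    (h4 : Adj F k z) (h5 : ¬ Adj F k v) : False := by
  have h3' : ¬ Adj F v z := fun h => h3 (D.adj_symm hv hz h)
  have h5' : ¬ Adj F v k := fun h => h5 (D.adj_symm hv hk h)
  obtain ⟨e, he0, hez, hex⟩ : ∃ e, e ≠ 0 ∧ e ∈ F z ∧ e ∈ F x := by
    obtain ⟨a, ha, b, hb, ha0, hb0, hab⟩ := four z hz
    rcases z2 (a x) with h | h
    · exact ⟨a, ha0, ha, D.mem_of hz hx h1 ha h⟩
    · rcases z2 (b x) with h' | h'
      · exact ⟨b, hb0, hb, D.mem_of hz hx h1 hb h'⟩
      · refine ⟨a + b, fun h0 => hab ?_, D.add z hz a ha b hb, D.mem_of hz hx h1 (D.add z hz a ha b hb)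
          (by rw [AddMonoidHom.add_apply, h, h']; decide)⟩
        rw [add_eq_zero_iff_eq_neg] at h0
        rw [h0]
        exact neg_eq_of_add_eq_zero_left (fadd_self b)
  have hev : e ∈ F v := D.mem_of hx hv h2 hex (not_adj h3 hez)
  have hek : e ∈ F k := by
    by_cases h6 : Adj F x k
    · exact D.mem_of hx hk h6 hex (not_adj h5' hev)
    · exact D.mem_of hz hk (D.adj_symm hk hz h4) hez (not_adj h6 hex)
  obtain ⟨w, hw, hew⟩ := exists_one_of_span D.span he0
  have wz : Adj F w z := D.adj_symm hz hw ⟨e, hez, hew⟩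
  have wv : Adj F w v := D.adj_symm hv hw ⟨e, hev, hew⟩
  have wk : Adj F w k := D.adj_symm hk hw ⟨e, hek, hew⟩
  refine D.not_eq_on hz hk hw (D.adj_symm hk hz h4) hez hek hew fun h hh => ?_
  rw [D.eq_on hw hz wz wv h3 hh, D.eq_on hw hk wk wv h5 hh]

/-- (f): adjacency is transitive (up to equality). -/
theorem adj_trans (four : ∀ x ∈ Λ, ∃ a ∈ F x, ∃ b ∈ F x, a ≠ 0 ∧ b ≠ 0 ∧ a ≠ b) {z x v : M} (hz : z ∈ Λ)
    (hx : x ∈ Λ) (hv : v ∈ Λ) (h1 : Adj F z x) (h2 : Adj F x v) (hne : z ≠ v) : Adj F z v := by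
  by_contra h3
  have h3' : ¬ Adj F v z := fun h => h3 (D.adj_symm hv hz h)
  apply hne
  have h4 : z + v = 0 := by
    refine D.ker _ fun k hk h hh => ?_
    rw [map_add]
    by_cases h5 : Adj F k z
    · by_cases h6 : Adj F k v
      · rw [D.eq_on hk hz h5 h6 h3 hh, zz]
      · exact (D.no_mixed four hz hx hv hk h1 h2 h3 h5 h6).elim
    · by_cases h6 : Adj F k v
      · exact (D.no_mixed four hv hx hz hk (D.adj_symm hx hv h2) (D.adj_symm hz hx h1) h3' h6 h5).elim
      · rw [not_adj h5 hh, not_adj h6 hh, add_zero]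
  rw [add_eq_zero_iff_eq_neg] at h4
  rw [h4]
  exact neg_eq_of_add_eq_zero_left (add_self v)

/-- **`|F z| ≥ 4`**: a subspace containing all `y ∈ Λ` which are `≠ z` and not adjacent to `z`, and generated by
them, does not contain `z`. -/
theorem not_mem_closure (four : ∀ x ∈ Λ, ∃ a ∈ F x, ∃ b ∈ F x, a ≠ 0 ∧ b ≠ 0 ∧ a ≠ b) {z : M} (hz : z ∈ Λ) :
    z ∉ AddSubgroup.closure {y | y ∈ Λ ∧ y ≠ z ∧ ¬ Adj F z y} := by
  intro h
  obtain ⟨f, hf, -, -, hf0, -⟩ := four z hz
  obtain ⟨k, hk, hfk⟩ := exists_one_of_span D.span hf0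
  have h1 : Adj F z k := ⟨f, hf, hfk⟩
  obtain ⟨g, hg, hg1⟩ := D.adj_symm hz hk h1
  have h2 : AddSubgroup.closure {y | y ∈ Λ ∧ y ≠ z ∧ ¬ Adj F z y} ≤ g.ker := by
    rw [AddSubgroup.closure_le]
    rintro y ⟨hy, hyz, hn⟩
    rcases z2 (g y) with h3 | h3
    · exact h3
    · exact absurd (D.adj_trans four hz hk hy h1 ⟨g, hg, h3⟩ hyz.symm) hn
  have h3 : g z = 0 := h2 h
  rw [hg1] at h3
  exact absurd h3 (by decide)

end Sys

/-! ### The case `|F x| = 2` -/

/-- `F x = {0, φ x}` -/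
structure Form (Λ : Set M) (φ : M → (M →+ ZMod 2)) : Prop where
  self : ∀ x ∈ Λ, φ x x = 0
  symm : ∀ x ∈ Λ, ∀ y ∈ Λ, φ x y = φ y x
  map : ∀ x ∈ Λ, ∀ y ∈ Λ, φ x y = 1 → x + y ∈ Λ
  ker : ∀ e : M, (∀ x ∈ Λ, φ x e = 0) → e = 0
  span : AddSubgroup.closure Λ = ⊤

namespace Form

variable {Λ : Set M} {φ : M → (M →+ ZMod 2)} (D : Form Λ φ)
include D

omit [Module (ZMod 2) M] D in
theorem ext_of_span (hs : AddSubgroup.closure Λ = ⊤) {f g : M →+ ZMod 2} (h : ∀ u ∈ Λ, f u = g u) : f = g := by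
  ext u
  have h1 : AddSubgroup.closure Λ ≤ (f - g).ker := by
    rw [AddSubgroup.closure_le]
    intro u hu
    change (f - g) u = 0
    rw [AddMonoidHom.sub_apply, h u hu, sub_self]
  have h2 : (f - g) u = 0 := h1 (by rw [hs]; trivial)
  rwa [AddMonoidHom.sub_apply, sub_eq_zero] at h2

omit [Module (ZMod 2) M] in
theorem add {x y : M} (hx : x ∈ Λ) (hy : y ∈ Λ) (hxy : x + y ∈ Λ) : φ (x + y) = φ x + φ y := by
  refine ext_of_span D.span fun u hu => ?_
  rw [AddMonoidHom.add_apply, D.symm _ hxy u hu, map_add, D.symm u hu x hx, D.symm u hu y hy]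

theorem inj {x y : M} (hx : x ∈ Λ) (hy : y ∈ Λ) (h : φ x = φ y) : x = y := by
  have h1 : x + y = 0 := D.ker _ fun u hu => by
    rw [map_add, D.symm u hu x hx, D.symm u hu y hy, h, zz]
  rw [add_eq_zero_iff_eq_neg] at h1
  rw [h1]
  exact neg_eq_of_add_eq_zero_left (add_self y)

variable (Λ φ) in
omit D in
/-- the span of `Λ ∩ z^⊥` -/
def W (z : M) : AddSubgroup M := AddSubgroup.closure {x | x ∈ Λ ∧ φ z x = 0}

/-- two members of `Λ` outside `z^⊥` are congruent modulo `⟨Λ ∩ z^⊥⟩` -/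
theorem add_mem_W {z x y : M} (hz : z ∈ Λ) (hx : x ∈ Λ) (hy : y ∈ Λ) (h1 : φ z x = 1) (h2 : φ z y = 1) :
    x + y ∈ W Λ φ z := by
  have hzW : z ∈ W Λ φ z := AddSubgroup.subset_closure ⟨hz, D.self z hz⟩
  rcases z2 (φ x y) with h3 | h3
  · have h4 : x + z ∈ Λ := D.map x hx z hz (by rw [D.symm x hx z hz, h1])
    have h5 : φ (x + z) y = 1 := by rw [D.add hx hz h4, AddMonoidHom.add_apply, h3, h2, zero_add]
    have h6 : x + z + y ∈ Λ := D.map _ h4 y hy h5
    have h7 : x + z + y ∈ W Λ φ z := AddSubgroup.subset_closure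
      ⟨h6, by rw [map_add, map_add, h1, h2, D.self z hz]; decide⟩
    have h8 := (W Λ φ z).add_mem h7 hzW
    have h9 : x + z + y + z = x + y := by
      calc x + z + y + z = x + y + (z + z) := by abel
        _ = x + y := by rw [add_self, add_zero]
    rwa [h9] at h8
  · exact AddSubgroup.subset_closure ⟨D.map x hx y hy h3, by rw [map_add, h1, h2]; decide⟩

/-- `ker φ z = ⟨Λ ∩ ker φ z⟩` -/
theorem mem_of_perp {z u : M} (hz : z ∈ Λ) (hu : φ z u = 0) : u ∈ W Λ φ z := by
  by_cases hex : ∃ y ∈ Λ, φ z y = 1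
  · obtain ⟨y, hy, hy1⟩ := hex
    have key : ∀ u ∈ AddSubgroup.closure Λ, u ∈ W Λ φ z ∨ (φ z u = 1 ∧ u + y ∈ W Λ φ z) := by
      intro u hu
      have hW : ∀ w ∈ W Λ φ z, φ z w = 0 := by
        intro w hw
        have h1 : W Λ φ z ≤ (φ z).ker := by
          unfold W
          rw [AddSubgroup.closure_le]
          intro x hx
          exact hx.2
        exact h1 hw
      induction hu using AddSubgroup.closure_induction with
      | mem x hx =>
        rcases z2 (φ z x) with h | h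
        · exact Or.inl (AddSubgroup.subset_closure ⟨hx, h⟩)
        · exact Or.inr ⟨h, D.add_mem_W hz hx hy h hy1⟩
      | zero => exact Or.inl (W Λ φ z).zero_mem
      | add a b _ _ ha hb =>
        rcases ha with ha | ⟨ha, ha'⟩ <;> rcases hb with hb | ⟨hb, hb'⟩
        · exact Or.inl ((W Λ φ z).add_mem ha hb)
        · refine Or.inr ⟨by rw [map_add, hW a ha, hb, zero_add], ?_⟩
          rw [add_assoc]
          exact (W Λ φ z).add_mem ha hb'
        · refine Or.inr ⟨by rw [map_add, hW b hb, ha, add_zero], ?_⟩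
          have : a + b + y = (a + y) + b := by abel
          rw [this]
          exact (W Λ φ z).add_mem ha' hb
        · refine Or.inl ?_
          have h1 := (W Λ φ z).add_mem ha' hb'
          have h2 : a + y + (b + y) = a + b := by
            calc a + y + (b + y) = a + b + (y + y) := by abel
              _ = a + b := by rw [add_self, add_zero]
          rwa [h2] at h1
      | neg a _ ha =>
        have h1 : -a = a := neg_eq_of_add_eq_zero_left (add_self a)
        rwa [h1]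
    rcases key u (by rw [D.span]; trivial) with h | ⟨h, -⟩
    · exact h
    · rw [hu] at h
      exact absurd h (by decide)
  · push Not at hex
    have h1 : {x | x ∈ Λ ∧ φ z x = 0} = Λ := by
      ext x
      exact ⟨fun h => h.1, fun h => ⟨h, (z2 _).resolve_right (hex x h)⟩⟩
    unfold W
    rw [h1, D.span]
    trivial

/-- `(Λ ∩ z^⊥)^⊥ = {0, z}` -/
theorem eq_of_fix {z e : M} (hz : z ∈ Λ) (he : ∀ y ∈ Λ, φ z y = 0 → φ y e = 0) : e = 0 ∨ e = z := by
  have hze : φ z e = 0 := he z hz (D.self z hz)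
  by_cases hex : ∃ y ∈ Λ, φ y e = 1
  · right
    obtain ⟨y, hy, hye⟩ := hex
    have hzy : φ z y = 1 := by
      rcases z2 (φ z y) with h | h
      · rw [he y hy h] at hye; exact absurd hye (by decide)
      · exact h
    have key : ∀ x ∈ Λ, φ z x = 1 → φ x e = 1 := by
      intro x hx hzx
      rcases z2 (φ x y) with h3 | h3
      · have h4 : x + z ∈ Λ := D.map x hx z hz (by rw [D.symm x hx z hz, hzx])
        have h5 : φ (x + z) y = 1 := by rw [D.add hx hz h4, AddMonoidHom.add_apply, h3, hzy, zero_add]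
        have h6 : x + z + y ∈ Λ := D.map _ h4 y hy h5
        have h7 := he _ h6 (by rw [map_add, map_add, hzx, hzy, D.self z hz]; decide)
        rw [D.add h4 hy h6, D.add hx hz h4, AddMonoidHom.add_apply, AddMonoidHom.add_apply, hze, hye] at h7
        rcases z2 (φ x e) with h | h
        · rw [h] at h7; exact absurd h7 (by decide)
        · exact h
      · have h6 : x + y ∈ Λ := D.map x hx y hy h3
        have h7 := he _ h6 (by rw [map_add, hzx, hzy]; decide)
        rw [D.add hx hy h6, AddMonoidHom.add_apply, hye] at h7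
        rcases z2 (φ x e) with h | h
        · rw [h] at h7; exact absurd h7 (by decide)
        · exact h
    have h1 : e + z = 0 := D.ker _ fun x hx => by
      rw [map_add, D.symm x hx z hz]
      rcases z2 (φ z x) with h | h
      · rw [h, he x hx h, add_zero]
      · rw [h, key x hx h]; decide
    rw [add_eq_zero_iff_eq_neg] at h1
    rw [h1]
    exact neg_eq_of_add_eq_zero_left (add_self z)
  · left
    push Not at hex
    exact D.ker e fun x hx => (z2 _).resolve_right (hex x hx)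

end Form

end Cfsg.Agent.Omega.NOThreeL.ThmA
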