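import Mathlib

/-!
# THEOREM L (NO-3L, #A2 (5)): irreducible groups containing several transvections with one axis

`X` acts irreducibly on the finite `F_2`-space `M`, `Φ` is an `X`-orbit of nonzero functionals, and for
`f ∈ Φ` at least two transvections `u ↦ u + f(u) e` are induced by `X`.  Then `M` is a direct sum of subspaces
permuted by `X`, `Φ` is the union of their duals, and `X` induces every transvection of every summand.
-/

set_option autoImplicit false

namespace Cfsg.Agent.Omega.NOThreeL.ThmL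

variable {X M : Type*} [Group X] [AddCommGroup M] [Module (ZMod 2) M] [DistribMulAction X M]

omit [Group X] [DistribMulAction X M] in
theorem add_self (x : M) : x + x = 0 := by
  have h : (2 : ZMod 2) • x = x + x := two_smul _ _
  rw [← h]
  have : (2 : ZMod 2) = 0 := by decide
  rw [this, zero_smul]

omit [Group X] [DistribMulAction X M] in
theorem z2 (a : ZMod 2) : a = 0 ∨ a = 1 := by
  revert a; decide

variable (X) in
/-- `X` induces the transvection `u ↦ u + f(u) e`. -/
def Tr (f : M →+ ZMod 2) (e : M) : Prop := f e = 0 ∧ ∃ x : X, ∀ u : M, x • u = u + f u • e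

variable (X) in
/-- The centres of the transvections with axis `ker f`. -/
def Y (f : M →+ ZMod 2) : AddSubgroup M where
  carrier := {e | Tr X f e}
  zero_mem' := ⟨map_zero f, 1, fun u => by simp⟩
  add_mem' := by
    rintro a b ⟨ha, x, hx⟩ ⟨hb, y, hy⟩
    refine ⟨by rw [map_add, ha, hb, add_zero], x * y, fun u => ?_⟩
    rw [mul_smul, hy, smul_add, hx, hx]
    have h1 : f (f u • b) = 0 := by
      rcases z2 (f u) with h | h <;> simp [h, hb]
    rw [h1]
    simp [smul_add, add_assoc]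
  neg_mem' := by
    rintro a ⟨ha, x, hx⟩
    have h1 : -a = a := by
      have := add_self a
      exact neg_eq_of_add_eq_zero_left this
    rw [h1]
    exact ⟨ha, x, hx⟩

theorem mem_Y {f : M →+ ZMod 2} {e : M} : e ∈ Y X f ↔ f e = 0 ∧ ∃ x : X, ∀ u : M, x • u = u + f u • e :=
  Iff.rfl

theorem apply_eq_zero {f : M →+ ZMod 2} {e : M} (h : e ∈ Y X f) : f e = 0 := h.1

/-- The action on functionals. -/
def act (x : X) (f : M →+ ZMod 2) : M →+ ZMod 2 := f.comp (DistribSMul.toAddMonoidHom M x⁻¹)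

omit [Module (ZMod 2) M] in
@[simp] theorem act_apply (x : X) (f : M →+ ZMod 2) (u : M) : act x f u = f (x⁻¹ • u) := rfl

omit [Module (ZMod 2) M] in
theorem act_smul (x : X) (f : M →+ ZMod 2) (u : M) : act x f (x • u) = f u := by simp

theorem smul_zmod (x : X) (a : ZMod 2) (m : M) : x • (a • m) = a • (x • m) := by
  rcases z2 a with h | h <;> simp [h]

theorem smul_mem_Y {f : M →+ ZMod 2} {e : M} (h : e ∈ Y X f) (x : X) : x • e ∈ Y X (act x f) := by
  obtain ⟨h0, y, hy⟩ := h
  refine ⟨by simpa using h0, x * y * x⁻¹, fun u => ?_⟩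
  rw [mul_smul, mul_smul, hy, smul_add, smul_inv_smul, smul_zmod]
  rfl

/-- The data of THEOREM L. -/
structure Data (Φ : Set (M →+ ZMod 2)) : Prop where
  inv : ∀ (x : X), ∀ f ∈ Φ, act x f ∈ Φ
  trans : ∀ f ∈ Φ, ∀ g ∈ Φ, ∃ x : X, act x f = g
  ne : ∀ f ∈ Φ, f ≠ 0
  nonempty : Φ.Nonempty
  irr : ∀ N : AddSubgroup M, (∀ (x : X), ∀ n ∈ N, x • n ∈ N) → N = ⊥ ∨ N = ⊤
  four : ∀ f ∈ Φ, ∃ a ∈ Y X f, ∃ b ∈ Y X f, a ≠ 0 ∧ b ≠ 0 ∧ a ≠ b

/-- `f ~ g` : the transvections with axis `ker f` move `g`. -/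
def Adj (X : Type*) [Group X] {M : Type*} [AddCommGroup M] [Module (ZMod 2) M] [DistribMulAction X M]
    (f g : M →+ ZMod 2) : Prop := ∃ e ∈ Y X f, g e = 1

namespace Data

variable {Φ : Set (M →+ ZMod 2)}

theorem not_adj {f g : M →+ ZMod 2} (h : ¬ Adj X f g) {e : M} (he : e ∈ Y X f) : g e = 0 := by
  rcases z2 (g e) with h1 | h1
  · exact h1
  · exact absurd ⟨e, he, h1⟩ h

theorem not_adj_self (f : M →+ ZMod 2) : ¬ Adj X f f := by
  rintro ⟨e, he, h⟩
  rw [apply_eq_zero he] at h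
  exact absurd h (by decide)

theorem Adj.ne' {f g : M →+ ZMod 2} (h : Adj X f g) : f ≠ g := by
  rintro rfl
  exact not_adj_self f h

variable (D : Data (X := X) Φ)
include D

theorem card_eq [Finite M] {f g : M →+ ZMod 2} (hf : f ∈ Φ) (hg : g ∈ Φ) :
    Nat.card (Y X f) = Nat.card (Y X g) := by
  obtain ⟨x, rfl⟩ := D.trans f hf g hg
  refine Nat.card_congr ⟨fun e => ⟨x • (e : M), smul_mem_Y e.2 x⟩,
    fun e => ⟨x⁻¹ • (e : M), ?_⟩, fun e => ?_, fun e => ?_⟩
  · have := smul_mem_Y e.2 x⁻¹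
    have h1 : act x⁻¹ (act x f) = f := by ext u; simp
    rwa [h1] at this
  · ext; simp
  · ext; simp

theorem eq_of_le [Finite M] {f g : M →+ ZMod 2} (hf : f ∈ Φ) (hg : g ∈ Φ) (h : Y X f ≤ Y X g) :
    Y X f = Y X g := by
  apply SetLike.coe_injective
  apply Set.eq_of_subset_of_ncard_le h
  exact (D.card_eq hg hf).le

/-- (a) -/
theorem adj_symm [Finite M] {f g : M →+ ZMod 2} (hf : f ∈ Φ) (hg : g ∈ Φ) (h : Adj X f g) : Adj X g f := by
  by_contra hcon
  obtain ⟨e, he, hge⟩ := h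
  have key : Y X g ≤ Y X f := by
    intro e' he'
    obtain ⟨h0, x, hx⟩ := he'
    have h1 := not_adj hcon ⟨h0, x, hx⟩
    have h2 := smul_mem_Y he x
    have h3 : act x f = f := by
      ext u
      have h4 : act x f (x • (x⁻¹ • u)) = f (x⁻¹ • u) := act_smul x f _
      have h5 : f u = f (x • (x⁻¹ • u)) := by rw [smul_inv_smul]
      rw [smul_inv_smul] at h4
      rw [h4, h5, hx (x⁻¹ • u), map_add]
      have h6 : f (g (x⁻¹ • u) • e') = 0 := by
        rcases z2 (g (x⁻¹ • u)) with h | h <;> simp [h, h1]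
      rw [h6, add_zero]
    rw [h3, hx e, hge, one_smul] at h2
    have h7 := (Y X f).sub_mem h2 he
    rwa [add_sub_cancel_left] at h7
  have h8 := D.eq_of_le hg hf key
  rw [← h8] at he
  rw [apply_eq_zero he] at hge
  exact absurd hge (by decide)

omit D in
theorem smul_functional {f g : M →+ ZMod 2} {e : M} {x : X} (h0 : g e = 0)
    (hx : ∀ u : M, x • u = u + g u • e) (hfe : f e = 1) : act x f = f + g := by
  ext u
  have h4 : act x f (x • (x⁻¹ • u)) = f (x⁻¹ • u) := act_smul x f _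
  rw [smul_inv_smul] at h4
  have h5 : u = x⁻¹ • u + g (x⁻¹ • u) • e := by
    conv_lhs => rw [← smul_inv_smul x u, hx (x⁻¹ • u)]
  have h6 : g (g (x⁻¹ • u) • e) = 0 := by
    rcases z2 (g (x⁻¹ • u)) with h | h <;> simp [h, h0]
  have h7 : g u = g (x⁻¹ • u) := by
    conv_lhs => rw [h5]
    rw [map_add, h6, add_zero]
  have h8 : f u = f (x⁻¹ • u) + g (x⁻¹ • u) := by
    conv_lhs => rw [h5]
    rw [map_add]
    congr 1
    rcases z2 (g (x⁻¹ • u)) with h | h <;> simp [h, hfe]
  rw [h4, AddMonoidHom.add_apply, h7, h8, add_assoc, CharTwo.add_self_eq_zero, add_zero]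

/-- (b) -/
theorem add_mem {f g : M →+ ZMod 2} (hf : f ∈ Φ) (h : Adj X g f) : f + g ∈ Φ := by
  obtain ⟨e, ⟨h0, x, hx⟩, hfe⟩ := h
  rw [← smul_functional h0 hx hfe]
  exact D.inv x f hf

omit D in
theorem mem_Y_add {f g : M →+ ZMod 2} (h : Adj X g f) {e : M} (he : e ∈ Y X f)
    (hge : g e = 0) : e ∈ Y X (f + g) := by
  obtain ⟨e', ⟨h0, x, hx⟩, hfe⟩ := h
  rw [← smul_functional h0 hx hfe]
  have h1 : x • e = e := by rw [hx, hge, zero_smul, add_zero]
  rw [← h1]
  exact smul_mem_Y he x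

theorem mem_Y_of [Finite M] {f g : M →+ ZMod 2} (hf : f ∈ Φ) (hg : g ∈ Φ) (h : Adj X f g) {e : M}
    (he : e ∈ Y X f) (hge : g e = 0) : e ∈ Y X g := by
  have h1 := mem_Y_add (D.adj_symm hf hg h) he hge
  obtain ⟨e', ⟨h0, x, hx⟩, hfe⟩ := h
  have h2 : act x g = f + g := by rw [smul_functional h0 hx hfe, add_comm]
  rw [← h2] at h1
  have h3 := smul_mem_Y h1 x⁻¹
  have h4 : act x⁻¹ (act x g) = g := by ext u; simp
  rw [h4] at h3
  have h5 : x⁻¹ • e = e := by
    rw [inv_smul_eq_iff, hx, apply_eq_zero he, zero_smul, add_zero]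
  rwa [h5] at h3

/-- (c) -/
theorem eq_on [Finite M] {f g h : M →+ ZMod 2} (hf : f ∈ Φ) (hg : g ∈ Φ) (h1 : Adj X g f)
    (h2 : Adj X g h) (h3 : ¬ Adj X f h) {x : M} (hx : x ∈ Y X g) : f x = h x := by
  have key : ∀ y ∈ Y X g, f y = 0 → h y = 0 := fun y hy h0 => not_adj h3 (D.mem_Y_of hg hf h1 hy h0)
  rcases z2 (f x) with h0 | h0
  · rw [h0, key x hx h0]
  · obtain ⟨y, hy, hy1⟩ := h2
    have hfy : f y = 1 := by
      rcases z2 (f y) with h5 | h5
      · rw [key y hy h5] at hy1
        exact absurd hy1 (by decide)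
      · exact h5
    have h6 := key (x + y) ((Y X g).add_mem hx hy) (by rw [map_add, h0, hfy]; decide)
    rw [map_add, hy1] at h6
    rw [h0]
    rcases z2 (h x) with h7 | h7
    · rw [h7] at h6; exact absurd h6 (by decide)
    · exact h7.symm

theorem mem_of_mem [Finite M] {f g h : M →+ ZMod 2} (hg : g ∈ Φ) (hh : h ∈ Φ)
    (h2 : Adj X g h) (h3 : ¬ Adj X f h) {x : M} (hx : x ∈ Y X g) (hxf : x ∈ Y X f) : x ∈ Y X h :=
  D.mem_Y_of hg hh h2 hx (not_adj h3 hxf)

/-- (d) -/
theorem not_eq_on [Finite M] {f k j : M →+ ZMod 2} (hf : f ∈ Φ) (hj : j ∈ Φ)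
    (h1 : Adj X k f) {e : M} (he : e ∈ Y X f) (hek : e ∈ Y X k) (hje : j e = 1)
    (hall : ∀ x ∈ Y X j, f x = k x) : False := by
  have h2 : f + k ∈ Φ := D.add_mem hf h1
  have h3 : e ∈ Y X (f + k) := mem_Y_add h1 he (apply_eq_zero hek)
  have h4 : Adj X j (f + k) := D.adj_symm h2 hj ⟨e, h3, hje⟩
  obtain ⟨x, hx, hx1⟩ := h4
  rw [AddMonoidHom.add_apply, hall x hx, CharTwo.add_self_eq_zero] at hx1
  exact absurd hx1 (by decide)

/-- the common kernel of `Φ` is trivial -/
theorem exists_one {e : M} (he : e ≠ 0) : ∃ j ∈ Φ, j e = 1 := by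
  by_contra hcon
  push Not at hcon
  have h0 : ∀ f ∈ Φ, f e = 0 := fun f hf => (z2 (f e)).resolve_right (hcon f hf)
  let N : AddSubgroup M :=
    { carrier := {m | ∀ f ∈ Φ, f m = 0}
      zero_mem' := fun f _ => map_zero f
      add_mem' := fun {a b} ha hb f hf => by rw [map_add, ha f hf, hb f hf, add_zero]
      neg_mem' := fun {a} ha f hf => by rw [map_neg, ha f hf, neg_zero] }
  rcases D.irr N (fun x n hn f hf => by
      have h1 := hn _ (D.inv x⁻¹ f hf)
      simpa using h1) with h | h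
  · have : e ∈ N := h0
    rw [h] at this
    exact he ((AddSubgroup.mem_bot).mp this)
  · obtain ⟨f, hf⟩ := D.nonempty
    apply D.ne f hf
    ext m
    have : m ∈ N := by rw [h]; trivial
    exact this f hf

/-- the groups `Y_k` generate `M` -/
theorem eq_zero_of {φ : M →+ ZMod 2} (h : ∀ k ∈ Φ, ∀ x ∈ Y X k, φ x = 0) : φ = 0 := by
  let N : AddSubgroup M := AddSubgroup.closure {m | ∃ k ∈ Φ, m ∈ Y X k}
  have hN : N ≤ φ.ker := by
    rw [AddSubgroup.closure_le]
    rintro m ⟨k, hk, hm⟩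
    exact h k hk m hm
  rcases D.irr N (fun x n hn => by
      induction hn using AddSubgroup.closure_induction with
      | mem m hm =>
        obtain ⟨k, hk, hm⟩ := hm
        exact AddSubgroup.subset_closure ⟨act x k, D.inv x k hk, smul_mem_Y hm x⟩
      | zero => rw [smul_zero]; exact N.zero_mem
      | add a b _ _ ha hb => rw [smul_add]; exact N.add_mem ha hb
      | neg a _ ha => rw [smul_neg]; exact N.neg_mem ha) with h1 | h1
  · obtain ⟨f, hf⟩ := D.nonempty
    obtain ⟨a, ha, -, -, ha0, -⟩ := D.four f hf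
    have : a ∈ N := AddSubgroup.subset_closure ⟨f, hf, ha⟩
    rw [h1] at this
    exact absurd ((AddSubgroup.mem_bot).mp this) ha0
  · ext m
    have : m ∈ N := by rw [h1]; trivial
    exact hN this

theorem exists_common {f g : M →+ ZMod 2} [Finite M] (hf : f ∈ Φ) (hg : g ∈ Φ) (h : Adj X f g) :
    ∃ e : M, e ≠ 0 ∧ e ∈ Y X f ∧ e ∈ Y X g := by
  obtain ⟨a, ha, b, hb, ha0, hb0, hab⟩ := D.four f hf
  rcases z2 (g a) with h1 | h1
  · exact ⟨a, ha0, ha, D.mem_Y_of hf hg h ha h1⟩
  · rcases z2 (g b) with h2 | h2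
    · exact ⟨b, hb0, hb, D.mem_Y_of hf hg h hb h2⟩
    · refine ⟨a + b, fun h3 => hab ?_, (Y X f).add_mem ha hb, D.mem_Y_of hf hg h
        ((Y X f).add_mem ha hb) (by rw [map_add, h1, h2]; decide)⟩
      rw [add_eq_zero_iff_eq_neg] at h3
      rw [h3]
      exact neg_eq_of_add_eq_zero_left (add_self b)

/-- (e) -/
theorem no_mixed [Finite M] {f g h k : M →+ ZMod 2} (hf : f ∈ Φ) (hg : g ∈ Φ) (hh : h ∈ Φ) (hk : k ∈ Φ)
    (h1 : Adj X f g) (h2 : Adj X g h) (h3 : ¬ Adj X f h) (h4 : Adj X k f) (h5 : ¬ Adj X k h) : False := by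
  have h3' : ¬ Adj X h f := fun h => h3 (D.adj_symm hh hf h)
  have h5' : ¬ Adj X h k := fun h => h5 (D.adj_symm hh hk h)
  obtain ⟨e, he0, hef, heg⟩ := D.exists_common hf hg h1
  have heh : e ∈ Y X h := D.mem_of_mem hg hh h2 h3 heg hef
  have hek : e ∈ Y X k := by
    by_cases h6 : Adj X g k
    · exact D.mem_of_mem hg hk h6 h5' heg heh
    · exact D.mem_of_mem hf hk (D.adj_symm hk hf h4) h6 hef heg
  obtain ⟨j, hj, hje⟩ := D.exists_one he0
  have jf : Adj X j f := D.adj_symm hf hj ⟨e, hef, hje⟩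
  have jh : Adj X j h := D.adj_symm hh hj ⟨e, heh, hje⟩
  have jk : Adj X j k := D.adj_symm hk hj ⟨e, hek, hje⟩
  refine D.not_eq_on hf hj h4 hef hek hje fun x hx => ?_
  rw [D.eq_on hf hj jf jh h3 hx, D.eq_on hh hj jh jk h5' hx]

/-- (f): adjacency is transitive (up to equality). -/
theorem adj_trans [Finite M] {f g h : M →+ ZMod 2} (hf : f ∈ Φ) (hg : g ∈ Φ) (hh : h ∈ Φ)
    (h1 : Adj X f g) (h2 : Adj X g h) (hne : f ≠ h) : Adj X f h := by
  by_contra h3
  have h3' : ¬ Adj X h f := fun h => h3 (D.adj_symm hh hf h)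
  have h4 : f + h = 0 := by
    refine D.eq_zero_of fun k hk x hx => ?_
    rw [AddMonoidHom.add_apply]
    by_cases h5 : Adj X k f
    · by_cases h6 : Adj X k h
      · rw [D.eq_on hf hk h5 h6 h3 hx, CharTwo.add_self_eq_zero]
      · exact (D.no_mixed hf hg hh hk h1 h2 h3 h5 h6).elim
    · by_cases h6 : Adj X k h
      · exact (D.no_mixed hh hg hf hk (D.adj_symm hg hh h2) (D.adj_symm hf hg h1) h3' h6 h5).elim
      · rw [not_adj h5 hx, not_adj h6 hx, add_zero]
  apply hne
  ext m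
  have h5 := DFunLike.congr_fun h4 m
  rw [AddMonoidHom.add_apply, AddMonoidHom.zero_apply] at h5
  have h6 : f m = - h m := eq_neg_of_add_eq_zero_left h5
  rw [h6]
  rcases z2 (h m) with h | h <;> rw [h] <;> decide

/-! ### The summands -/

/-- `g` is in the component of `f`. -/
def Comp (X : Type*) [Group X] {M : Type*} [AddCommGroup M] [Module (ZMod 2) M] [DistribMulAction X M]
    (Φ : Set (M →+ ZMod 2)) (f g : M →+ ZMod 2) : Prop := g ∈ Φ ∧ (g = f ∨ Adj X g f)

omit D in
theorem Comp.mem {f g : M →+ ZMod 2} (h : Comp X Φ f g) : g ∈ Φ := h.1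

omit D in
theorem Comp.refl {f : M →+ ZMod 2} (hf : f ∈ Φ) : Comp X Φ f f := ⟨hf, Or.inl rfl⟩

theorem comp_symm [Finite M] {f g : M →+ ZMod 2} (hf : f ∈ Φ) (h : Comp X Φ f g) : Comp X Φ g f := by
  refine ⟨hf, ?_⟩
  rcases h.2 with h1 | h1
  · exact Or.inl h1.symm
  · exact Or.inr (D.adj_symm h.1 hf h1)

theorem comp_trans [Finite M] {f g h : M →+ ZMod 2} (hf : f ∈ Φ) (h1 : Comp X Φ f g) (h2 : Comp X Φ g h) :
    Comp X Φ f h := by
  refine ⟨h2.1, ?_⟩
  rcases h1.2 with rfl | h3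
  · exact h2.2
  · rcases h2.2 with rfl | h4
    · exact Or.inr h3
    · by_cases h5 : h = f
      · exact Or.inl h5
      · exact Or.inr (D.adj_trans h2.1 h1.1 hf h4 h3 h5)

omit D in
theorem comp_add {f g : M →+ ZMod 2} (D : Data (X := X) Φ) [Finite M] (hf : f ∈ Φ) (h1 : Comp X Φ f g)
    (h : f ≠ g) : Comp X Φ f (g + f) := by
  have h2 : Adj X g f := by
    rcases h1.2 with h3 | h3
    · exact absurd h3.symm h
    · exact h3
  have h3 : Adj X f g := D.adj_symm h1.1 hf h2
  have h4 : g + f ∈ Φ := D.add_mem h1.1 h3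
  refine ⟨h4, Or.inr (D.adj_symm hf h4 ?_)⟩
  obtain ⟨e, he, hge⟩ := h3
  exact ⟨e, he, by rw [AddMonoidHom.add_apply, hge, apply_eq_zero he, add_zero]⟩

/-- a sum of two different members of a component is in the component -/
theorem comp_add' [Finite M] {f g h : M →+ ZMod 2} (hf : f ∈ Φ) (h1 : Comp X Φ f g) (h2 : Comp X Φ f h)
    (hne : g ≠ h) : Comp X Φ f (g + h) := by
  have h3 : Comp X Φ h g := D.comp_trans h2.1 (D.comp_symm hf h2) h1
  exact D.comp_trans hf h2 (comp_add D h2.1 h3 hne.symm)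

variable (X Φ) in
/-- The summand of `f`. -/
def MM (f : M →+ ZMod 2) : AddSubgroup M := AddSubgroup.closure {m | ∃ k, Comp X Φ f k ∧ m ∈ Y X k}

variable (X Φ) in
/-- The complement of the summand of `f`. -/
def CC (f : M →+ ZMod 2) : AddSubgroup M :=
  AddSubgroup.closure {m | ∃ k ∈ Φ, ¬ Comp X Φ f k ∧ m ∈ Y X k}

omit D in
theorem Y_le_MM {f k : M →+ ZMod 2} (h : Comp X Φ f k) : Y X k ≤ MM X Φ f :=
  fun _ hm => AddSubgroup.subset_closure ⟨k, h, hm⟩

theorem apply_CC [Finite M] {f g : M →+ ZMod 2} (hf : f ∈ Φ) (h : Comp X Φ f g) {m : M} (hm : m ∈ CC X Φ f) :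
    g m = 0 := by
  have h1 : CC X Φ f ≤ g.ker := by
    unfold CC
    rw [AddSubgroup.closure_le]
    rintro m ⟨k, hk, hn, hm⟩
    refine not_adj (fun h2 => hn ?_) hm
    exact D.comp_trans hf h ⟨hk, Or.inr h2⟩
  exact h1 hm

theorem apply_MM [Finite M] {f g : M →+ ZMod 2} (hf : f ∈ Φ) (hg : g ∈ Φ) (h : ¬ Comp X Φ f g) {m : M}
    (hm : m ∈ MM X Φ f) : g m = 0 := by
  have h1 : MM X Φ f ≤ g.ker := by
    unfold MM
    rw [AddSubgroup.closure_le]
    rintro m ⟨k, hk, hm⟩
    refine not_adj (fun h2 => h ?_) hm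
    have h3 : Comp X Φ g k := ⟨hk.1, Or.inr h2⟩
    exact D.comp_trans hf hk (D.comp_symm hg h3)
  exact h1 hm

theorem exists_add (m : M) (f : M →+ ZMod 2) : ∃ a ∈ MM X Φ f, ∃ b ∈ CC X Φ f, m = a + b := by
  let N : AddSubgroup M := AddSubgroup.closure {m | ∃ k ∈ Φ, m ∈ Y X k}
  have hN : N ≤ MM X Φ f ⊔ CC X Φ f := by
    rw [AddSubgroup.closure_le]
    rintro m ⟨k, hk, hm⟩
    by_cases h : Comp X Φ f k
    · exact (le_sup_left : MM X Φ f ≤ _) (AddSubgroup.subset_closure ⟨k, h, hm⟩)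
    · exact (le_sup_right : CC X Φ f ≤ _) (AddSubgroup.subset_closure ⟨k, hk, h, hm⟩)
  have hN' : N = ⊤ := by
    rcases D.irr N (fun x n hn => by
      induction hn using AddSubgroup.closure_induction with
      | mem m hm =>
        obtain ⟨k, hk, hm⟩ := hm
        exact AddSubgroup.subset_closure ⟨act x k, D.inv x k hk, smul_mem_Y hm x⟩
      | zero => rw [smul_zero]; exact N.zero_mem
      | add a b _ _ ha hb => rw [smul_add]; exact N.add_mem ha hb
      | neg a _ ha => rw [smul_neg]; exact N.neg_mem ha) with h1 | h1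
    · obtain ⟨f, hf⟩ := D.nonempty
      obtain ⟨a, ha, -, -, ha0, -⟩ := D.four f hf
      have : a ∈ N := AddSubgroup.subset_closure ⟨f, hf, ha⟩
      rw [h1] at this
      exact absurd ((AddSubgroup.mem_bot).mp this) ha0
    · exact h1
  have hm : m ∈ MM X Φ f ⊔ CC X Φ f := hN (by rw [hN']; trivial)
  obtain ⟨a, ha, b, hb, hab⟩ := AddSubgroup.mem_sup.mp hm
  exact ⟨a, ha, b, hb, hab.symm⟩

/-- an element of the summand of `f` killed by the component of `f` is zero -/
theorem eq_zero_of_MM [Finite M] {f : M →+ ZMod 2} (hf : f ∈ Φ) {m : M} (hm : m ∈ MM X Φ f)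
    (h : ∀ g, Comp X Φ f g → g m = 0) : m = 0 := by
  by_contra hne
  obtain ⟨j, hj, hj1⟩ := D.exists_one hne
  by_cases hc : Comp X Φ f j
  · rw [h j hc] at hj1; exact absurd hj1 (by decide)
  · rw [D.apply_MM hf hj hc hm] at hj1; exact absurd hj1 (by decide)

/-- every nonzero functional of the summand of `f` is in the component of `f` -/
theorem comp_of_CC [Finite M] {f φ : M →+ ZMod 2} (hf : f ∈ Φ) (hφ : φ ≠ 0)
    (h : ∀ m ∈ CC X Φ f, φ m = 0) : Comp X Φ f φ := by
  classical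
  by_contra hcon
  -- the component together with `0` is a subspace of the dual
  let W : Submodule (ZMod 2) (Module.Dual (ZMod 2) M) :=
    { carrier := {g | g.toAddMonoidHom = 0 ∨ Comp X Φ f g.toAddMonoidHom}
      zero_mem' := Or.inl rfl
      add_mem' := by
        rintro a b ha hb
        have hab : (a + b).toAddMonoidHom = a.toAddMonoidHom + b.toAddMonoidHom := rfl
        show (a + b).toAddMonoidHom = 0 ∨ _
        rcases ha with ha | ha
        · rw [hab, ha, zero_add]; exact hb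
        · rcases hb with hb | hb
          · rw [hab, hb, add_zero]; exact Or.inr ha
          · by_cases hne : a.toAddMonoidHom = b.toAddMonoidHom
            · left
              rw [hab, hne]
              ext m
              rw [AddMonoidHom.add_apply, CharTwo.add_self_eq_zero]
              rfl
            · right
              rw [hab]
              exact D.comp_add' hf ha hb hne
      smul_mem' := by
        intro c g hg
        rcases z2 c with rfl | rfl
        · left
          rw [zero_smul]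
          rfl
        · rw [one_smul]; exact hg }
  have hW : W.dualCoannihilator.dualAnnihilator = W := Subspace.dualCoannihilator_dualAnnihilator_eq
  have hφW : (φ.toZModLinearMap 2 : Module.Dual (ZMod 2) M) ∉ W := by
    intro h1
    rcases h1 with h1 | h1
    · apply hφ
      ext m
      exact DFunLike.congr_fun h1 m
    · exact hcon h1
  rw [← hW] at hφW
  apply hφW
  rw [Submodule.mem_dualAnnihilator]
  intro m hm
  rw [Submodule.mem_dualCoannihilator] at hm
  obtain ⟨a, ha, b, hb, rfl⟩ := D.exists_add m f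
  have h1 : a = 0 := by
    refine D.eq_zero_of_MM hf ha fun g hg => ?_
    have h2 := hm (g.toZModLinearMap 2) (Or.inr hg)
    have h3 : g (a + b) = 0 := h2
    rw [map_add, D.apply_CC hf hg hb, add_zero] at h3
    exact h3
  rw [h1, zero_add]
  exact h b hb

/-- **THEOREM L**: all transvections of the summand of `f` with axis `ker f` are induced by `X`. -/
theorem mem_Y_of_MM [Finite M] {f : M →+ ZMod 2} (hf : f ∈ Φ) {e : M} (he : e ∈ MM X Φ f) (h0 : f e = 0) :
    e ∈ Y X f := by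
  by_contra hcon
  let p : Submodule (ZMod 2) M := AddSubgroup.toZModSubmodule 2 (Y X f ⊔ CC X Φ f)
  have hp : e ∉ p := by
    intro h1
    rw [AddSubgroup.mem_toZModSubmodule] at h1
    obtain ⟨y, hy, b, hb, hyb⟩ := AddSubgroup.mem_sup.mp h1
    have h2 : y - e ∈ MM X Φ f := (MM X Φ f).sub_mem (Y_le_MM (Comp.refl hf) hy) he
    have h3 : y - e = 0 := by
      refine D.eq_zero_of_MM hf h2 fun g hg => ?_
      have h4 : g (y + b) = g e := by rw [hyb]
      rw [map_add, D.apply_CC hf hg hb, add_zero] at h4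
      rw [map_sub, h4, sub_self]
    rw [sub_eq_zero] at h3
    exact hcon (h3 ▸ hy)
  obtain ⟨φ, hφe, hφp⟩ := Submodule.exists_dual_map_eq_bot_of_notMem hp inferInstance
  have hker : ∀ m ∈ p, φ m = 0 := by
    intro m hm
    have : φ m ∈ p.map φ := ⟨m, hm, rfl⟩
    rw [hφp] at this
    exact (Submodule.mem_bot _).mp this
  have h1 : Comp X Φ f φ.toAddMonoidHom := by
    refine D.comp_of_CC hf (fun h2 => hφe (DFunLike.congr_fun h2 e)) fun m hm => ?_
    exact hker m ((AddSubgroup.mem_toZModSubmodule _).mpr ((le_sup_right : CC X Φ f ≤ _) hm))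
  rcases h1.2 with h2 | h2
  · apply hφe
    have h3 := DFunLike.congr_fun h2 e
    exact h3.trans h0
  · obtain ⟨y, hy, hy1⟩ := D.adj_symm h1.1 hf h2
    have h3 : φ y = 0 := hker y ((AddSubgroup.mem_toZModSubmodule _).mpr ((le_sup_left : Y X f ≤ _) hy))
    have h4 : φ y = 1 := hy1
    rw [h3] at h4
    exact absurd h4 (by decide)

omit D [Module (ZMod 2) M] in
theorem act_inv_act (x : X) (f : M →+ ZMod 2) : act x⁻¹ (act x f) = f := by ext u; simp

omit D [Module (ZMod 2) M] in
theorem act_act_inv (x : X) (f : M →+ ZMod 2) : act x (act x⁻¹ f) = f := by ext u; simp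

omit D in
theorem adj_act {f g : M →+ ZMod 2} (h : Adj X f g) (x : X) : Adj X (act x f) (act x g) := by
  obtain ⟨e, he, hge⟩ := h
  exact ⟨x • e, smul_mem_Y he x, by rw [act_smul, hge]⟩

theorem comp_act {f g : M →+ ZMod 2} (h : Comp X Φ f g) (x : X) : Comp X Φ (act x f) (act x g) := by
  refine ⟨D.inv x g h.1, ?_⟩
  rcases h.2 with h1 | h1
  · exact Or.inl (by rw [h1])
  · exact Or.inr (adj_act h1 x)

end Data

/-! ### The end of A2 -/

/-- `z = ∑ c i`, the transvections `u ↦ u + f i u • c i` are "in `O₂` of the stabiliser of `z`", `W` is normalised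
by the stabiliser of `z` and contained in all `ker (f i)`. -/
structure EndData (Φ : Set (M →+ ZMod 2)) {ι : Type*} [Fintype ι] (f : ι → (M →+ ZMod 2)) (c : ι → M) (z : M)
    (W : AddSubgroup M) (S : Subgroup X) : Prop where
  data : Data (X := X) Φ
  hf : ∀ i, f i ∈ Φ
  hc : ∀ i, c i ∈ Y X (f i)
  hc0 : ∀ i, c i ≠ 0
  hz : z = ∑ i, c i
  hS : ∀ s ∈ S, ∀ i, ∃ j, act s (f i) = f j
  hfix : ∀ N : AddSubgroup M, (∀ s ∈ S, ∀ n ∈ N, s • n ∈ N) → N ≠ ⊥ → z ∈ N
  htwo : ∀ i, ∀ s : X, s • z = z → ∀ t : X, (∀ u : M, t • u = u + f i u • c i) →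
    ∃ n : ℕ, ∀ u : M, ((s * t * s⁻¹ * t⁻¹) ^ (2 ^ n)) • u = u
  hW : ∀ s : X, s • z = z → ∀ w ∈ W, s • w ∈ W
  hWf : ∀ i, ∀ w ∈ W, f i w = 0

namespace EndData

variable {Φ : Set (M →+ ZMod 2)} {ι : Type*} [Fintype ι] {f : ι → (M →+ ZMod 2)} {c : ι → M} {z : M}
  {W : AddSubgroup M} {S : Subgroup X}

/-- two transvections generating `S₃` -/
theorem S3 {a b : M →+ ZMod 2} {e d : M} {s t : X} (hs : ∀ u : M, s • u = u + a u • e)
    (ht : ∀ u : M, t • u = u + b u • d) (hae : a e = 0) (hbd : b d = 0) (had : a d = 1) (hbe : b e = 1)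
    {n : ℕ} (h : ((s * t * s⁻¹ * t⁻¹) ^ (2 ^ n)) • e = e) : False := by
  have se : s • e = e := by rw [hs, hae, zero_smul, add_zero]
  have sd : s • d = d + e := by rw [hs, had, one_smul]
  have te : t • e = e + d := by rw [ht, hbe, one_smul]
  have td : t • d = d := by rw [ht, hbd, zero_smul, add_zero]
  have hd0 : d ≠ 0 := by
    rintro rfl
    rw [map_zero] at had
    exact absurd had (by decide)
  have ss : ∀ u : M, s⁻¹ • u = s • u := by
    intro u
    rw [inv_smul_eq_iff, hs (s • u), hs u, map_add]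
    have h1 : a (a u • e) = 0 := by rcases z2 (a u) with h | h <;> simp [h, hae]
    rw [h1, add_zero, add_assoc, add_self, add_zero]
  have tt : ∀ u : M, t⁻¹ • u = t • u := by
    intro u
    rw [inv_smul_eq_iff, ht (t • u), ht u, map_add]
    have h1 : b (b u • d) = 0 := by rcases z2 (b u) with h | h <;> simp [h, hbd]
    rw [h1, add_zero, add_assoc, add_self, add_zero]
  set k : X := s * t * s⁻¹ * t⁻¹ with hk
  have hke : k • e = e + d := by
    rw [hk, mul_smul, mul_smul, mul_smul, tt, te, ss]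
    have h1 : s • (e + d) = d := by
      rw [hs, map_add, hae, had, zero_add, one_smul, add_comm e d, add_assoc, add_self, add_zero]
    rw [h1, td, sd, add_comm]
  have hkd : k • d = e := by
    rw [hk, mul_smul, mul_smul, mul_smul, tt, td, ss, sd]
    have h1 : t • (d + e) = e := by
      rw [ht, map_add, hbd, hbe, zero_add, one_smul, add_comm d e, add_assoc, add_self, add_zero]
    rw [h1, se]
  have hked : k • (e + d) = d := by
    rw [hk, mul_smul, mul_smul, mul_smul, tt]
    have h1 : t • (e + d) = e := by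
      rw [ht, map_add, hbd, hbe, add_zero, one_smul, add_assoc, add_self, add_zero]
    rw [h1, ss, se, te]
    rw [hs, map_add, hae, had, zero_add, one_smul, add_comm e d, add_assoc, add_self, add_zero]
  have h3 : (k ^ 3) • e = e := by
    rw [pow_succ, pow_succ, pow_one, mul_smul, mul_smul, hke, hked, hkd]
  have h4 : MulAction.period k e ∣ 3 := MulAction.pow_smul_eq_iff_period_dvd.mp h3
  have h5 : MulAction.period k e ∣ 2 ^ n := MulAction.pow_smul_eq_iff_period_dvd.mp h
  have h6 : MulAction.period k e ∣ 1 := by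
    have h7 : Nat.Coprime 3 (2 ^ n) := Nat.Coprime.pow_right n (by decide)
    have h8 := Nat.dvd_gcd h4 h5
    rwa [h7] at h8
  have h7 : (k ^ 1) • e = e := MulAction.pow_smul_eq_iff_period_dvd.mpr h6
  rw [pow_one, hke] at h7
  exact hd0 (by simpa using h7)

variable (E : EndData Φ f c z W S)
include E

theorem claimA [Finite M] {i : ι} {g : M →+ ZMod 2} (hg : Data.Comp X Φ (f i) g) (h1 : g (c i) = 1)
    (h0 : g z = 0) : False := by
  have D := E.data
  rcases hg.2 with h2 | ⟨e, ⟨hge, s, hs⟩, he⟩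
  · rw [h2, apply_eq_zero (E.hc i)] at h1
    exact absurd h1 (by decide)
  · obtain ⟨hfc, t, ht⟩ := E.hc i
    have hsz : s • z = z := by rw [hs, h0, zero_smul, add_zero]
    obtain ⟨n, hn⟩ := E.htwo i s hsz t ht
    exact S3 hs ht hge hfc h1 he (hn e)

theorem claimA' [Finite M] {i : ι} {g : M →+ ZMod 2} (hg : Data.Comp X Φ (f i) g) : g (c i) = g z := by
  have D := E.data
  rcases z2 (g (c i)) with h1 | h1
  · rcases z2 (g z) with h2 | h2
    · rw [h1, h2]
    · exfalso
      obtain ⟨k, hk, hk1⟩ := D.exists_one (E.hc0 i)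
      have hkc : Data.Comp X Φ (f i) k := by
        by_contra hcon
        rw [D.apply_MM (E.hf i) hk hcon (Data.Y_le_MM (Data.Comp.refl (E.hf i)) (E.hc i))] at hk1
        exact absurd hk1 (by decide)
      rcases z2 (k z) with h3 | h3
      · exact E.claimA hkc hk1 h3
      · have hne : g ≠ k := by
          rintro rfl
          rw [h1] at hk1
          exact absurd hk1 (by decide)
        refine E.claimA (D.comp_add' (E.hf i) hg hkc hne) ?_ ?_
        · rw [AddMonoidHom.add_apply, h1, hk1]; decide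
        · rw [AddMonoidHom.add_apply, h2, h3]; decide
  · rcases z2 (g z) with h2 | h2
    · exact (E.claimA hg h1 h2).elim
    · rw [h1, h2]

theorem claimB [Finite M] {i : ι} {g : M →+ ZMod 2} (hg : Data.Comp X Φ (f i) g) (h1 : g (c i) = 0) {w : M}
    (hw : w ∈ W) : g w = 0 := by
  by_contra h0
  have h0' : g w = 1 := (z2 (g w)).resolve_left h0
  rcases hg.2 with h2 | ⟨e, ⟨hge, s, hs⟩, he⟩
  · rw [h2] at h0
    exact h0 (E.hWf i w hw)
  · have hgz : g z = 0 := by rw [← E.claimA' hg, h1]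
    have hsz : s • z = z := by rw [hs, hgz, zero_smul, add_zero]
    have h3 := E.hWf i _ (E.hW s hsz w hw)
    rw [hs, h0', one_smul, map_add, E.hWf i w hw, he] at h3
    exact absurd h3 (by decide)

theorem claimC [Finite M] [Nonempty ι] {h : M →+ ZMod 2} (hh : h ∈ Φ) : ∃ i, Data.Comp X Φ (f i) h := by
  have D := E.data
  by_contra hcon
  push Not at hcon
  let N : AddSubgroup M :=
    { carrier := {m | ∀ i, ∀ g, Data.Comp X Φ (f i) g → g m = 0}
      zero_mem' := fun i g _ => map_zero g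
      add_mem' := fun {a b} ha hb i g hg => by rw [map_add, ha i g hg, hb i g hg, add_zero]
      neg_mem' := fun {a} ha i g hg => by rw [map_neg, ha i g hg, neg_zero] }
  have hN : N = ⊥ := by
    by_contra hne
    have hz : z ∈ N := by
      refine E.hfix N (fun s hs n hn i g hg => ?_) hne
      obtain ⟨j, hj⟩ := E.hS s⁻¹ (S.inv_mem hs) i
      have h1 := D.comp_act hg s⁻¹
      rw [hj] at h1
      have h2 := hn j _ h1
      simpa using h2
    obtain ⟨i⟩ := ‹Nonempty ι›
    obtain ⟨k, hk, hk1⟩ := D.exists_one (E.hc0 i)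
    have hkc : Data.Comp X Φ (f i) k := by
      by_contra hcon
      rw [D.apply_MM (E.hf i) hk hcon (Data.Y_le_MM (Data.Comp.refl (E.hf i)) (E.hc i))] at hk1
      exact absurd hk1 (by decide)
    rw [E.claimA' hkc, hz i k hkc] at hk1
    exact absurd hk1 (by decide)
  obtain ⟨a, ha, -, -, ha0, -⟩ := D.four h hh
  have h1 : a ∈ N := by
    intro i g hg
    refine D.apply_MM hh hg.1 (fun h2 => hcon i ?_) (Data.Y_le_MM (Data.Comp.refl hh) ha)
    exact D.comp_trans (E.hf i) hg (D.comp_symm hh h2)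
  rw [hN] at h1
  exact ha0 (AddSubgroup.mem_bot.mp h1)

/-- **The end of A2**: a conjugate of `z` in `W` is `z`. -/
theorem fixed [Finite M] [Nonempty ι] (x : X) (hx : x • z ∈ W) : x • z = z := by
  have D := E.data
  by_contra hne
  obtain ⟨j, hj, hj1⟩ := D.exists_one (sub_ne_zero.mpr hne)
  obtain ⟨i, hi⟩ := E.claimC hj
  -- a member of the component which does not vanish on `x • z`
  obtain ⟨i', hi'⟩ := E.claimC (D.inv x⁻¹ j hj)
  obtain ⟨h, hh, hh1⟩ := D.exists_one (E.hc0 i')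
  have hhc : Data.Comp X Φ (f i') h := by
    by_contra hcon
    rw [D.apply_MM (E.hf i') hh hcon (Data.Y_le_MM (Data.Comp.refl (E.hf i')) (E.hc i'))] at hh1
    exact absurd hh1 (by decide)
  have h1 : h z = 1 := by rw [← E.claimA' hhc, hh1]
  have h2 : Data.Comp X Φ (act x⁻¹ j) h := D.comp_trans (D.inv x⁻¹ j hj) (D.comp_symm (E.hf i') hi') hhc
  have h3 : Data.Comp X Φ j (act x h) := by
    have := D.comp_act h2 x
    rwa [Data.act_act_inv] at this
  have hg : Data.Comp X Φ (f i) (act x h) := D.comp_trans (E.hf i) hi h3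
  have hg1 : act x h (x • z) = 1 := by rw [act_smul, h1]
  have hgc : act x h (c i) = 1 := by
    rcases z2 (act x h (c i)) with h4 | h4
    · rw [E.claimB hg h4 hx] at hg1
      exact absurd hg1 (by decide)
    · exact h4
  have key : j (x • z) = j (c i) := by
    rcases z2 (j (c i)) with h4 | h4
    · rw [h4, E.claimB hi h4 hx]
    · by_cases h5 : j = act x h
      · rw [h4, h5, hg1]
      · have h6 := E.claimB (D.comp_add' (E.hf i) hi hg h5)
          (by rw [AddMonoidHom.add_apply, h4, hgc]; decide) hx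
        rw [AddMonoidHom.add_apply, hg1] at h6
        rw [h4]
        rcases z2 (j (x • z)) with h7 | h7
        · rw [h7] at h6; exact absurd h6 (by decide)
        · exact h7
  rw [map_sub, key, E.claimA' hi, sub_self] at hj1
  exact absurd hj1 (by decide)

end EndData

end Cfsg.Agent.Omega.NOThreeL.ThmL
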