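import Cfsg.Agent.Omega.NOThreeL.ThmT

/-!
# NO-3L, THEOREM T for `q > 2`, when `N_G(Z)` does not normalise `U_H`

`Omega/NOThreeL/ThmT.lean` wants a `G`-set of points on which both `U` and the points of the line `V` live.
For `X = G / C_G(Z)` the line contains several `y ≠ c` with `z y = z c` (torus of the line group), on which
`U c` is trivial, so `stab` and `trans` fail for `q > 2`; for `X = G / N_G(Z)` the map `U` exists only if
`N_G(Z)` normalises `U_H`. Here `x ≠ y` is replaced by `z x ≠ z y`, transitivity is not used, and `core` is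
replaced by a statement about `⟨U c, U c', C_G(V)⟩`; so `X = G / C_G(Z)` works for all `q`, without any
hypothesis on `N_G(Z)`.

* `Data.inf_eq_bot`, `Data.star`, `DataW.eq` : as in `ThmT`;
* `core_of` : the field `core` for `S ≤ ⟨U c, C_G(V)⟩`.
-/

set_option autoImplicit false

namespace Cfsg.Agent.Omega.NOThreeL.ThmTz

open Subgroup MulAction Pointwise
open Cfsg.Agent.Omega.NOThreeL (mem_normalizer_of_conj_eq)
open Cfsg.Agent.Omega.NoFF.Basic (conj_conj mem_conj conj_le_iff conj_le_centralizer comm_symm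
  comm_mono)
open Cfsg.Agent.Omega.NOThreeL.ThmT (conj_eq_of_mem_normalizer mem_normalizer_of_forall
  conj_mem_centralizer conj_centralizer_eq card_conj card_mul_le)

universe u v

variable {G : Type u} [Group G]

/-- The data of a line `V` on `c` on which `U c` acts nontrivially. -/
structure Data {X : Type v} [MulAction G X] (z U : X → Subgroup G) (V : Subgroup G) (L : Set X)
    (c : X) : Prop where
  eqv_z : ∀ (g : G) (x : X), z (g • x) = MulAut.conj g • z x
  eqv_U : ∀ (g : G) (x : X), U (g • x) = MulAut.conj g • U x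
  le : ∀ x, z x ≤ U x
  abel : ∀ x, U x ≤ centralizer (U x : Set G)
  cent : ∀ x, ∀ g ∈ centralizer (z x : Set G), g • x = x
  mem : c ∈ L
  other : ∃ c' ∈ L, z c' ≠ z c
  zV : ∀ x ∈ L, z x ≤ V
  UV : ∀ x ∈ L, U x ≤ normalizer (V : Set G)
  inv : ∀ g ∈ normalizer (V : Set G), ∀ x ∈ L, g • x ∈ L
  hom : ∀ x ∈ L, ∃ g ∈ normalizer (V : Set G), g • c = x
  stab : ∀ u ∈ U c, ∀ y ∈ L, z y ≠ z c → z (u • y) = z y → u ∈ centralizer (V : Set G)
  core : ∀ c' ∈ L, z c' ≠ z c → ∀ T : Subgroup G, T ≤ U c → U c ≤ centralizer (T : Set G) →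
    U c' ≤ centralizer (T : Set G) → centralizer (V : Set G) ≤ normalizer (T : Set G) → T = ⊥

namespace Data

variable {X : Type v} [MulAction G X] {z U : X → Subgroup G} {V : Subgroup G} {L : Set X} {c : X}
variable (D : Data z U V L c)
include D

theorem norm_U {g : G} {x : X} (h : g • x = x) : g ∈ normalizer (U x : Set G) :=
  mem_normalizer_of_conj_eq (by rw [← D.eqv_U, h])

/-- `C_G(V)` fixes the points of `V`. -/
theorem fix {x : X} (hx : x ∈ L) {g : G} (hg : g ∈ centralizer (V : Set G)) : g • x = x :=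
  D.cent x g (centralizer_le (D.zV x hx) hg)

theorem inf_eq_bot_base {c' : X} (hc' : c' ∈ L) (hne : z c' ≠ z c) : U c ⊓ U c' = ⊥ := by
  refine D.core c' hc' hne _ inf_le_left ?_ ?_ fun g hg => ?_
  · exact (D.abel c).trans (centralizer_le inf_le_left)
  · exact (D.abel c').trans (centralizer_le inf_le_right)
  · have h1 := D.norm_U (D.fix D.mem hg)
    have h2 := D.norm_U (D.fix hc' hg)
    rw [mem_normalizer_iff] at h1 h2 ⊢
    intro x
    rw [mem_inf, mem_inf, h1 x, h2 x]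

theorem inf_eq_bot {x y : X} (hx : x ∈ L) (hy : y ∈ L) (hne : z x ≠ z y) : U x ⊓ U y = ⊥ := by
  obtain ⟨g, hg, rfl⟩ := D.hom x hx
  have h1 : g⁻¹ • y ∈ L := D.inv _ (inv_mem hg) _ hy
  have h2 : z (g⁻¹ • y) ≠ z c := fun h => hne (by
    rw [D.eqv_z g c, ← h, ← D.eqv_z, smul_inv_smul])
  have h3 := D.inf_eq_bot_base h1 h2
  have h4 : U y = MulAut.conj g • U (g⁻¹ • y) := by rw [← D.eqv_U, smul_inv_smul]
  rw [D.eqv_U, h4, ← Subgroup.smul_inf, h3, smul_bot]

theorem card_Y {x : X} (hx : x ∈ L) :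
    Nat.card (U x ⊓ centralizer (V : Set G) : Subgroup G) =
      Nat.card (U c ⊓ centralizer (V : Set G) : Subgroup G) := by
  obtain ⟨g, hg, rfl⟩ := D.hom x hx
  have h1 : U (g • c) ⊓ centralizer (V : Set G) =
      MulAut.conj g • (U c ⊓ centralizer (V : Set G) : Subgroup G) := by
    rw [Subgroup.smul_inf, ← D.eqv_U, conj_centralizer_eq hg]
  rw [h1, card_conj]

/-- `[Y c, Y c'] = 1` -/
theorem comm {x y : X} (hx : x ∈ L) (hy : y ∈ L) (hne : z x ≠ z y) {a b : G}
    (ha : a ∈ U x ⊓ centralizer (V : Set G)) (hb : b ∈ U y ⊓ centralizer (V : Set G)) :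
    a * b = b * a := by
  have ha2 : a ∈ normalizer (U y : Set G) := D.norm_U (D.fix hy ha.2)
  have hb2 : b ∈ normalizer (U x : Set G) := D.norm_U (D.fix hx hb.2)
  have h1 : a * b * a⁻¹ * b⁻¹ ∈ U x ⊓ U y := by
    constructor
    · have h5 : a * b * a⁻¹ * b⁻¹ = a * (b * a⁻¹ * b⁻¹) := by group
      rw [h5]
      exact mul_mem ha.1 ((mem_normalizer_iff.mp hb2 _).mp (inv_mem ha.1))
    · exact (U y).mul_mem ((mem_normalizer_iff.mp ha2 _).mp hb.1) ((U y).inv_mem hb.1)
  rw [D.inf_eq_bot hx hy hne, mem_bot] at h1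
  have h2 := congrArg (fun t => t * b * a) h1
  simpa [mul_assoc] using h2

variable [Finite G]

theorem star {u : G} (hu : u ∈ U c) (huV : u ∉ centralizer (V : Set G)) {c' : X} (hc' : c' ∈ L)
    (hne : z c' ≠ z c) {y : G} (hy : y ∈ U c ⊓ centralizer (V : Set G)) :
    ∃ t ∈ U c' ⊓ centralizer (V : Set G), t⁻¹ * u * t = u * y := by
  have hmem : ∀ t : (U c' ⊓ centralizer (V : Set G) : Subgroup G),
      u⁻¹ * ((t : G)⁻¹ * u * t) ∈ U c ⊓ centralizer (V : Set G) := by
    intro t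
    have h1 : (t : G) ∈ normalizer (U c : Set G) := D.norm_U (D.fix D.mem t.2.2)
    refine mem_inf.mpr ⟨?_, ?_⟩
    · refine mul_mem (inv_mem hu) ?_
      have h2 := (mem_normalizer_iff.mp (inv_mem h1) u).mp hu
      simpa using h2
    · have h3 : u⁻¹ * ((t : G)⁻¹ * u * t) = u⁻¹ * (t : G)⁻¹ * u * t := by group
      rw [h3]
      exact mul_mem (conj_mem_centralizer (D.UV c D.mem hu) (inv_mem (mem_inf.mp t.2).2))
        (mem_inf.mp t.2).2
  let f : (U c' ⊓ centralizer (V : Set G) : Subgroup G) →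
      (U c ⊓ centralizer (V : Set G) : Subgroup G) := fun t => ⟨_, hmem t⟩
  have hinj : Function.Injective f := by
    intro s t hst
    have h1 : u⁻¹ * ((s : G)⁻¹ * u * s) = u⁻¹ * ((t : G)⁻¹ * u * t) := congrArg Subtype.val hst
    have h2 : (s : G)⁻¹ * u * s = (t : G)⁻¹ * u * t := mul_left_cancel h1
    -- `r = t s⁻¹` commutes with `u`
    have h3 : u * ((t : G) * (s : G)⁻¹) = (t : G) * (s : G)⁻¹ * u := by
      calc u * ((t : G) * (s : G)⁻¹) = (t : G) * ((t : G)⁻¹ * u * t) * (s : G)⁻¹ := by group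
        _ = (t : G) * ((s : G)⁻¹ * u * s) * (s : G)⁻¹ := by rw [h2]
        _ = (t : G) * (s : G)⁻¹ * u := by group
    have h40 : (t : G) * (s : G)⁻¹ ∈ U c' :=
      mul_mem (mem_inf.mp t.2).1 (inv_mem (mem_inf.mp s.2).1)
    have h4 : (t : G) * (s : G)⁻¹ ∈ U c' ⊓ U (u • c') := by
      refine mem_inf.mpr ⟨h40, ?_⟩
      rw [D.eqv_U, mem_conj]
      have h5 : u⁻¹ * ((t : G) * (s : G)⁻¹) * u = (t : G) * (s : G)⁻¹ := by
        rw [mul_assoc, ← h3, inv_mul_cancel_left]
      rw [h5]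
      exact h40
    have h6 : z (u • c') ≠ z c' := fun h => huV (D.stab u hu c' hc' hne h)
    rw [D.inf_eq_bot hc' (D.inv u (D.UV c D.mem hu) c' hc') h6.symm, mem_bot] at h4
    exact Subtype.ext (mul_inv_eq_one.mp h4).symm
  have hbij := hinj.bijective_of_nat_card_le (D.card_Y hc').ge
  obtain ⟨t, ht⟩ := hbij.2 ⟨y, hy⟩
  refine ⟨t, t.2, ?_⟩
  have h1 : u⁻¹ * ((t : G)⁻¹ * u * t) = y := congrArg Subtype.val ht
  rw [← h1, mul_inv_cancel_left]

end Data

/-- The group `H = N_G(U c)` and the subgroup `W` of `U c`. -/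
structure DataW {X : Type v} [MulAction G X] (z U : X → Subgroup G) (V : Subgroup G) (L : Set X)
    (c : X) (W : Subgroup G) : Prop extends Data z U V L c where
  ne : ¬ U c ≤ centralizer (V : Set G)
  WU : W ≤ U c
  WV : W ≤ centralizer (V : Set G)
  Wn : centralizer (z c : Set G) ≤ normalizer (W : Set G)
  zW : z c ≤ W
  ti : ∀ k ∈ normalizer (U c : Set G), z (k • c) ⊓ centralizer (V : Set G) ≠ ⊥ →
    z (k • c) ≤ centralizer (V : Set G)
  card : Nat.card (U c) ≤ Nat.card (z c) * Nat.card (U c ⊓ centralizer (V : Set G) : Subgroup G)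
  irr : ∀ R : Subgroup G, R ≤ U c → normalizer (U c : Set G) ≤ normalizer (R : Set G) → R ≠ ⊥ →
    R ⊓ z c ≠ ⊥
  gen : ∀ A : Subgroup G, (∀ h ∈ normalizer (U c : Set G), z (h • c) ≤ A) → U c ≤ A

namespace DataW

variable [Finite G]
variable {X : Type v} [MulAction G X] {z U : X → Subgroup G} {V : Subgroup G} {L : Set X} {c : X}
variable {W : Subgroup G} (D : DataW z U V L c W)
include D

/-- the axis `Y` -/
theorem zk_le {k : G} (hk : k ∈ normalizer (U c : Set G)) : z (k • c) ≤ U c := by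
  have h1 := D.le (k • c)
  rwa [D.eqv_U, conj_eq_of_mem_normalizer hk] at h1

theorem claimA {h : G} (hh : h ∈ normalizer (U c : Set G))
    (hz : z c ≤ MulAut.conj h • (U c ⊓ centralizer (V : Set G) : Subgroup G)) :
    W ≤ MulAut.conj h • (U c ⊓ centralizer (V : Set G) : Subgroup G) := by
  obtain ⟨c', hc', hne⟩ := D.other
  by_contra hcon
  obtain ⟨w, hw, hwn⟩ := SetLike.not_le_iff_exists.mp hcon
  have hw0 : h⁻¹ * w * h ∈ U c := by
    have h1 := (mem_normalizer_iff.mp (inv_mem hh) w).mp (D.WU hw)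
    simpa using h1
  have hw1 : h⁻¹ * w * h ∉ centralizer (V : Set G) := fun h2 => hwn (mem_conj.mpr ⟨hw0, h2⟩)
  have hYW : MulAut.conj h • (U c ⊓ centralizer (V : Set G) : Subgroup G) ≤ W := by
    intro a ha
    rw [mem_conj] at ha
    obtain ⟨t, ht, hteq⟩ := D.toData.star hw0 hw1 hc' hne ha
    -- `s = h t h⁻¹` centralises `z c`
    have hs : h * t * h⁻¹ ∈ centralizer (z c : Set G) := by
      rw [mem_centralizer_iff]
      intro b hb
      have hb1 := hz hb
      rw [mem_conj] at hb1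
      have h3 : h⁻¹ * b * h * t = t * (h⁻¹ * b * h) := D.toData.comm D.mem hc' hne.symm hb1 ht
      have h4 := congrArg (fun x => h * x * h⁻¹) h3
      simpa [mul_assoc] using h4
    have hs2 := (mem_normalizer_iff.mp (inv_mem (D.Wn hs)) w).mp hw
    have h5 : w⁻¹ * ((h * t * h⁻¹)⁻¹ * w * (h * t * h⁻¹)) = a := by
      have h6 : (h * t * h⁻¹)⁻¹ * w * (h * t * h⁻¹) = h * (t⁻¹ * (h⁻¹ * w * h) * t) * h⁻¹ := by
        group
      rw [h6, hteq]
      group
    rw [← h5]
    refine mul_mem (inv_mem hw) ?_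
    simpa using hs2
  have hWY : W ≤ U c ⊓ centralizer (V : Set G) := le_inf D.WU D.WV
  have hc1 : Nat.card W ≤ Nat.card (U c ⊓ centralizer (V : Set G) : Subgroup G) :=
    Nat.card_le_card_of_injective _ (Subgroup.inclusion_injective hWY)
  have h7 : MulAut.conj h • (U c ⊓ centralizer (V : Set G) : Subgroup G) = W :=
    Subgroup.eq_of_le_of_card_ge hYW (by rw [card_conj]; exact hc1)
  exact hwn (h7 ▸ hw)

theorem exists_axis : ∃ h ∈ normalizer (U c : Set G),
    z c ⊓ (MulAut.conj h • (U c ⊓ centralizer (V : Set G) : Subgroup G)) = ⊥ := by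
  by_contra hcon
  push Not at hcon
  refine D.ne (D.gen _ fun h hh => ?_)
  refine D.ti h hh fun h0 => hcon h⁻¹ (inv_mem hh) ?_
  rw [eq_bot_iff]
  intro x hx
  have h2 : h * x * h⁻¹ ∈ z (h • c) ⊓ centralizer (V : Set G) := by
    refine mem_inf.mpr ⟨?_, ?_⟩
    · rw [D.eqv_z, mem_conj]
      simpa [mul_assoc] using hx.1
    · have h3 := mem_conj.mp hx.2
      simpa using h3.2
  rw [h0, mem_bot] at h2
  rw [mem_bot]
  exact conj_eq_one_iff.mp h2

/-- The intersection of `z c` with an axis is `1` or `z c`. -/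
theorem ti' {h : G} (hh : h ∈ normalizer (U c : Set G))
    (h0 : z c ⊓ (MulAut.conj h • (U c ⊓ centralizer (V : Set G) : Subgroup G)) ≠ ⊥) :
    z c ≤ MulAut.conj h • (U c ⊓ centralizer (V : Set G) : Subgroup G) := by
  have h1 : z (h⁻¹ • c) ≤ centralizer (V : Set G) := by
    refine D.ti h⁻¹ (inv_mem hh) fun h2 => h0 ?_
    rw [eq_bot_iff]
    intro x hx
    have h3 : h⁻¹ * x * h ∈ z (h⁻¹ • c) ⊓ centralizer (V : Set G) := by
      refine mem_inf.mpr ⟨?_, ?_⟩
      · rw [D.eqv_z, mem_conj]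
        simpa [mul_assoc] using hx.1
      · exact (mem_conj.mp hx.2).2
    rw [h2, mem_bot] at h3
    rw [mem_bot]
    have h4 := congrArg (fun t => h * t * h⁻¹) h3
    simpa [mul_assoc] using h4
  intro x hx
  rw [mem_conj]
  refine ⟨?_, h1 ?_⟩
  · have h5 := (mem_normalizer_iff.mp (inv_mem hh) x).mp (D.le c hx)
    simpa using h5
  · rw [D.eqv_z, mem_conj]
    simpa [mul_assoc] using hx

theorem main_step {h k : G} (hh : h ∈ normalizer (U c : Set G)) (hk : k ∈ normalizer (U c : Set G))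
    (h0 : z c ⊓ (MulAut.conj h • (U c ⊓ centralizer (V : Set G) : Subgroup G)) = ⊥) :
    W ⊓ (MulAut.conj h • (U c ⊓ centralizer (V : Set G) : Subgroup G)) ≤
      MulAut.conj k • (U c ⊓ centralizer (V : Set G) : Subgroup G) := by
  obtain ⟨c', hc', hne⟩ := D.other
  set Y := U c ⊓ centralizer (V : Set G) with hY
  by_cases hk0 : z c ⊓ (MulAut.conj k • Y) = ⊥
  swap
  · exact inf_le_left.trans (D.claimA hk (D.ti' hk hk0))
  by_cases hhk : MulAut.conj h • Y = MulAut.conj k • Y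
  · rw [← hhk]
    exact inf_le_right
  have hYU : Y ≤ U c := inf_le_left
  have hhU : MulAut.conj h • Y ≤ U c := by
    have h1 := conj_le_iff (g := h) |>.2 hYU
    rwa [conj_eq_of_mem_normalizer hh] at h1
  have hkU : MulAut.conj k • Y ≤ U c := by
    have h1 := conj_le_iff (g := k) |>.2 hYU
    rwa [conj_eq_of_mem_normalizer hk] at h1
  -- `z c` meets `Y₁ Y₂`
  obtain ⟨z₁, hz₁, hz₁', y₁, hy₁, y₂, hy₂, hzy⟩ : ∃ z₁ ∈ z c, z₁ ≠ 1 ∧
      ∃ y₁ ∈ MulAut.conj h • Y, ∃ y₂ ∈ MulAut.conj k • Y, z₁ * y₁ = y₂ := by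
    have h1 : z c ⊓ (MulAut.conj h • Y ⊔ MulAut.conj k • Y) ≠ ⊥ := by
      intro h1
      have h2 : Nat.card (z c) * Nat.card (MulAut.conj h • Y ⊔ MulAut.conj k • Y : Subgroup G) ≤
          Nat.card (U c) := card_mul_le (D.le c) (sup_le hhU hkU) h1
      have h3 := h2.trans D.card
      have h4 : Nat.card (MulAut.conj h • Y ⊔ MulAut.conj k • Y : Subgroup G) ≤ Nat.card Y :=
        Nat.le_of_mul_le_mul_left h3 Nat.card_pos
      have h5 : MulAut.conj h • Y = MulAut.conj h • Y ⊔ MulAut.conj k • Y :=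
        Subgroup.eq_of_le_of_card_ge le_sup_left (by rw [card_conj]; exact h4)
      have h6 : MulAut.conj k • Y = MulAut.conj h • Y ⊔ MulAut.conj k • Y :=
        Subgroup.eq_of_le_of_card_ge le_sup_right (by rw [card_conj]; exact h4)
      exact hhk (h5.trans h6.symm)
    obtain ⟨⟨z₁, hz₁⟩, hz₁''⟩ := Subgroup.ne_bot_iff_exists_ne_one.mp h1
    have hz₁' : z₁ ≠ 1 := fun h2 => hz₁'' (Subtype.ext h2)
    have hhk' : MulAut.conj h • Y ≤ centralizer ((MulAut.conj k • Y : Subgroup G) : Set G) :=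
      comm_mono (D.abel c) hhU hkU
    obtain ⟨a, ha, b, hb, hab⟩ := mem_sup_of_comm hhk' (mem_inf.mp hz₁).2
    refine ⟨z₁, (mem_inf.mp hz₁).1, hz₁', a⁻¹, inv_mem ha, b, hb, ?_⟩
    have h2 : a * b = b * a := (mem_centralizer_iff.mp (hhk' ha) b hb).symm
    rw [← hab, h2, mul_inv_cancel_right]
  have hz₁h : z₁ ∉ MulAut.conj h • Y := fun h1 => hz₁' (by
    have h2 : z₁ ∈ z c ⊓ MulAut.conj h • Y := ⟨hz₁, h1⟩
    rwa [h0, mem_bot] at h2)
  have hu : h⁻¹ * z₁ * h ∈ U c := by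
    have h1 := (mem_normalizer_iff.mp (inv_mem hh) z₁).mp (D.le c hz₁)
    simpa using h1
  have huV : h⁻¹ * z₁ * h ∉ centralizer (V : Set G) := fun h2 => hz₁h (mem_conj.mpr ⟨hu, h2⟩)
  obtain ⟨t, ht, hteq⟩ := D.toData.star hu huV hc' hne (mem_conj.mp hy₁)
  -- `s = h t h⁻¹`, `s⁻¹ z₁ s = z₁ y₁ = y₂`
  set s := h * t * h⁻¹ with hs
  have hs1 : s⁻¹ * z₁ * s = y₂ := by
    have h6 : s⁻¹ * z₁ * s = h * (t⁻¹ * (h⁻¹ * z₁ * h) * t) * h⁻¹ := by
      rw [hs]
      group
    rw [h6, hteq, ← hzy]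
    group
  have htn : t ∈ normalizer (U c : Set G) := D.toData.norm_U (D.toData.fix D.mem ht.2)
  have hsn : s ∈ normalizer (U c : Set G) := mul_mem (mul_mem hh htn) (inv_mem hh)
  have hsk : s * k ∈ normalizer (U c : Set G) := mul_mem hsn hk
  have h1 : z c ≤ MulAut.conj (s * k) • Y := by
    refine D.ti' hsk fun h2 => hz₁' ?_
    have h3 : z₁ ∈ z c ⊓ MulAut.conj (s * k) • Y := by
      refine mem_inf.mpr ⟨hz₁, ?_⟩
      rw [← conj_conj, mem_conj, hs1]
      exact hy₂
    rwa [h2, mem_bot] at h3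
  intro w hw
  have h2 := D.claimA hsk h1 hw.1
  rw [← conj_conj, mem_conj] at h2
  -- `s` centralises `w`
  have h3 : h⁻¹ * w * h * t = t * (h⁻¹ * w * h) :=
    D.toData.comm D.mem hc' hne.symm (mem_conj.mp hw.2) ht
  have h4 : s⁻¹ * w * s = w := by
    have h5 : w * s = s * w := by
      have h6 := congrArg (fun x => h * x * h⁻¹) h3
      simpa [hs, mul_assoc] using h6
    rw [mul_assoc, h5, inv_mul_cancel_left]
  rwa [h4] at h2

/-- **THEOREM T** -/
theorem eq : W = z c := by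
  obtain ⟨h, hh, h0⟩ := D.exists_axis
  set Y := U c ⊓ centralizer (V : Set G) with hY
  have hmem : ∀ {R : Subgroup G}, (∀ k ∈ normalizer (U c : Set G), R ≤ MulAut.conj k • Y) →
      R ≤ ⨅ k : normalizer (U c : Set G), MulAut.conj (k : G) • Y :=
    fun hR => le_iInf fun k => hR k k.2
  have hRU : (⨅ k : normalizer (U c : Set G), MulAut.conj (k : G) • Y) ≤ U c := by
    refine (iInf_le _ (1 : normalizer (U c : Set G))).trans ?_
    rw [OneMemClass.coe_one, map_one, one_smul]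
    exact inf_le_left
  have hR : (⨅ k : normalizer (U c : Set G), MulAut.conj (k : G) • Y) = ⊥ := by
    by_contra h1
    refine D.irr _ hRU (mem_normalizer_of_forall fun g hg => hmem fun k hk => ?_) h1 ?_
    · have h2 := iInf_le (fun k : normalizer (U c : Set G) => MulAut.conj (k : G) • Y)
        ⟨g⁻¹ * k, mul_mem (inv_mem hg) hk⟩
      have h3 := conj_le_iff (g := g) |>.2 h2
      rwa [conj_conj, mul_inv_cancel_left] at h3
    · rw [eq_bot_iff, ← h0, inf_comm]
      exact inf_le_inf_left _ (iInf_le (fun k : normalizer (U c : Set G) =>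
        MulAut.conj (k : G) • Y) ⟨h, hh⟩)
  have h1 : W ⊓ MulAut.conj h • Y = ⊥ := by
    rw [eq_bot_iff, ← hR]
    exact hmem fun k hk => D.main_step hh hk h0
  have hhU : MulAut.conj h • Y ≤ U c := by
    have h2 := conj_le_iff (g := h) |>.2 (inf_le_left : Y ≤ U c)
    rwa [conj_eq_of_mem_normalizer hh] at h2
  have h2 := (card_mul_le D.WU hhU h1).trans D.card
  rw [card_conj] at h2
  have h3 : Nat.card W ≤ Nat.card (z c) := Nat.le_of_mul_le_mul_right h2 Nat.card_pos
  exact (Subgroup.eq_of_le_of_card_ge D.zW h3).symm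

end DataW

/-- The field `core`: `S ≤ ⟨U c, C_G(V)⟩`, a nontrivial `S`-invariant subgroup of `U c` meets `z c`, and
`C_{z c}(U c') = 1` for `c'` on the line, `z c' ≠ z c`. -/
theorem core_of {X : Type v} {z U : X → Subgroup G} {V : Subgroup G} {L : Set X} {c : X}
    {S : Subgroup G} (hS : S ≤ U c ⊔ centralizer (V : Set G))
    (hm : ∀ T : Subgroup G, T ≤ U c → S ≤ normalizer (T : Set G) → T ≠ ⊥ → T ⊓ z c ≠ ⊥)
    (h0 : ∀ c' ∈ L, z c' ≠ z c → z c ⊓ centralizer (U c' : Set G) = ⊥) :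
    ∀ c' ∈ L, z c' ≠ z c → ∀ T : Subgroup G, T ≤ U c → U c ≤ centralizer (T : Set G) →
      U c' ≤ centralizer (T : Set G) → centralizer (V : Set G) ≤ normalizer (T : Set G) →
        T = ⊥ := by
  intro c' hc' hne T hT h1 h2 h3
  by_contra h4
  refine hm T hT (hS.trans (sup_le (h1.trans ?_) h3)) h4 ?_
  · exact centralizer_le_normalizer _
  · rw [eq_bot_iff, ← h0 c' hc' hne]
    exact le_inf inf_le_right (inf_le_left.trans (comm_symm h2))

end Cfsg.Agent.Omega.NOThreeL.ThmTz
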