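import Cfsg.Agent.Omega.NOThreeL.LemI
import Cfsg.Agent.Involutions.BaerSuzuki

/-!
# NO-3L, adjacent pairs: THEOREM X (helper184)

* `card_le_mul` : `t` of odd order, inverted by `a`, both normalise the abelian group `E`, `B ≤ C_E(a)`:
  `|B| ≤ |B ∩ C(t)| · |[E,a]|`;
* `move` : `t` centralises no `u` with `C(u) ≤ N(F)`, `F` abelian, `a ∈ F`;
* `exists_odd` : Baer–Suzuki in a subgroup;
* `thmX` : the abstract theorem;
* `le_card` : the instance: not (A), `P ≤ H₁`, all elements of `V_P` lie in points: every `a ∈ F_{H₁}` which moves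
  `U_{H₂}` has `|[F_{H₂},a]| ≥ |V_P|`.
-/

set_option autoImplicit false

namespace Cfsg.Agent.Omega.NOThreeL.ThmX

open Subgroup Cfsg Cfsg.Agent.ZN Cfsg.Agent.Omega.MinPar Cfsg.Agent.Omega.Frame Cfsg.Agent.Omega.FrameNOFF
open Cfsg.Agent.Omega.Node.NO3L Cfsg.Agent.Omega.NOThreeL.Basic
open Cfsg.Agent.MinSimple.VModule (zl_le le_normalizer_zl zc_le_zl zc_le zl_le_zc o2_isPGroup le_o2 o2_le le_normalizer_o2
  mem_zc)
open scoped Pointwise commutatorElement

universe u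

variable {G : Type u} [Group G]

/-! ### The abstract theorem -/

theorem mul_comm_of {E : Subgroup G} (hE : E ≤ centralizer (E : Set G)) {x y : G} (hx : x ∈ E) (hy : y ∈ E) :
    x * y = y * x := (mem_centralizer_iff.1 (hE hx) y hy).symm

/-- `x t = t x` if `x` commutes with `t²`, `t` of odd order. -/
theorem commute_of_sq {t x : G} (ht : Odd (orderOf t)) (h : Commute x (t * t)) : Commute x t := by
  obtain ⟨k, hk⟩ := ht
  have h1 : (t * t) ^ (k + 1) = t := by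
    rw [← pow_two, ← pow_mul, show 2 * (k + 1) = orderOf t + 1 by omega, pow_succ, pow_orderOf_eq_one, one_mul]
  rw [← h1]
  exact h.pow_right _

variable {a t : G}

theorem inv_conj (hat : a * t * a⁻¹ = t⁻¹) : a * t⁻¹ * a⁻¹ = t := by
  have := congrArg (·⁻¹) hat
  simpa [mul_assoc] using this

/-- `a (t v t⁻¹) a⁻¹ = t⁻¹ v t` for `v` centralised by `a` -/
theorem conj_eq (hat : a * t * a⁻¹ = t⁻¹) {v : G} (hv : a * v * a⁻¹ = v) :
    a * (t * v * t⁻¹) * a⁻¹ = t⁻¹ * v * t := by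
  calc a * (t * v * t⁻¹) * a⁻¹ = (a * t * a⁻¹) * (a * v * a⁻¹) * (a * t⁻¹ * a⁻¹) := by group
    _ = t⁻¹ * v * t := by rw [hat, hv, inv_conj hat]

theorem card_le_mul [Finite G] {E B : Subgroup G} (hE : E ≤ centralizer (E : Set G))
    (htE : t ∈ normalizer (E : Set G)) (hat : a * t * a⁻¹ = t⁻¹) (hodd : Odd (orderOf t)) (hB : B ≤ E)
    (hBa : ∀ b ∈ B, a * b * a⁻¹ = b) :
    Nat.card B ≤ Nat.card ↥(B ⊓ centralizer ({t} : Set G)) * Nat.card ↥⁅E, zpowers a⁆ := by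
  have ht1 : ∀ v ∈ E, t * v * t⁻¹ ∈ E := fun v hv => (mem_normalizer_iff.1 htE v).1 hv
  have ht2 : ∀ v ∈ E, t⁻¹ * v * t ∈ E := fun v hv => by
    have := (mem_normalizer_iff.1 (inv_mem htE) v).1 hv
    rwa [inv_inv] at this
  let f : B →* G :=
    { toFun := fun v => (t * v * t⁻¹) * (t⁻¹ * v * t)⁻¹
      map_one' := by simp
      map_mul' := by
        intro v w
        have e1 := mul_comm_of hE (ht1 w (hB w.2)) (inv_mem (ht2 v (hB v.2)))
        have e2 := mul_comm_of hE (inv_mem (ht2 v (hB v.2))) (inv_mem (ht2 w (hB w.2)))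
        calc (t * ((v * w : B) : G) * t⁻¹) * (t⁻¹ * ((v * w : B) : G) * t)⁻¹
            = (t * v * t⁻¹) * (t * w * t⁻¹) * ((t⁻¹ * w * t)⁻¹ * (t⁻¹ * v * t)⁻¹) := by
              push_cast; group
          _ = (t * v * t⁻¹) * (t * w * t⁻¹) * ((t⁻¹ * v * t)⁻¹ * (t⁻¹ * w * t)⁻¹) := by rw [e2]
          _ = (t * v * t⁻¹) * ((t * w * t⁻¹) * (t⁻¹ * v * t)⁻¹) * (t⁻¹ * w * t)⁻¹ := by group
          _ = (t * v * t⁻¹) * ((t⁻¹ * v * t)⁻¹ * (t * w * t⁻¹)) * (t⁻¹ * w * t)⁻¹ := by rw [e1]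
          _ = (t * v * t⁻¹ * (t⁻¹ * v * t)⁻¹) * (t * w * t⁻¹ * (t⁻¹ * w * t)⁻¹) := by group }
  have hfr : f.range ≤ ⁅E, zpowers a⁆ := by
    rintro _ ⟨v, rfl⟩
    have h1 : ⁅t * (v : G) * t⁻¹, a⁆ ∈ ⁅E, zpowers a⁆ :=
      commutator_mem_commutator (ht1 v (hB v.2)) (mem_zpowers a)
    have h2 : ⁅t * (v : G) * t⁻¹, a⁆ = f v := by
      have e := conj_eq hat (hBa v v.2)
      change _ = (t * v * t⁻¹) * (t⁻¹ * v * t)⁻¹
      rw [← e, commutatorElement_def]
      group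
    rwa [h2] at h1
  have hker : Nat.card f.ker ≤ Nat.card ↥(B ⊓ centralizer ({t} : Set G)) := by
    refine Nat.card_le_card_of_injective (fun v => ⟨(v.1 : G), v.1.2, ?_⟩) ?_
    · refine mem_centralizer_singleton_iff.mpr ?_
      have h1 : (t * (v.1 : G) * t⁻¹) * (t⁻¹ * v.1 * t)⁻¹ = 1 := v.2
      have h2 : t * (v.1 : G) * t⁻¹ = t⁻¹ * v.1 * t := mul_inv_eq_one.1 h1
      have h3 : Commute (v.1 : G) (t * t) := by
        have : t * (t * (v.1 : G) * t⁻¹) * t = t * (t⁻¹ * v.1 * t) * t := by rw [h2]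
        have h4 : t * t * (v.1 : G) = v.1 * (t * t) := by
          calc t * t * (v.1 : G) = t * (t * (v.1 : G) * t⁻¹) * t := by group
            _ = t * (t⁻¹ * v.1 * t) * t := this
            _ = v.1 * (t * t) := by group
        exact h4.symm
      exact (commute_of_sq hodd h3).eq
    · intro v w hvw
      have := congrArg Subtype.val hvw
      exact Subtype.ext (Subtype.ext this)
  have hcard : Nat.card B = Nat.card f.ker * Nat.card f.range := by
    rw [← Subgroup.index_ker, Subgroup.card_mul_index]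
  rw [hcard]
  exact Nat.mul_le_mul hker (Nat.card_le_card_of_injective _ (inclusion_injective hfr))

/-- `t` centralises no `u` with `C(u) ≤ N(F)`. -/
theorem move {F : Subgroup G} (hF : F ≤ centralizer (F : Set G)) (haF : a ∈ F) (hat : a * t * a⁻¹ = t⁻¹)
    (hodd : Odd (orderOf t)) (ht : t ≠ 1) {u : G} (hu : centralizer ({u} : Set G) ≤ normalizer (F : Set G)) :
    t ∉ centralizer ({u} : Set G) := by
  intro hc
  have h1 : t * a * t⁻¹ ∈ F := (mem_normalizer_iff.1 (hu hc) a).1 haF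
  have h2 : t * a * t⁻¹ * a⁻¹ = t * t := by
    calc t * a * t⁻¹ * a⁻¹ = t * (a * t⁻¹ * a⁻¹) := by group
      _ = t * t := by rw [inv_conj hat]
  have h3 : t * t ∈ F := by
    rw [← h2]
    exact F.mul_mem h1 (F.inv_mem haF)
  have h4 : a * (t * t) = (t * t) * a := mul_comm_of hF haF h3
  have h5 : a * (t * t) * a⁻¹ = (t * t)⁻¹ := by
    calc a * (t * t) * a⁻¹ = (a * t * a⁻¹) * (a * t * a⁻¹) := by group
      _ = (t * t)⁻¹ := by rw [hat]; group
  have h6 : t * t = (t * t)⁻¹ := by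
    rw [← h5, h4]
    group
  have h7 : t ^ 4 = 1 := by
    calc t ^ 4 = (t * t) * (t * t) := by rw [show (4 : ℕ) = 2 + 2 from rfl, pow_add, pow_two]
      _ = (t * t) * (t * t)⁻¹ := by rw [← h6]
      _ = 1 := mul_inv_cancel _
  have h8 : orderOf t ∣ 4 := orderOf_dvd_of_pow_eq_one h7
  have h9 : orderOf t = 1 := by
    have h10 : Nat.Coprime (orderOf t) 4 := by
      have := (Nat.coprime_two_right.mpr hodd)
      exact Nat.Coprime.pow_right 2 this
    exact Nat.Coprime.eq_one_of_dvd h10 h8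
  exact ht (orderOf_eq_one_iff.1 h9)

/-- Baer–Suzuki in a subgroup. -/
theorem exists_odd [Finite G] {M : Subgroup G} (haM : a ∈ M) (ha : a * a = 1) (hO : a ∉ o2 M) :
    ∃ d ∈ M, d ≠ 1 ∧ Odd (orderOf d) ∧ a * d * a⁻¹ = d⁻¹ := by
  obtain ⟨d, h1, h2, h3⟩ := Involutions.BaerSuzuki.exists_odd_inverted (⟨a, haM⟩ : M) (Subtype.ext ha) (by
    intro hP
    apply hO
    have h4 : (Subgroup.normalClosure {(⟨a, haM⟩ : M)}).map M.subtype ≤ o2 M := by
      refine le_o2 (map_subtype_le _) (hP.map _) ?_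
      exact MinSimple.VModule.le_normalizer_map_of_normal Subgroup.normalClosure_normal
    exact h4 ⟨⟨a, haM⟩, Subgroup.subset_normalClosure (Set.mem_singleton _), rfl⟩)
  refine ⟨d, d.2, fun h0 => h1 (Subtype.ext h0), ?_, congrArg Subtype.val h3⟩
  rwa [Subgroup.orderOf_coe]

/-- **THEOREM X, general form**: there is `t ∈ H` of odd order inverted by `a`; it centralises no `u` with
`C(u) ≤ N(F)`, and `|B| ≤ |C_B(t)| · |[E,a]|` for every `B ≤ E ∩ F`. -/
theorem exists_t [Finite G] {H F E : Subgroup G} (hF : F ≤ centralizer (F : Set G)) (haF : a ∈ F)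
    (ha : a * a = 1) (haH : a ∈ H) (haO : a ∉ o2 H) (hE : E ≤ centralizer (E : Set G))
    (hH : H ≤ normalizer (E : Set G)) :
    ∃ t ∈ H, t ≠ 1 ∧ Odd (orderOf t) ∧ a * t * a⁻¹ = t⁻¹ ∧
      (∀ u : G, centralizer ({u} : Set G) ≤ normalizer (F : Set G) → t ∉ centralizer ({u} : Set G)) ∧
      ∀ B : Subgroup G, B ≤ E → B ≤ F →
        Nat.card B ≤ Nat.card ↥(B ⊓ centralizer ({t} : Set G)) * Nat.card ↥⁅E, zpowers a⁆ := by
  obtain ⟨t, htH, ht1, hodd, hat⟩ := exists_odd haH ha haO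
  refine ⟨t, htH, ht1, hodd, hat, fun u hu => move hF haF hat hodd ht1 hu, fun B hB hBF => ?_⟩
  refine card_le_mul hE (hH htH) hat hodd hB fun b hb => ?_
  rw [mul_comm_of hF haF (hBF hb)]
  group

/-- **THEOREM X**. -/
theorem thmX [Finite G] {H F E l : Subgroup G} (hF : F ≤ centralizer (F : Set G)) (haF : a ∈ F)
    (ha : a * a = 1) (haH : a ∈ H) (haO : a ∉ o2 H) (hE : E ≤ centralizer (E : Set G))
    (hH : H ≤ normalizer (E : Set G)) (hlE : l ≤ E) (hlF : l ≤ F)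
    (hl : ∀ u ∈ l, u ≠ 1 → centralizer ({u} : Set G) ≤ normalizer (F : Set G)) :
    Nat.card l ≤ Nat.card ↥⁅E, zpowers a⁆ := by
  obtain ⟨t, -, -, -, -, h1, h2⟩ := exists_t hF haF ha haH haO hE hH
  have h3 := h2 l hlE hlF
  have h4 : l ⊓ centralizer ({t} : Set G) = ⊥ := by
    rw [eq_bot_iff]
    rintro u ⟨hu1, hu2⟩
    by_contra h0
    refine h1 u (hl u hu1 h0) (mem_centralizer_singleton_iff.mpr ?_)
    exact (mem_centralizer_singleton_iff.mp hu2).symm
  rwa [h4, Subgroup.card_bot, one_mul] at h3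

/-! ### The instance -/

section inst

variable [Finite G] {S : Sylow 2 G}

/-- `a ∈ F_{H₁}` which moves `U_{H₂}` is not in `O₂(H₂)`. -/
theorem not_mem_o2 (hc : IsCharacteristicTwoType G) {H : Subgroup G} (hH : IsLong (S : Subgroup G) H)
    (haU : a ∉ centralizer (zl (S : Subgroup G) H : Set G)) : a ∉ o2 H := by
  intro h
  apply haU
  rw [mem_centralizer_iff]
  intro y hy
  have h1 := mem_zc.mp (hH.loc.zl_le S hc hy)
  exact (h1.2.1 a h).symm

/-- **THEOREM X, plugged in.** -/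
theorem le_card (h : Ctx G) (D : Data (S : Subgroup G))
    (hA : ¬ CaseA (S : Subgroup G)) {H₁ H₂ P : Subgroup G} (h₁ : IsLong (S : Subgroup G) H₁)
    (h₂ : IsLong (S : Subgroup G) H₂) (hP : IsParS (S : Subgroup G) P) (hPH : P ≤ H₁)
    (hpt : ∀ u ∈ zl (S : Subgroup G) P, u ≠ 1 →
      ∃ p ∈ P, centralizer ({u} : Set G) ≤ MulAut.conj p • CZ (S : Subgroup G))
    (haF : a ∈ FH (S : Subgroup G) H₁) (haU : a ∉ centralizer (zl (S : Subgroup G) H₂ : Set G)) :
    Nat.card (zl (S : Subgroup G) P) ≤ Nat.card ↥⁅FH (S : Subgroup G) H₂, zpowers a⁆ := by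
  have hc := h.char2
  have haH : a ∈ H₂ := h₂.cz (o2_le _ ((h₁.o2_le S) (NotA.FH_le_o2 D hA h₁ haF)))
  refine thmX (F := FH (S : Subgroup G) H₁) (NotA.FH_comm hc D hA h₁) haF ?_ haH (not_mem_o2 hc h₂ haU)
    (NotA.FH_comm hc D hA h₂) (le_normalizer_FH _ _) ((zl_le_WP hP).trans (WP_le_FH _ _))
    ((zl_le_WP hP).trans (WP_le_FH _ _)) fun u hu hu1 => ?_
  · rw [← pow_two]
    exact NotA.FH_sq hc D hA h₁ a haF
  · obtain ⟨p, hp, h3⟩ := hpt u hu hu1
    refine h3.trans ?_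
    have h4 : MulAut.conj p • CZ (S : Subgroup G) ≤ MulAut.conj p • H₁ :=
      NoFF.Basic.conj_le_iff.2 h₁.cz
    have h5 : MulAut.conj p • H₁ = H₁ :=
      Pair.conj_eq_of_mem (le_normalizer (hPH hp))
    rw [h5] at h4
    exact h4.trans (le_normalizer_FH _ _)

end inst

end Cfsg.Agent.Omega.NOThreeL.ThmX
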