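import Cfsg.Agent.Omega.Tools.MiniMcL

/-!
# Two transvections on one axis (NO-3L, (3b) of #15354; helper442, helper760; typed by helper823)

`V` is a finite space over `F_2`, `X` a set of pairs `(v, f)`, `v ≠ 0 ≠ f`, `f v = 0` (think of the
transvections `t_{v,f} : x ↦ x + f x • v` in a group), closed under conjugation and under the
products of two members with the same axis or with the same centre.  If `X` acts irreducibly and
some axis carries two centres, then `X` is the set of ALL transvections.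
-/

set_option autoImplicit false

namespace Cfsg.Agent.Omega.NOThreeL.TransvAll

open Module
open Cfsg.Agent.Omega.Tools.MiniMcL (Sys Rel zmod_cases zmod_eq_one add_self eq_of_add)

variable {V : Type*} [AddCommGroup V] [Module (ZMod 2) V]

/-- A system of transvections over `F_2` (irreducible). -/
structure XSys (X : Set (V × Dual (ZMod 2) V)) : Prop where
  ne : ∀ v f, (v, f) ∈ X → v ≠ 0 ∧ f ≠ 0 ∧ f v = 0
  conj : ∀ v f, (v, f) ∈ X → ∀ w g, (w, g) ∈ X → (v + g v • w, f + f w • g) ∈ X
  axis : ∀ v w f, (v, f) ∈ X → (w, f) ∈ X → v ≠ w → (v + w, f) ∈ X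
  centre : ∀ v f g, (v, f) ∈ X → (v, g) ∈ X → f ≠ g → (v, f + g) ∈ X
  irr : ∀ W : Submodule (ZMod 2) V, (∀ v f, (v, f) ∈ X → ∀ x ∈ W, f x • v ∈ W) → W = ⊥ ∨ W = ⊤

variable {X : Set (V × Dual (ZMod 2) V)}

/-- the centres -/
def Ctr (X : Set (V × Dual (ZMod 2) V)) : Set V := {v | ∃ f, (v, f) ∈ X}

theorem dual_add_self (f : Dual (ZMod 2) V) : f + f = 0 := by
  ext x
  rw [LinearMap.add_apply, LinearMap.zero_apply]
  rcases zmod_cases (f x) with h | h <;> rw [h] <;> decide

/-- the functionals of the transvections with centre `v` -/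
def XSys.A (S : XSys X) (v : V) : Submodule (ZMod 2) (Dual (ZMod 2) V) where
  carrier := {f | f = 0 ∨ (v, f) ∈ X}
  zero_mem' := Or.inl rfl
  add_mem' := by
    rintro f g (rfl | hf) (rfl | hg)
    · exact Or.inl (add_zero _)
    · rw [zero_add]; exact Or.inr hg
    · rw [add_zero]; exact Or.inr hf
    · by_cases h : f = g
      · subst h; exact Or.inl (dual_add_self f)
      · exact Or.inr (S.centre v f g hf hg h)
  smul_mem' := by
    rintro c f hf
    rcases zmod_cases c with rfl | rfl
    · rw [zero_smul]; exact Or.inl rfl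
    · rw [one_smul]; exact hf

theorem XSys.mem_A (S : XSys X) {v : V} {f : Dual (ZMod 2) V} :
    f ∈ S.A v ↔ f = 0 ∨ (v, f) ∈ X := Iff.rfl

theorem XSys.mem_A_of (S : XSys X) {v : V} {f : Dual (ZMod 2) V} (h : f ∈ S.A v) (h0 : f ≠ 0) :
    (v, f) ∈ X := (S.mem_A.1 h).resolve_left h0

/-- conjugation maps `A v` to `A (v + p)` -/
theorem XSys.conj_A (S : XSys X) {p q : V} {φ : Dual (ZMod 2) V} (hφ : (p, φ) ∈ X) (h1 : φ q = 1)
    {ψ : Dual (ZMod 2) V} (hψ : ψ ∈ S.A q) : ψ + ψ p • φ ∈ S.A (q + p) := by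
  by_cases h0 : ψ = 0
  · subst h0
    rw [LinearMap.zero_apply, zero_smul, add_zero]
    exact Submodule.zero_mem _
  have h2 := S.conj q ψ (S.mem_A_of hψ h0) p φ hφ
  rw [h1, one_smul] at h2
  exact Or.inr h2

theorem XSys.prod_A (S : XSys X) {p q : V} (hp : p ∈ Ctr X) {ψ : Dual (ZMod 2) V}
    (h1 : ψ ∈ S.A q) (h2 : ψ ∈ S.A (q + p)) : ψ ∈ S.A p := by
  by_cases h0 : ψ = 0
  · subst h0; exact Submodule.zero_mem _
  obtain ⟨f, hf⟩ := hp
  have hp0 := (S.ne p f hf).1
  have h3 := S.axis q (q + p) ψ (S.mem_A_of h1 h0) (S.mem_A_of h2 h0)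
    (fun h => hp0 (by simpa using h))
  have h4 : q + (q + p) = p := by rw [← add_assoc, add_self, zero_add]
  rw [h4] at h3
  exact Or.inr h3

theorem ctr_move (S : XSys X) {p q : V} {φ : Dual (ZMod 2) V} (hφ : (p, φ) ∈ X) (h1 : φ q = 1)
    (hq : q ∈ Ctr X) : q + p ∈ Ctr X := by
  obtain ⟨ψ, hψ⟩ := hq
  have h2 := S.conj q ψ hψ p φ hφ
  rw [h1, one_smul] at h2
  exact ⟨_, h2⟩

/-- conjugation is injective -/
theorem XSys.finrank_conj [Finite V] (S : XSys X) {p q : V} {φ : Dual (ZMod 2) V} (hφ : (p, φ) ∈ X)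
    (h1 : φ q = 1) : finrank (ZMod 2) (S.A q) ≤ finrank (ZMod 2) (S.A (q + p)) := by
  have : Module.Finite (ZMod 2) V := Module.Finite.of_finite
  let T : Dual (ZMod 2) V →ₗ[ZMod 2] Dual (ZMod 2) V :=
    { toFun := fun ψ => ψ + ψ p • φ
      map_add' := fun a b => by
        rw [LinearMap.add_apply, add_smul]; abel
      map_smul' := fun c a => by
        rw [LinearMap.smul_apply, smul_eq_mul, mul_smul, RingHom.id_apply, smul_add] }
  have hT : ∀ ψ, T ψ = ψ + ψ p • φ := fun _ => rfl
  have hpp : φ p = 0 := (S.ne p φ hφ).2.2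
  have hinj : Function.Injective T := by
    intro a b hab
    rw [hT, hT] at hab
    have h2 := LinearMap.congr_fun hab p
    simp only [LinearMap.add_apply, LinearMap.smul_apply, hpp, smul_zero, add_zero] at h2
    rw [h2] at hab
    exact add_right_cancel hab
  have h3 : (S.A q).map T ≤ S.A (q + p) := by
    rintro _ ⟨ψ, hψ, rfl⟩
    exact S.conj_A hφ h1 hψ
  calc finrank (ZMod 2) (S.A q) = finrank (ZMod 2) ((S.A q).map T) :=
        (Submodule.equivMapOfInjective T hinj (S.A q)).finrank_eq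
    _ ≤ _ := Submodule.finrank_mono h3

/-- the centres span -/
theorem XSys.span_ctr (S : XSys X) (hne : X.Nonempty) :
    Submodule.span (ZMod 2) (Ctr X) = ⊤ := by
  rcases S.irr (Submodule.span (ZMod 2) (Ctr X)) (fun v f hvf x _ =>
    Submodule.smul_mem _ _ (Submodule.subset_span ⟨f, hvf⟩)) with h | h
  · obtain ⟨⟨v, f⟩, hvf⟩ := hne
    have h2 : v ∈ Submodule.span (ZMod 2) (Ctr X) := Submodule.subset_span ⟨f, hvf⟩
    rw [h] at h2
    exact absurd ((Submodule.mem_bot (ZMod 2)).1 h2) (S.ne v f hvf).1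
  · exact h

/-- all the `A v` have the same dimension -/
theorem XSys.rank [Finite V] (S : XSys X) {p q : V} (hp : p ∈ Ctr X) (hq : q ∈ Ctr X) :
    finrank (ZMod 2) (S.A p) = finrank (ZMod 2) (S.A q) := by
  have hfin : Module.Finite (ZMod 2) V := Module.Finite.of_finite
  obtain ⟨m, hm, hmax⟩ := Set.exists_max_image (Ctr X) (fun v => finrank (ZMod 2) (S.A v))
    (Set.toFinite _) ⟨p, hp⟩
  suffices h : ∀ w ∈ Ctr X, finrank (ZMod 2) (S.A w) = finrank (ZMod 2) (S.A m) by
    rw [h p hp, h q hq]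
  -- the centres of maximal rank span
  set M : Set V := {v | v ∈ Ctr X ∧ finrank (ZMod 2) (S.A v) = finrank (ZMod 2) (S.A m)} with hM
  have hspan : Submodule.span (ZMod 2) M = ⊤ := by
    have hinv : ∀ v f, (v, f) ∈ X → ∀ x ∈ Submodule.span (ZMod 2) M,
        f x • v ∈ Submodule.span (ZMod 2) M := by
      intro v f hvf x hx
      -- it is enough to treat a generator moved by `f`
      by_cases hall : ∀ y ∈ M, f y = 0
      · have h3 : Submodule.span (ZMod 2) M ≤ LinearMap.ker f := Submodule.span_le.2 hall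
        have h4 : f x = 0 := h3 hx
        rw [h4, zero_smul]
        exact Submodule.zero_mem _
      · push Not at hall
        obtain ⟨y, hy, hfy⟩ := hall
        have hfy1 := zmod_eq_one hfy
        have h5 : y + v ∈ M := by
          refine ⟨ctr_move S hvf hfy1 hy.1, le_antisymm (hmax _ (ctr_move S hvf hfy1 hy.1)) ?_⟩
          rw [← hy.2]
          exact S.finrank_conj hvf hfy1
        have h6 : v ∈ Submodule.span (ZMod 2) M := by
          have h7 : y + (y + v) = v := by rw [← add_assoc, add_self, zero_add]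
          rw [← h7]
          exact Submodule.add_mem _ (Submodule.subset_span hy) (Submodule.subset_span h5)
        exact Submodule.smul_mem _ _ h6
    rcases S.irr (Submodule.span (ZMod 2) M) hinv with h | h
    · obtain ⟨f, hf⟩ := hm
      have h2 : m ∈ Submodule.span (ZMod 2) M := Submodule.subset_span ⟨⟨f, hf⟩, rfl⟩
      rw [h] at h2
      exact absurd ((Submodule.mem_bot (ZMod 2)).1 h2) (S.ne m f hf).1
    · exact h
  rintro w ⟨g, hwg⟩
  refine le_antisymm (hmax w ⟨g, hwg⟩) ?_
  -- `g` does not kill some centre of maximal rank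
  have hex : ∃ v ∈ M, g v = 1 := by
    by_contra hno
    push Not at hno
    apply (S.ne w g hwg).2.1
    have h3 : Submodule.span (ZMod 2) M ≤ LinearMap.ker g := Submodule.span_le.2 fun y hy =>
      (zmod_cases (g y)).resolve_right (hno y hy)
    rw [hspan, top_le_iff] at h3
    exact LinearMap.ker_eq_top.1 h3
  obtain ⟨v, ⟨hvC, hvr⟩, hgv⟩ := hex
  rw [← hvr]
  -- the hyperplane of the functionals vanishing at `w`
  let K : Submodule (ZMod 2) (Dual (ZMod 2) V) := LinearMap.ker (Dual.eval (ZMod 2) V w)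
  have hK : finrank (ZMod 2) (Dual (ZMod 2) V) ≤ finrank (ZMod 2) K + 1 := by
    have h3 := LinearMap.finrank_range_add_finrank_ker (Dual.eval (ZMod 2) V w)
    have h4 : finrank (ZMod 2) (LinearMap.range (Dual.eval (ZMod 2) V w)) ≤ 1 := by
      have h5 := Submodule.finrank_le (LinearMap.range (Dual.eval (ZMod 2) V w))
      rw [Module.finrank_self] at h5
      exact h5
    have h6 : finrank (ZMod 2) (LinearMap.ker (Dual.eval (ZMod 2) V w)) = finrank (ZMod 2) K := rfl
    omega
  have h7 := Submodule.finrank_sup_add_finrank_inf_eq (S.A v) K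
  have h8 := Submodule.finrank_le (S.A v ⊔ K)
  have h9 : finrank (ZMod 2) (S.A v) ≤ finrank (ZMod 2) (S.A v ⊓ K : Submodule _ _) + 1 := by omega
  have hlt : S.A v ⊓ K < S.A w := by
    refine lt_of_le_of_ne ?_ ?_
    · rintro f ⟨hf, hfw⟩
      have hfw0 : f w = 0 := hfw
      by_cases h0 : f = 0
      · subst h0; exact Submodule.zero_mem _
      have h10 := S.conj v f (S.mem_A_of hf h0) w g hwg
      rw [hfw0, zero_smul, add_zero, hgv, one_smul] at h10
      exact S.prod_A ⟨g, hwg⟩ hf (Or.inr h10)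
    · intro h
      have h10 : g ∈ S.A v ⊓ K := by rw [h]; exact Or.inr hwg
      have h11 := h10.1
      rcases S.mem_A.1 h11 with h12 | h12
      · exact (S.ne w g hwg).2.1 h12
      · rw [(S.ne v g h12).2.2] at hgv
        exact zero_ne_one hgv
  have h13 := Submodule.finrank_lt_finrank_of_lt hlt
  omega

/-- **Two transvections on one axis.** -/
theorem XSys.all [Finite V] (S : XSys X) {v₁ v₂ : V} {f₀ : Dual (ZMod 2) V} (h1 : (v₁, f₀) ∈ X)
    (h2 : (v₂, f₀) ∈ X) (h12 : v₁ ≠ v₂) {v : V} {f : Dual (ZMod 2) V} (hv : v ≠ 0) (hf : f ≠ 0)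
    (hfv : f v = 0) : (v, f) ∈ X := by
  have hfin : Module.Finite (ZMod 2) V := Module.Finite.of_finite
  have hspan := S.span_ctr ⟨_, h1⟩
  -- some `A u` has dimension at least 2
  have htwo : ∃ u ∈ Ctr X, 2 ≤ finrank (ZMod 2) (S.A u) := by
    -- a centre off the axis
    have hex : ∃ w ∈ Ctr X, f₀ w = 1 := by
      by_contra hno
      push Not at hno
      apply (S.ne v₁ f₀ h1).2.1
      have h3 : Submodule.span (ZMod 2) (Ctr X) ≤ LinearMap.ker f₀ :=
        Submodule.span_le.2 fun y hy => (zmod_cases (f₀ y)).resolve_right (hno y hy)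
      rw [hspan, top_le_iff] at h3
      exact LinearMap.ker_eq_top.1 h3
    obtain ⟨w, ⟨g, hwg⟩, hfw⟩ := hex
    -- a centre of `f₀` on the axis of `g`
    have hu : ∃ u, (u, f₀) ∈ X ∧ g u = 0 := by
      rcases zmod_cases (g v₁) with ha | ha
      · exact ⟨v₁, h1, ha⟩
      rcases zmod_cases (g v₂) with hb | hb
      · exact ⟨v₂, h2, hb⟩
      refine ⟨v₁ + v₂, S.axis v₁ v₂ f₀ h1 h2 h12, ?_⟩
      rw [map_add, ha, hb]; decide
    obtain ⟨u, huf, hgu⟩ := hu
    have h3 := S.conj u f₀ huf w g hwg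
    rw [hgu, zero_smul, add_zero, hfw, one_smul] at h3
    refine ⟨u, ⟨f₀, huf⟩, ?_⟩
    have hg0 := (S.ne w g hwg).2.1
    have hlt : Submodule.span (ZMod 2) {f₀} < S.A u := by
      refine lt_of_le_of_ne ?_ ?_
      · rw [Submodule.span_singleton_le_iff_mem]
        exact Or.inr huf
      · intro h
        have h4 : f₀ + g ∈ Submodule.span (ZMod 2) {f₀} := by rw [h]; exact Or.inr h3
        rw [Submodule.mem_span_singleton] at h4
        obtain ⟨a, ha⟩ := h4
        rcases zmod_cases a with rfl | rfl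
        · rw [zero_smul] at ha
          exact (S.ne u (f₀ + g) h3).2.1 ha.symm
        · rw [one_smul] at ha
          exact hg0 (by simpa using ha.symm)
    have h5 := Submodule.finrank_lt_finrank_of_lt hlt
    rw [finrank_span_singleton (S.ne u f₀ huf).2.1] at h5
    omega
  obtain ⟨u, huC, hu2⟩ := htwo
  have hSys : Sys (Ctr X) S.A :=
    { zero := by
        rintro ⟨g, hg⟩
        exact (S.ne 0 g hg).1 rfl
      van := by
        intro p _ φ hφ
        rcases S.mem_A.1 hφ with rfl | h
        · rfl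
        · exact (S.ne p φ h).2.2
      move := by
        intro p _ φ hφ q hq hq1
        refine ctr_move S (S.mem_A_of hφ ?_) hq1 hq
        rintro rfl
        exact zero_ne_one hq1
      conj := by
        intro p _ φ hφ q _ hq1 ψ hψ
        refine S.conj_A (S.mem_A_of hφ ?_) hq1 hψ
        rintro rfl
        exact zero_ne_one hq1
      prod := fun p hp q _ ψ h3 h4 => S.prod_A hp h3 h4
      rank := fun p hp q hq => S.rank hp hq
      span := hspan
      fix := by
        intro w hw
        have hinv : ∀ v f, (v, f) ∈ X → ∀ x ∈ Submodule.span (ZMod 2) {w},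
            f x • v ∈ Submodule.span (ZMod 2) {w} := by
          intro v f hvf x hx
          obtain ⟨a, rfl⟩ := Submodule.mem_span_singleton.1 hx
          rw [map_smul, hw v ⟨f, hvf⟩ f (Or.inr hvf), smul_zero, zero_smul]
          exact Submodule.zero_mem _
        rcases S.irr (Submodule.span (ZMod 2) {w}) hinv with h | h
        · exact Submodule.span_singleton_eq_bot.1 h
        · exfalso
          apply (S.ne v₁ f₀ h1).2.1
          have h3 : Submodule.span (ZMod 2) {w} ≤ LinearMap.ker f₀ := by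
            rw [Submodule.span_singleton_le_iff_mem]
            exact hw v₁ ⟨f₀, h1⟩ f₀ (Or.inr h1)
          rw [h, top_le_iff] at h3
          exact LinearMap.ker_eq_top.1 h3
      two := fun p hp => by rw [S.rank hp huC]; exact hu2 }
  -- one component
  have hcomp : ∀ p (hp : p ∈ Ctr X), hSys.comp hp = ⊤ := by
    intro p hp
    have hinv : ∀ w g, (w, g) ∈ X → ∀ x ∈ hSys.comp hp, g x • w ∈ hSys.comp hp := by
      intro w g hwg x hx
      by_cases hw : w ∈ hSys.comp hp
      · exact Submodule.smul_mem _ _ hw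
      · have hwC : w ∈ Ctr X := ⟨g, hwg⟩
        have hne : hSys.comp hp ≠ hSys.comp hwC := fun h => hw (by rw [h]; exact hSys.self_mem hwC)
        rw [hSys.apply_comp hwC hp hne (Or.inr hwg) hx, zero_smul]
        exact Submodule.zero_mem _
    rcases S.irr (hSys.comp hp) hinv with h | h
    · have h3 := hSys.self_mem hp
      rw [h] at h3
      obtain ⟨g, hg⟩ := hp
      exact absurd ((Submodule.mem_bot (ZMod 2)).1 h3) (S.ne p g hg).1
    · exact h
  have hvC : v ∈ Ctr X := hSys.mem_P huC (by rw [hcomp u huC]; trivial) hv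
  obtain ⟨φ, hφ, h3⟩ := hSys.exists_of hvC (f.comp (hSys.comp hvC).subtype) hfv
  have h4 : φ = f := by
    ext x
    exact h3 x (by rw [hcomp v hvC]; trivial)
  rw [h4] at hφ
  exact S.mem_A_of hφ hf

end Cfsg.Agent.Omega.NOThreeL.TransvAll
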