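import Mathlib

/-!
# OMEGA NO-3L: the symmetric trilinear form of a noncommuting mutual pair (helper260)

`U`, `U'` spaces over a field `k` of characteristic two with nondegenerate symmetric forms `f`, `f'`,
`c : U → U' → E` the commutator map (`E = [U, U'] ≤ U ∩ U'`, embedded by `i`, `i'`), `f` invariant under
`U'` and `f'` invariant under `U`.  Abstract form (`k = 𝔽₂`).

* `Pr` : the structure;
* `Pr.swap` : `f x = f' x'` and `f y = f' y'` on `E` imply `c x y' = c y x'`;
* `Pr.eq_form` : the quadratic forms `Q`, `Q'` agree on `E`.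
-/

set_option autoImplicit false
set_option linter.unusedSectionVars false

namespace Cfsg.Agent.Omega.NOThreeL.Tri

variable (U U' E : Type*) [AddCommGroup U] [Module (ZMod 2) U] [AddCommGroup U'] [Module (ZMod 2) U']
  [AddCommGroup E] [Module (ZMod 2) E]

/-- A noncommuting mutual pair of spaces with forms over `𝔽₂`. -/
structure Pr where
  i : E →ₗ[ZMod 2] U
  i' : E →ₗ[ZMod 2] U'
  inj : Function.Injective i
  inj' : Function.Injective i'
  c : U →ₗ[ZMod 2] U' →ₗ[ZMod 2] E
  f : U →ₗ[ZMod 2] U →ₗ[ZMod 2] ZMod 2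
  f' : U' →ₗ[ZMod 2] U' →ₗ[ZMod 2] ZMod 2
  symm : ∀ x y, f x y = f y x
  symm' : ∀ x y, f' x y = f' y x
  nd : ∀ x, (∀ y, f x y = 0) → x = 0
  nd' : ∀ x, (∀ y, f' x y = 0) → x = 0
  adj : ∀ x y z, f x (i (c y z)) = f y (i (c x z))
  adj' : ∀ x y z, f' x (i' (c z y)) = f' y (i' (c z x))

variable {U U' E}

namespace Pr

variable (T : Pr U U' E)

/-- The same structure with the two sides interchanged. -/
def flip : Pr U' U E where
  i := T.i'
  i' := T.i
  inj := T.inj'
  inj' := T.inj
  c := T.c.flip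
  f := T.f'
  f' := T.f
  symm := T.symm'
  symm' := T.symm
  nd := T.nd'
  nd' := T.nd
  adj := fun x y z => T.adj' x y z
  adj' := fun x y z => T.adj x y z

/-- `x` and `x'` define the same functional on `E`. -/
def Rep (x : U) (x' : U') : Prop := ∀ e, T.f x (T.i e) = T.f' x' (T.i' e)

variable {T}

theorem Rep.add {x y : U} {x' y' : U'} (h : T.Rep x x') (h' : T.Rep y y') : T.Rep (x + y) (x' + y') := by
  intro e
  rw [map_add, map_add, LinearMap.add_apply, LinearMap.add_apply, h e, h' e]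

theorem Rep.flip {x : U} {x' : U'} (h : T.Rep x x') : T.flip.Rep x' x := fun e => (h e).symm

variable (T)

/-- every functional on `E` is represented by an element of `U` -/
theorem exists_rep [FiniteDimensional (ZMod 2) U] (φ : E →ₗ[ZMod 2] ZMod 2) : ∃ x : U, ∀ e, T.f x (T.i e) = φ e := by
  have hd : Function.Injective T.f := by
    rw [injective_iff_map_eq_zero]
    intro x hx
    exact T.nd x fun y => by rw [hx]; rfl
  have hs : Function.Surjective T.f := by
    refine (LinearMap.injective_iff_surjective_of_finrank_eq_finrank ?_).1 hd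
    exact (Subspace.dual_finrank_eq).symm
  obtain ⟨g, hg⟩ := T.i.exists_leftInverse_of_injective (LinearMap.ker_eq_bot.2 T.inj)
  obtain ⟨x, hx⟩ := hs (φ.comp g)
  refine ⟨x, fun e => ?_⟩
  rw [hx]
  show φ (g (T.i e)) = φ e
  rw [show g (T.i e) = (g.comp T.i) e from rfl, hg]
  rfl

theorem exists_right [FiniteDimensional (ZMod 2) U'] (x : U) : ∃ x' : U', T.Rep x x' := by
  obtain ⟨x', h⟩ := T.flip.exists_rep ((T.f x).comp T.i)
  exact ⟨x', fun e => (h e).symm⟩

theorem exists_left [FiniteDimensional (ZMod 2) U] (x' : U') : ∃ x : U, T.Rep x x' := by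
  obtain ⟨x, h⟩ := T.exists_rep ((T.f' x').comp T.i')
  exact ⟨x, fun e => h e⟩

/-- **`[α, β] = [β, α]`.** -/
theorem swap {x y : U} {x' y' : U'} (hx : T.Rep x x') (hy : T.Rep y y') : T.c x y' = T.c y x' := by
  apply T.inj
  have h : ∀ z, T.f (T.i (T.c x y') - T.i (T.c y x')) z = 0 := by
    intro z
    rw [map_sub, LinearMap.sub_apply, T.symm _ z, T.symm _ z, T.adj z x y', hx, T.adj' x' y' z, ← hy,
      T.adj y z x', sub_self]
  have := T.nd _ h
  rwa [sub_eq_zero] at this

/-- a vector commuting with everything is perpendicular to `E` -/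
theorem perp_of_comm (hE : ∀ e : E, ∃ (s : Finset (U × U')), e = ∑ p ∈ s, T.c p.1 p.2) {x' : U'}
    (h : ∀ x, T.c x x' = 0) (e : E) : T.f' x' (T.i' e) = 0 := by
  obtain ⟨s, rfl⟩ := hE e
  rw [map_sum, map_sum]
  refine Finset.sum_eq_zero fun p _ => ?_
  rw [T.adj' x' p.2 p.1, h, map_zero, map_zero]

/-- **`Q` and `Q'` agree on `E`.** -/
theorem eq_form [FiniteDimensional (ZMod 2) U] [FiniteDimensional (ZMod 2) U']
    (hE : ∀ e : E, ∃ (s : Finset (U × U')), e = ∑ p ∈ s, T.c p.1 p.2)
    {q q' : E →ₗ[ZMod 2] ZMod 2} (hq : ∀ x x', T.f x (T.i (T.c x x')) = q (T.c x x'))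
    (hq' : ∀ x x', T.f' x' (T.i' (T.c x x')) = q' (T.c x x')) : q = q' := by
  obtain ⟨v, hv⟩ := T.exists_rep q
  obtain ⟨w', hw'⟩ := T.flip.exists_rep q'
  obtain ⟨w, hw⟩ := T.exists_left w'
  have h1 : ∀ x x', T.Rep x x' → T.c x x' = T.c v x' := by
    intro x x' hx
    apply T.inj
    have h : ∀ y, T.f (T.i (T.c x x') - T.i (T.c v x')) y = 0 := by
      intro y
      obtain ⟨y', hy⟩ := T.exists_right y
      rw [map_sub, LinearMap.sub_apply, T.symm _ y, T.symm _ y, T.adj y x x', T.swap hy hx, hq, ← hv,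
        T.adj v x y', hx, T.adj' x' y' v, ← hy, sub_self]
    have := T.nd _ h
    rwa [sub_eq_zero] at this
  have h2 : ∀ x x', T.Rep x x' → T.c x x' = T.c w x' := by
    intro x x' hx
    rw [← T.swap hx hw]
    apply T.inj'
    have h : ∀ y', T.f' (T.i' (T.c x x') - T.i' (T.c x w')) y' = 0 := by
      intro y'
      obtain ⟨y, hy⟩ := T.exists_left y'
      rw [map_sub, LinearMap.sub_apply, T.symm' _ y', T.symm' _ y', T.adj' y' x' x, T.swap hx hy, hq']
      have e := hw' (T.c y x')
      change T.f' w' (T.i' (T.c y x')) = q' (T.c y x') at e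
      rw [← e, T.adj' w' x' y, ← hx, T.adj x y w', hy, sub_self]
    have := T.nd' _ h
    rwa [sub_eq_zero] at this
  have h3 : ∀ x', T.c (v - w) x' = 0 := by
    intro x'
    obtain ⟨x, hx⟩ := T.exists_left x'
    rw [map_sub, LinearMap.sub_apply, ← h1 x x' hx, ← h2 x x' hx, sub_self]
  ext e
  have h4 : T.f (v - w) (T.i e) = 0 :=
    T.flip.perp_of_comm (fun e => by
      obtain ⟨s, hs⟩ := hE e
      refine ⟨s.map (Equiv.prodComm U U').toEmbedding, ?_⟩
      rw [Finset.sum_map]
      exact hs) h3 e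
  rw [map_sub, LinearMap.sub_apply, hv, hw] at h4
  have h5 : T.f' w' (T.i' e) = q' e := hw' e
  rw [h5, sub_eq_zero] at h4
  exact h4

/-- an isotropic subspace has at most half the dimension -/
theorem two_mul_finrank_le [FiniteDimensional (ZMod 2) U] (M : Submodule (ZMod 2) U)
    (hM : ∀ x ∈ M, ∀ y ∈ M, T.f x y = 0) : 2 * Module.finrank (ZMod 2) M ≤ Module.finrank (ZMod 2) U := by
  have hd : Function.Injective T.f := by
    rw [injective_iff_map_eq_zero]
    intro x hx
    exact T.nd x fun y => by rw [hx]; rfl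
  have hs : Function.Surjective T.f :=
    (LinearMap.injective_iff_surjective_of_finrank_eq_finrank Subspace.dual_finrank_eq.symm).1 hd
  have hs2 : Function.Surjective ((Submodule.dualRestrict M).comp T.f) :=
    (Subspace.dualRestrict_surjective (W := M)).comp hs
  have h1 := LinearMap.finrank_range_add_finrank_ker ((Submodule.dualRestrict M).comp T.f)
  rw [LinearMap.range_eq_top.2 hs2, finrank_top, Subspace.dual_finrank_eq] at h1
  have h2 : M ≤ LinearMap.ker ((Submodule.dualRestrict M).comp T.f) := by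
    intro x hx
    rw [LinearMap.mem_ker]
    ext y
    exact hM x hx y y.2
  have h3 := Submodule.finrank_mono h2
  omega

variable {T} {Q : U → ZMod 2} {Q' : U' → ZMod 2}

theorem zmod_cases (a : ZMod 2) : a = 0 ∨ a = 1 := by revert a; decide

theorem Q_zero (hQ : ∀ x y, Q (x + y) = Q x + Q y + T.f x y) : Q 0 = 0 := by
  have h00 := hQ 0 0
  rw [add_zero, map_zero, add_zero] at h00
  rcases zmod_cases (Q 0) with h | h
  · exact h
  · rw [h] at h00; exact absurd h00 (by decide)

theorem f_self (hQ : ∀ x y, Q (x + y) = Q x + Q y + T.f x y) (x : U) : T.f x x = 0 := by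
  have h := hQ x x
  rw [← two_smul (ZMod 2) x, show (2 : ZMod 2) = 0 from rfl, zero_smul, Q_zero hQ] at h
  rcases zmod_cases (Q x) with h1 | h1 <;> rw [h1] at h
  · rw [add_zero, zero_add] at h; exact h.symm
  · rw [show (1 : ZMod 2) + 1 = 0 from rfl, zero_add] at h; exact h.symm

theorem span_of [FiniteDimensional (ZMod 2) U] (hd : 5 ≤ Module.finrank (ZMod 2) U)
    (hQ : ∀ x y, Q (x + y) = Q x + Q y + T.f x y) (φ : U →ₗ[ZMod 2] ZMod 2) {x y : U} (hx : φ x = 0)
    (hy : φ y = 0) (hxy : T.f x y = 1) : x ∈ Submodule.span (ZMod 2) {x | Q x = 0 ∧ φ x = 0} := by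
  rcases zmod_cases (Q x) with h0 | h0
  · exact Submodule.subset_span ⟨h0, hx⟩
  obtain ⟨z, hz, hxz, hqz⟩ : ∃ z, φ z = 0 ∧ T.f x z = 1 ∧ Q z = 0 := by
    rcases zmod_cases (Q y) with h1 | h1
    · exact ⟨y, hy, hxy, h1⟩
    obtain ⟨m, hm, hm2⟩ : ∃ m ∈ LinearMap.ker (φ.prod (T.f x)), Q m + T.f y m = 1 := by
      by_contra hcon
      push Not at hcon
      have h2 : ∀ m ∈ LinearMap.ker (φ.prod (T.f x)), Q m = T.f y m := by
        intro m hm
        rcases zmod_cases (Q m + T.f y m) with h | h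
        · exact (CharTwo.add_eq_zero.1 h)
        · exact (hcon m hm h).elim
      have h3 := T.two_mul_finrank_le (LinearMap.ker (φ.prod (T.f x))) (by
        intro m hm m' hm'
        have := hQ m m'
        rw [h2 _ (add_mem hm hm'), h2 _ hm, h2 _ hm', map_add] at this
        simpa using this)
      have h4 := LinearMap.finrank_range_add_finrank_ker (φ.prod (T.f x))
      have h5 := Submodule.finrank_le (LinearMap.range (φ.prod (T.f x)))
      rw [Module.finrank_prod, Module.finrank_self] at h5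
      omega
    rw [LinearMap.mem_ker, LinearMap.prod_apply, Function.prod_apply, Prod.mk_eq_zero] at hm
    refine ⟨y + m, by rw [map_add, hy, hm.1, add_zero], by rw [map_add, hxy, hm.2, add_zero], ?_⟩
    rw [hQ, h1, add_assoc, hm2]
    decide
  have e : x = (x + z) + z := by
    rw [add_assoc, ← two_smul (ZMod 2) z, show (2 : ZMod 2) = 0 from rfl, zero_smul, add_zero]
  rw [e]
  refine add_mem (Submodule.subset_span ⟨?_, by rw [map_add, hx, hz, add_zero]⟩)
    (Submodule.subset_span ⟨hqz, hz⟩)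
  rw [hQ, h0, hqz, hxz]
  decide

/-- singular vectors of `ker φ` generate `ker φ` -/
theorem ker_le_span [FiniteDimensional (ZMod 2) U] (hd : 5 ≤ Module.finrank (ZMod 2) U)
    (hQ : ∀ x y, Q (x + y) = Q x + Q y + T.f x y) (φ : U →ₗ[ZMod 2] ZMod 2) :
    LinearMap.ker φ ≤ Submodule.span (ZMod 2) {x | Q x = 0 ∧ φ x = 0} := by
  intro x hx
  rw [LinearMap.mem_ker] at hx
  by_cases h : ∃ y, φ y = 0 ∧ T.f x y = 1
  · obtain ⟨y, hy, hxy⟩ := h
    exact span_of hd hQ φ hx hy hxy
  push Not at h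
  rcases zmod_cases (Q x) with h0 | h0
  · exact Submodule.subset_span ⟨h0, hx⟩
  obtain ⟨y, y', hy, hy', hyy⟩ : ∃ y y', φ y = 0 ∧ φ y' = 0 ∧ T.f y y' = 1 := by
    by_contra hcon
    push Not at hcon
    have h3 := T.two_mul_finrank_le (LinearMap.ker φ) (by
      intro m hm m' hm'
      rcases zmod_cases (T.f m m') with h | h
      · exact h
      · exact (hcon m m' (LinearMap.mem_ker.1 hm) (LinearMap.mem_ker.1 hm') h).elim)
    have h4 := LinearMap.finrank_range_add_finrank_ker φ
    have h5 := Submodule.finrank_le (LinearMap.range φ)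
    rw [Module.finrank_self] at h5
    omega
  obtain ⟨z, z', hz, hz', hzz, hqz⟩ : ∃ z z', φ z = 0 ∧ φ z' = 0 ∧ T.f z z' = 1 ∧ Q z = 1 := by
    rcases zmod_cases (Q y) with h1 | h1
    · rcases zmod_cases (Q y') with h2 | h2
      · refine ⟨y + y', y', by rw [map_add, hy, hy', add_zero], hy', ?_, ?_⟩
        · rw [map_add, LinearMap.add_apply, hyy, f_self hQ, add_zero]
        · rw [hQ, h1, h2, hyy]; decide
      · exact ⟨y', y, hy', hy, by rw [T.symm, hyy], h2⟩
    · exact ⟨y, y', hy, hy', hyy, h1⟩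
  have h1 := span_of hd hQ φ hz hz' hzz
  have e : x = (x + z) + z := by
    rw [add_assoc, ← two_smul (ZMod 2) z, show (2 : ZMod 2) = 0 from rfl, zero_smul, add_zero]
  rw [e]
  refine add_mem (Submodule.subset_span ⟨?_, by rw [map_add, hx, hz, add_zero]⟩) h1
  rw [hQ, h0, hqz]
  rcases zmod_cases (T.f x z) with h2 | h2
  · rw [h2]; decide
  · exact (h z hz h2).elim

variable (T)

/-- **one orthogonal side**: `x'` such that `[x, x']` is never singular `≠ 0` for singular `x` acts as a
transvection -/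
theorem transvection [FiniteDimensional (ZMod 2) U] (hd : 5 ≤ Module.finrank (ZMod 2) U)
    (hQ : ∀ x y, Q (x + y) = Q x + Q y + T.f x y) (hc : ∀ x x', T.f x (T.i (T.c x x')) = Q (T.i (T.c x x')))
    {x' : U'} (h : ∀ x, Q x = 0 → Q (T.i (T.c x x')) = 0 → T.c x x' = 0) :
    (∀ x, T.c x x' = 0) ∨ ∃ w : E, Q (T.i w) = 1 ∧ ∀ x, T.c x x' = T.f x (T.i w) • w := by
  have hadd : ∀ x y, T.f (x + y) (T.i (T.c (x + y) x')) = T.f x (T.i (T.c x x')) + T.f y (T.i (T.c y x')) := by
    intro x y
    rw [map_add T.c, LinearMap.add_apply, map_add T.i, map_add T.f, LinearMap.add_apply, map_add, map_add,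
      T.adj x y x']
    have : T.f y (T.i (T.c x x')) + T.f y (T.i (T.c x x')) = 0 := CharTwo.add_self_eq_zero _
    linear_combination this
  let φ : U →ₗ[ZMod 2] ZMod 2 :=
    { toFun := fun x => T.f x (T.i (T.c x x'))
      map_add' := hadd
      map_smul' := by
        intro a x
        rcases zmod_cases a with rfl | rfl
        · simp
        · simp }
  have hφ : ∀ x, φ x = T.f x (T.i (T.c x x')) := fun _ => rfl
  have h1 : ∀ x, φ x = 0 → T.c x x' = 0 := by
    intro x hx
    have h2 : x ∈ Submodule.span (ZMod 2) {x | Q x = 0 ∧ φ x = 0} := ker_le_span hd hQ φ (LinearMap.mem_ker.2 hx)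
    refine Submodule.span_induction (p := fun x _ => T.c x x' = 0) ?_ ?_ ?_ ?_ h2
    · rintro y ⟨hy, hy2⟩
      exact h y hy (by rw [← hc]; exact hy2)
    · rw [map_zero, LinearMap.zero_apply]
    · intro y z _ _ hy hz
      rw [map_add, LinearMap.add_apply, hy, hz, add_zero]
    · intro a y _ hy
      rw [map_smul, LinearMap.smul_apply, hy, smul_zero]
  by_cases h0 : ∀ x, φ x = 0
  · exact Or.inl fun x => h1 x (h0 x)
  push Not at h0
  obtain ⟨x0, hx0⟩ := h0
  have hx0 : φ x0 = 1 := (zmod_cases _).resolve_left hx0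
  have h3 : ∀ x, T.c x x' = φ x • T.c x0 x' := by
    intro x
    rcases zmod_cases (φ x) with h | h
    · rw [h, zero_smul, h1 x h]
    · rw [h, one_smul]
      have := h1 (x - x0) (by rw [map_sub, h, hx0, sub_self])
      rwa [map_sub, LinearMap.sub_apply, sub_eq_zero] at this
  refine Or.inr ⟨T.c x0 x', by rw [← hc, ← hφ, hx0], fun x => ?_⟩
  rw [T.adj x x0 x', h3 x, map_smul, map_smul, ← hφ, hx0]
  simp

variable {T}

/-- the hypotheses of THEOREM OO (two orthogonal modules, NOFF) -/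
structure OO (T : Pr U U' E) (Q : U → ZMod 2) (Q' : U' → ZMod 2) : Prop where
  hd : 5 ≤ Module.finrank (ZMod 2) U
  hd' : 5 ≤ Module.finrank (ZMod 2) U'
  hQ : ∀ x y, Q (x + y) = Q x + Q y + T.f x y
  hQ' : ∀ x y, Q' (x + y) = Q' x + Q' y + T.f' x y
  inv : ∀ x x', Q (x + T.i (T.c x x')) = Q x
  inv' : ∀ x x', Q' (x' + T.i' (T.c x x')) = Q' x'
  iso : ∀ e e', T.f (T.i e) (T.i e') = 0
  iso' : ∀ e e', T.f' (T.i' e) (T.i' e') = 0
  gen : ∀ e : E, ∃ (s : Finset (U × U')), e = ∑ p ∈ s, T.c p.1 p.2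
  noff : ∀ x x', Q x = 0 → Q' x' = 0 → Q (T.i (T.c x x')) = 0 → Q' (T.i' (T.c x x')) = 0 → T.c x x' = 0

namespace OO

theorem flip (O : OO T Q Q') : OO T.flip Q' Q where
  hd := O.hd'
  hd' := O.hd
  hQ := O.hQ'
  hQ' := O.hQ
  inv := fun x x' => O.inv' x' x
  inv' := fun x x' => O.inv x' x
  iso := O.iso'
  iso' := O.iso
  gen := fun e => by
    obtain ⟨s, hs⟩ := O.gen e
    refine ⟨s.map (Equiv.prodComm U U').toEmbedding, ?_⟩
    rw [Finset.sum_map]
    exact hs
  noff := fun x x' h h' h1 h2 => O.noff x' x h' h h2 h1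

variable (O : OO T Q Q')
include O

theorem hc (x : U) (x' : U') : T.f x (T.i (T.c x x')) = Q (T.i (T.c x x')) := by
  have h := O.inv x x'
  rw [O.hQ] at h
  have h2 : Q (T.i (T.c x x')) + T.f x (T.i (T.c x x')) = 0 := by linear_combination h
  exact (CharTwo.add_eq_zero.1 h2).symm

/-- **`Q = Q'` on `E`** -/
theorem form_eq [FiniteDimensional (ZMod 2) U] [FiniteDimensional (ZMod 2) U'] (e : E) :
    Q (T.i e) = Q' (T.i' e) := by
  let q : E →ₗ[ZMod 2] ZMod 2 :=
    { toFun := fun e => Q (T.i e)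
      map_add' := fun x y => by rw [map_add, O.hQ, O.iso, add_zero]
      map_smul' := fun a x => by
        rcases zmod_cases a with rfl | rfl
        · simp [Q_zero O.hQ]
        · simp }
  let q' : E →ₗ[ZMod 2] ZMod 2 :=
    { toFun := fun e => Q' (T.i' e)
      map_add' := fun x y => by rw [map_add, O.hQ', O.iso', add_zero]
      map_smul' := fun a x => by
        rcases zmod_cases a with rfl | rfl
        · simp [Q_zero (T := T.flip) O.hQ']
        · simp }
  have h : q = q' := T.eq_form O.gen (fun x x' => O.hc x x') (fun x x' => O.flip.hc x' x)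
  exact LinearMap.congr_fun h e

variable [FiniteDimensional (ZMod 2) U] [FiniteDimensional (ZMod 2) U']

theorem trans {x' : U'} (hx' : Q' x' = 0) :
    (∀ x, T.c x x' = 0) ∨ ∃ w : E, Q (T.i w) = 1 ∧ ∀ x, T.c x x' = T.f x (T.i w) • w :=
  T.transvection O.hd O.hQ O.hc fun x hx h => O.noff x x' hx hx' h (by rw [← O.form_eq]; exact h)

/-- singular vectors generate `U` -/
theorem gen_U (x : U) : x ∈ Submodule.span (ZMod 2) {x | Q x = 0} := by
  have := ker_le_span (T := T) O.hd O.hQ 0 (show x ∈ LinearMap.ker (0 : U →ₗ[ZMod 2] ZMod 2) by simp)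
  simpa using this

/-- a singular vector outside the kernel of a functional -/
theorem exists_sing {φ : U →ₗ[ZMod 2] ZMod 2} (h : ∃ x, φ x = 1) : ∃ x, Q x = 0 ∧ φ x = 1 := by
  by_contra hcon
  push Not at hcon
  obtain ⟨x, hx⟩ := h
  have h1 : Submodule.span (ZMod 2) {x | Q x = 0} ≤ LinearMap.ker φ := by
    rw [Submodule.span_le]
    intro y hy
    exact (zmod_cases (φ y)).resolve_right (hcon y hy)
  have h2 : φ x = 0 := h1 (O.gen_U x)
  rw [hx] at h2
  exact absurd h2 (by decide)

/-- **THEOREM OO.** A noncommuting mutual pair of orthogonal modules over `𝔽₂` (NOFF) contains a pair of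
transvections with the same nonsingular centre. -/
theorem main (hne : ∃ x x', T.c x x' ≠ 0) : ∃ x x', Q x = 0 ∧ Q' x' = 0 ∧ Q (T.i (T.c x x')) = 1 ∧
    Q' (T.i' (T.c x x')) = 1 ∧ (∀ y, T.c y x' = T.f y (T.i (T.c x x')) • T.c x x') ∧
    ∀ y', T.c x y' = T.f' y' (T.i' (T.c x x')) • T.c x x' := by
  obtain ⟨x', hx', hne'⟩ : ∃ x', Q' x' = 0 ∧ ∃ x, T.c x x' ≠ 0 := by
    by_contra hcon
    push Not at hcon
    obtain ⟨x, x', h⟩ := hne
    refine h ?_
    have h1 : Submodule.span (ZMod 2) {x | Q' x = 0} ≤ LinearMap.ker (T.c x) := by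
      rw [Submodule.span_le]
      intro y hy
      exact hcon y hy x
    exact h1 (O.flip.gen_U x')
  rcases O.trans hx' with h | ⟨w, hw, h⟩
  · obtain ⟨x, hx⟩ := hne'
    exact (hx (h x)).elim
  obtain ⟨x, hx, hxw⟩ : ∃ x, Q x = 0 ∧ T.f x (T.i w) = 1 := by
    have hw0 : T.i w ≠ 0 := by
      intro h0
      rw [h0, Q_zero O.hQ] at hw
      exact absurd hw (by decide)
    obtain ⟨x, hx, h2⟩ := O.exists_sing (φ := T.f (T.i w)) (by
      by_contra hcon
      push Not at hcon
      exact hw0 (T.nd _ fun y => (zmod_cases _).resolve_right (hcon y)))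
    exact ⟨x, hx, by rw [T.symm]; exact h2⟩
  have e1 : T.c x x' = w := by rw [h, hxw, one_smul]
  rcases O.flip.trans hx with h2 | ⟨w2, hw2, h2⟩
  · exfalso
    have : T.c x x' = 0 := h2 x'
    rw [e1] at this
    rw [this, map_zero, Q_zero O.hQ] at hw
    exact absurd hw (by decide)
  have e2 : T.c x x' = T.f' x' (T.i' w2) • w2 := h2 x'
  have e3 : w2 = w := by
    rcases zmod_cases (T.f' x' (T.i' w2)) with h3 | h3
    · exfalso
      rw [h3, zero_smul, e1] at e2
      rw [e2, map_zero, Q_zero O.hQ] at hw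
      exact absurd hw (by decide)
    · rw [h3, one_smul, e1] at e2
      exact e2.symm
  subst e3
  refine ⟨x, x', hx, hx', by rw [e1]; exact hw, by rw [e1]; exact hw2, fun y => by rw [e1]; exact h y,
    fun y' => by rw [e1]; exact h2 y'⟩

end OO

end Pr

end Cfsg.Agent.Omega.NOThreeL.Tri
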