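import Mathlib

/-!
# NO-3L, piece B1, `|Z| = 2`: THEOREM TVB, part (5) (#15866, helper535): three points, end

K-free and abstract.  `z` an involution, `H, K ≥ C_G(z)`, `z ∈ U ∩ W`, `U`, `W` elementary abelian, normalised by
`H` resp. `K`.

* `Blk z U W H N B c X` : the data of one block `N = N₁` of `U` (output of (1)-(4)): `B` an `H`-invariant alternating
  form on `U`, `X = PP₁ ⊆ N` the centres in `N`, `c = c₁` the component of `z`, `c * z = c₂ + ⋯ + c_k`; every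
  element of `N` moves the elements of `W` by `1` or `c`, and `C_N(W) = c^⊥ ∩ N`;
* `Blk.false_of` : `Blk z U W H N B c X` and `Blk z W U K N' B' c X'` are contradictory.

`Blk z W U K N' B' c X'` is used only through `toHalf` (`Half`): the form, the transvections and
`∃ x ∈ X', B' x c = -1`.
-/

set_option autoImplicit false
set_option linter.unusedSectionVars false

namespace Cfsg.Agent.Omega.NOThreeL.TvbEnd

open Subgroup

variable {G : Type*} [Group G]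

/-- One block `N` of `U`: the form, the centres `X ⊆ N`, the transvections, the component `c` of `z`. -/
structure Half (z : G) (U H N : Subgroup G) (B : G → G → ℤˣ) (c : G) (X : Set G) : Prop where
  zU : z ∈ U
  sq : ∀ u ∈ U, u * u = 1
  nU : ∀ h ∈ H, ∀ u ∈ U, h * u * h⁻¹ ∈ U
  cH : ∀ g, g * z = z * g → g ∈ H
  /-- the form on `U` -/
  B1 : ∀ u ∈ U, ∀ v ∈ U, ∀ x ∈ U, B (u * v) x = B u x * B v x
  B2 : ∀ u ∈ U, ∀ v ∈ U, B u v = B v u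
  B3 : ∀ h ∈ H, ∀ u ∈ U, ∀ v ∈ U, B (h * u * h⁻¹) (h * v * h⁻¹) = B u v
  B0 : ∀ u ∈ U, B u u = 1
  /-- the block and its centres -/
  NU : N ≤ U
  XN : X ⊆ N
  cX : c ∈ X
  add : ∀ p ∈ X, ∀ q ∈ X, B p q = -1 → p * q ∈ X
  /-- the transvections `t_x`, `x ∈ X`, are induced by `H` -/
  tr : ∀ x ∈ X, ∃ h ∈ H, ∀ v ∈ U, (B v x = 1 → h * v * h⁻¹ = v) ∧ (B v x = -1 → h * v * h⁻¹ = v * x)
  /-- `c * z` is in the other blocks -/
  perp : ∀ n ∈ N, B n (c * z) = 1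
  ex : ∃ x ∈ X, B x c = -1

/-- The data of the block `N` of `U` in an adjacent pair `(U, W)`. -/
structure Blk (z : G) (U W H N : Subgroup G) (B : G → G → ℤˣ) (c : G) (X : Set G) : Prop
    extends Half z U H N B c X where
  /-- `p + c₂ + ⋯ + c_k` is a point of `U` -/
  pt : ∀ p ∈ X, ∃ h ∈ H, p * (c * z) = h * z * h⁻¹
  /-- `N` is nondegenerate: `(c^⊥ ∩ N)^⊥ = ⟨c⟩` -/
  nd : ∀ x ∈ N, (∀ n ∈ N, B n c = 1 → B x n = 1) → x = 1 ∨ x = c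
  /-- `C_N(W) = c^⊥ ∩ N` -/
  ax : ∀ n ∈ N, n ∈ centralizer (W : Set G) ↔ B n c = 1
  /-- `[N, W] ≤ ⟨c⟩` -/
  act : ∀ n ∈ N, ∀ w ∈ W, n * w * n⁻¹ = w ∨ n * w * n⁻¹ = w * c
  /-- `C_G(W)` fixes the block -/
  dN : ∀ d ∈ centralizer (W : Set G), ∀ n ∈ N, d * n * d⁻¹ ∈ N
  /-- `c^⊥ ∩ N` is spanned by centres -/
  span : ∀ n ∈ N, B n c = 1 → n ∈ closure {x | x ∈ X ∧ B x c = 1}
  /-- `dim N > 2` -/
  big : ∃ x ∈ X, B x c = 1 ∧ x ≠ c

theorem comm_of_sq {U : Subgroup G} (h : ∀ u ∈ U, u * u = 1) {a b : G} (ha : a ∈ U) (hb : b ∈ U) :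
    a * b = b * a := by
  have h1 : a⁻¹ = a := inv_eq_of_mul_eq_one_left (h a ha)
  have h2 : b⁻¹ = b := inv_eq_of_mul_eq_one_left (h b hb)
  have h3 : (a * b)⁻¹ = a * b := inv_eq_of_mul_eq_one_left (h _ (U.mul_mem ha hb))
  rw [mul_inv_rev, h1, h2] at h3
  exact h3.symm

namespace Half

variable {z : G} {U H N : Subgroup G} {B : G → G → ℤˣ} {c : G} {X : Set G}

theorem comm (a : Half z U H N B c X) {u v : G} (hu : u ∈ U) (hv : v ∈ U) : u * v = v * u :=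
  comm_of_sq a.sq hu hv

theorem inv (a : Half z U H N B c X) {u : G} (hu : u ∈ U) : u⁻¹ = u := inv_eq_of_mul_eq_one_left (a.sq u hu)

theorem UH (a : Half z U H N B c X) : U ≤ H := fun _ hu => a.cH _ (a.comm hu a.zU)

theorem cU (a : Half z U H N B c X) : c ∈ U := a.NU (a.XN a.cX)

theorem rU (a : Half z U H N B c X) : c * z ∈ U := U.mul_mem a.cU a.zU

theorem B1' (a : Half z U H N B c X) {u v x : G} (hu : u ∈ U) (hv : v ∈ U) (hx : x ∈ U) :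
    B x (u * v) = B x u * B x v := by
  rw [a.B2 _ hx _ (U.mul_mem hu hv), a.B1 u hu v hv x hx, a.B2 u hu x hx, a.B2 v hv x hx]

theorem c_sq (a : Half z U H N B c X) : c * c = 1 := a.sq c a.cU

/-- `z = c * (c * z)` -/
theorem z_eq (a : Half z U H N B c X) : c * (c * z) = z := by rw [← mul_assoc, a.c_sq, one_mul]

theorem c_ne (a : Half z U H N B c X) : c ≠ 1 := by
  rintro rfl
  obtain ⟨x, hx, h⟩ := a.ex
  have hxU := a.NU (a.XN hx)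
  have h1 := a.B1' (one_mem U) (one_mem U) hxU
  rw [one_mul, h] at h1
  exact absurd h1 (by decide)

/-- an element of `H` which moves the elements of `U` by `1` or `c` is the transvection with centre `c` -/
theorem tv (a : Half z U H N B c X) {u : G} (hu : u ∈ H) (hm : ∀ w ∈ U, u * w * u⁻¹ = w ∨ u * w * u⁻¹ = w * c)
    (hne : ∃ w ∈ U, u * w * u⁻¹ ≠ w) :
    ∀ w ∈ U, (B w c = 1 → u * w * u⁻¹ = w) ∧ (B w c = -1 → u * w * u⁻¹ = w * c) := by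
  obtain ⟨w₀, hw₀, hn₀⟩ := hne
  have h0 := (hm w₀ hw₀).resolve_left hn₀
  have key1 : ∀ v ∈ U, u * v * u⁻¹ = v → B v c = 1 := by
    intro v hv h
    have h1 := a.B3 u hu w₀ hw₀ v hv
    rw [h0, h, a.B1 w₀ hw₀ c a.cU v hv] at h1
    rw [a.B2 v hv c a.cU]
    exact mul_eq_left.1 h1
  have key2 : ∀ v ∈ U, u * v * u⁻¹ ≠ v → B v c = B w₀ c := by
    intro v hv h
    have h2 := (hm v hv).resolve_left h
    have h1 := a.B3 u hu w₀ hw₀ v hv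
    rw [h0, h2, a.B1' hv a.cU (U.mul_mem hw₀ a.cU), a.B1 w₀ hw₀ c a.cU v hv, a.B1 w₀ hw₀ c a.cU c a.cU,
      a.B0 c a.cU, mul_one] at h1
    have h3 : B c v * B w₀ c = 1 := by
      rw [mul_assoc] at h1
      exact mul_eq_left.1 h1
    rw [a.B2 v hv c a.cU, eq_inv_of_mul_eq_one_left h3, Int.units_inv_eq_self]
  have h3 : B w₀ c = -1 := by
    rcases Int.units_eq_one_or (B w₀ c) with h | h
    · obtain ⟨x, hx, hxc⟩ := a.ex
      have hxU := a.NU (a.XN hx)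
      by_cases h4 : u * x * u⁻¹ = x
      · rw [key1 x hxU h4] at hxc
        exact absurd hxc (by decide)
      · rw [key2 x hxU h4, h] at hxc
        exact absurd hxc (by decide)
    · exact h
  intro w hw
  constructor
  · intro h
    by_contra h4
    rw [key2 w hw h4, h3] at h
    exact absurd h (by decide)
  · intro h
    refine (hm w hw).resolve_left fun h4 => ?_
    rw [key1 w hw h4] at h
    exact absurd h (by decide)

end Half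

/-- The three points `z`, `c' = k z k⁻¹`, `c'' = c' c = z s'`, `s' = k c k⁻¹`. -/
structure Tri (z : G) (U W H K : Subgroup G) (c u k : G) : Prop where
  uU : u ∈ U
  kK : k ∈ K
  /-- `k` fixes `c₂ + ⋯ + c_k` -/
  kr : k * (c * z) * k⁻¹ = c * z
  /-- `u` moves `c'` to `c' c` -/
  uc' : u * (k * z * k⁻¹) * u⁻¹ = k * z * k⁻¹ * c
  /-- `u' = k u k⁻¹` moves `z` to `c''` -/
  u'z : (k * u * k⁻¹) * z * (k * u * k⁻¹)⁻¹ = k * z * k⁻¹ * c
  /-- `u'` moves `c` -/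
  u'c : (k * u * k⁻¹) * c * (k * u * k⁻¹)⁻¹ ≠ c

namespace Blk

variable {z : G} {U W H K N N' : Subgroup G} {B B' : G → G → ℤˣ} {c : G} {X X' : Set G}

/-- an element `n ∈ N ∖ C(W)` acts on `W` as the transvection `t_c` -/
theorem act' (a : Blk z U W H N B c X) (b : Half z W K N' B' c X') {n : G} (hn : n ∈ N)
    (hc : n ∉ centralizer (W : Set G)) :
    ∀ w ∈ W, (B' w c = 1 → n * w * n⁻¹ = w) ∧ (B' w c = -1 → n * w * n⁻¹ = w * c) := by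
  refine b.tv (b.cH _ (a.comm (a.NU hn) a.zU)) (a.act n hn) ?_
  by_contra hcon
  push Not at hcon
  refine hc (mem_centralizer_iff.2 fun w hw => ?_)
  exact (mul_inv_eq_iff_eq_mul.1 (hcon w hw)).symm

/-- the three points exist -/
theorem exists_tri (a : Blk z U W H N B c X) (b : Half z W K N' B' c X') :
    ∃ u ∈ N, ∃ k : G, Tri z U W H K c u k := by
  obtain ⟨u, huX, huc⟩ := a.ex
  have huN := a.XN huX
  have huW : u ∉ centralizer (W : Set G) := by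
    intro h
    rw [(a.ax u huN).1 h] at huc
    exact absurd huc (by decide)
  have hact := a.act' b huN huW
  obtain ⟨s', hs', hs'c⟩ := b.ex
  have hs'W := b.NU (b.XN hs')
  have ht := b.add s' hs' c b.cX hs'c
  have htW := b.NU (b.XN ht)
  obtain ⟨k, hk, hkt⟩ := b.tr _ ht
  have hcs' : B' c s' = -1 := by rw [b.B2 c b.cU s' hs'W, hs'c]
  -- `k c k⁻¹ = s'`
  have hkc : k * c * k⁻¹ = s' := by
    have h1 : B' c (s' * c) = -1 := by
      rw [b.B1' hs'W b.cU b.cU, hcs', b.B0 c b.cU, mul_one]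
    rw [(hkt c b.cU).2 h1, b.comm hs'W b.cU, ← mul_assoc, b.c_sq, one_mul]
  -- `k r k⁻¹ = r`
  have hkr : k * (c * z) * k⁻¹ = c * z := by
    refine (hkt _ b.rU).1 ?_
    rw [b.B2 _ b.rU _ htW]
    exact b.perp _ (b.XN ht)
  have hc' : k * z * k⁻¹ = s' * (c * z) := by
    calc k * z * k⁻¹ = k * (c * (c * z)) * k⁻¹ := by rw [b.z_eq]
      _ = (k * c * k⁻¹) * (k * (c * z) * k⁻¹) := by group
      _ = s' * (c * z) := by rw [hkc, hkr]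
  have hBr : ∀ n ∈ N', B' (c * z) n = 1 := fun n hn => by
    rw [b.B2 _ b.rU _ (b.NU hn)]
    exact b.perp n hn
  refine ⟨u, huN, k, a.NU huN, hk, hkr, ?_, ?_, ?_⟩
  · refine (hact _ (b.nU k hk z b.zU)).2 ?_
    rw [hc', b.B1 s' hs'W _ b.rU c b.cU, hs'c, hBr c (b.XN b.cX), mul_one]
  · have hz' : k⁻¹ * z * k ∈ W := by
      have := b.nU k⁻¹ (K.inv_mem hk) z b.zU
      rwa [inv_inv] at this
    have h1 : B' (k⁻¹ * z * k) c = -1 := by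
      have h2 := b.B3 k hk _ hz' c b.cU
      have h3 : k * (k⁻¹ * z * k) * k⁻¹ = z := by group
      rw [h3, hkc] at h2
      rw [← h2]
      have h4 : B' z s' = B' (c * (c * z)) s' := by rw [b.z_eq]
      rw [h4, b.B1 c b.cU _ b.rU s' hs'W, hcs', hBr s' (b.XN hs'), mul_one]
    have h2 := (hact _ hz').2 h1
    calc (k * u * k⁻¹) * z * (k * u * k⁻¹)⁻¹ = k * (u * (k⁻¹ * z * k) * u⁻¹) * k⁻¹ := by group
      _ = k * (k⁻¹ * z * k * c) * k⁻¹ := by rw [h2]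
      _ = z * (k * c * k⁻¹) := by group
      _ = z * s' := by rw [hkc]
      _ = s' * (c * z) * c := by
        have h5 : s' * (c * z) * c = s' * z * (c * c) := by
          rw [b.comm b.cU b.zU]
          group
        rw [h5, b.c_sq, mul_one, b.comm b.zU hs'W]
      _ = k * z * k⁻¹ * c := by rw [hc']
  · have hc'' : k⁻¹ * c * k ∈ W := by
      have := b.nU k⁻¹ (K.inv_mem hk) c b.cU
      rwa [inv_inv] at this
    have h1 : B' (k⁻¹ * c * k) c = -1 := by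
      have h2 := b.B3 k hk _ hc'' c b.cU
      have h3 : k * (k⁻¹ * c * k) * k⁻¹ = c := by group
      rw [h3, hkc] at h2
      rw [← h2, hcs']
    have h2 := (hact _ hc'').2 h1
    have h3 : (k * u * k⁻¹) * c * (k * u * k⁻¹)⁻¹ = c * s' := by
      calc (k * u * k⁻¹) * c * (k * u * k⁻¹)⁻¹ = k * (u * (k⁻¹ * c * k) * u⁻¹) * k⁻¹ := by group
        _ = k * (k⁻¹ * c * k * c) * k⁻¹ := by rw [h2]
        _ = c * (k * c * k⁻¹) := by group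
        _ = c * s' := by rw [hkc]
    rw [h3]
    intro h4
    have h5 : s' = 1 := mul_eq_left.1 h4
    have h6 : c = 1 := by
      rw [h5] at hkc
      exact conj_eq_one_iff.1 hkc
    exact b.c_ne h6

end Blk

namespace Tri

variable {z : G} {U W H K N N' : Subgroup G} {B B' : G → G → ℤˣ} {c u k : G} {X X' : Set G}

/-- `Y = C_U(W)` -/
def Y (U W : Subgroup G) : Subgroup G := U ⊓ centralizer (W : Set G)

/-- `Y' = C_{kUk⁻¹}(W)` -/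
def Y' (U W : Subgroup G) (k : G) : Subgroup G :=
  U.comap (MulAut.conj k⁻¹).toMonoidHom ⊓ centralizer (W : Set G)

theorem mem_Y {y : G} : y ∈ Y U W ↔ y ∈ U ∧ y ∈ centralizer (W : Set G) := Iff.rfl

theorem mem_Y' {y : G} : y ∈ Y' U W k ↔ k⁻¹ * y * k ∈ U ∧ y ∈ centralizer (W : Set G) := by
  have h : y ∈ Y' U W k ↔ k⁻¹ * y * k⁻¹⁻¹ ∈ U ∧ y ∈ centralizer (W : Set G) := Iff.rfl
  rw [h, inv_inv]

theorem norm_cen {W K : Subgroup G} (hn : ∀ k ∈ K, ∀ w ∈ W, k * w * k⁻¹ ∈ W) {x v : G} (hx : x ∈ K)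
    (hv : v ∈ centralizer (W : Set G)) : x * v * x⁻¹ ∈ centralizer (W : Set G) := by
  rw [mem_centralizer_iff] at hv ⊢
  intro w hw
  have h1 := hv _ (hn x⁻¹ (K.inv_mem hx) w hw)
  rw [inv_inv] at h1
  calc w * (x * v * x⁻¹) = x * ((x⁻¹ * w * x) * v) * x⁻¹ := by simp only [mul_assoc, mul_inv_cancel_left]
    _ = x * (v * (x⁻¹ * w * x)) * x⁻¹ := by rw [h1]
    _ = x * v * x⁻¹ * w := by simp only [mul_assoc, mul_inv_cancel, mul_one]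

section

variable (a : Half z U H N B c X) (b : Half z W K N' B' c X') (t : Tri z U W H K c u k)
include a b t

theorem uK : u ∈ K := b.cH _ (a.comm t.uU a.zU)

theorem u'K : k * u * k⁻¹ ∈ K := K.mul_mem (K.mul_mem t.kK (t.uK a b)) (K.inv_mem t.kK)

omit a b t in
/-- `C(W) ≤ C(z)` -/
theorem cz (b : Half z W K N' B' c X') {d : G} (hd : d ∈ centralizer (W : Set G)) : d * z = z * d :=
  (mem_centralizer_iff.1 hd z b.zU).symm

omit a in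
/-- `k⁻¹ d k` centralises `z` -/
theorem ck {d : G} (hd : d ∈ centralizer (W : Set G)) : (k⁻¹ * d * k) * z = z * (k⁻¹ * d * k) := by
  have h := mem_centralizer_iff.1 hd _ (b.nU k t.kK z b.zU)
  calc (k⁻¹ * d * k) * z = k⁻¹ * (d * (k * z * k⁻¹)) * k := by group
    _ = k⁻¹ * ((k * z * k⁻¹) * d) * k := by rw [h]
    _ = z * (k⁻¹ * d * k) := by group

/-- `C(W)` normalises `Y` -/
theorem Y_norm {d y : G} (hd : d ∈ centralizer (W : Set G)) (hy : y ∈ Y U W) : d * y * d⁻¹ ∈ Y U W :=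
  ⟨a.nU d (a.cH _ (cz b hd)) y hy.1,
    Subgroup.mul_mem _ (Subgroup.mul_mem _ hd hy.2) (Subgroup.inv_mem _ hd)⟩

/-- `C(W)` normalises `Y'` -/
theorem Y'_norm {d y : G} (hd : d ∈ centralizer (W : Set G)) (hy : y ∈ Y' U W k) : d * y * d⁻¹ ∈ Y' U W k := by
  have hy' := mem_Y'.1 hy
  refine mem_Y'.2 ⟨?_, Subgroup.mul_mem _ (Subgroup.mul_mem _ hd hy'.2) (Subgroup.inv_mem _ hd)⟩
  have h1 := a.nU _ (a.cH _ (t.ck b hd)) _ hy'.1
  have h2 : k⁻¹ * d * k * (k⁻¹ * y * k) * (k⁻¹ * d * k)⁻¹ = k⁻¹ * (d * y * d⁻¹) * k := by group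
  rwa [h2] at h1

/-- `T` is centralised by `u` -/
theorem T_u {x : G} (hx : x ∈ Y U W) : u * x * u⁻¹ = x := by
  rw [a.comm t.uU hx.1, mul_inv_cancel_right]

/-- `T` is centralised by `u'` -/
theorem T_u' {x : G} (hx : x ∈ Y' U W k) : (k * u * k⁻¹) * x * (k * u * k⁻¹)⁻¹ = x := by
  have h := a.comm t.uU (mem_Y'.1 hx).1
  calc (k * u * k⁻¹) * x * (k * u * k⁻¹)⁻¹ = k * (u * (k⁻¹ * x * k) * u⁻¹) * k⁻¹ := by group
    _ = k * ((k⁻¹ * x * k) * u * u⁻¹) * k⁻¹ := by rw [h]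
    _ = x := by group

/-- `[Y, Y'] ≤ T` -/
theorem comm_T {y y' : G} (hy : y ∈ Y U W) (hy' : y' ∈ Y' U W k) : y' * y * y'⁻¹ * y⁻¹ ∈ Y U W ⊓ Y' U W k := by
  refine ⟨Subgroup.mul_mem _ (t.Y_norm a b (mem_Y'.1 hy').2 hy) (Subgroup.inv_mem _ hy), ?_⟩
  have h1 := Subgroup.mul_mem _ hy' (t.Y'_norm a b hy.2 (Subgroup.inv_mem _ hy'))
  have h3 : y' * (y * y'⁻¹ * y⁻¹) = y' * y * y'⁻¹ * y⁻¹ := by group
  rwa [h3] at h1

/-- `[E, D] ≤ Y` -/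
theorem U_D {n d : G} (hn : n ∈ U) (hd : d ∈ centralizer (W : Set G)) : n * d * n⁻¹ * d⁻¹ ∈ Y U W := by
  refine ⟨?_, Subgroup.mul_mem _ (norm_cen b.nU (b.cH _ (a.comm hn a.zU)) hd) (Subgroup.inv_mem _ hd)⟩
  have h1 := U.mul_mem hn (a.nU d (a.cH _ (cz b hd)) n⁻¹ (U.inv_mem hn))
  have h2 : n * (d * n⁻¹ * d⁻¹) = n * d * n⁻¹ * d⁻¹ := by group
  rwa [h2] at h1

/-- `[u', Y] ≤ Y'` -/
theorem u'_Y {y : G} (hy : y ∈ Y U W) : (k * u * k⁻¹) * y * (k * u * k⁻¹)⁻¹ * y⁻¹ ∈ Y' U W k := by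
  refine mem_Y'.2 ⟨?_, Subgroup.mul_mem _ (norm_cen b.nU (t.u'K a b) hy.2) (Subgroup.inv_mem _ hy.2)⟩
  have h1 := a.nU _ (a.cH _ (t.ck b hy.2)) u⁻¹ (U.inv_mem t.uU)
  have h2 := U.mul_mem t.uU h1
  have h3 : u * (k⁻¹ * y * k * u⁻¹ * (k⁻¹ * y * k)⁻¹) =
      k⁻¹ * (k * u * k⁻¹ * y * (k * u * k⁻¹)⁻¹ * y⁻¹) * k := by group
  rwa [h3] at h2

/-- `u'⁻¹ ... ` : `k⁻¹ u⁻¹ u'` centralises `z` -/
theorem x_z : (k⁻¹ * u⁻¹ * (k * u * k⁻¹)) * z = z * (k⁻¹ * u⁻¹ * (k * u * k⁻¹)) := by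
  have h1 : (k * u * k⁻¹) * z * (k * u * k⁻¹)⁻¹ = u * (k * z * k⁻¹) * u⁻¹ := by rw [t.u'z, t.uc']
  have h2 : (k * u * k⁻¹) * z = u * (k * z * k⁻¹) * u⁻¹ * (k * u * k⁻¹) := by
    rw [← h1]; group
  calc (k⁻¹ * u⁻¹ * (k * u * k⁻¹)) * z = k⁻¹ * u⁻¹ * ((k * u * k⁻¹) * z) := by group
    _ = k⁻¹ * u⁻¹ * (u * (k * z * k⁻¹) * u⁻¹ * (k * u * k⁻¹)) := by rw [h2]
    _ = z * (k⁻¹ * u⁻¹ * (k * u * k⁻¹)) := by group

/-- (*) `Y = [u, Y'] T` -/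
theorem star {y : G} (hy : y ∈ Y U W) :
    ∃ y₀ ∈ Y' U W k, (u * y₀ * u⁻¹ * y₀⁻¹)⁻¹ * y ∈ Y U W ⊓ Y' U W k := by
  set u' := k * u * k⁻¹ with hu'
  set y₀ := u⁻¹ * (u' * y * u'⁻¹) * u with hy₀
  have h0 : u * y₀ * u⁻¹ = u' * y * u'⁻¹ := by rw [hy₀]; group
  have hy₀C : y₀ ∈ centralizer (W : Set G) := by
    have h1 := norm_cen b.nU (t.u'K a b) hy.2
    have h2 := norm_cen b.nU (K.inv_mem (t.uK a b)) h1
    rwa [inv_inv] at h2
  have hy₀Y : y₀ ∈ Y' U W k := by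
    refine mem_Y'.2 ⟨?_, hy₀C⟩
    have h1 := a.nU _ (a.cH _ (t.x_z a b)) y hy.1
    have h2 : k⁻¹ * u⁻¹ * (k * u * k⁻¹) * y * (k⁻¹ * u⁻¹ * (k * u * k⁻¹))⁻¹ = k⁻¹ * y₀ * k := by
      rw [hy₀, hu']; group
    rwa [h2] at h1
  refine ⟨y₀, hy₀Y, ?_⟩
  have ha := t.U_D a b t.uU hy₀C
  have hb := t.u'_Y a b hy
  rw [← hu', ← h0] at hb
  set α := u * y₀ * u⁻¹ * y₀⁻¹ with hα
  set β := u * y₀ * u⁻¹ * y⁻¹ with hβ
  have h1 : β * y = α * y₀ := by rw [hα, hβ]; group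
  have h2 : β⁻¹ * y₀ = (β⁻¹ * α⁻¹ * β) * y := by
    have h3 : y₀ = α⁻¹ * (β * y) := by rw [h1]; group
    rw [h3]; group
  have h3 : β⁻¹ * α⁻¹ * β ∈ Y U W := by
    have h4 := t.Y_norm a b (Subgroup.inv_mem _ (mem_Y'.1 hb).2) (Subgroup.inv_mem _ ha)
    rwa [inv_inv] at h4
  have h4 : (β⁻¹ * α⁻¹ * β) * y ∈ Y U W ⊓ Y' U W k :=
    ⟨Subgroup.mul_mem _ h3 hy, h2 ▸ Subgroup.mul_mem _ (Subgroup.inv_mem _ hb) hy₀Y⟩
  have h5 : β⁻¹ * α⁻¹ * β * α ∈ Y U W ⊓ Y' U W k := by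
    have h6 := t.comm_T a b (Subgroup.inv_mem _ ha) (Subgroup.inv_mem _ hb)
    rwa [inv_inv, inv_inv] at h6
  have h6 := Subgroup.mul_mem _ (Subgroup.inv_mem _ h5) h4
  have h7 : (β⁻¹ * α⁻¹ * β * α)⁻¹ * (β⁻¹ * α⁻¹ * β * y) = α⁻¹ * y := by group
  rwa [h7] at h6

/-- (5a) no point of `U` lies in `T` -/
theorem pt_T {h : G} (hh : h ∈ H) : h * z * h⁻¹ ∉ Y U W ⊓ Y' U W k := by
  intro hT
  have h1 := t.T_u' a b hT.2
  have h2 := t.T_u a b hT.1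
  -- `l = u⁻¹ u'` maps `z` to `c'`
  have hl : (u⁻¹ * (k * u * k⁻¹)) * z * (u⁻¹ * (k * u * k⁻¹))⁻¹ = k * z * k⁻¹ := by
    calc (u⁻¹ * (k * u * k⁻¹)) * z * (u⁻¹ * (k * u * k⁻¹))⁻¹
        = u⁻¹ * ((k * u * k⁻¹) * z * (k * u * k⁻¹)⁻¹) * u := by group
      _ = u⁻¹ * (u * (k * z * k⁻¹) * u⁻¹) * u := by rw [t.u'z, t.uc']
      _ = k * z * k⁻¹ := by group
  have hlp : (u⁻¹ * (k * u * k⁻¹)) * (h * z * h⁻¹) * (u⁻¹ * (k * u * k⁻¹))⁻¹ = h * z * h⁻¹ := by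
    calc (u⁻¹ * (k * u * k⁻¹)) * (h * z * h⁻¹) * (u⁻¹ * (k * u * k⁻¹))⁻¹
        = u⁻¹ * ((k * u * k⁻¹) * (h * z * h⁻¹) * (k * u * k⁻¹)⁻¹) * u := by group
      _ = u⁻¹ * (u * (h * z * h⁻¹) * u⁻¹) * u := by rw [h1, h2]
      _ = h * z * h⁻¹ := by group
  set l := u⁻¹ * (k * u * k⁻¹) with hl'
  have hlH : l ∈ H := by
    have h3 : (h⁻¹ * l * h) * z = z * (h⁻¹ * l * h) := by
      have h4 := mul_inv_eq_iff_eq_mul.1 hlp
      calc (h⁻¹ * l * h) * z = h⁻¹ * (l * (h * z * h⁻¹)) * h := by group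
        _ = h⁻¹ * ((h * z * h⁻¹) * l) * h := by rw [h4]
        _ = z * (h⁻¹ * l * h) := by group
    have h5 := H.mul_mem (H.mul_mem hh (a.cH _ h3)) (H.inv_mem hh)
    have h6 : h * (h⁻¹ * l * h) * h⁻¹ = l := by group
    rwa [h6] at h5
  have h3 := a.nU l hlH z a.zU
  rw [hl] at h3
  have h4 := t.uc'
  rw [a.comm t.uU h3, mul_inv_cancel_right] at h4
  exact b.c_ne (mul_eq_left.1 h4.symm)

end

/-- **THEOREM TVB, part (5).** -/
theorem false_of (a : Blk z U W H N B c X) (b : Half z W K N' B' c X') (t : Tri z U W H K c u k) (huN : u ∈ N) :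
    False := by
  have a' := a.toHalf
  set T := Y U W ⊓ Y' U W k with hTdef
  have hTU : ∀ x ∈ T, x ∈ U := fun x hx => hx.1.1
  -- `c ∉ T`
  have hcT : c ∉ T := fun h => t.u'c (t.T_u' a' b h.2)
  -- `r ∈ T`
  have hcW := b.cU
  have hrT : c * z ∈ T := by
    have hrW : c * z ∈ centralizer (W : Set G) := mem_centralizer_iff.2 fun w hw => b.comm hw b.rU
    refine ⟨⟨a'.rU, hrW⟩, mem_Y'.2 ⟨?_, hrW⟩⟩
    have h1 : k⁻¹ * (c * z) * k = c * z := by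
      conv_lhs => rw [← t.kr]
      group
    rw [h1]
    exact a'.rU
  -- invariance
  have hinv : ∀ w ∈ U, ∀ y' ∈ centralizer (W : Set G), ∀ v ∈ U, y' * v * y'⁻¹ = v →
      B (w * y' * w⁻¹ * y'⁻¹) v = 1 := by
    intro w hw y' hy' v hv hc
    have hH := a'.cH _ (cz b hy')
    have h1 : w * y' * w⁻¹ * y'⁻¹ = w * (y' * w⁻¹ * y'⁻¹) := by group
    have h2 : B (y' * w⁻¹ * y'⁻¹) v = B w⁻¹ v := by
      conv_lhs => rw [← hc]
      exact a'.B3 y' hH _ (U.inv_mem hw) v hv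
    rw [h1, a'.B1 w hw _ (a'.nU y' hH _ (U.inv_mem hw)) v hv, h2, a'.inv hw]
    rcases Int.units_eq_one_or (B w v) with h | h <;> rw [h] <;> decide
  -- `Y'` is abelian
  have hab : ∀ y' ∈ Y' U W k, ∀ x ∈ Y' U W k, y' * x * y'⁻¹ = x := by
    intro y' hy' x hx
    have h1 := a'.comm (mem_Y'.1 hy').1 (mem_Y'.1 hx).1
    have h2 : y' * x = x * y' := by
      calc y' * x = k * ((k⁻¹ * y' * k) * (k⁻¹ * x * k)) * k⁻¹ := by group
        _ = k * ((k⁻¹ * x * k) * (k⁻¹ * y' * k)) * k⁻¹ := by rw [h1]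
        _ = x * y' := by group
    rw [h2, mul_inv_cancel_right]
  have hperp : ∀ w ∈ U, ∀ y' ∈ Y' U W k, ∀ x ∈ T, B (w * y' * w⁻¹ * y'⁻¹) x = 1 := fun w hw y' hy' x hx =>
    hinv w hw y' (mem_Y'.1 hy').2 x (hTU x hx) (hab y' hy' x hx.2)
  -- `[N, D] ≤ N`
  have hND : ∀ n ∈ N, ∀ d ∈ centralizer (W : Set G), n * d * n⁻¹ * d⁻¹ ∈ N := by
    intro n hn d hd
    have h1 : n * d * n⁻¹ * d⁻¹ = n * (d * n⁻¹ * d⁻¹) := by group
    rw [h1]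
    exact N.mul_mem hn (a.dN d hd _ (N.inv_mem hn))
  -- (5b), (5c): `q = [u, y₀] t`
  have hstar : ∀ q ∈ N, B q c = 1 → ∃ y₀ ∈ Y' U W k, ∃ x ∈ T, x ∈ N ∧ u * y₀ * u⁻¹ * y₀⁻¹ ∈ N ∧
      B (u * y₀ * u⁻¹ * y₀⁻¹) c = 1 ∧ q = u * y₀ * u⁻¹ * y₀⁻¹ * x := by
    intro q hq hqc
    have hqY : q ∈ Y U W := ⟨a.NU hq, (a.ax q hq).2 hqc⟩
    obtain ⟨y₀, hy₀, h1⟩ := t.star a' b hqY
    have h2 := hND u huN y₀ (mem_Y'.1 hy₀).2
    have h3 := t.U_D a' b t.uU (mem_Y'.1 hy₀).2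
    refine ⟨y₀, hy₀, _, h1, N.mul_mem (N.inv_mem h2) hq, h2, (a.ax _ h2).1 h3.2, ?_⟩
    group
  -- `T₁ ∩ T₁^⊥ = 1`
  have hTT : ∀ x ∈ T, x ∈ N → (∀ x' ∈ T, x' ∈ N → B x x' = 1) → x = 1 := by
    intro x hx hxN h
    refine (a.nd x hxN fun q hq hqc => ?_).resolve_right fun h => hcT (h ▸ hx)
    obtain ⟨y₀, hy₀, x', hx', hx'N, h2, h3, h4⟩ := hstar q hq hqc
    rw [h4, a'.B1' (a.NU h2) (hTU x' hx') (hTU x hx), h x' hx' hx'N, mul_one, a'.B2 x (hTU x hx) _ (a.NU h2)]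
    exact hperp u t.uU y₀ hy₀ x hx
  -- `[B, Y'] = 1` for `B = T₁^⊥ ∩ Q₁`
  have hBY : ∀ q ∈ N, B q c = 1 → (∀ y' ∈ Y' U W k, y' * q * y'⁻¹ = q) := by
    intro q hq hqc y' hy'
    have hqY : q ∈ Y U W := ⟨a.NU hq, (a.ax q hq).2 hqc⟩
    have h1 := t.comm_T a' b hqY hy'
    have hN : y' * q * y'⁻¹ * q⁻¹ ∈ N := N.mul_mem (a.dN y' (mem_Y'.1 hy').2 q hq) (N.inv_mem hq)
    refine mul_inv_eq_one.1 (hTT _ h1 hN fun x hx _ => ?_)
    have h2 : y' * q * y'⁻¹ * q⁻¹ = (q * y' * q⁻¹ * y'⁻¹)⁻¹ := by group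
    have h3 : q * y' * q⁻¹ * y'⁻¹ ∈ U := a.NU (hND q hq y' (mem_Y'.1 hy').2)
    rw [h2, a'.inv h3]
    exact hperp q (a.NU hq) y' hy' x hx
  -- `[u, Y'] ≤ ⟨c⟩`
  have huY : ∀ y' ∈ Y' U W k, u * y' * u⁻¹ * y'⁻¹ = 1 ∨ u * y' * u⁻¹ * y'⁻¹ = c := by
    intro y' hy'
    have h1 := hND u huN y' (mem_Y'.1 hy').2
    refine a.nd _ h1 fun q hq hqc => ?_
    exact hinv u t.uU y' (mem_Y'.1 hy').2 q (a.NU hq) (hBY q hq hqc y' hy')
  -- `Q₁ = ⟨c⟩ T₁`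
  have hQ : ∀ q ∈ N, B q c = 1 → q ∈ T ∨ c * q ∈ T := by
    intro q hq hqc
    obtain ⟨y₀, hy₀, x', hx', hx'N, h2, h3, h4⟩ := hstar q hq hqc
    rcases huY y₀ hy₀ with h5 | h5
    · left
      rw [h4, h5, one_mul]
      exact hx'
    · right
      rw [h4, h5, ← mul_assoc, a'.c_sq, one_mul]
      exact hx'
  -- (5d)
  have hXT : ∀ p ∈ X, B p c = 1 → p ∉ T := by
    intro p hp hpc hT
    obtain ⟨h, hh, h1⟩ := a.pt p hp
    exact t.pt_T a' b hh (h1 ▸ T.mul_mem hT hrT)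
  have hXX : ∀ p ∈ X, B p c = 1 → ∀ q ∈ X, B q c = 1 → B p q = 1 := by
    intro p hp hpc q hq hqc
    rcases Int.units_eq_one_or (B p q) with h | h
    · exact h
    · exfalso
      have hpU := a.NU (a.XN hp)
      have hqU := a.NU (a.XN hq)
      have h1 := a.add p hp q hq h
      have h2 : B (p * q) c = 1 := by rw [a'.B1 p hpU q hqU c a'.cU, hpc, hqc, mul_one]
      apply hXT _ h1 h2
      have h3 := (hQ p (a.XN hp) hpc).resolve_left (hXT p hp hpc)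
      have h4 := (hQ q (a.XN hq) hqc).resolve_left (hXT q hq hqc)
      have h5 := T.mul_mem h3 h4
      have h6 : c * p * (c * q) = p * q := by
        rw [a'.comm a'.cU hpU, mul_assoc, ← mul_assoc c c q, a'.c_sq, one_mul]
      rwa [h6] at h5
  obtain ⟨x, hx, hxc, hne⟩ := a.big
  have hxU := a.NU (a.XN hx)
  have h1 : ∀ n ∈ closure {x | x ∈ X ∧ B x c = 1}, n ∈ U ∧ B x n = 1 := by
    intro n hn
    refine closure_induction (p := fun n _ => n ∈ U ∧ B x n = 1) ?_ ?_ ?_ ?_ hn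
    · rintro q ⟨hq, hqc⟩
      exact ⟨a.NU (a.XN hq), hXX x hx hxc q hq hqc⟩
    · refine ⟨U.one_mem, ?_⟩
      have := a'.B1' U.one_mem U.one_mem hxU
      rw [one_mul] at this
      exact left_eq_mul.1 this
    · rintro p q _ _ ⟨hp, hp'⟩ ⟨hq, hq'⟩
      exact ⟨U.mul_mem hp hq, by rw [a'.B1' hp hq hxU, hp', hq', mul_one]⟩
    · rintro p _ ⟨hp, hp'⟩
      rw [a'.inv hp]
      exact ⟨hp, hp'⟩
  rcases a.nd x (a.XN hx) fun n hn hnc => (h1 n (a.span n hn hnc)).2 with h2 | h2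
  · exact hXT x hx hxc (h2 ▸ T.one_mem)
  · exact hne h2

end Tri

/-- **THEOREM TVB, part (5)**: an adjacent pair with matching blocks does not exist. -/
theorem Blk.false_of {z : G} {U W H K N N' : Subgroup G} {B B' : G → G → ℤˣ} {c : G} {X X' : Set G}
    (a : Blk z U W H N B c X) (b : Half z W K N' B' c X') : False := by
  obtain ⟨u, hu, k, t⟩ := a.exists_tri b
  exact t.false_of a b hu

end Cfsg.Agent.Omega.NOThreeL.TvbEnd
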