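import Cfsg.Agent.Omega.NOThreeL.TvbMod
import Cfsg.Agent.Omega.NOThreeL.TvbEnd
import Cfsg.Agent.Omega.NOThreeL.AdjTransv

/-!
# NO-3L, piece B1, `|Z| = 2`: THEOREM TVB (#15866, helper535), group language

helper549.  `Adj z U W H K S` an adjacent pair.

* `Tvd z U W H K S w e` : `w ∈ W` induces a nontrivial transvection with centre `e` on `U`;
* `Tvd.blk` : the data `Blk` of one block of `U`;
* **`Tvd.false_of`** : if `C_U(W)` contains a conjugate `h z h⁻¹ ≠ z` (`h ∈ H`) and `C_W(U)` contains a conjugate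
  `k z k⁻¹ ≠ z` (`k ∈ K`), then no `w ∈ W` induces a nontrivial transvection on `U`.
-/

set_option autoImplicit false
set_option linter.unusedSectionVars false

namespace Cfsg.Agent.Omega.NOThreeL.Tvb

open Module Subgroup
open Cfsg.Agent.Omega.TV (Fn Frm Sys EA GSys z2 z2_ne_zero z2_ne_one z2_add_self v_add_self v_eq_of_add
  add_ne_zero_of_ne add_add_self self_add_add)
open Cfsg.Agent.Omega.NOThreeL.AdjTransv (Adj C mem_C)
open Cfsg.Agent.Omega.NOThreeL.TvbEnd (Half Blk)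

variable {G : Type*} [Group G]

/-! ### signs -/

/-- `0 ↦ 1`, `1 ↦ -1` -/
def sg (a : ZMod 2) : ℤˣ := if a = 0 then 1 else -1

theorem sg_zero : sg 0 = 1 := if_pos rfl

theorem sg_one : sg 1 = -1 := if_neg one_ne_zero

theorem sg_add (a b : ZMod 2) : sg (a + b) = sg a * sg b := by revert a b; decide

theorem sg_eq_one {a : ZMod 2} : sg a = 1 ↔ a = 0 := by revert a; decide

theorem sg_eq_neg {a : ZMod 2} : sg a = -1 ↔ a = 1 := by revert a; decide

section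

variable {N : Subgroup G} {h : ∀ x ∈ N, x * x = 1}

/-- the form on `G` -/
noncomputable def Bf (f : EA N h →ₗ[ZMod 2] EA N h →ₗ[ZMod 2] ZMod 2) (u v : G) : ℤˣ := by
  classical exact if hh : u ∈ N ∧ v ∈ N then sg (f (EA.mk h u hh.1) (EA.mk h v hh.2)) else 1

theorem Bf_mk (f : EA N h →ₗ[ZMod 2] EA N h →ₗ[ZMod 2] ZMod 2) {u v : G} (hu : u ∈ N) (hv : v ∈ N) :
    Bf f u v = sg (f (EA.mk h u hu) (EA.mk h v hv)) := by
  unfold Bf
  rw [dif_pos ⟨hu, hv⟩]

theorem Bf_val (f : EA N h →ₗ[ZMod 2] EA N h →ₗ[ZMod 2] ZMod 2) (a b : EA N h) : Bf f a.val b.val = sg (f a b) :=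
  Bf_mk f a.val_mem b.val_mem

theorem mem_closure_of_span {T : Set (EA N h)} {v : EA N h} (hv : v ∈ Submodule.span (ZMod 2) T) :
    v.val ∈ closure {x | ∃ a ∈ T, a.val = x} := by
  induction hv using Submodule.span_induction with
  | mem x hx => exact subset_closure ⟨x, hx, rfl⟩
  | zero => exact one_mem _
  | add x y _ _ hx hy => exact mul_mem hx hy
  | smul c x _ hx =>
    rcases z2 c with rfl | rfl
    · rw [zero_smul]; exact one_mem _
    · rwa [one_smul]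

end

/-- `w ∈ W` induces a nontrivial transvection with centre `e` on `U` -/
structure Tvd (z : G) (U W H K S : Subgroup G) (w e : G) : Prop extends Adj z U W H K S where
  hw : w ∈ W
  tv : ∀ u ∈ U, w * u * w⁻¹ = u ∨ w * u * w⁻¹ = u * e
  mv : ∃ u ∈ U, w * u * w⁻¹ ≠ u

namespace Tvd

variable {z : G} {U W H K S : Subgroup G} {w e : G} (d : Tvd z U W H K S w e)

include d

theorem wH : w ∈ H := d.WH d.hw

theorem exists_u : ∃ u ∈ U, w * u * w⁻¹ = u * e ∧ e ≠ 1 := by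
  obtain ⟨u, hu, h⟩ := d.mv
  have h1 := (d.tv u hu).resolve_left h
  refine ⟨u, hu, h1, ?_⟩
  rintro rfl
  rw [mul_one] at h1
  exact h h1

theorem e_eq {t u : G} (h : t * u * t⁻¹ = u * e) : e = u⁻¹ * (t * u * t⁻¹) := by
  rw [h, inv_mul_cancel_left]

theorem he : e ∈ U := by
  obtain ⟨u, hu, h, _⟩ := d.exists_u
  rw [d.e_eq h]
  exact U.mul_mem (U.inv_mem hu) (d.nU w d.wH u hu)

theorem he1 : e ≠ 1 := by
  obtain ⟨_, _, _, h⟩ := d.exists_u
  exact h

variable [Finite G]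

/-- an `H`-invariant nontrivial subgroup of `U` is `U` -/
theorem eq_of_inv {N : Subgroup G} (h1 : N ≤ U) (h2 : N ≠ ⊥) (h3 : ∀ g ∈ H, ∀ n ∈ N, g * n * g⁻¹ ∈ N) : U ≤ N := by
  have h4 := d.mem_of h1 h2 fun s hs => h3 s (d.SH hs)
  refine d.genU.trans ((closure_le _).2 ?_)
  rintro x ⟨h, hh, rfl⟩
  exact h3 h hh z h4

theorem gsys : GSys H U e where
  sq := d.sqU
  nor := d.nU
  mem := d.he
  ne := d.he1
  gen := by
    refine d.eq_of_inv ?_ ?_ ?_
    · refine (closure_le _).2 ?_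
      rintro x ⟨c, hc, rfl⟩
      exact d.nU c hc e d.he
    · intro h
      apply d.he1
      have h1 : e ∈ closure {x | ∃ c ∈ H, x = c * e * c⁻¹} := subset_closure ⟨1, H.one_mem, by group⟩
      rwa [h, mem_bot] at h1
    · intro g hg n hn
      have h2 : closure {x | ∃ c ∈ H, x = c * e * c⁻¹} ≤
          (closure {x | ∃ c ∈ H, x = c * e * c⁻¹}).comap (MulAut.conj g).toMonoidHom := by
        refine (closure_le _).2 ?_
        rintro y ⟨c, hc, rfl⟩
        change g * (c * e * c⁻¹) * g⁻¹ ∈ Subgroup.closure _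
        exact subset_closure ⟨g * c, H.mul_mem hg hc, by group⟩
      exact h2 hn
  chain := by
    intro N hN hinv c hc h1 h2 n hn
    by_cases hb : N = ⊥
    · have h3 := h2 n hn
      rw [hb, mem_bot] at h3
      exact mul_inv_eq_one.1 h3
    · exact h1 n (d.eq_of_inv hN hb hinv hn)

/-- the vector of `z` -/
def zv : EA U d.gsys.sq := EA.mk d.gsys.sq z d.zU

theorem toSub_ne {Q : Submodule (ZMod 2) (EA U d.gsys.sq)} (h : Q ≠ ⊥) : EA.toSub Q ≠ ⊥ := by
  intro h1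
  apply h
  rw [eq_bot_iff]
  intro v hv
  have h2 : v.val ∈ EA.toSub Q := EA.val_mem_toSub.2 hv
  rw [h1, mem_bot] at h2
  exact EA.val_eq_one.1 h2

theorem toSub_le (Q : Submodule (ZMod 2) (EA U d.gsys.sq)) : EA.toSub Q ≤ U := by
  rintro _ ⟨a, _, rfl⟩
  exact a.val_mem

theorem qs : QS d.gsys.rep d.gsys.pts (W.subgroupOf H) (S.subgroupOf H) d.zv where
  sys := d.gsys.toSys d.wH d.tv d.mv
  irr := by
    intro Q hQ
    by_cases hb : Q = ⊥
    · exact Or.inl hb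
    right
    rw [eq_top_iff]
    intro v _
    have h1 := d.eq_of_inv (d.toSub_le Q) (d.toSub_ne hb) (by
      rintro g hg _ ⟨a, ha, rfl⟩
      exact ⟨_, hQ ⟨g, hg⟩ a ha, rfl⟩) v.val_mem
    exact EA.val_mem_toSub.1 h1
  nA := by
    intro g hg a ha
    have h1 : (g : G) * z * (g : G)⁻¹ = z := congrArg EA.val hg
    exact d.nW g (d.cK g (mul_inv_eq_iff_eq_mul.1 h1)) a ha
  quad := by
    intro a ha b hb v
    apply EA.ext
    show (a : G) * ((b : G) * v.val * (b : G)⁻¹ * v.val) * (a : G)⁻¹ = (b : G) * v.val * (b : G)⁻¹ * v.val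
    have hb' : (b : G) ∈ W := hb
    have ha' : (a : G) ∈ W := ha
    have h1 := d.nW v.val (d.UK v.val_mem) _ (W.inv_mem hb')
    rw [d.invU v.val_mem] at h1
    have h2 := W.mul_mem hb' h1
    have h3 : (b : G) * (v.val * (b : G)⁻¹ * v.val) = (b : G) * v.val * (b : G)⁻¹ * v.val := by group
    rw [h3] at h2
    rw [d.commW ha' h2, mul_inv_cancel_right]
  Az := by
    intro a ha
    apply EA.ext
    have ha' : (a : G) ∈ W := ha
    show (a : G) * z * (a : G)⁻¹ = z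
    rw [d.commW ha' d.zW, mul_inv_cancel_right]
  Sz := by
    intro s hs
    apply EA.ext
    show (s : G) * z * (s : G)⁻¹ = z
    rw [d.cS s hs, mul_inv_cancel_right]
  fix := by
    intro Q hQ h
    have h1 := d.mem_of (d.toSub_le Q) (d.toSub_ne hQ) (by
      rintro s hs _ ⟨a, ha, rfl⟩
      exact ⟨_, h ⟨s, d.SH hs⟩ hs a ha, rfl⟩)
    have h2 : d.zv.val ∈ EA.toSub Q := h1
    exact EA.val_mem_toSub.1 h2

theorem ac : AC d.gsys.rep d.gsys.pts (W.subgroupOf H) (EA.mk d.gsys.sq e d.he) := by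
  obtain ⟨φ, hφ, hfn⟩ := d.gsys.exists_fn d.he d.he1 d.wH d.tv
  refine ⟨d.gsys.mem_pts_r, φ, ?_, hfn.1, ⟨w, d.wH⟩, d.hw, hφ⟩
  rintro rfl
  obtain ⟨u, hu, h⟩ := d.mv
  have h1 := hφ (EA.mk d.gsys.sq u hu)
  rw [LinearMap.zero_apply, zero_smul, add_zero] at h1
  exact h (congrArg EA.val h1)

/-- one axis for every centre, and the form -/
theorem exists_frm (hU : ∃ h ∈ H, h * z * h⁻¹ ∈ C W ∧ h * z ≠ z * h) :
    ∃ f : EA U d.gsys.sq →ₗ[ZMod 2] EA U d.gsys.sq →ₗ[ZMod 2] ZMod 2, Frm d.gsys.rep d.gsys.pts f ∧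
      ∃ h : H, d.gsys.rep h d.zv ≠ d.zv ∧ ∀ a ∈ W.subgroupOf H, d.gsys.rep a (d.gsys.rep h d.zv) = d.gsys.rep h d.zv := by
  obtain ⟨h, hh, h1, h2⟩ := hU
  have h3 : d.gsys.rep ⟨h, hh⟩ d.zv ≠ d.zv := by
    intro h4
    apply h2
    have h5 : h * z * h⁻¹ = z := congrArg EA.val h4
    exact mul_inv_eq_iff_eq_mul.1 h5
  have h4 : ∀ a ∈ W.subgroupOf H,
      d.gsys.rep a (d.gsys.rep ⟨h, hh⟩ d.zv) = d.gsys.rep ⟨h, hh⟩ d.zv := by
    intro a ha
    apply EA.ext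
    show (a : G) * (h * z * h⁻¹) * (a : G)⁻¹ = h * z * h⁻¹
    rw [mem_C.1 h1 a ha, mul_inv_cancel_right]
  rcases d.qs.sys.small_or_big with hs | hb
  · obtain ⟨f, hf⟩ := d.qs.sys.exists_form hs
    exact ⟨f, hf, ⟨h, hh⟩, h3, h4⟩
  · exact (d.qs.gl_false hb d.ac h3 h4).elim

/-- the block -/
noncomputable def NN (c : EA U d.gsys.sq) : Subgroup G := EA.toSub (Nb d.gsys.rep d.gsys.pts c)

/-- its centres -/
def XX (c : EA U d.gsys.sq) : Set G := {x | ∃ a ∈ Xb d.gsys.rep d.gsys.pts c, a.val = x}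

variable {f : EA U d.gsys.sq →ₗ[ZMod 2] EA U d.gsys.sq →ₗ[ZMod 2] ZMod 2}

theorem half (hf : Frm d.gsys.rep d.gsys.pts f) {c : EA U d.gsys.sq}
    (hc : AC d.gsys.rep d.gsys.pts (W.subgroupOf H) c) :
    Half z U H (d.NN c) (Bf f) c.val (d.XX c) where
  zU := d.zU
  sq := d.sqU
  nU := d.nU
  cH := d.cH
  B1 := by
    intro u hu v hv x hx
    rw [Bf_mk f (U.mul_mem hu hv) hx, Bf_mk f hu hx, Bf_mk f hv hx, ← sg_add]
    have h1 : EA.mk d.gsys.sq (u * v) (U.mul_mem hu hv) = EA.mk d.gsys.sq u hu + EA.mk d.gsys.sq v hv := rfl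
    rw [h1, map_add, LinearMap.add_apply]
  B2 := by
    intro u hu v hv
    rw [Bf_mk f hu hv, Bf_mk f hv hu, hf.comm]
  B3 := by
    intro h hh u hu v hv
    rw [Bf_mk f (d.nU h hh u hu) (d.nU h hh v hv), Bf_mk f hu hv]
    exact congrArg sg (hf.inv ⟨h, hh⟩ (EA.mk d.gsys.sq u hu) (EA.mk d.gsys.sq v hv))
  B0 := by
    intro u hu
    rw [Bf_mk f hu hu, hf.alt, sg_zero]
  NU := d.toSub_le _
  XN := by
    rintro _ ⟨a, ha, rfl⟩
    exact ⟨a, d.qs.Xb_Nb ha, rfl⟩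
  cX := ⟨c, d.qs.Xb_self hc.1, rfl⟩
  add := by
    rintro _ ⟨p, hp, rfl⟩ _ ⟨q, hq, rfl⟩ h
    rw [Bf_val, sg_eq_neg] at h
    exact ⟨p + q, d.qs.Xb_add hf hc.1 hp hq h, rfl⟩
  tr := by
    rintro _ ⟨x, hx, rfl⟩
    obtain ⟨_, g, hg⟩ := hf.fn x hx.1
    refine ⟨g, g.2, fun v hv => ?_⟩
    have h1 := hg (EA.mk d.gsys.sq v hv)
    rw [hf.comm] at h1
    constructor
    · intro h
      rw [Bf_mk f hv x.val_mem, sg_eq_one] at h
      have h2 : f (EA.mk d.gsys.sq v hv) x = 0 := h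
      rw [h2, zero_smul, add_zero] at h1
      exact congrArg EA.val h1
    · intro h
      rw [Bf_mk f hv x.val_mem, sg_eq_neg] at h
      have h2 : f (EA.mk d.gsys.sq v hv) x = 1 := h
      rw [h2, one_smul] at h1
      exact congrArg EA.val h1
  perp := by
    rintro _ ⟨n, hn, rfl⟩
    have h1 := d.qs.sp_perp hf hc hn
    have h2 : Bf f n.val (c + d.zv).val = 1 := by rw [Bf_val, h1, sg_zero]
    exact h2
  ex := by
    obtain ⟨x, hx, h⟩ := d.qs.sp_ex hf hc.1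
    exact ⟨x.val, ⟨x, hx, rfl⟩, by rw [Bf_val, h, sg_one]⟩

/-- the centre lies in `W` -/
theorem cW (hf : Frm d.gsys.rep d.gsys.pts f) {c : EA U d.gsys.sq}
    (hc : AC d.gsys.rep d.gsys.pts (W.subgroupOf H) c) : c.val ∈ W := by
  obtain ⟨t, ht, ht'⟩ := d.qs.sp_tv hf hc
  obtain ⟨v, _, hv⟩ := d.qs.sys.exists_one (hf.ne c hc.1)
  have h1 := ht' v
  rw [hv, one_smul] at h1
  have h2 : (t : G) * v.val * (t : G)⁻¹ = v.val * c.val := congrArg EA.val h1
  have ht2 : (t : G) ∈ W := ht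
  have h3 : c.val = (v.val⁻¹ * t * v.val) * (t : G)⁻¹ := by
    have : v.val⁻¹ * (t * v.val * (t : G)⁻¹) = c.val := by rw [h2, inv_mul_cancel_left]
    rw [← this]
    group
  rw [h3]
  have h4 := d.nW _ (d.UK (U.inv_mem v.val_mem)) _ ht2
  rw [inv_inv] at h4
  exact W.mul_mem h4 (W.inv_mem ht2)

theorem blk (hf : Frm d.gsys.rep d.gsys.pts f) {c : EA U d.gsys.sq}
    (hc : AC d.gsys.rep d.gsys.pts (W.subgroupOf H) c)
    (hbig : ∃ p ∈ Xb d.gsys.rep d.gsys.pts c, f p c = 0 ∧ p ≠ c) :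
    Blk z U W H (d.NN c) (Bf f) c.val (d.XX c) where
  toHalf := d.half hf hc
  pt := by
    rintro _ ⟨p, hp, rfl⟩
    obtain ⟨h, hh⟩ := d.qs.sp_pt hf hc hp
    exact ⟨h, h.2, (congrArg EA.val hh).symm⟩
  nd := by
    rintro _ ⟨x, hx, rfl⟩ h
    have h1 := d.qs.sp_nd hf hc.1 hx (by
      intro n hn hnc
      have h2 := h n.val ⟨n, hn, rfl⟩ (by rw [Bf_val, hnc, sg_zero])
      rwa [Bf_val, sg_eq_one] at h2)
    rcases h1 with h1 | h1
    · left; rw [h1]; rfl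
    · right; rw [h1]
  ax := by
    rintro _ ⟨n, hn, rfl⟩
    rw [Bf_val, sg_eq_one]
    constructor
    · intro h
      obtain ⟨t, ht, ht'⟩ := d.qs.sp_tv hf hc
      have h1 := ht' n
      have h2 : d.gsys.rep t n = n := by
        apply EA.ext
        show (t : G) * n.val * (t : G)⁻¹ = n.val
        rw [mem_C.1 h t ht, mul_inv_cancel_right]
      rw [h2] at h1
      have h3 : f c n • c = 0 := by simpa using h1
      rw [hf.comm]
      exact (smul_eq_zero.1 h3).resolve_right (d.qs.sys.ne_zero hc.1)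
    · intro h
      rw [mem_centralizer_iff]
      intro w hw
      have h1 := d.qs.sp_cen hf hc (a := ⟨w, d.WH hw⟩) hw hn h
      exact mul_inv_eq_iff_eq_mul.1 (congrArg EA.val h1)
  act := by
    rintro _ ⟨n, hn, rfl⟩ w hw
    have hcW := d.cW hf hc
    have hin : n.val⁻¹ = n.val := d.invU n.val_mem
    rcases d.qs.sp_act hf hc (a := ⟨w, d.WH hw⟩) hw hn with h1 | h1
    · left
      have h2 : w * n.val * w⁻¹ = n.val := congrArg EA.val h1
      have h3 := mul_inv_eq_iff_eq_mul.1 h2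
      rw [← h3, mul_inv_cancel_right]
    · right
      have h2 : w * n.val * w⁻¹ = n.val * c.val := congrArg EA.val h1
      have h3 := mul_inv_eq_iff_eq_mul.1 h2
      calc n.val * w * n.val⁻¹ = n.val⁻¹ * (w * n.val) := by rw [hin, mul_assoc]
        _ = n.val⁻¹ * (n.val * c.val * w) := by rw [h3]
        _ = c.val * w := by group
        _ = w * c.val := d.commW hcW hw
  dN := by
    rintro g hg _ ⟨n, hn, rfl⟩
    have hcW := d.cW hf hc
    have hgH : g ∈ H := d.cH g (mem_C.1 hg z d.zW).symm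
    have h1 : d.gsys.rep ⟨g, hgH⟩ c = c := by
      apply EA.ext
      show g * c.val * g⁻¹ = c.val
      rw [← mem_C.1 hg _ hcW, mul_inv_cancel_right]
    exact ⟨_, d.qs.Nb_inv h1 hn, rfl⟩
  span := by
    rintro _ ⟨n, hn, rfl⟩ h
    rw [Bf_val, sg_eq_one] at h
    have h1 := mem_closure_of_span (d.qs.sp_span hf hc.1 hn h)
    refine closure_mono ?_ h1
    rintro _ ⟨a, ⟨ha, ha'⟩, rfl⟩
    exact ⟨⟨a, ha, rfl⟩, by rw [Bf_val, ha', sg_zero]⟩
  big := by
    obtain ⟨p, hp, h1, h2⟩ := hbig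
    exact ⟨p.val, ⟨p, hp, rfl⟩, by rw [Bf_val, h1, sg_zero], fun h => h2 (EA.ext h)⟩

end Tvd

/-- **THEOREM TVB** -/
theorem Tvd.false_of [Finite G] {z : G} {U W H K S : Subgroup G} {w e : G} (d : Tvd z U W H K S w e)
    (hU : ∃ h ∈ H, h * z * h⁻¹ ∈ C W ∧ h * z ≠ z * h) (hW : ∃ k ∈ K, k * z * k⁻¹ ∈ C U ∧ k * z ≠ z * k) :
    False := by
  obtain ⟨f, hf, h, hne, hA⟩ := d.exists_frm hU
  obtain ⟨c, hc, hbig⟩ := d.qs.sp_big hf d.ac hne hA
  have hblk := d.blk hf hc hbig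
  obtain ⟨n, hnX, hnc⟩ := hblk.ex
  have hnN := hblk.XN hnX
  have hcW := d.cW hf hc
  have d' : Tvd z W U K H S n c.val :=
    { d.toAdj.symm with
      hw := hblk.NU hnN
      tv := fun u hu => hblk.act n hnN u hu
      mv := by
        by_contra hcon
        push Not at hcon
        have h1 : n ∈ centralizer (W : Set G) := by
          rw [mem_centralizer_iff]
          intro u hu
          exact (mul_inv_eq_iff_eq_mul.1 (hcon u hu)).symm
        rw [(hblk.ax n hnN).1 h1] at hnc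
        exact absurd hnc (by decide) }
  obtain ⟨f', hf', _⟩ := d'.exists_frm hW
  exact hblk.false_of (d'.half hf' d'.ac)

end Cfsg.Agent.Omega.NOThreeL.Tvb
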