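import Cfsg.Agent.Omega.TV.One
import Cfsg.Agent.Omega.TV.Group

/-!
# NO-3L, piece B1, `|Z| = 2`: THEOREM TVB (#15866, helper535), parts (1)-(4), module language

helper549.  `H` acts by `ρ` on `V` over `𝔽₂` irreducibly, `z` a vector, `A` a quadratic subgroup normalised by the
stabiliser of `z`, `S` a subgroup fixing `z` such that every nonzero `S`-submodule contains `z`.  `Om` is an orbit
of centres of transvections.  `AC e` : the point `e` is the centre of a transvection in `A`.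

* `QS.key` : if `AC e`, then `κ z = κ e` for all induced transvections `(x, κ)`, `x` in the class of `e`;
* `QS.exists_ac` : every class contains a point `e'` with `AC e'`;
* `QS.gl_false` : several axes for one centre, and `A` fixes some `ρ h z ≠ z`: impossible;
* `sp_*` : one axis per centre: the form `f` and the action of `A` on the block of `e`.
-/

set_option autoImplicit false
set_option linter.unusedSectionVars false

namespace Cfsg.Agent.Omega.NOThreeL.Tvb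

open Module
open Cfsg.Agent.Omega.TV (Fn Frm Sys z2 z2_ne_zero z2_ne_one z2_add_self v_add_self v_eq_of_add add_ne_zero_of_ne
  add_add_self self_add_add rmul rone rinv rinv')
open Cfsg.Agent.Omega.TV.Sys (Near Big Small Clo)

variable {H : Type*} [Group H] {V : Type*} [AddCommGroup V] [Module (ZMod 2) V]

/-- The transvection `x ↦ x + φ x • r` is induced by `A`. -/
def FnA (ρ : H →* (V ≃ₗ[ZMod 2] V)) (A : Subgroup H) (r : V) (φ : Dual (ZMod 2) V) : Prop :=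
  φ r = 0 ∧ ∃ a ∈ A, ∀ x, ρ a x = x + φ x • r

theorem FnA.fn {ρ : H →* (V ≃ₗ[ZMod 2] V)} {A : Subgroup H} {r : V} {φ : Dual (ZMod 2) V}
    (h : FnA ρ A r φ) : Fn ρ r φ := by
  obtain ⟨h0, a, _, h1⟩ := h
  exact ⟨h0, a, h1⟩

/-- The setting. -/
structure QS (ρ : H →* (V ≃ₗ[ZMod 2] V)) (Om : Set V) (A S : Subgroup H) (z : V) : Prop where
  sys : TV.Sys ρ Om
  irr : ∀ U : Submodule (ZMod 2) V, (∀ (g : H), ∀ u ∈ U, ρ g u ∈ U) → U = ⊥ ∨ U = ⊤
  nA : ∀ g : H, ρ g z = z → ∀ a ∈ A, g * a * g⁻¹ ∈ A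
  quad : ∀ a ∈ A, ∀ b ∈ A, ∀ v, ρ a (ρ b v + v) = ρ b v + v
  Az : ∀ a ∈ A, ρ a z = z
  Sz : ∀ s ∈ S, ρ s z = z
  fix : ∀ U : Submodule (ZMod 2) V, U ≠ ⊥ → (∀ s ∈ S, ∀ u ∈ U, ρ s u ∈ U) → z ∈ U

/-- `e` is a point and the centre of a transvection in `A`. -/
def AC (ρ : H →* (V ≃ₗ[ZMod 2] V)) (Om : Set V) (A : Subgroup H) (e : V) : Prop :=
  e ∈ Om ∧ ∃ φ, φ ≠ 0 ∧ FnA ρ A e φ

variable {ρ : H →* (V ≃ₗ[ZMod 2] V)} {Om : Set V} {A S : Subgroup H} {z : V}

theorem rho_inv_of {g : H} {κ : Dual (ZMod 2) V} {d : V} (h0 : κ d = 0) (hg : ∀ x, ρ g x = x + κ x • d) (x : V) :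
    ρ g⁻¹ x = x + κ x • d := by
  have h1 : ρ g (x + κ x • d) = x := by
    rw [hg, map_add, map_smul, h0, smul_zero, add_zero, add_add_self]
  conv_lhs => rw [← h1]
  rw [rinv]

theorem dual_ne_zero {φ : Dual (ZMod 2) V} {x : V} (h : φ x = 1) : φ ≠ 0 := by
  rintro rfl
  exact zero_ne_one h

theorem exists_eq_one {φ : Dual (ZMod 2) V} (h : φ ≠ 0) : ∃ x, φ x = 1 := by
  by_contra hcon
  push Not at hcon
  exact h (LinearMap.ext fun x => z2_ne_one (hcon x))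

namespace QS

variable (q : QS ρ Om A S z)

include q

theorem rad_bot : Sys.rad ρ Om = ⊥ := by
  rcases q.irr (Sys.rad ρ Om) (fun g u hu => q.sys.rad_inv g hu) with h | h
  · exact h
  · exfalso
    obtain ⟨r, hr, φ, hne, hφ⟩ := q.sys.ex
    apply hne
    refine LinearMap.ext fun x => ?_
    have hx : x ∈ Sys.rad ρ Om := by rw [h]; trivial
    exact hx r hr φ hφ

theorem exists_fn_ne {v w : V} (h : v ≠ w) : ∃ x ∈ Om, ∃ κ, Fn ρ x κ ∧ κ v ≠ κ w := by
  by_contra hcon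
  push Not at hcon
  have h1 : v + w ∈ Sys.rad ρ Om := by
    intro x hx κ hκ
    rw [map_add, hcon x hx κ hκ]
    exact z2_add_self _
  rw [q.rad_bot, Submodule.mem_bot] at h1
  exact h (v_eq_of_add h1)

theorem fnA_conj {r : V} {φ : Dual (ZMod 2) V} (h : FnA ρ A r φ) {g : H} (hg : ρ g z = z) :
    FnA ρ A (ρ g r) (φ ∘ₗ (ρ g⁻¹ : V ≃ₗ[ZMod 2] V).toLinearMap) := by
  obtain ⟨h0, t, htA, ht⟩ := h
  refine ⟨by simp [h0], g * t * g⁻¹, q.nA g hg t htA, fun x => ?_⟩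
  rw [rmul, rmul, ht, map_add, rinv', map_smul]
  simp

theorem fnA_cc {r d : V} {φ κ : Dual (ZMod 2) V} (h : FnA ρ A r φ) (hd : Fn ρ d κ) (hz : κ z = 0) :
    FnA ρ A (r + κ r • d) (φ + φ d • κ) := by
  obtain ⟨h0, g, hg⟩ := hd
  have h1 := q.fnA_conj h (g := g) (by rw [hg, hz, zero_smul, add_zero])
  rw [hg] at h1
  have h2 : φ ∘ₗ (ρ g⁻¹ : V ≃ₗ[ZMod 2] V).toLinearMap = φ + φ d • κ := by
    refine LinearMap.ext fun x => ?_
    show φ (ρ g⁻¹ x) = φ x + φ d * κ x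
    rw [rho_inv_of h0 hg, map_add, map_smul, smul_eq_mul, mul_comm]
  rwa [h2] at h1

/-- quadratic action -/
theorem quadA {r s : V} {φ ψ : Dual (ZMod 2) V} (h : FnA ρ A r φ) (hφ : φ ≠ 0) (h' : FnA ρ A s ψ) (hs : s ≠ 0) :
    ψ r = 0 := by
  obtain ⟨_, b, hb, hb'⟩ := h
  obtain ⟨_, a, ha, ha'⟩ := h'
  obtain ⟨v, hv⟩ := exists_eq_one hφ
  have h1 := q.quad a ha b hb v
  have h2 : ρ b v + v = r := by rw [hb', hv, one_smul, add_comm v, add_add_self]
  rw [h2, ha'] at h1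
  have h3 : ψ r • s = 0 := by simpa using h1
  exact (smul_eq_zero.1 h3).resolve_right hs

theorem ac_conj {e : V} (he : AC ρ Om A e) {g : H} (hg : ρ g z = z) : AC ρ Om A (ρ g e) := by
  obtain ⟨h0, φ, h1, h2⟩ := he
  refine ⟨q.sys.inv g e h0, _, ?_, q.fnA_conj h2 hg⟩
  obtain ⟨x, hx⟩ := exists_eq_one h1
  refine dual_ne_zero (x := ρ g x) ?_
  simp [hx]

/-- (i) -/
theorem key1 {e d : V} {φ κ : Dual (ZMod 2) V} (h : FnA ρ A e φ) (hd : Fn ρ d κ)
    (h1 : φ d = 1) (h2 : κ e = 1) : κ z = 1 := by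
  by_contra hcon
  have h3 := q.fnA_cc h hd (z2_ne_one hcon)
  rw [h1, h2, one_smul, one_smul] at h3
  have h4 : e + d ≠ 0 := by
    intro h0
    have h5 : φ (e + d) = 1 := by rw [map_add, h.1, h1, zero_add]
    rw [h0, map_zero] at h5
    exact zero_ne_one h5
  have h5 := q.quadA h (dual_ne_zero h1) h3 h4
  rw [LinearMap.add_apply, h.1, h2, zero_add] at h5
  exact one_ne_zero h5

variable [Finite V]

/-- (i') -/
theorem key2 {e d : V} {φ : Dual (ZMod 2) V} (he : e ∈ Om) (h : FnA ρ A e φ) (hd : d ∈ Om)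
    (h1 : φ d = 1) {κ : Dual (ZMod 2) V} (hκ : Fn ρ d κ) : κ z = κ e := by
  rcases z2 (κ e) with h2 | h2
  · obtain ⟨χ, hχ, h3⟩ := q.sys.symm he hd ⟨φ, h.fn, h1⟩
    have h4 := q.key1 h hχ h1 h3
    have h5 := q.key1 h (hκ.add hχ) h1 (by rw [LinearMap.add_apply, h2, h3, zero_add])
    rw [LinearMap.add_apply, h4] at h5
    rw [h2]
    exact add_eq_right.1 h5
  · rw [h2]
    exact q.key1 h hκ h1 h2

/-- (ii') -/
theorem key3 {e d x : V} {φ : Dual (ZMod 2) V} (he : e ∈ Om) (h : FnA ρ A e φ) (hd : d ∈ Om)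
    (h1 : φ d = 1) (hx : x ∈ Om) (hdx : TV.Adj ρ d x) (h0 : φ x = 0) {κ : Dual (ZMod 2) V} (hκ : Fn ρ x κ) :
    κ z = κ e := by
  rcases z2 (κ d) with h2 | h2
  · exact q.key2 he h hd h1 (q.sys.fn_of_adj hx hd (q.sys.symm hd hx hdx) hκ h2)
  · obtain ⟨χ, hχ, h3⟩ := hdx
    have h4 := Fn.cc hχ hκ
    rw [h2, h3, one_smul, one_smul] at h4
    have h5 : d + x ∈ Om := q.sys.add_mem hd ⟨κ, hκ, h2⟩
    have h6 := q.key2 he h h5 (by rw [map_add, h1, h0, add_zero]) h4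
    rw [LinearMap.add_apply, LinearMap.add_apply, q.key2 he h hd h1 hχ] at h6
    exact add_left_cancel h6

/-- **Key**: the component of `z` in the block of `e` is `e`. -/
theorem key {e x : V} (he : AC ρ Om A e) (hx : x ∈ Om) (hn : Near ρ Om e x) {κ : Dual (ZMod 2) V}
    (hκ : Fn ρ x κ) : κ z = κ e := by
  obtain ⟨heO, φ, hne, h⟩ := he
  rcases z2 (φ x) with h0 | h0
  · by_cases hxe : x = e
    · subst hxe
      obtain ⟨d, hd, h1⟩ := q.sys.exists_one hne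
      exact q.key3 hx h hd h1 hx (q.sys.symm hx hd ⟨φ, h.fn, h1⟩) h0 hκ
    obtain ⟨d, hd, h1, h2⟩ : ∃ d ∈ Om, φ d = 1 ∧ TV.Adj ρ d x := by
      rcases q.sys.small_or_big with hs | hb
      · obtain ⟨v, hv, ⟨ψ, hψ, h3⟩, h4⟩ := hn
        rw [← hs e heO ψ φ hψ h.fn (dual_ne_zero h3) hne]
        exact ⟨v, hv, h3, h4⟩
      · obtain ⟨d, hd, h1⟩ := q.sys.exists_one hne
        refine ⟨d, hd, h1, q.sys.adj_of_near hb hd hx ?_ ?_⟩
        · rintro rfl
          rw [h1] at h0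
          exact one_ne_zero h0
        · exact q.sys.near_trans hd heO hx (q.sys.near_symm heO hd (q.sys.near_of_adj heO hd ⟨φ, h.fn, h1⟩)) hn
    exact q.key3 heO h hd h1 hx h2 h0 hκ
  · exact q.key2 heO h hx h0 hκ

theorem kill {x y : V} (hx : x ∈ Om) (hy : y ∈ Om) (h : ¬ Near ρ Om x y) {κ : Dual (ZMod 2) V} (hκ : Fn ρ x κ) :
    κ y = 0 := z2_ne_one fun h1 => h (q.sys.near_of_adj hx hy ⟨κ, hκ, h1⟩)

theorem near_s {e x : V} (s : H) (h : Near ρ Om e x) : Near ρ Om (ρ s e) (ρ s x) := Sys.Near.conj q.sys h s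

/-- **Every class contains the centre of a transvection in `A`.** -/
theorem exists_ac {e x : V} (he : AC ρ Om A e) (hx : x ∈ Om) : ∃ e', AC ρ Om A e' ∧ Near ρ Om e' x := by
  obtain ⟨heO, _⟩ := id he
  by_contra hcon
  have hfar : ∀ s ∈ S, ¬ Near ρ Om (ρ s e) x := fun s hs h => hcon ⟨_, q.ac_conj he (q.Sz s hs), h⟩
  let T1 : Set V := {y | y ∈ Om ∧ ∃ s ∈ S, Near ρ Om (ρ s e) y}
  let T2 : Set V := {y | y ∈ Om ∧ ∀ s ∈ S, ¬ Near ρ Om (ρ s e) y}
  have hT1 : ∀ s ∈ S, ∀ y ∈ T1, ρ s y ∈ T1 := by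
    rintro s hs y ⟨hy, t, ht, hn⟩
    refine ⟨q.sys.inv s y hy, s * t, S.mul_mem hs ht, ?_⟩
    rw [rmul]
    exact q.near_s s hn
  have hT2 : ∀ s ∈ S, ∀ y ∈ T2, ρ s y ∈ T2 := by
    rintro s hs y ⟨hy, hn⟩
    refine ⟨q.sys.inv s y hy, fun t ht h => hn (s⁻¹ * t) (S.mul_mem (S.inv_mem hs) ht) ?_⟩
    have h1 := q.near_s s⁻¹ h
    rwa [rinv, ← rmul] at h1
  have hinv : ∀ T : Set V, (∀ s ∈ S, ∀ y ∈ T, ρ s y ∈ T) → ∀ s ∈ S, ∀ u ∈ Submodule.span (ZMod 2) T,
      ρ s u ∈ Submodule.span (ZMod 2) T := by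
    intro T hT s hs u hu
    have h1 : Submodule.span (ZMod 2) T ≤ (Submodule.span (ZMod 2) T).comap (ρ s).toLinearMap :=
      Submodule.span_le.2 fun y hy => Submodule.subset_span (hT s hs y hy)
    exact h1 hu
  have hne : ∀ T : Set V, T ⊆ Om → T.Nonempty → Submodule.span (ZMod 2) T ≠ ⊥ := by
    rintro T hT ⟨y, hy⟩ h
    have h1 : y ∈ Submodule.span (ZMod 2) T := Submodule.subset_span hy
    rw [h, Submodule.mem_bot] at h1
    exact q.sys.ne_zero (hT hy) h1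
  have hz1 : z ∈ Submodule.span (ZMod 2) T1 :=
    q.fix _ (hne T1 (fun y hy => hy.1) ⟨e, heO, 1, S.one_mem, by rw [rone]; exact q.sys.near_refl heO⟩) (hinv T1 hT1)
  have hz2 : z ∈ Submodule.span (ZMod 2) T2 :=
    q.fix _ (hne T2 (fun y hy => hy.1) ⟨x, hx, hfar⟩) (hinv T2 hT2)
  have hrad : z ∈ Sys.rad ρ Om := by
    intro r hr κ hκ
    by_cases h1 : r ∈ T1
    · have h2 : Submodule.span (ZMod 2) T2 ≤ LinearMap.ker κ := by
        refine Submodule.span_le.2 ?_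
        rintro y ⟨hy, hy2⟩
        obtain ⟨_, s, hs, hn⟩ := h1
        exact q.kill hr hy (fun h => hy2 s hs (q.sys.near_trans (q.sys.inv s e heO) hr hy hn h)) hκ
      exact h2 hz2
    · have h2 : Submodule.span (ZMod 2) T1 ≤ LinearMap.ker κ := by
        refine Submodule.span_le.2 ?_
        rintro y ⟨hy, s, hs, hn⟩
        exact q.kill hr hy (fun h => h1 ⟨hr, s, hs,
          q.sys.near_trans (q.sys.inv s e heO) hy hr hn (q.sys.near_symm hr hy h)⟩) hκ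
      exact h2 hz1
  rw [q.rad_bot, Submodule.mem_bot] at hrad
  -- `z = 0`: then every submodule is fine; contradiction with `key1`
  obtain ⟨φ, hφ0, hφ⟩ := he.2
  obtain ⟨d, hd, h1⟩ := q.sys.exists_one hφ0
  obtain ⟨κ, hκ, h2⟩ := q.sys.symm heO hd ⟨φ, hφ.fn, h1⟩
  have h3 := q.key1 hφ hκ h1 h2
  rw [hrad, map_zero] at h3
  exact zero_ne_one h3

/-- The component of `ρ h z` in the block of `x` is a point. -/
theorem exists_comp {e x : V} (he : AC ρ Om A e) (hx : x ∈ Om) (h : H) :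
    ∃ p ∈ Om, Near ρ Om x p ∧ ∀ y ∈ Om, Near ρ Om x y → ∀ κ, Fn ρ y κ → κ (ρ h z) = κ p := by
  obtain ⟨e', he', hn⟩ := q.exists_ac he (q.sys.inv h⁻¹ x hx)
  have h1 := q.near_s h hn
  rw [rinv'] at h1
  have hp := q.sys.inv h e' he'.1
  refine ⟨ρ h e', hp, q.sys.near_symm hp hx h1, fun y hy hxy κ hκ => ?_⟩
  have h2 := q.near_s h⁻¹ (q.sys.near_trans hp hx hy h1 hxy)
  rw [rinv] at h2
  have h3 := q.key he' (q.sys.inv h⁻¹ y hy) h2 (hκ.conj h⁻¹)
  simpa using h3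

/-! ### several axes for one centre -/

theorem gl_all (hb : Big ρ Om) {e : V} (he : AC ρ Om A e) {ψ : Dual (ZMod 2) V} (hψ : Fn ρ e ψ) :
    FnA ρ A e ψ := by
  obtain ⟨heO, φ, hne, h⟩ := id he
  by_cases h0 : ψ = 0
  · subst h0
    exact ⟨rfl, 1, A.one_mem, fun x => by simp⟩
  obtain ⟨d, hd, h1, h2⟩ : ∃ d ∈ Om, φ d = 1 ∧ ψ d = 1 := by
    obtain ⟨x, hx, hx1⟩ := q.sys.exists_one hne
    obtain ⟨y, hy, hy1⟩ := q.sys.exists_one h0
    rcases z2 (ψ x) with a | a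
    · rcases z2 (φ y) with b | b
      · refine ⟨x + y, ?_, by rw [map_add, hx1, b, add_zero], by rw [map_add, hy1, a, zero_add]⟩
        have hxy : x ≠ y := by
          rintro rfl
          rw [a] at hy1
          exact zero_ne_one hy1
        have hn : Near ρ Om x y := q.sys.near_trans hx heO hy
          (q.sys.near_symm heO hx (q.sys.near_of_adj heO hx ⟨φ, h.fn, hx1⟩)) (q.sys.near_of_adj heO hy ⟨ψ, hψ, hy1⟩)
        have h3 := q.sys.add_mem hy (q.sys.adj_of_near hb hx hy hxy hn)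
        rwa [add_comm] at h3
      · exact ⟨y, hy, b, hy1⟩
    · exact ⟨x, hx, hx1, a⟩
  have h3 : Fn ρ e (φ + ψ) := h.fn.add hψ
  have h4 : Fn ρ d (φ + ψ) := q.sys.fn_of_adj heO hd ⟨φ, h.fn, h1⟩ h3 (by
    rw [LinearMap.add_apply, h1, h2]; exact z2_add_self 1)
  have h5 : (φ + ψ) z = 0 := by
    rw [q.key he heO (q.sys.near_refl heO) h3]
    exact h3.1
  have h6 := q.fnA_cc h h4 h5
  rw [h3.1, zero_smul, add_zero, h1, one_smul, ← add_assoc] at h6
  have h7 : φ + φ = 0 := LinearMap.ext fun x => z2_add_self _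
  rwa [h7, zero_add] at h6

/-- **`GL` is impossible** if `A` fixes some `ρ h z ≠ z`. -/
theorem gl_false (hb : Big ρ Om) {e : V} (he : AC ρ Om A e) {h : H} (hne : ρ h z ≠ z)
    (hA : ∀ a ∈ A, ρ a (ρ h z) = ρ h z) : False := by
  obtain ⟨x, hx, κ, hκ, h1⟩ := q.exists_fn_ne hne
  obtain ⟨e', he', hn⟩ := q.exists_ac he hx
  obtain ⟨p, hp, hep, hpp⟩ := q.exists_comp he he'.1 h
  have h2 : e' ≠ p := by
    rintro rfl
    apply h1
    rw [hpp x hx hn κ hκ, q.key he' hx hn hκ]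
  obtain ⟨ψ, hψ, h3⟩ := q.sys.adj_of_near hb he'.1 hp h2 hep
  obtain ⟨_, a, ha, ha'⟩ := q.gl_all hb he' hψ
  have h4 := hA a ha
  rw [ha', hpp e' he'.1 (q.sys.near_refl he'.1) ψ hψ, h3, one_smul] at h4
  exact q.sys.ne_zero he'.1 (by simpa using h4)

/-! ### one axis for every centre -/

end QS

/-- the centres in the block of `e` -/
def Xb (ρ : H →* (V ≃ₗ[ZMod 2] V)) (Om : Set V) (e : V) : Set V := {x | x ∈ Om ∧ Near ρ Om e x}

/-- the block of `e` -/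
def Nb (ρ : H →* (V ≃ₗ[ZMod 2] V)) (Om : Set V) (e : V) : Submodule (ZMod 2) V := Submodule.span (ZMod 2) (Xb ρ Om e)

theorem z2_mul_self (a : ZMod 2) : a * a = a := by revert a; decide

namespace QS

variable (q : QS ρ Om A S z) [Finite V]

include q

variable {f : V →ₗ[ZMod 2] V →ₗ[ZMod 2] ZMod 2} {e : V}

theorem Xb_self (he : e ∈ Om) : e ∈ Xb ρ Om e := ⟨he, q.sys.near_refl he⟩

theorem Xb_Nb {x : V} (hx : x ∈ Xb ρ Om e) : x ∈ Nb ρ Om e := Submodule.subset_span hx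

theorem sp_near (hf : Frm ρ Om f) {x y : V} (hx : x ∈ Om) (hy : y ∈ Om) (h : f x y = 1) : Near ρ Om x y :=
  q.sys.near_of_adj hx hy ((hf.adj_iff hx).2 h)

theorem Xb_add (hf : Frm ρ Om f) (he : e ∈ Om) {x y : V} (hx : x ∈ Xb ρ Om e) (hy : y ∈ Xb ρ Om e) (h : f x y = 1) :
    x + y ∈ Xb ρ Om e := by
  have h1 : x + y ∈ Om := hf.add_mem q.sys hx.1 hy.1 h
  refine ⟨h1, q.sys.near_trans he hx.1 h1 hx.2 (q.sp_near hf hx.1 h1 ?_)⟩
  rw [map_add, hf.alt, h, zero_add]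

theorem sp_z (hf : Frm ρ Om f) (he : AC ρ Om A e) {x : V} (hx : x ∈ Xb ρ Om e) : f x z = f x e :=
  q.key he hx.1 hx.2 (hf.fn x hx.1)

theorem sp_tv (hf : Frm ρ Om f) (he : AC ρ Om A e) : ∃ t ∈ A, ∀ x, ρ t x = x + f e x • e := by
  obtain ⟨heO, φ, hne, h⟩ := he
  obtain ⟨_, t, htA, ht⟩ := id h
  have h1 := hf.uniq e heO φ hne h.fn
  rw [h1] at ht
  exact ⟨t, htA, ht⟩

theorem sp_perp (hf : Frm ρ Om f) (he : AC ρ Om A e) {n : V} (hn : n ∈ Nb ρ Om e) : f n (e + z) = 0 := by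
  have h1 : Nb ρ Om e ≤ LinearMap.ker (f.flip (e + z)) := by
    refine Submodule.span_le.2 fun x hx => ?_
    show f x (e + z) = 0
    rw [map_add, q.sp_z hf he hx]
    exact z2_add_self _
  exact h1 hn

theorem sp_ex (hf : Frm ρ Om f) (he : e ∈ Om) : ∃ x ∈ Xb ρ Om e, f x e = 1 := by
  obtain ⟨x, hx, h⟩ := q.sys.exists_one (hf.ne e he)
  exact ⟨x, ⟨hx, q.sp_near hf he hx h⟩, by rw [hf.comm]; exact h⟩

/-- every `p + c₂ + ⋯ + c_k` is a conjugate of `z` -/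
theorem sp_pt (hf : Frm ρ Om f) (he : AC ρ Om A e) {p : V} (hp : p ∈ Xb ρ Om e) : ∃ h : H, ρ h z = p + (e + z) := by
  obtain ⟨hpO, v, hv, h1, h2⟩ := hp
  have h1' := (hf.adj_iff he.1).1 h1
  have h2' := (hf.adj_iff hv).1 h2
  have hve : f v e = 1 := by rw [hf.comm]; exact h1'
  have hpv : f p v = 1 := by rw [hf.comm]; exact h2'
  have hvX : v ∈ Xb ρ Om e := ⟨hv, q.sp_near hf he.1 hv h1'⟩
  have hpX : p ∈ Xb ρ Om e := ⟨hpO, v, hv, h1, h2⟩
  have hevX : e + v ∈ Xb ρ Om e := q.Xb_add hf he.1 (q.Xb_self he.1) hvX h1'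
  have hvpX : v + p ∈ Xb ρ Om e := q.Xb_add hf he.1 hvX hpX h2'
  obtain ⟨_, g, hg⟩ := hf.fn _ hevX.1
  obtain ⟨_, k, hk⟩ := hf.fn _ hvpX.1
  refine ⟨k * g, ?_⟩
  have hz : z = e + (e + z) := by rw [self_add_add]
  have e1 : ρ g z = v + (e + z) := by
    conv_lhs => rw [hz]
    rw [map_add, hg e, hg (e + z), q.sp_perp hf he (q.Xb_Nb hevX), zero_smul, add_zero]
    have e2 : f (e + v) e = 1 := by rw [map_add, LinearMap.add_apply, hf.alt, hve, zero_add]
    rw [e2, one_smul, self_add_add]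
  rw [rmul, e1, map_add, hk v, hk (e + z), q.sp_perp hf he (q.Xb_Nb hvpX), zero_smul, add_zero]
  have e3 : f (v + p) v = 1 := by rw [map_add, LinearMap.add_apply, hf.alt, hpv, zero_add]
  rw [e3, one_smul, self_add_add]

theorem sp_rad (hf : Frm ρ Om f) {v : V} (h : ∀ s ∈ Om, f s v = 0) : v = 0 := by
  have h1 : v ∈ Sys.rad ρ Om := by
    intro s hs φ hφ
    by_cases h0 : φ = 0
    · rw [h0]; rfl
    · rw [hf.uniq s hs φ h0 hφ]; exact h s hs
  rw [q.rad_bot, Submodule.mem_bot] at h1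
  exact h1

theorem sp_orth (hf : Frm ρ Om f) (he : e ∈ Om) {n w : V} (hn : n ∈ Nb ρ Om e) (hw : w ∈ Om)
    (h : w ∉ Xb ρ Om e) : f w n = 0 := by
  have h1 : Nb ρ Om e ≤ LinearMap.ker (f w) := by
    refine Submodule.span_le.2 fun x hx => ?_
    show f w x = 0
    refine z2_ne_one fun h2 => h ⟨hw, q.sys.near_trans he hx.1 hw hx.2 (q.sp_near hf hx.1 hw ?_)⟩
    rw [hf.comm]
    exact h2
  exact h1 hn

theorem sp_nd (hf : Frm ρ Om f) (he : e ∈ Om) {x : V} (hx : x ∈ Nb ρ Om e)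
    (h : ∀ n ∈ Nb ρ Om e, f n e = 0 → f x n = 0) : x = 0 ∨ x = e := by
  obtain ⟨y, hy, hye⟩ := q.sp_ex hf he
  have hall : ∀ v ∈ Nb ρ Om e, (∀ n ∈ Nb ρ Om e, f n e = 0 → f v n = 0) → f v y = 0 → v = 0 := by
    intro v hv h1 h2
    refine q.sp_rad hf fun s hs => ?_
    by_cases hsX : s ∈ Xb ρ Om e
    · rw [hf.comm]
      rcases z2 (f s e) with h3 | h3
      · exact h1 s (q.Xb_Nb hsX) h3
      · have h4 := h1 (s + y) ((Nb ρ Om e).add_mem (q.Xb_Nb hsX) (q.Xb_Nb hy)) (by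
          rw [map_add, LinearMap.add_apply, h3, hye]; exact z2_add_self 1)
        rwa [map_add, h2, add_zero] at h4
    · exact q.sp_orth hf he hv hs hsX
  rcases z2 (f x y) with h2 | h2
  · exact Or.inl (hall x hx h h2)
  · right
    refine v_eq_of_add (hall (x + e) ((Nb ρ Om e).add_mem hx (q.Xb_Nb (q.Xb_self he))) ?_ ?_)
    · intro n hn hne
      rw [map_add, LinearMap.add_apply, h n hn hne, hf.comm e n, hne, add_zero]
    · rw [map_add, LinearMap.add_apply, h2, hf.comm e y, hye]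
      exact z2_add_self 1

theorem sp_span (hf : Frm ρ Om f) (he : e ∈ Om) {n : V} (hn : n ∈ Nb ρ Om e) (h : f n e = 0) :
    n ∈ Submodule.span (ZMod 2) {x | x ∈ Xb ρ Om e ∧ f x e = 0} := by
  obtain ⟨y, hy, hye⟩ := q.sp_ex hf he
  set Q := Submodule.span (ZMod 2) {x | x ∈ Xb ρ Om e ∧ f x e = 0} with hQ
  have heQ : e ∈ Q := Submodule.subset_span ⟨q.Xb_self he, hf.alt e⟩
  have h1 : ∀ x ∈ Xb ρ Om e, f x e = 1 → x + y ∈ Q := by
    intro x hx hxe
    rcases z2 (f x y) with h2 | h2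
    · have h3 : y + e ∈ Xb ρ Om e := q.Xb_add hf he hy (q.Xb_self he) hye
      have h4 : x + (y + e) ∈ Xb ρ Om e := q.Xb_add hf he hx h3 (by rw [map_add, h2, hxe, zero_add])
      have h5 : x + (y + e) ∈ Q := Submodule.subset_span ⟨h4, by
        rw [map_add, map_add, LinearMap.add_apply, LinearMap.add_apply, hf.alt, hxe, hye, add_zero]
        exact z2_add_self 1⟩
      have h6 := Q.add_mem h5 heQ
      rwa [← add_assoc, add_add_self] at h6
    · exact Submodule.subset_span ⟨q.Xb_add hf he hx hy h2, by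
        rw [map_add, LinearMap.add_apply, hxe, hye]; exact z2_add_self 1⟩
  have h2 : ∀ n ∈ Nb ρ Om e, (f n e = 0 ∧ n ∈ Q) ∨ (f n e = 1 ∧ n + y ∈ Q) := by
    intro n hn
    induction hn using Submodule.span_induction with
    | mem x hx =>
      rcases z2 (f x e) with h3 | h3
      · exact Or.inl ⟨h3, Submodule.subset_span ⟨hx, h3⟩⟩
      · exact Or.inr ⟨h3, h1 x hx h3⟩
    | zero => exact Or.inl ⟨by rw [map_zero]; rfl, Q.zero_mem⟩
    | add a b _ _ ha hb =>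
      rw [map_add, LinearMap.add_apply]
      rcases ha with ⟨ha, ha'⟩ | ⟨ha, ha'⟩ <;> rcases hb with ⟨hb, hb'⟩ | ⟨hb, hb'⟩
      · exact Or.inl ⟨by rw [ha, hb, add_zero], Q.add_mem ha' hb'⟩
      · exact Or.inr ⟨by rw [ha, hb, zero_add], by rw [add_assoc]; exact Q.add_mem ha' hb'⟩
      · refine Or.inr ⟨by rw [ha, hb, add_zero], ?_⟩
        have := Q.add_mem ha' hb'
        rwa [add_right_comm] at this
      · refine Or.inl ⟨by rw [ha, hb]; exact z2_add_self 1, ?_⟩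
        have h3 := Q.add_mem ha' hb'
        have h4 : a + y + (b + y) = a + b + (y + y) := by abel
        rwa [h4, v_add_self, add_zero] at h3
    | smul c a _ ha =>
      rcases z2 c with rfl | rfl
      · exact Or.inl ⟨by rw [zero_smul, map_zero]; rfl, by rw [zero_smul]; exact Q.zero_mem⟩
      · rwa [one_smul]
  rcases h2 n hn with h3 | h3
  · exact h3.2
  · rw [h] at h3
    exact absurd h3.1 zero_ne_one

/-- some block has dimension `> 2` -/
theorem sp_big (hf : Frm ρ Om f) (he : AC ρ Om A e) {h : H} (hne : ρ h z ≠ z)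
    (hA : ∀ a ∈ A, ρ a (ρ h z) = ρ h z) :
    ∃ e', AC ρ Om A e' ∧ ∃ p ∈ Xb ρ Om e', f p e' = 0 ∧ p ≠ e' := by
  obtain ⟨x, hx, κ, hκ, h1⟩ := q.exists_fn_ne hne
  obtain ⟨e', he', hn⟩ := q.exists_ac he hx
  obtain ⟨p, hp, hep, hpp⟩ := q.exists_comp he he'.1 h
  refine ⟨e', he', p, ⟨hp, hep⟩, ?_, ?_⟩
  · obtain ⟨a, ha, ha'⟩ := q.sp_tv hf he'
    have h4 := hA a ha
    rw [ha', hpp e' he'.1 (q.sys.near_refl he'.1) _ (hf.fn e' he'.1)] at h4
    have h5 : f e' p • e' = 0 := by simpa using h4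
    rw [hf.comm]
    exact (smul_eq_zero.1 h5).resolve_right (q.sys.ne_zero he'.1)
  · rintro rfl
    apply h1
    rw [hpp x hx hn κ hκ, q.key he' hx hn hκ]

/-! ### the action of `A` on the block of `e` -/

theorem sp_fix_e (hf : Frm ρ Om f) (he : AC ρ Om A e) {a : H} (ha : a ∈ A) : ρ a e = e := by
  obtain ⟨t, ht, ht'⟩ := q.sp_tv hf he
  obtain ⟨v, _, hv⟩ := q.sys.exists_one (hf.ne e he.1)
  have h1 := q.quad a ha t ht v
  have h2 : ρ t v + v = e := by rw [ht', hv, one_smul, add_comm v, add_add_self]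
  rwa [h2] at h1

theorem Xb_inv {g : H} (hg : ρ g e = e) {x : V} (hx : x ∈ Xb ρ Om e) : ρ g x ∈ Xb ρ Om e := by
  have h1 := q.near_s g hx.2
  rw [hg] at h1
  exact ⟨q.sys.inv g x hx.1, h1⟩

theorem Nb_inv {g : H} (hg : ρ g e = e) {n : V} (hn : n ∈ Nb ρ Om e) : ρ g n ∈ Nb ρ Om e := by
  have h1 : Nb ρ Om e ≤ (Nb ρ Om e).comap (ρ g).toLinearMap :=
    Submodule.span_le.2 fun y hy => q.Xb_Nb (q.Xb_inv hg hy)
  exact h1 hn

/-- `[a, t_p] ∈ A` -/
theorem sp_comm (hf : Frm ρ Om f) (he : AC ρ Om A e) {a : H} (ha : a ∈ A) {p : V} (hp : p ∈ Xb ρ Om e)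
    (hpe : f p e = 0) : ∃ b ∈ A, ∀ x, ρ b x = x + f p x • p + f (ρ a p) (x + f p x • p) • ρ a p := by
  obtain ⟨h0, g, hg⟩ := hf.fn p hp.1
  have hgz : ρ g z = z := by rw [hg, q.sp_z hf he hp, hpe, zero_smul, add_zero]
  refine ⟨a * (g * a⁻¹ * g⁻¹), A.mul_mem ha (q.nA g hgz _ (A.inv_mem ha)), fun x => ?_⟩
  have h1 : ∀ y, ρ a (ρ g (ρ a⁻¹ y)) = y + f (ρ a p) y • ρ a p := by
    intro y
    have h2 : f (ρ a p) y = f p (ρ a⁻¹ y) := by
      conv_lhs => rw [← rinv' (ρ := ρ) a y]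
      rw [hf.inv]
    rw [hg, map_add, rinv', map_smul, h2]
  rw [rmul, rmul, rmul, rho_inv_of h0 hg, h1]

theorem sp_pp (hf : Frm ρ Om f) (he : AC ρ Om A e) {a : H} (ha : a ∈ A) {p : V} (hp : p ∈ Xb ρ Om e)
    (hpe : f p e = 0) : f p (ρ a p) = 0 := by
  by_contra hcon
  have h1 := z2_ne_zero hcon
  have h1' : f (ρ a p) p = 1 := by rw [hf.comm]; exact h1
  obtain ⟨b, hb, hb'⟩ := q.sp_comm hf he ha hp hpe
  have h2 := q.quad b hb b hb p
  have h3 : ρ b p + p = ρ a p := by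
    rw [hb', hf.alt, zero_smul, add_zero, h1', one_smul, add_comm p, add_add_self]
  rw [h3, hb', h1, one_smul, map_add, hf.alt, h1', zero_add, one_smul, add_comm (ρ a p), add_add_self] at h2
  rw [← h2, hf.alt] at h1
  exact zero_ne_one h1

theorem sp_move (hf : Frm ρ Om f) (he : AC ρ Om A e) {a : H} (ha : a ∈ A) {p : V} (hp : p ∈ Xb ρ Om e)
    (hpe : f p e = 0) : ρ a p + p = 0 ∨ ρ a p + p = e := by
  have hae := q.sp_fix_e hf he ha
  have hpX := q.Xb_inv hae hp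
  refine q.sp_nd hf he.1 ((Nb ρ Om e).add_mem (q.Xb_Nb hpX) (q.Xb_Nb hp)) fun n hn hne => ?_
  have h1 : Submodule.span (ZMod 2) {x | x ∈ Xb ρ Om e ∧ f x e = 0} ≤ LinearMap.ker (f (ρ a p + p)) := by
    refine Submodule.span_le.2 ?_
    rintro r ⟨hr, hre⟩
    show f (ρ a p + p) r = 0
    obtain ⟨b, hb, hb'⟩ := q.sp_comm hf he ha hp hpe
    have h2 := q.sp_pp hf he hb hr hre
    have h3 : f (ρ a p) p = 0 := by rw [hf.comm]; exact q.sp_pp hf he ha hp hpe
    rw [hb'] at h2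
    simp only [map_add, map_smul, hf.alt, h3, smul_eq_mul, mul_zero, add_zero, zero_add] at h2
    rw [hf.comm r p, hf.comm r (ρ a p), z2_mul_self, z2_mul_self] at h2
    rw [map_add, LinearMap.add_apply, add_comm]
    exact h2
  exact h1 (q.sp_span hf he.1 hn hne)

theorem sp_lam (hf : Frm ρ Om f) (he : AC ρ Om A e) {a : H} (ha : a ∈ A) {y n : V} (hye : f y e = 1)
    (hn : n ∈ Nb ρ Om e) (hne : f n e = 0) : ρ a n = n + f n (ρ a y + y) • e := by
  have hae := q.sp_fix_e hf he ha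
  have h1 : Submodule.span (ZMod 2) {x | x ∈ Xb ρ Om e ∧ f x e = 0} ≤
      (Submodule.span (ZMod 2) {e}).comap ((ρ a).toLinearMap + LinearMap.id) := by
    refine Submodule.span_le.2 ?_
    rintro r ⟨hr, hre⟩
    show ρ a r + r ∈ Submodule.span (ZMod 2) {e}
    rcases q.sp_move hf he ha hr hre with h2 | h2
    · rw [h2]; exact Submodule.zero_mem _
    · rw [h2]; exact Submodule.subset_span rfl
  have h2 : ρ a n + n ∈ Submodule.span (ZMod 2) {e} := h1 (q.sp_span hf he.1 hn hne)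
  obtain ⟨l, hl⟩ := Submodule.mem_span_singleton.1 h2
  have h3 : ρ a n = n + l • e := by rw [hl, add_comm (ρ a n), self_add_add]
  have hw : f e (ρ a y + y) = 0 := by
    have h4 : f e (ρ a y) = f e y := by
      conv_lhs => rw [← hae]
      rw [hf.inv]
    rw [map_add, h4]
    exact z2_add_self _
  have h4 : f (ρ a n) (ρ a y) = f n y := hf.inv a n y
  have h5 : ρ a y = y + (ρ a y + y) := by rw [add_comm (ρ a y), self_add_add]
  rw [h5, h3] at h4
  simp only [map_add, LinearMap.add_apply, map_smul, LinearMap.smul_apply, smul_eq_mul] at h4 hw ⊢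
  rw [hf.comm e y, hye] at h4 hw
  have h6 : f e (ρ a y) = 1 := by
    rcases z2 (f e (ρ a y)) with h | h
    · rw [h, zero_add] at hw
      exact absurd hw one_ne_zero
    · exact h
  rw [h3]
  rw [h6] at h4
  have h7 : l = f n (ρ a y) + f n y := by
    rcases z2 l with h | h <;> rcases z2 (f n (ρ a y)) with h' | h' <;> rcases z2 (f n y) with h'' | h'' <;>
      rw [h, h', h''] at h4 ⊢ <;> revert h4 <;> decide
  rw [h7]

theorem sp_ww (hf : Frm ρ Om f) (he : AC ρ Om A e) {a b : H} (ha : a ∈ A) (hb : b ∈ A) {y : V}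
    (hy : y ∈ Nb ρ Om e) (hye : f y e = 1) : f (ρ b y + y) (ρ a y + y) = 0 := by
  have hbe := q.sp_fix_e hf he hb
  have h0 : f (ρ b y + y) e = 0 := by
    have h4 : f (ρ b y) e = f y e := by
      conv_lhs => rw [← hbe]
      rw [hf.inv]
    rw [map_add, LinearMap.add_apply, h4]
    exact z2_add_self _
  have h1 := q.sp_lam hf he ha hye ((Nb ρ Om e).add_mem (q.Nb_inv hbe hy) hy) h0
  rw [q.quad a ha b hb y] at h1
  have h2 : f (ρ b y + y) (ρ a y + y) • e = 0 := by simpa using h1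
  exact (smul_eq_zero.1 h2).resolve_right (q.sys.ne_zero he.1)

theorem sp_pw (hf : Frm ρ Om f) (he : AC ρ Om A e) {a : H} (ha : a ∈ A) {y p : V}
    (hy : y ∈ Nb ρ Om e) (hye : f y e = 1) (hp : p ∈ Xb ρ Om e) (hpe : f p e = 0) : f p (ρ a y + y) = 0 := by
  have hae := q.sp_fix_e hf he ha
  obtain ⟨h0, g, hg⟩ := hf.fn p hp.1
  have hgz : ρ g z = z := by rw [hg, q.sp_z hf he hp, hpe, zero_smul, add_zero]
  have hb := q.nA g hgz a ha
  set w := ρ a y + y with hw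
  have h1 : ρ a y = y + w := by rw [hw, add_comm (ρ a y), self_add_add]
  have h2 : ρ a p = p + f p w • e := q.sp_lam hf he ha hye (q.Xb_Nb hp) hpe
  have h3 : ρ (g * a * g⁻¹) y + y = w + f p w • p + (f p y * f p w) • e := by
    rw [rmul, rmul, rho_inv_of h0 hg, map_add, map_smul, h1, h2, hg]
    simp only [map_add, map_smul, h0, hpe, smul_eq_mul, mul_zero, add_zero, add_smul, smul_add, smul_smul]
    have e1 : f p y • p + f p y • p = 0 := v_add_self _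
    have e2 : y + y = 0 := v_add_self _
    calc y + w + (f p y • p + (f p y * f p w) • e) + (f p y • p + f p w • p) + y
        = w + f p w • p + (f p y * f p w) • e + (f p y • p + f p y • p) + (y + y) := by abel
      _ = w + f p w • p + (f p y * f p w) • e := by rw [e1, e2, add_zero, add_zero]
  have h4 := q.sp_ww hf he ha hb hy hye
  have hwe : f e w = 0 := by
    have h5 : f e (ρ a y) = f e y := by
      conv_lhs => rw [← hae]
      rw [hf.inv]
    rw [hw, map_add, h5]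
    exact z2_add_self _
  rw [h3] at h4
  change f _ w = 0 at h4
  simp only [map_add, map_smul, LinearMap.add_apply, LinearMap.smul_apply, hf.alt, hwe, smul_eq_mul, mul_zero,
    zero_add, add_zero] at h4
  rwa [z2_mul_self] at h4

/-- **(4)** -/
theorem sp_w (hf : Frm ρ Om f) (he : AC ρ Om A e) {a : H} (ha : a ∈ A) {y : V}
    (hy : y ∈ Nb ρ Om e) (hye : f y e = 1) : ρ a y + y = 0 ∨ ρ a y + y = e := by
  have hae := q.sp_fix_e hf he ha
  refine q.sp_nd hf he.1 ((Nb ρ Om e).add_mem (q.Nb_inv hae hy) hy) fun n hn hne => ?_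
  have h1 : Submodule.span (ZMod 2) {x | x ∈ Xb ρ Om e ∧ f x e = 0} ≤ LinearMap.ker (f (ρ a y + y)) := by
    refine Submodule.span_le.2 ?_
    rintro r ⟨hr, hre⟩
    show f (ρ a y + y) r = 0
    rw [hf.comm]
    exact q.sp_pw hf he ha hy hye hr hre
  exact h1 (q.sp_span hf he.1 hn hne)

/-- `A` centralises `e^⊥` in the block of `e` -/
theorem sp_cen (hf : Frm ρ Om f) (he : AC ρ Om A e) {a : H} (ha : a ∈ A) {n : V}
    (hn : n ∈ Nb ρ Om e) (hne : f n e = 0) : ρ a n = n := by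
  obtain ⟨y, hy, hye⟩ := q.sp_ex hf he.1
  have h1 := q.sp_lam hf he ha hye hn hne
  rcases q.sp_w hf he ha (q.Xb_Nb hy) hye with h2 | h2
  · rwa [h2, map_zero, zero_smul, add_zero] at h1
  · rwa [h2, hne, zero_smul, add_zero] at h1

/-- `[N, A] ≤ ⟨e⟩` for the block `N` of `e` -/
theorem sp_act (hf : Frm ρ Om f) (he : AC ρ Om A e) {a : H} (ha : a ∈ A) {n : V}
    (hn : n ∈ Nb ρ Om e) : ρ a n = n ∨ ρ a n = n + e := by
  rcases z2 (f n e) with h | h
  · exact Or.inl (q.sp_cen hf he ha hn h)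
  · rcases q.sp_w hf he ha hn h with h1 | h1
    · exact Or.inl (v_eq_of_add h1)
    · right
      rw [← h1, add_comm (ρ a n), self_add_add]

end QS

end Cfsg.Agent.Omega.NOThreeL.Tvb
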