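import Cfsg.Agent.Omega.NOThreeL.AdjTransvPlug
import Cfsg.Agent.Omega.NOThreeL.TvbMain

/-!
# NO-3L, piece B1, `|Z| = 2`: the plug of THEOREM TVB (helper549)

`S` a Sylow 2-subgroup, `Z = zc S` of order 2, `H`, `K` long, not (A): no element of `U_K` induces a nontrivial
transvection on `U_H`.
-/

set_option autoImplicit false

namespace Cfsg.Agent.Omega.NOThreeL.Tvb

open Subgroup Cfsg Cfsg.Agent.ZN Cfsg.Agent.Omega.MinPar Cfsg.Agent.Omega.Frame Cfsg.Agent.Omega.FrameNOFF
open Cfsg.Agent.Omega.Node.NO3L Cfsg.Agent.Omega.NOThreeL.Basic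
open Cfsg.Agent.MinSimple.VModule (zl_le le_normalizer_zl zc_le_zl zc_le mem_zc normalizer_le_normalizer_zc
  le_centralizer_zc)
open Cfsg.Agent.Omega.NOThreeL.AdjTransv (exists_z norm_le_cent exists_par adj C)

universe u

variable {G : Type u} [Group G] [Finite G] {S : Sylow 2 G}

/-- If `U_H` and `U_K` do not commute, then `K ≰ C(Z)`. -/
theorem not_le_CZ (hc : IsCharacteristicTwoType G) {H K : Subgroup G} (hH : IsLong (S : Subgroup G) H)
    (hne : ¬ zl (S : Subgroup G) H ≤ centralizer (zl (S : Subgroup G) K : Set G)) : ¬ K ≤ CZ (S : Subgroup G) := by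
  intro h
  apply hne
  have h1 : zl (S : Subgroup G) K ≤ zc (S : Subgroup G) :=
    zl_le le_rfl (h.trans (centralizer_le_normalizer _))
  refine le_trans ?_ (centralizer_le h1)
  exact (IsLong.zl_le_S hc hH).trans (le_centralizer_zc _)

/-- a conjugate `k z k⁻¹ ≠ z`, `k ∈ K`, centralised by `U_H` -/
theorem exists_line (hA : ¬ CaseA (S : Subgroup G)) (h2 : Nat.card (zc (S : Subgroup G)) = 2) {H K : Subgroup G}
    (hH : IsLong (S : Subgroup G) H) (hK : IsLong (S : Subgroup G) K) (hKC : ¬ K ≤ CZ (S : Subgroup G)) {z : G}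
    (hu : ∀ x ∈ zc (S : Subgroup G), x = 1 ∨ x = z) (hz : z ∈ zc (S : Subgroup G)) :
    ∃ k ∈ K, k * z * k⁻¹ ∈ C (zl (S : Subgroup G) H) ∧ k * z ≠ z * k := by
  obtain ⟨P, hP, hPK⟩ := exists_par h2 hK hKC
  have h1 : zl (S : Subgroup G) P ≤ centralizer (zl (S : Subgroup G) H : Set G) := by
    by_contra h
    exact hA ⟨P, H, hP, hH, h⟩
  have h3 : ∃ p ∈ P, p * z ≠ z * p := by
    by_contra hcon
    push Not at hcon
    refine hP.not_zc (le_trans (fun p hp => ?_) (centralizer_le_normalizer _))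
    rw [mem_centralizer_iff]
    intro x hx
    rcases hu x hx with rfl | rfl
    · rw [one_mul, mul_one]
    · exact (hcon p hp).symm
  obtain ⟨p, hp, hpz⟩ := h3
  exact ⟨p, hPK hp, h1 ((mem_normalizer_iff.1 (le_normalizer_zl (S : Subgroup G) P hp) z).1 (zc_le_zl _ _ hz)), hpz⟩

/-- **THEOREM TVB, plugged**: not (A), `|Z| = 2`: no element of `U_K` induces a nontrivial transvection on `U_H`. -/
theorem false_of_transvection (hc : IsCharacteristicTwoType G) (hA : ¬ CaseA (S : Subgroup G))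
    (h2 : Nat.card (zc (S : Subgroup G)) = 2) {H K : Subgroup G} (hH : IsLong (S : Subgroup G) H)
    (hK : IsLong (S : Subgroup G) K) {w e : G} (hw : w ∈ zl (S : Subgroup G) K)
    (htv : ∀ u ∈ zl (S : Subgroup G) H, w * u * w⁻¹ = u ∨ w * u * w⁻¹ = u * e)
    (hne : ∃ u ∈ zl (S : Subgroup G) H, w * u * w⁻¹ ≠ u) : False := by
  obtain ⟨z, hz, hz1, hu⟩ := exists_z h2
  have hHK : ¬ zl (S : Subgroup G) H ≤ centralizer (zl (S : Subgroup G) K : Set G) := by
    intro h
    obtain ⟨u, hu', h3⟩ := hne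
    apply h3
    rw [mem_centralizer_iff.1 (h hu') w hw, mul_inv_cancel_right]
  have hKH : ¬ zl (S : Subgroup G) K ≤ centralizer (zl (S : Subgroup G) H : Set G) := fun h => hHK (le_centralizer_iff.1 h)
  have d : Tvd z (zl (S : Subgroup G) H) (zl (S : Subgroup G) K) H K (S : Subgroup G) w e :=
    { adj hc hH hK hz hz1 hu with
      hw := hw
      tv := htv
      mv := hne }
  exact d.false_of (exists_line hA h2 hK hH (not_le_CZ hc hK hKH) hu hz)
    (exists_line hA h2 hH hK (not_le_CZ hc hH hHK) hu hz)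

end Cfsg.Agent.Omega.NOThreeL.Tvb
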