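import Cfsg.Agent.Omega.NOThreeL.Conn
import Cfsg.Agent.Omega.NOThreeL.Basic
import Cfsg.Agent.ZN.Block

/-!
# NO-3L, case (A): `O²(P)` is generated by `U_H` and one conjugate (#15517, helper9; referee and Lean helper52)

`S` a Sylow 2-subgroup, `P ∈ P*(S)`, `C_Z(P) = 1`, `H` long, `U = U_H`, `[V_P, U] ≠ 1`, `O = O₂(P)`,
`Y = U ∩ O = C_U(V_P)`.

* `TwoGenBy P A` : `O²(P) ≤ ⟨A, A^p⟩ O₂(P)` for some `p ∈ P`;
* `inf_centralizer_oddGen` : `C_S(O²(P)) = 1`;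
* `Set2` : the abstract situation of (2); `N = ⟨Y^P⟩ = Y × Y^p` is abelian, normal in `P`, contains `V_P`,
  `C_N(U) = Y = N ∩ U`, `[O, O²(P)] ≤ N`;
* `Set2.comm_eq` (`Y = [U, N]`), `comm_K` (`N = [O²(P), N]`), `comm_W` (`[W₁, N] ≤ Y ∩ W₁`);
* `Set2.le_of_regular`, `Set2.le_of_two` : (3a), (3b): `Y ≤ W₁` for a subgroup `W₁` of `U` normalised by `N` with
  `W₁ ≰ Y` and `C_N(w) ≤ Y` for a `w ∈ W₁ - Y`, resp. with `O²(P) ≤ ⟨W₁, W₁^g⟩ O`;
* `exists_conj` : (1), there is `g ∈ N_G(U)` with `Z^g ≤ Y` and `W^g ≰ Y`, `W = W_H`;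
* `not_regular`, `not_two` : **(3a)**, **(3b)**: case (A) is impossible under `(*)_U` and (regular or `(*)_W`).
-/

set_option autoImplicit false

namespace Cfsg.Agent.Omega.NOThreeL.TwoGen

open Subgroup Cfsg Cfsg.Agent.ZN Cfsg.Agent.Omega.MinPar Cfsg.Agent.Omega.Frame Cfsg.Agent.Omega.FrameNOFF
open Cfsg.Agent.Omega.Node.NO3L
open Cfsg.Agent.Omega.NOThreeL.Basic (DataZ PairA)
open Cfsg.Agent.Omega.NoFF.Basic (conj_conj mem_conj conj_le_iff conj_le_centralizer comm_symm comm_mono)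
open Cfsg.Agent.Omega.NoFF.LinesPlug (oddGen_sup exists_fixed normalizer_le_normalizer_centralizer')
open Cfsg.Agent.Omega.NOThreeL.Pair (conj_eq_of_mem conj_le_normalizer)
open Cfsg.Agent.MinSimple.VModule (zl_le le_normalizer_zl zc_le_zl zc_le zl_le_zc o2_isPGroup le_normalizer_o2
  mem_zc oddGen oddGen_def oddGen_le mem_oddGen oddGen_le_of_sup le_normalizer_oddGen)
open scoped Pointwise commutatorElement

universe u

variable {G : Type u} [Group G]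

/-! ### Elementary lemmas -/

theorem le_normalizer_of_conj_le {A B : Subgroup G} (h : ∀ a ∈ A, MulAut.conj a • B ≤ B) :
    A ≤ normalizer (B : Set G) :=
  le_normalizer_of fun a ha b hb => by
    refine h a ha ?_
    rw [mem_conj]
    simpa [mul_assoc] using hb

theorem inf_normalizer {A B C : Subgroup G} (h1 : A ≤ normalizer (B : Set G))
    (h2 : A ≤ normalizer (C : Set G)) : A ≤ normalizer ((B ⊓ C : Subgroup G) : Set G) :=
  le_normalizer_of fun _ ha b hb =>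
    ⟨(mem_normalizer_iff.1 (h1 ha) b).1 hb.1, (mem_normalizer_iff.1 (h2 ha) b).1 hb.2⟩

theorem comm_of_inf_eq_bot {A B : Subgroup G} (h1 : A ≤ normalizer (B : Set G))
    (h2 : B ≤ normalizer (A : Set G)) (h : A ⊓ B = ⊥) : A ≤ centralizer (B : Set G) := by
  intro a ha
  rw [mem_centralizer_iff]
  intro b hb
  have h3 : a * b * a⁻¹ * b⁻¹ ∈ A ⊓ B := by
    refine ⟨?_, mul_mem ((mem_normalizer_iff.1 (h1 ha) b).1 hb) (B.inv_mem hb)⟩
    have h4 : a * (b * a⁻¹ * b⁻¹) ∈ A := mul_mem ha ((mem_normalizer_iff.1 (h2 hb) a⁻¹).1 (A.inv_mem ha))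
    simpa [mul_assoc] using h4
  rw [h, mem_bot, mul_inv_eq_one, mul_inv_eq_iff_eq_mul] at h3
  exact h3.symm

/-- The elements of `R` centralising `O` modulo `N` form a subgroup. -/
theorem comm_mod {R N O A B : Subgroup G} (hRN : R ≤ normalizer (N : Set G)) (hA : A ≤ R) (hB : B ≤ R)
    (h1 : ∀ a ∈ A, ∀ o ∈ O, ⁅a, o⁆ ∈ N) (h2 : ∀ b ∈ B, ∀ o ∈ O, ⁅b, o⁆ ∈ N) :
    ∀ x ∈ A ⊔ B, ∀ o ∈ O, ⁅x, o⁆ ∈ N := by
  let T : Subgroup G :=
    { carrier := {x | x ∈ R ∧ ∀ o ∈ O, ⁅x, o⁆ ∈ N}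
      mul_mem' := by
        rintro x y ⟨hx, hx'⟩ ⟨hy, hy'⟩
        refine ⟨mul_mem hx hy, fun o ho => ?_⟩
        have e : ⁅x * y, o⁆ = x * ⁅y, o⁆ * x⁻¹ * ⁅x, o⁆ := by
          simp only [commutatorElement_def]
          group
        rw [e]
        exact mul_mem ((mem_normalizer_iff.1 (hRN hx) _).1 (hy' o ho)) (hx' o ho)
      one_mem' := ⟨one_mem _, fun o _ => by
        rw [commutatorElement_one_left]
        exact one_mem _⟩
      inv_mem' := by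
        rintro x ⟨hx, hx'⟩
        refine ⟨inv_mem hx, fun o ho => ?_⟩
        have e : ⁅x⁻¹, o⁆ = x⁻¹ * ⁅x, o⁆⁻¹ * x⁻¹⁻¹ := by
          simp only [commutatorElement_def]
          group
        rw [e]
        exact (mem_normalizer_iff.1 (hRN (inv_mem hx)) _).1 (inv_mem (hx' o ho)) }
  have hT : A ⊔ B ≤ T := sup_le (fun a ha => ⟨hA ha, h1 a ha⟩) fun b hb => ⟨hB hb, h2 b hb⟩
  exact fun x hx o ho => (hT hx).2 o ho

/-- `O²(P) ≤ X O` with a 2-group `O` normalising `X` gives `O²(P) ≤ X`. -/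
theorem oddGen_le_of_le_sup [Finite G] {P X O : Subgroup G} (h : oddGen P ≤ X ⊔ O)
    (hO : O ≤ normalizer (X : Set G)) (h2 : IsPGroup 2 O) : oddGen P ≤ X := by
  have h1 : oddGen (X ⊔ O) ≤ X :=
    oddGen_le_of_sup (sup_le le_normalizer hO) le_rfl le_sup_right le_sup_left h2
  rw [oddGen_def, closure_le]
  intro x hx
  exact h1 (mem_oddGen (h (mem_oddGen hx.1 hx.2)) hx.2)

/-- **(0)** `C_S(O²(P)) = 1` if `C_Z(P) = 1`. -/
theorem inf_centralizer_oddGen [Finite G] (S : Sylow 2 G) {P : Subgroup G} (hSP : (S : Subgroup G) ≤ P)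
    (h : zc (S : Subgroup G) ⊓ centralizer (P : Set G) = ⊥) :
    (S : Subgroup G) ⊓ centralizer (oddGen P : Set G) = ⊥ := by
  have h2 : Fact (Nat.Prime 2) := ⟨Nat.prime_two⟩
  by_contra hne
  have hn : (S : Subgroup G) ≤ normalizer
      (((S : Subgroup G) ⊓ centralizer (oddGen P : Set G) : Subgroup G) : Set G) :=
    inf_normalizer le_normalizer
      (hSP.trans ((le_normalizer_oddGen P).trans (normalizer_le_normalizer_centralizer' _)))
  obtain ⟨x, hx, hx1, hxS⟩ := exists_fixed S.isPGroup' inf_le_left hn hne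
  obtain ⟨y, hy⟩ := exists_prime_orderOf_dvd_card' (G := zpowers x) 2 (by
    have h3 : IsPGroup 2 (zpowers x) := S.isPGroup'.to_le ((zpowers_le).2 hx.1)
    obtain ⟨n, hn⟩ := IsPGroup.iff_card.1 h3
    rw [hn]
    refine dvd_pow_self 2 ?_
    rintro rfl
    rw [pow_zero, Nat.card_zpowers, orderOf_eq_one_iff] at hn
    exact hx1 hn)
  have hyx := zpowers_le.2 hx y.2
  have hy1 : (y : G) ≠ 1 := by
    intro h4
    rw [show y = 1 from Subtype.ext h4, orderOf_one] at hy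
    norm_num at hy
  have hyS : ∀ s ∈ (S : Subgroup G), s * (y : G) = y * s := by
    have h5 : zpowers x ≤ centralizer ((S : Subgroup G) : Set G) :=
      zpowers_le.2 (mem_centralizer_iff.2 fun s hs => hxS s hs)
    exact fun s hs => mem_centralizer_iff.1 (h5 y.2) s hs
  have h6 : (y : G) ∈ zc (S : Subgroup G) ⊓ centralizer (P : Set G) := by
    refine ⟨mem_zc.2 ⟨hyx.1, hyS, ?_⟩, ?_⟩
    · have h7 := pow_orderOf_eq_one y
      rw [hy] at h7
      exact congrArg Subtype.val h7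
    · have h8 : P ≤ centralizer ({(y : G)} : Set G) := by
        conv_lhs => rw [← oddGen_sup hSP (MinSimple.Basic.not_dvd_relIndex S hSP)]
        refine sup_le (fun z hz => ?_) (fun z hz => ?_)
        · rw [mem_centralizer_singleton_iff]
          exact mem_centralizer_iff.1 hyx.2 z hz
        · rw [mem_centralizer_singleton_iff]
          exact hyS z hz
      exact mem_centralizer_iff.2 fun z hz => mem_centralizer_singleton_iff.1 (h8 hz)
  rw [h] at h6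
  exact hy1 (mem_bot.1 h6)

/-! ### The abstract situation of (2) -/

/-- The setting of (2): `K = O²(P)`, `O = O₂(P)`, `K ≤ ⟨U, U^p⟩`. -/
structure Set2 (P S O K U : Subgroup G) (p : G) : Prop where
  hp : p ∈ P
  SP : S ≤ P
  KP : K ≤ P
  sup : P ≤ K ⊔ S
  nK : P ≤ normalizer (K : Set G)
  OS : O ≤ S
  nO : P ≤ normalizer (O : Set G)
  US : U ≤ S
  nU : S ≤ normalizer (U : Set G)
  comm : U ≤ centralizer (U : Set G)
  cen : S ⊓ centralizer (K : Set G) = ⊥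
  gen : K ≤ U ⊔ MulAut.conj p • U

/-- `N = ⟨Y^P⟩ = Y × Y^p`, `Y = U ∩ O`. -/
def NN (O U : Subgroup G) (p : G) : Subgroup G := (U ⊓ O) ⊔ MulAut.conj p • (U ⊓ O)

theorem Y_le_NN (O U : Subgroup G) (p : G) : U ⊓ O ≤ NN O U p := le_sup_left

theorem Yp_le_NN (O U : Subgroup G) (p : G) : MulAut.conj p • (U ⊓ O) ≤ NN O U p := le_sup_right

namespace Set2

variable {P S O K U : Subgroup G} {p : G} (h : Set2 P S O K U p)
include h

theorem UP : U ≤ P := h.US.trans h.SP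

theorem UpP : MulAut.conj p • U ≤ P := by
  have h1 := (conj_le_iff (g := p)).2 h.UP
  rwa [conj_eq_of_mem (le_normalizer h.hp)] at h1

theorem conj_O : MulAut.conj p • O = O := conj_eq_of_mem (h.nO h.hp)

/-- a subgroup of `S` centralised by `U` and `U^p` is trivial -/
theorem eq_bot {D : Subgroup G} (hD : D ≤ S) (h1 : U ≤ centralizer (D : Set G))
    (h2 : MulAut.conj p • U ≤ centralizer (D : Set G)) : D = ⊥ := by
  have h3 : K ≤ centralizer (D : Set G) := h.gen.trans (sup_le h1 h2)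
  exact le_bot_iff.1 (h.cen ▸ le_inf hD (comm_symm h3))

theorem comm_p : MulAut.conj p • U ≤ centralizer ((MulAut.conj p • U : Subgroup G) : Set G) :=
  conj_le_centralizer h.comm

/-- `U ∩ U^p = 1` -/
theorem inf_U : U ⊓ MulAut.conj p • U = ⊥ :=
  h.eq_bot (inf_le_left.trans h.US) (h.comm.trans (centralizer_le inf_le_left))
    (h.comm_p.trans (centralizer_le inf_le_right))

/-- `Y ∩ Y^p = 1` -/
theorem inf_Y : (U ⊓ O) ⊓ MulAut.conj p • (U ⊓ O) = ⊥ :=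
  le_bot_iff.1 (h.inf_U ▸ inf_le_inf inf_le_left (conj_le_iff.2 inf_le_left))

theorem nY : S ≤ normalizer ((U ⊓ O : Subgroup G) : Set G) := inf_normalizer h.nU (h.SP.trans h.nO)

theorem O_nY : O ≤ normalizer ((U ⊓ O : Subgroup G) : Set G) := h.OS.trans h.nY

theorem O_nYp : O ≤ normalizer ((MulAut.conj p • (U ⊓ O) : Subgroup G) : Set G) := by
  have h1 := conj_le_normalizer (g := p) h.O_nY
  rwa [h.conj_O] at h1

theorem Yp_le_O : MulAut.conj p • (U ⊓ O) ≤ O := by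
  have h1 : MulAut.conj p • (U ⊓ O) ≤ MulAut.conj p • O := conj_le_iff.2 inf_le_right
  rwa [h.conj_O] at h1

theorem NN_le_O : NN O U p ≤ O := sup_le inf_le_right h.Yp_le_O

/-- `[Y, Y^p] = 1` -/
theorem comm_Y : U ⊓ O ≤ centralizer ((MulAut.conj p • (U ⊓ O) : Subgroup G) : Set G) :=
  comm_of_inf_eq_bot (inf_le_right.trans h.O_nYp) (h.Yp_le_O.trans h.O_nY) h.inf_Y

theorem Y_abel : U ⊓ O ≤ centralizer ((U ⊓ O : Subgroup G) : Set G) := comm_mono h.comm inf_le_left inf_le_left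

/-- `N` is abelian -/
theorem NN_comm : NN O U p ≤ centralizer (NN O U p : Set G) := by
  refine sup_le (comm_symm (sup_le h.Y_abel (comm_symm h.comm_Y))) (comm_symm (sup_le h.comm_Y ?_))
  exact conj_le_centralizer h.Y_abel

/-- `[U, O] ≤ Y` -/
theorem comm_UO {x o : G} (hx : x ∈ U) (ho : o ∈ O) : ⁅x, o⁆ ∈ U ⊓ O := by
  rw [commutatorElement_def]
  refine ⟨?_, mul_mem ((mem_normalizer_iff.1 (h.nO (h.UP hx)) o).1 ho) (O.inv_mem ho)⟩
  have h1 : x * (o * x⁻¹ * o⁻¹) ∈ U :=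
    mul_mem hx ((mem_normalizer_iff.1 (h.nU (h.OS ho)) x⁻¹).1 (U.inv_mem hx))
  simpa [mul_assoc] using h1

/-- `[U^p, O] ≤ Y^p` -/
theorem comm_UpO {x o : G} (hx : x ∈ MulAut.conj p • U) (ho : o ∈ O) : ⁅x, o⁆ ∈ MulAut.conj p • (U ⊓ O) := by
  rw [mem_conj] at hx ⊢
  have ho' : p⁻¹ * o * p ∈ O := by
    rw [← mem_conj, h.conj_O]
    exact ho
  have h1 := h.comm_UO hx ho'
  have e : p⁻¹ * ⁅x, o⁆ * p = ⁅p⁻¹ * x * p, p⁻¹ * o * p⁆ := by
    simp only [commutatorElement_def]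
    group
  rwa [e]

theorem conj_le_of_comm {x : G} (hx : ∀ o ∈ O, ⁅x, o⁆ ∈ NN O U p) : MulAut.conj x • NN O U p ≤ NN O U p := by
  intro y hy
  rw [mem_conj] at hy
  have h1 := mul_mem (hx _ (h.NN_le_O hy)) hy
  have e : ⁅x, x⁻¹ * y * x⁆ * (x⁻¹ * y * x) = y := by
    simp only [commutatorElement_def]
    group
  rwa [e] at h1

/-- `U` and `U^p` normalise `N` -/
theorem sup_nN : U ⊔ MulAut.conj p • U ≤ normalizer (NN O U p : Set G) :=
  sup_le
    (le_normalizer_of_conj_le fun _ hx => h.conj_le_of_comm fun _ ho => Y_le_NN _ _ _ (h.comm_UO hx ho))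
    (le_normalizer_of_conj_le fun _ hx => h.conj_le_of_comm fun _ ho => Yp_le_NN _ _ _ (h.comm_UpO hx ho))

theorem K_nN : K ≤ normalizer (NN O U p : Set G) := h.gen.trans h.sup_nN

omit h in
theorem exists_mul {A B C : Subgroup G} (hC : C ≤ A ⊔ B) (hn : B ≤ normalizer (A : Set G)) {x : G}
    (hx : x ∈ C) : ∃ a ∈ A, ∃ b ∈ B, x = a * b := by
  have h1 := hC hx
  rw [← SetLike.mem_coe, coe_mul_of_right_le_normalizer_left A B hn] at h1
  obtain ⟨a, ha, b, hb, rfl⟩ := Set.mem_mul.1 h1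
  exact ⟨a, ha, b, hb, rfl⟩

/-- `Y^p = Y^k` with `k ∈ K` -/
theorem exists_k {q : G} (hq : q ∈ P) : ∃ k ∈ K, MulAut.conj q • (U ⊓ O) = MulAut.conj k • (U ⊓ O) := by
  obtain ⟨k, hk, s, hs, rfl⟩ := exists_mul h.sup (h.SP.trans h.nK) hq
  refine ⟨k, hk, ?_⟩
  rw [← conj_conj, conj_eq_of_mem (h.nY hs)]

/-- all conjugates of `Y` are in `N` -/
theorem conj_Y_le {q : G} (hq : q ∈ P) : MulAut.conj q • (U ⊓ O) ≤ NN O U p := by
  obtain ⟨k, hk, e⟩ := h.exists_k hq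
  rw [e, ← conj_eq_of_mem (h.K_nN hk)]
  exact conj_le_iff.2 (Y_le_NN _ _ _)

/-- `N` is normal in `P` -/
theorem nN : P ≤ normalizer (NN O U p : Set G) := by
  refine le_normalizer_of_conj_le fun q hq => ?_
  rw [NN, smul_sup, conj_conj]
  exact sup_le (h.conj_Y_le hq) (h.conj_Y_le (mul_mem hq h.hp))

/-- `C_N(u) ≤ Y` if `C_{Y^p}(u) = 1` -/
theorem inf_centralizer : NN O U p ⊓ centralizer (U : Set G) ≤ U ⊓ O := by
  rintro n ⟨hn, hc⟩
  obtain ⟨a, ha, b, hb, rfl⟩ := exists_mul (le_refl (NN O U p)) (h.Yp_le_O.trans h.O_nY) hn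
  have hb1 : b ∈ centralizer (U : Set G) := by
    have h1 := mul_mem (inv_mem (h.comm ha.1)) hc
    rwa [inv_mul_cancel_left] at h1
  have h2 : (MulAut.conj p • (U ⊓ O)) ⊓ centralizer (U : Set G) = ⊥ :=
    h.eq_bot (inf_le_left.trans (h.Yp_le_O.trans h.OS)) (comm_symm inf_le_right)
      (h.comm_p.trans (centralizer_le (inf_le_left.trans (conj_le_iff.2 inf_le_left))))
  have h3 : b = 1 := by
    have h4 : b ∈ (MulAut.conj p • (U ⊓ O)) ⊓ centralizer (U : Set G) := ⟨hb, hb1⟩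
    rw [h2] at h4
    exact mem_bot.1 h4
  rw [h3, mul_one]
  exact ha

/-- `N ∩ U = Y` -/
theorem inf_U_le : NN O U p ⊓ U ≤ U ⊓ O :=
  (inf_le_inf le_rfl h.comm).trans h.inf_centralizer

/-- `[O²(P), O] ≤ N` -/
theorem comm_KO : ∀ k ∈ K, ∀ o ∈ O, ⁅k, o⁆ ∈ NN O U p := fun k hk o ho =>
  comm_mod h.nN h.UP h.UpP (fun _ hx _ ho => Y_le_NN _ _ _ (h.comm_UO hx ho))
    (fun _ hx _ ho => Yp_le_NN _ _ _ (h.comm_UpO hx ho)) k (h.gen hk) o ho

end Set2

/-! ### `Y = [U, N]`, `N = [O²(P), N]` -/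

/-- `A₁` centralises `N` modulo `B₁`, `A₂` modulo `B₂`: `⟨A₁, A₂⟩` modulo `B₁ B₂`. -/
theorem comm_mod_two {N A₁ A₂ B₁ B₂ : Subgroup G} (h1 : ∀ a ∈ A₁, ∀ n ∈ N, ⁅a, n⁆ ∈ B₁)
    (h2 : ∀ a ∈ A₂, ∀ n ∈ N, ⁅a, n⁆ ∈ B₂) (hB : B₁ ⊔ B₂ ≤ N) :
    ∀ x ∈ A₁ ⊔ A₂, ∀ n ∈ N, ⁅x, n⁆ ∈ B₁ ⊔ B₂ := by
  have h1' : ∀ a ∈ A₁, ∀ n ∈ N, ⁅a, n⁆ ∈ B₁ ⊔ B₂ := fun a ha n hn => mem_sup_left (h1 a ha n hn)
  have h2' : ∀ a ∈ A₂, ∀ n ∈ N, ⁅a, n⁆ ∈ B₁ ⊔ B₂ := fun a ha n hn => mem_sup_right (h2 a ha n hn)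
  have key : ∀ A : Subgroup G, (∀ a ∈ A, ∀ n ∈ N, ⁅a, n⁆ ∈ B₁ ⊔ B₂) →
      A ≤ normalizer ((B₁ ⊔ B₂ : Subgroup G) : Set G) := fun A hA =>
    le_normalizer_of fun a ha b hb => by
      have h4 := mul_mem (hA a ha b (hB hb)) hb
      have e : ⁅a, b⁆ * b = a * b * a⁻¹ := by
        rw [commutatorElement_def]
        group
      rwa [e] at h4
  exact comm_mod (sup_le (key _ h1') (key _ h2')) le_sup_left le_sup_right h1' h2'

/-- `N ≤ B [T, N]`, `T` nilpotent: `N ≤ B`. -/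
theorem le_of_le_sup_top {T : Type*} [Group T] [Group.IsNilpotent T] {B N : Subgroup T} [B.Normal]
    (h : N ≤ B ⊔ ⁅(⊤ : Subgroup T), N⁆) : N ≤ B := by
  set f := QuotientGroup.mk' B with hf
  have h1 : N.map f ≤ ⁅(⊤ : Subgroup (T ⧸ B)), N.map f⁆ := by
    have h2 := map_mono (f := f) h
    have h3 : B.map f = ⊥ := by rw [Subgroup.map_eq_bot_iff, hf, QuotientGroup.ker_mk']
    rwa [Subgroup.map_sup, map_commutator, h3, bot_sup_eq,
      Subgroup.map_top_of_surjective f (QuotientGroup.mk'_surjective B)] at h2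
  have h2 : ∀ n, N.map f ≤ (⊤ : Subgroup (T ⧸ B)).lowerCentralSeries n := by
    intro n
    induction n with
    | zero => exact le_top
    | succ n ih =>
      refine h1.trans ?_
      rw [commutator_comm]
      exact commutator_mono ih le_rfl
  obtain ⟨n, hn⟩ := Subgroup.nilpotent_iff_lowerCentralSeries.1 (inferInstance : Group.IsNilpotent (T ⧸ B))
  have h3 := h2 n
  rw [hn, le_bot_iff, Subgroup.map_eq_bot_iff, hf, QuotientGroup.ker_mk'] at h3
  exact h3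

/-- `N ≤ B [S, N]`, `N, B ≤ S`, `S` a nilpotent subgroup normalising `B`: `N ≤ B`. -/
theorem le_of_le_sup_comm {S B N : Subgroup G} [Group.IsNilpotent S] (hB : B ≤ S) (hN : N ≤ S)
    (hSB : S ≤ normalizer (B : Set G)) (h : N ≤ B ⊔ ⁅S, N⁆) : N ≤ B := by
  have : (B.subgroupOf S).Normal := normal_subgroupOf_of_le_normalizer hSB
  have h1 : N.subgroupOf S ≤ B.subgroupOf S := by
    refine le_of_le_sup_top ?_
    rw [← map_subtype_le_map_subtype, Subgroup.map_sup, map_commutator, subgroupOf_map_subtype,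
      subgroupOf_map_subtype, inf_eq_left.2 hB, inf_eq_left.2 hN, ← MonoidHom.range_eq_map, range_subtype]
    exact h
  exact fun x hx => h1 (show (⟨x, hN hx⟩ : S) ∈ N.subgroupOf S from hx)

namespace Set2

variable {P S O K U : Subgroup G} {p : G} (h : Set2 P S O K U p)
include h

/-- `Y = [U, N]` -/
theorem comm_eq : ⁅U, NN O U p⁆ = U ⊓ O := by
  have h1 : ⁅U, NN O U p⁆ ≤ U ⊓ O := commutator_le.2 fun u hu n hn => h.comm_UO hu (h.NN_le_O hn)
  apply le_antisymm h1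
  have h2 : ⁅MulAut.conj p • U, NN O U p⁆ ≤ MulAut.conj p • (U ⊓ O) :=
    commutator_le.2 fun u hu n hn => h.comm_UpO hu (h.NN_le_O hn)
  obtain ⟨k, hk, e⟩ := h.exists_k h.hp
  intro y hy
  have h3 := comm_mod_two (fun a ha n hn => commutator_mem_commutator ha hn)
    (fun a ha n hn => commutator_mem_commutator ha hn) (sup_le_sup h1 h2) k (h.gen hk) y (Y_le_NN _ _ _ hy)
  obtain ⟨a, ha, b, hb, hab⟩ := exists_mul (le_refl (⁅U, NN O U p⁆ ⊔ ⁅MulAut.conj p • U, NN O U p⁆))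
    (((h2.trans (Yp_le_NN _ _ _)).trans h.NN_comm).trans ((centralizer_le (h1.trans (Y_le_NN _ _ _))).trans
      (centralizer_le_normalizer _))) h3
  have hy' : k * y * k⁻¹ ∈ MulAut.conj p • (U ⊓ O) := by
    rw [e, mem_conj]
    simpa [mul_assoc] using hy
  have h4 : b⁻¹ * (k * y * k⁻¹) = a * y := by
    have h5 : k * y * k⁻¹ = a * b * y := by
      rw [← hab, commutatorElement_def]
      group
    have h6 : a * b = b * a :=
      mem_centralizer_iff.1 (h.NN_comm (Yp_le_NN _ _ _ (h2 hb))) a (Y_le_NN _ _ _ (h1 ha))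
    rw [h5, h6]
    group
  have h6 : b⁻¹ * (k * y * k⁻¹) ∈ MulAut.conj p • (U ⊓ O) :=
    mul_mem ((MulAut.conj p • (U ⊓ O)).inv_mem (h2 hb)) hy'
  rw [h4] at h6
  have h5 : a * y ∈ (U ⊓ O) ⊓ MulAut.conj p • (U ⊓ O) := ⟨mul_mem (h1 ha) hy, h6⟩
  rw [h.inf_Y, mem_bot, mul_eq_one_iff_inv_eq] at h5
  rw [← h5]
  exact (⁅U, NN O U p⁆).inv_mem ha

/-- `Y^p = [U^p, N]` -/
theorem comm_eq_p : ⁅MulAut.conj p • U, NN O U p⁆ = MulAut.conj p • (U ⊓ O) := by
  have h1 : MulAut.conj p • ⁅U, NN O U p⁆ = ⁅MulAut.conj p • U, MulAut.conj p • NN O U p⁆ :=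
    Cfsg.Agent.Omega.conj_smul_commutator _ _ _
  rw [h.comm_eq, conj_eq_of_mem (h.nN h.hp)] at h1
  exact h1.symm

/-- `N = [O²(P), N]` (`S` a 2-group) -/
theorem comm_K [Group.IsNilpotent S] : ⁅K, NN O U p⁆ = NN O U p := by
  have hKN : ⁅K, NN O U p⁆ ≤ NN O U p :=
    commutator_le.2 fun k hk n hn => by
      rw [commutatorElement_def]
      exact mul_mem ((mem_normalizer_iff.1 (h.K_nN hk) n).1 hn) ((NN O U p).inv_mem hn)
  apply le_antisymm hKN
  have hPKN : P ≤ normalizer ((⁅K, NN O U p⁆ : Subgroup G) : Set G) := by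
    refine le_normalizer_of_conj_le fun x hx => ?_
    rw [Cfsg.Agent.Omega.conj_smul_commutator, conj_eq_of_mem (h.nK hx), conj_eq_of_mem (h.nN hx)]
  have hNS : NN O U p ≤ S := h.NN_le_O.trans h.OS
  refine le_of_le_sup_comm (S := S) (hKN.trans hNS) hNS (h.SP.trans hPKN) ?_
  have h1 : ∀ x ∈ K ⊔ S, ∀ n ∈ NN O U p, ⁅x, n⁆ ∈ ⁅K, NN O U p⁆ ⊔ ⁅S, NN O U p⁆ := by
    refine comm_mod_two (fun a ha n hn => commutator_mem_commutator ha hn)
      (fun a ha n hn => commutator_mem_commutator ha hn) (sup_le hKN ?_)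
    exact commutator_le.2 fun k hk n hn => by
      rw [commutatorElement_def]
      exact mul_mem ((mem_normalizer_iff.1 (h.nN (h.SP hk)) n).1 hn) ((NN O U p).inv_mem hn)
  have h2 : ⁅P, NN O U p⁆ ≤ ⁅K, NN O U p⁆ ⊔ ⁅S, NN O U p⁆ :=
    commutator_le.2 fun x hx n hn => h1 x (h.sup hx) n hn
  refine le_trans (sup_le ?_ ?_) h2
  · rw [← h.comm_eq]
    exact commutator_mono h.UP le_rfl
  · rw [← h.comm_eq_p]
    exact commutator_mono h.UpP le_rfl

end Set2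

/-! ### (3a), (3b) -/

theorem card_conj (g : G) (A : Subgroup G) : Nat.card ↥(MulAut.conj g • A) = Nat.card A :=
  (Nat.card_congr (equivSMul (MulAut.conj g) A).toEquiv).symm

/-- `[n, w] ∈ W` -/
theorem comm_mem_of_normalizer {N W : Subgroup G} (hN : N ≤ normalizer (W : Set G)) {a n : G} (ha : a ∈ W)
    (hn : n ∈ N) : ⁅a, n⁆ ∈ W := by
  have h1 : a * (n * a⁻¹ * n⁻¹) ∈ W := mul_mem ha ((mem_normalizer_iff.1 (hN hn) a⁻¹).1 (W.inv_mem ha))
  rw [commutatorElement_def]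
  simpa [mul_assoc] using h1

/-- **(3)**: `[N, W₁] ≤ Y ∩ W₁`. -/
theorem Set2.comm_W {P S O K U : Subgroup G} {p : G} (h : Set2 P S O K U p) {W : Subgroup G} (hW : W ≤ U)
    (hN : NN O U p ≤ normalizer (W : Set G)) : ⁅W, NN O U p⁆ ≤ (U ⊓ O) ⊓ W :=
  commutator_le.2 fun _ ha _ hn => ⟨h.comm_UO (hW ha) (h.NN_le_O hn), comm_mem_of_normalizer hN ha hn⟩

/-- **(3a)** a regular element of `W₁`: `Y ≤ W₁`. -/
theorem Set2.le_of_regular [Finite G] {P S O K U : Subgroup G} {p : G} (h : Set2 P S O K U p)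
    {W : Subgroup G} (hW : W ≤ U) (hN : NN O U p ≤ normalizer (W : Set G)) {w : G} (hw : w ∈ W)
    (hr : ∀ n ∈ NN O U p, n * w = w * n → n ∈ U) : U ⊓ O ≤ W := by
  have hmem : ∀ n : ↥(MulAut.conj p • (U ⊓ O)), ⁅w, (n : G)⁆ ∈ (U ⊓ O) ⊓ W := fun n =>
    ⟨h.comm_UO (hW hw) (h.Yp_le_O n.2), comm_mem_of_normalizer hN hw (Yp_le_NN _ _ _ n.2)⟩
  let f : ↥(MulAut.conj p • (U ⊓ O)) → ↥((U ⊓ O) ⊓ W) := fun n => ⟨⁅w, (n : G)⁆, hmem n⟩
  have hf : Function.Injective f := by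
    intro n m hnm
    have h1 : ⁅w, (n : G)⁆ = ⁅w, (m : G)⁆ := congrArg Subtype.val hnm
    rw [commutatorElement_def, commutatorElement_def] at h1
    have h2 : ((m : G)⁻¹ * n) * w = w * ((m : G)⁻¹ * n) := by
      have hc : (n : G) * m⁻¹ = m⁻¹ * n :=
        mem_centralizer_iff.1 (h.NN_comm (Yp_le_NN _ _ _ (inv_mem m.2))) n (Yp_le_NN _ _ _ n.2)
      have h3 : (n : G) * w⁻¹ * (n : G)⁻¹ = m * w⁻¹ * (m : G)⁻¹ := by
        have := congrArg (fun t => w⁻¹ * t) h1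
        simpa [mul_assoc] using this
      have h4 : (n : G) * w * (n : G)⁻¹ = m * w * (m : G)⁻¹ := by
        have := congrArg (fun t => t⁻¹) h3
        simpa [mul_assoc] using this
      calc ((m : G)⁻¹ * n) * w = (m : G)⁻¹ * (n * w * (n : G)⁻¹) * n := by group
        _ = (m : G)⁻¹ * (m * w * (m : G)⁻¹) * n := by rw [h4]
        _ = w * ((m : G)⁻¹ * n) := by group
    have h5 : (m : G)⁻¹ * n ∈ (U ⊓ O) ⊓ MulAut.conj p • (U ⊓ O) := by
      have h6 : (m : G)⁻¹ * n ∈ MulAut.conj p • (U ⊓ O) := mul_mem (inv_mem m.2) n.2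
      exact ⟨⟨hr _ (Yp_le_NN _ _ _ h6) h2, h.Yp_le_O h6⟩, h6⟩
    rw [h.inf_Y, mem_bot, inv_mul_eq_one] at h5
    exact Subtype.ext h5.symm
  have h1 := Nat.card_le_card_of_injective f hf
  rw [card_conj] at h1
  have h2 : (U ⊓ O) ⊓ W = U ⊓ O := eq_of_le_of_card_ge inf_le_left h1
  exact h2 ▸ inf_le_right

/-- If `O²(P) ≤ X O` and `[O²(P), O]` centralises `N` then `O²(P) ≤ X C(N)`. -/
theorem le_sup_centralizer [Finite G] {P X O N : Subgroup G} (hXP : X ≤ P) (hPO : P ≤ normalizer (O : Set G))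
    (hOP : O ≤ P) (hO : IsPGroup 2 O) (hPN : P ≤ normalizer (N : Set G)) (h : oddGen P ≤ X ⊔ O)
    (hc : ∀ k ∈ oddGen P, ∀ o ∈ O, ⁅k, o⁆ ∈ centralizer (N : Set G)) :
    oddGen P ≤ X ⊔ centralizer (N : Set G) := by
  rw [oddGen_def, closure_le]
  rintro d ⟨hdP, hd⟩
  have hdK := mem_oddGen hdP hd
  obtain ⟨o, ho, x, hx, e⟩ := Set2.exists_mul (A := O) (B := X) (sup_comm X O ▸ h) (hXP.trans hPO) hdK
  have e' : x = o⁻¹ * d := by rw [e, inv_mul_cancel_left]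
  let d' : normalizer (N : Set G) := ⟨d, hPN hdP⟩
  let o' : normalizer (N : Set G) := ⟨o, hPN (hOP ho)⟩
  let x' : normalizer (N : Set G) := ⟨x, hPN (hXP hx)⟩
  have ex : x' = o'⁻¹ * d' := Subtype.ext e'
  set ρ := N.normalizerMonoidHom with hρ
  have hker : ∀ y : normalizer (N : Set G), ρ y = 1 ↔ (y : G) ∈ centralizer (N : Set G) := by
    intro y
    rw [← MonoidHom.mem_ker, hρ, normalizerMonoidHom_ker, mem_subgroupOf]
  have hcom : Commute (ρ d') (ρ o') := by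
    have h1 : ρ ⁅d', o'⁆ = 1 := (hker _).2 (hc d hdK o ho)
    rw [map_commutatorElement, commutatorElement_eq_one_iff_mul_comm] at h1
    exact h1
  obtain ⟨k, hk⟩ := hO ⟨o, ho⟩
  have hk2 : o ^ 2 ^ k = 1 := congrArg Subtype.val hk
  have hk' : o' ^ 2 ^ k = 1 := Subtype.ext hk2
  have h2 : ρ x' ^ 2 ^ k = ρ d' ^ 2 ^ k := by
    rw [ex, map_mul, map_inv, (hcom.symm.inv_left).mul_pow, inv_pow, ← map_pow ρ o', hk', map_one, inv_one,
      one_mul]
  obtain ⟨j, hj⟩ := exists_pow_eq_self_of_coprime (x := d) (n := 2 ^ k)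
    (Nat.Coprime.pow_left k (Nat.coprime_two_left.2 hd))
  have hj' : (d' ^ 2 ^ k) ^ j = d' := Subtype.ext hj
  have h3 : ρ d' = ρ ((x' ^ 2 ^ k) ^ j) := by
    rw [map_pow, map_pow, h2, ← map_pow, ← map_pow, hj']
  have h4 : ρ (d' * ((x' ^ 2 ^ k) ^ j)⁻¹) = 1 := by rw [map_mul, map_inv, h3, mul_inv_cancel]
  have h5 := (hker _).1 h4
  have h6 : d = (d * ((x ^ 2 ^ k) ^ j)⁻¹) * (x ^ 2 ^ k) ^ j := by rw [inv_mul_cancel_right]
  rw [h6]
  exact mul_mem (mem_sup_right h5) (mem_sup_left (pow_mem (pow_mem hx _) _))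

/-- the product `D D^g` is normalised by `X`, and `X` centralises `N` modulo `D D^g` -/
theorem comm_mod_DD {P N W C : Subgroup G} {g : G} (hg : g ∈ P) (hPN : P ≤ normalizer (N : Set G))
    (hN : N ≤ normalizer (W : Set G)) (hWP : W ≤ P) (hC : C ≤ centralizer (N : Set G)) :
    ∀ x ∈ (W ⊔ MulAut.conj g • W) ⊔ C, ∀ n ∈ N, ⁅x, n⁆ ∈ (N ⊓ W) ⊔ MulAut.conj g • (N ⊓ W) := by
  have hgN := conj_eq_of_mem (hPN hg)
  have hBN : (N ⊓ W) ⊔ MulAut.conj g • (N ⊓ W) ≤ N := by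
    refine sup_le inf_le_left ?_
    have h1 : MulAut.conj g • (N ⊓ W) ≤ MulAut.conj g • N := conj_le_iff.2 inf_le_left
    rwa [hgN] at h1
  have h1 : ∀ a ∈ W, ∀ n ∈ N, ⁅a, n⁆ ∈ N ⊓ W := fun a ha n hn => by
    refine ⟨?_, comm_mem_of_normalizer hN ha hn⟩
    rw [commutatorElement_def]
    exact mul_mem ((mem_normalizer_iff.1 (hPN (hWP ha)) n).1 hn) (N.inv_mem hn)
  have h2 : ∀ a ∈ MulAut.conj g • W, ∀ n ∈ N, ⁅a, n⁆ ∈ MulAut.conj g • (N ⊓ W) := fun a ha n hn => by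
    rw [mem_conj] at ha ⊢
    have hn' : g⁻¹ * n * g ∈ N := by
      rw [← mem_conj, hgN]
      exact hn
    have e : g⁻¹ * ⁅a, n⁆ * g = ⁅g⁻¹ * a * g, g⁻¹ * n * g⁆ := by
      simp only [commutatorElement_def]
      group
    rw [e]
    exact h1 _ ha _ hn'
  have h1' : ∀ a ∈ W, ∀ n ∈ N, ⁅a, n⁆ ∈ (N ⊓ W) ⊔ MulAut.conj g • (N ⊓ W) :=
    fun a ha n hn => mem_sup_left (h1 a ha n hn)
  have h2' : ∀ a ∈ MulAut.conj g • W, ∀ n ∈ N, ⁅a, n⁆ ∈ (N ⊓ W) ⊔ MulAut.conj g • (N ⊓ W) :=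
    fun a ha n hn => mem_sup_right (h2 a ha n hn)
  have h3' : ∀ a ∈ C, ∀ n ∈ N, ⁅a, n⁆ ∈ (N ⊓ W) ⊔ MulAut.conj g • (N ⊓ W) := fun a ha n hn => by
    rw [commutatorElement_eq_one_iff_mul_comm.2 (mem_centralizer_iff.1 (hC ha) n hn).symm]
    exact one_mem _
  have key : ∀ A : Subgroup G, (∀ a ∈ A, ∀ n ∈ N, ⁅a, n⁆ ∈ (N ⊓ W) ⊔ MulAut.conj g • (N ⊓ W)) →
      A ≤ normalizer (((N ⊓ W) ⊔ MulAut.conj g • (N ⊓ W) : Subgroup G) : Set G) := fun A hA =>
    le_normalizer_of fun a ha b hb => by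
      have h4 := mul_mem (hA a ha b (hBN hb)) hb
      have e : ⁅a, b⁆ * b = a * b * a⁻¹ := by
        rw [commutatorElement_def]
        group
      rwa [e] at h4
  have hR : (W ⊔ MulAut.conj g • W) ⊔ C ≤
      normalizer (((N ⊓ W) ⊔ MulAut.conj g • (N ⊓ W) : Subgroup G) : Set G) :=
    sup_le (sup_le (key _ h1') (key _ h2')) (key _ h3')
  exact comm_mod hR le_sup_left le_sup_right
    (comm_mod hR (le_sup_left.trans le_sup_left) (le_sup_right.trans le_sup_left) h1' h2') h3'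

/-- **(3b)** 2-generation by `W₁`: `Y ≤ W₁`. -/
theorem Set2.le_of_two [Finite G] {P S O U : Subgroup G} {p : G} (h : Set2 P S O (oddGen P) U p)
    (hO : IsPGroup 2 O) {W : Subgroup G} (hW : W ≤ U) (hN : NN O U p ≤ normalizer (W : Set G))
    {g : G} (hg : g ∈ P) (hgen : oddGen P ≤ (W ⊔ MulAut.conj g • W) ⊔ O) : U ⊓ O ≤ W := by
  have hWP : W ≤ P := hW.trans h.UP
  have hX : W ⊔ MulAut.conj g • W ≤ P := by
    refine sup_le hWP ?_
    have h1 := (conj_le_iff (g := g)).2 hWP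
    rwa [conj_eq_of_mem (le_normalizer hg)] at h1
  have h1 := le_sup_centralizer hX h.nO (h.OS.trans h.SP) hO h.nN hgen
    fun k hk o ho => h.NN_comm (h.comm_KO k hk o ho)
  have h2 := comm_mod_DD hg h.nN hN hWP (C := centralizer (NN O U p : Set G)) le_rfl
  -- `D = N ∩ W ≤ Y`
  have hD : NN O U p ⊓ W ≤ U ⊓ O := (inf_le_inf le_rfl hW).trans h.inf_U_le
  have hDg : MulAut.conj g • (NN O U p ⊓ W) ≤ O := by
    have h3 : MulAut.conj g • (NN O U p ⊓ W) ≤ MulAut.conj g • O :=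
      conj_le_iff.2 (inf_le_left.trans h.NN_le_O)
    rwa [conj_eq_of_mem (h.nO hg)] at h3
  -- `N ≤ Y D^g`
  have h3 : NN O U p ≤ MulAut.conj g • (NN O U p ⊓ W) ⊔ (U ⊓ O) := by
    refine sup_le le_sup_right ?_
    obtain ⟨k, hk, e⟩ := h.exists_k h.hp
    rw [e]
    intro y hy
    rw [mem_conj] at hy
    have h4 := mul_mem ((sup_le (hD.trans le_sup_right) le_sup_left :
      (NN O U p ⊓ W) ⊔ MulAut.conj g • (NN O U p ⊓ W) ≤ MulAut.conj g • (NN O U p ⊓ W) ⊔ (U ⊓ O))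
      (h2 k (h1 hk) _ (Y_le_NN _ _ _ hy))) (mem_sup_right hy)
    have e2 : ⁅k, k⁻¹ * y * k⁆ * (k⁻¹ * y * k) = y := by
      simp only [commutatorElement_def]
      group
    rwa [e2] at h4
  have c1 := ZN.Block.card_sup_mul_card_inf (H := MulAut.conj p • (U ⊓ O)) (N := U ⊓ O) (h.Yp_le_O.trans h.O_nY)
  have c2 := ZN.Block.card_sup_mul_card_inf (H := MulAut.conj g • (NN O U p ⊓ W)) (N := U ⊓ O)
    (hDg.trans h.O_nY)
  rw [inf_comm (MulAut.conj p • (U ⊓ O)) (U ⊓ O), h.inf_Y, card_bot, mul_one,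
    sup_comm (MulAut.conj p • (U ⊓ O)) (U ⊓ O), card_conj] at c1
  rw [card_conj] at c2
  have c3 : Nat.card ↥(NN O U p) ≤ Nat.card ↥(MulAut.conj g • (NN O U p ⊓ W) ⊔ (U ⊓ O)) :=
    Nat.card_le_card_of_injective _ (inclusion_injective h3)
  have c4 : 0 < Nat.card ↥(MulAut.conj g • (NN O U p ⊓ W) ⊓ (U ⊓ O)) := Nat.card_pos
  have c5 : 0 < Nat.card ↥(U ⊓ O) := Nat.card_pos
  have c6 : Nat.card ↥(U ⊓ O) * Nat.card ↥(U ⊓ O) ≤ Nat.card ↥(NN O U p ⊓ W) * Nat.card ↥(U ⊓ O) := by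
    calc _ = Nat.card ↥(NN O U p) := c1.symm
      _ ≤ _ := c3
      _ ≤ _ := Nat.le_mul_of_pos_right _ c4
      _ = _ := c2
  have c7 : Nat.card ↥(U ⊓ O) ≤ Nat.card ↥(NN O U p ⊓ W) := Nat.le_of_mul_le_mul_right c6 c5
  have h5 : NN O U p ⊓ W = U ⊓ O := eq_of_le_of_card_ge hD c7
  exact h5 ▸ inf_le_right

/-- **Last remark of (3)**: `V ∩ U ≤ W` for a subgroup `V` of `N` with `V = [O²(P), V]` centralised by `O` -/
theorem Set2.inf_le_of_two {P S O K U : Subgroup G} {p : G} (h : Set2 P S O K U p)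
    {V : Subgroup G} (hPV : P ≤ normalizer (V : Set G)) (hOV : O ≤ centralizer (V : Set G))
    (hVK : V ≤ ⁅K, V⁆) (hVV : V ≤ centralizer (V : Set G))
    {W : Subgroup G} (hW : W ≤ U) (hV : V ≤ normalizer (W : Set G))
    {g : G} (hg : g ∈ P) (hgen : K ≤ (W ⊔ MulAut.conj g • W) ⊔ O) : V ⊓ U ≤ W := by
  have hWP : W ≤ P := hW.trans h.UP
  have h2 := comm_mod_DD hg hPV hV hWP hOV
  have h3 : V ≤ (V ⊓ W) ⊔ MulAut.conj g • (V ⊓ W) :=
    hVK.trans (commutator_le.2 fun k hk v hv => h2 k (hgen hk) v hv)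
  have hVg : MulAut.conj g • (V ⊓ W) ≤ V := by
    have h1 : MulAut.conj g • (V ⊓ W) ≤ MulAut.conj g • V := conj_le_iff.2 inf_le_left
    rwa [conj_eq_of_mem (hPV hg)] at h1
  rintro x ⟨hx, hxU⟩
  obtain ⟨a, ha, b, hb, rfl⟩ := exists_mul h3
    (hVg.trans (hVV.trans ((centralizer_le inf_le_left).trans (centralizer_le_normalizer _)))) hx
  have hbU : b ∈ U := by
    have h4 := mul_mem (inv_mem (hW ha.2)) hxU
    rwa [inv_mul_cancel_left] at h4
  have h5 : U ⊓ MulAut.conj g • (V ⊓ W) = ⊥ := by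
    have h6 : K ≤ centralizer ((U ⊓ MulAut.conj g • (V ⊓ W) : Subgroup G) : Set G) := by
      refine hgen.trans (sup_le (sup_le ?_ ?_) ?_)
      · exact comm_mono h.comm hW inf_le_left
      · exact (conj_le_centralizer (comm_mono h.comm hW hW)).trans
          (centralizer_le (inf_le_right.trans (conj_le_iff.2 inf_le_right)))
      · exact hOV.trans (centralizer_le (inf_le_right.trans hVg))
    exact le_bot_iff.1 (h.cen ▸ le_inf (inf_le_left.trans h.US) (comm_symm h6))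
  have h6 : b ∈ U ⊓ MulAut.conj g • (V ⊓ W) := ⟨hbU, hb⟩
  rw [h5, mem_bot] at h6
  rw [h6, mul_one]
  exact ha.2

/-! ### The frame -/

/-- `A` and one `P`-conjugate of `A` generate `O²(P)` modulo `O₂(P)`. -/
def TwoGenBy (P A : Subgroup G) : Prop := ∃ p ∈ P, oddGen P ≤ (A ⊔ MulAut.conj p • A) ⊔ o2 P

/-- `N` normalises `W^g` if `Z^g ≤ N` is abelian and `C ≤ N(W)` -/
theorem nW {S N W : Subgroup G} (hN : N ≤ centralizer (N : Set G))
    (hCW : CZ S ≤ normalizer (W : Set G)) {g : G} (hg : MulAut.conj g • zc S ≤ N) :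
    N ≤ normalizer ((MulAut.conj g • W : Subgroup G) : Set G) := by
  refine le_trans ?_ (conj_le_normalizer hCW)
  intro n hn
  rw [mem_conj]
  change g⁻¹ * n * g ∈ centralizer (zc S : Set G)
  rw [mem_centralizer_iff]
  intro z hz
  have h1 : g * z * g⁻¹ ∈ N := hg (by
    rw [mem_conj]
    simpa [mul_assoc] using hz)
  have h2 := mem_centralizer_iff.1 (hN hn) _ h1
  have h3 := congrArg (fun t => g⁻¹ * t * g) h2
  simpa [mul_assoc] using h3

section frame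

variable [Finite G] (hc : IsCharacteristicTwoType G) (S : Sylow 2 G)

include hc

/-- the situation of (2) in the frame -/
theorem set2 (D : DataZ (S : Subgroup G)) {P H : Subgroup G} (h : PairA (S : Subgroup G) P H) {p : G}
    (hp : p ∈ P) (hgen : oddGen P ≤ (zl (S : Subgroup G) H ⊔ MulAut.conj p • zl (S : Subgroup G) H) ⊔ o2 P) :
    Set2 P (S : Subgroup G) (o2 P) (oddGen P) (zl (S : Subgroup G) H) p := by
  have hUS := Basic.IsLong.zl_le_S hc h.long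
  have hSU : (S : Subgroup G) ≤ normalizer (zl (S : Subgroup G) H : Set G) :=
    h.long.loc.le.trans (le_normalizer_zl _ _)
  refine ⟨hp, h.par.le, oddGen_le _, (oddGen_sup h.par.le (MinSimple.Basic.not_dvd_relIndex S h.par.le)).ge,
    le_normalizer_oddGen _, h.par.isLoc.o2_le S, le_normalizer_o2 _, hUS, hSU,
    (Pair.zl_abel hc S h.long.loc).1, inf_centralizer_oddGen S h.par.le (D.cz P h.par), ?_⟩
  refine oddGen_le_of_le_sup hgen ?_ (o2_isPGroup P)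
  have h1 : o2 P ≤ normalizer (zl (S : Subgroup G) H : Set G) := (h.par.isLoc.o2_le S).trans hSU
  have h2 := conj_le_normalizer (g := p) h1
  rw [conj_eq_of_mem (le_normalizer_o2 _ hp)] at h2
  refine le_normalizer_of_conj_le fun x hx => ?_
  rw [smul_sup, conj_eq_of_mem (h1 hx), conj_eq_of_mem (h2 hx)]

theorem o2_le_centralizer {P : Subgroup G} (hP : IsParS (S : Subgroup G) P) :
    o2 P ≤ centralizer (zl (S : Subgroup G) P : Set G) :=
  (hP.inf_centralizer S hc).ge.trans inf_le_right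

/-- `W_H ≤ Y = U_H ∩ O₂(P)` -/
theorem W_le_Y (D : Data (S : Subgroup G)) {P H : Subgroup G} (hP : IsParS (S : Subgroup G) P)
    (hH : IsLong (S : Subgroup G) H) :
    W (S : Subgroup G) H ≤ zl (S : Subgroup G) H ⊓ o2 P := by
  have h1 : W (S : Subgroup G) H ≤ zl (S : Subgroup G) H := W_le_zl hH.cz
  refine le_inf h1 ?_
  rw [← hP.inf_centralizer S hc]
  refine le_inf (h1.trans (Basic.IsLong.zl_le_S hc hH)) ?_
  have h2 := Basic.comm_of_le (S := S) hc D (x := 1) (y := 1) (by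
    rw [map_one, one_smul, one_smul]
    exact Basic.WP_le_Q D) (by
    rw [map_one, one_smul, one_smul]
    exact Basic.WP_le_Q D)
  rw [map_one, one_smul] at h2
  exact comm_mono h2 (W_le fun P' hP' _ c hc' => Basic.line_le_WP hP' hc') (Basic.zl_le_WP hP)

/-- **(1)** in the form used: for `W` with `V_{P₁} ≤ W` (`P₁ ≤ H`), `C ≤ N(W)`, `W ≤ Y` there is a conjugate
`W₁ = W^g ≤ U`, `g ∈ N_G(U)`, with `Z^g ≤ Y`, `W₁ ≰ Y`, `Y ≰ W₁`. -/
theorem exists_conj {P H : Subgroup G} (h : PairA (S : Subgroup G) P H)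
    {W : Subgroup G} (hW : ∀ P₁, IsParS (S : Subgroup G) P₁ → P₁ ≤ H → zl (S : Subgroup G) P₁ ≤ W)
    (hWY : W ≤ zl (S : Subgroup G) H ⊓ o2 P) :
    ∃ g ∈ normalizer (zl (S : Subgroup G) H : Set G),
      MulAut.conj g • zc (S : Subgroup G) ≤ zl (S : Subgroup G) H ⊓ o2 P ∧
      MulAut.conj g • W ≤ zl (S : Subgroup G) H ∧
      ¬ MulAut.conj g • W ≤ zl (S : Subgroup G) H ⊓ o2 P ∧
      ¬ zl (S : Subgroup G) H ⊓ o2 P ≤ MulAut.conj g • W := by
  by_contra hcon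
  push Not at hcon
  have hZ : zc (S : Subgroup G) ≤ zl (S : Subgroup G) H ⊓ o2 P := by
    refine le_inf (zc_le_zl _ _) ((zc_le_zl _ P).trans ?_)
    exact (h.par.isLoc.zl_le S hc).trans (zc_le _)
  have h1 := conn S h.long.loc hW _ hZ fun g hg hgZ => by
    by_contra h2
    have h3 : MulAut.conj g • W ≤ zl (S : Subgroup G) H := by
      have h4 := (conj_le_iff (g := g)).2 (hWY.trans inf_le_left)
      rwa [conj_eq_of_mem hg] at h4
    have h5 := hcon g hg hgZ h3 h2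
    have h6 : zl (S : Subgroup G) H ⊓ o2 P = MulAut.conj g • W := by
      refine eq_of_le_of_card_ge h5 ?_
      rw [card_conj]
      exact Nat.card_le_card_of_injective _ (inclusion_injective hWY)
    exact h2 h6.ge
  exact h.ne (comm_symm ((h1.trans inf_le_right).trans (o2_le_centralizer hc S h.par)))

/-- **(3a)**: case (A), `(*)_U`, and `C_N(u) ≤ Y` for all `u ∈ U - Y`: contradiction. -/
theorem not_regular (D : DataZ (S : Subgroup G)) {P H : Subgroup G} (h : PairA (S : Subgroup G) P H) {p : G}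
    (hp : p ∈ P) (hgen : oddGen P ≤ (zl (S : Subgroup G) H ⊔ MulAut.conj p • zl (S : Subgroup G) H) ⊔ o2 P)
    (hreg : ∀ u ∈ zl (S : Subgroup G) H, u ∉ o2 P →
      ∀ n ∈ NN (o2 P) (zl (S : Subgroup G) H) p, n * u = u * n → n ∈ zl (S : Subgroup G) H) : False := by
  have h2 := set2 hc S D h hp hgen
  obtain ⟨g, hg, hgZ, h3, h4, h5⟩ := exists_conj hc S h (fun _ hP hPH => zl_le_W hP hPH)
    (W_le_Y hc S D.toData h.par h.long)
  obtain ⟨w, hw, hwY⟩ := SetLike.not_le_iff_exists.1 h4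
  refine h5 (h2.le_of_regular h3
    (nW h2.NN_comm (CZ_le_normalizer_W _ _) (hgZ.trans (Y_le_NN _ _ _))) hw ?_)
  exact hreg w (h3 hw) fun h6 => hwY ⟨h3 hw, h6⟩

/-- **(3b)**: case (A), `(*)_U` and `(*)_W`: contradiction. `W` is any subgroup with `V_{P₁} ≤ W ≤ Y`
(`P₁ ∈ P*(S)`, `P₁ ≤ H`) normalised by `C_G(Z)`. -/
theorem not_two (D : DataZ (S : Subgroup G)) {P H : Subgroup G} (h : PairA (S : Subgroup G) P H)
    (hU : TwoGenBy P (zl (S : Subgroup G) H))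
    {W : Subgroup G} (hW : ∀ P₁, IsParS (S : Subgroup G) P₁ → P₁ ≤ H → zl (S : Subgroup G) P₁ ≤ W)
    (hCW : CZ (S : Subgroup G) ≤ normalizer (W : Set G)) (hWY : W ≤ zl (S : Subgroup G) H ⊓ o2 P)
    (htwo : ∀ g ∈ normalizer (zl (S : Subgroup G) H : Set G),
      MulAut.conj g • zc (S : Subgroup G) ≤ zl (S : Subgroup G) H ⊓ o2 P →
      MulAut.conj g • W ≤ zl (S : Subgroup G) H → ¬ MulAut.conj g • W ≤ zl (S : Subgroup G) H ⊓ o2 P →
      TwoGenBy P (MulAut.conj g • W)) : False := by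
  obtain ⟨p, hp, hgen⟩ := hU
  have h2 := set2 hc S D h hp hgen
  obtain ⟨g, hg, hgZ, h3, h4, h5⟩ := exists_conj hc S h hW hWY
  obtain ⟨q, hq, hgen'⟩ := htwo g hg hgZ h3 h4
  exact h5 (h2.le_of_two (o2_isPGroup P) h3 (nW h2.NN_comm hCW (hgZ.trans (Y_le_NN _ _ _))) hq hgen')

/-- **(3b)** for `W = W_H`. -/
theorem not_two_W (D : DataZ (S : Subgroup G)) {P H : Subgroup G} (h : PairA (S : Subgroup G) P H)
    (hU : TwoGenBy P (zl (S : Subgroup G) H))
    (htwo : ∀ g ∈ normalizer (zl (S : Subgroup G) H : Set G),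
      MulAut.conj g • zc (S : Subgroup G) ≤ zl (S : Subgroup G) H ⊓ o2 P →
      MulAut.conj g • NOThreeL.W (S : Subgroup G) H ≤ zl (S : Subgroup G) H →
      ¬ MulAut.conj g • NOThreeL.W (S : Subgroup G) H ≤ zl (S : Subgroup G) H ⊓ o2 P →
      TwoGenBy P (MulAut.conj g • NOThreeL.W (S : Subgroup G) H)) : False :=
  not_two hc S D h hU (fun _ hP hPH => zl_le_W hP hPH) (CZ_le_normalizer_W _ _)
    (W_le_Y hc S D.toData h.par h.long) htwo

end frame

end Cfsg.Agent.Omega.NOThreeL.TwoGen
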