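import Cfsg.Agent.Omega.ML.CD
import Cfsg.Agent.Omega.NOThreeL.KeyLemma

/-!
# NO-3L: the weighted form (WF) of the WAIST LEMMA (#15912 of helper54, (WF) (1)-(3)); K-free

`H` acts on the finite abelian group `M` (written multiplicatively), `f(B) = fab M a b B = |B|^a |C_M(B)|^b`
(`t = a / b`), points `x ∈ Pt ⊆ M`, a collinearity graph `Col`, `W x ≤ M`, `Q x ≤ H` (`Sys`).

* `Axial.step` : `B` acts on `W` with `[W, B] ≤ ⟨z⟩`, `a ≤ b`, `f(C_B(W)) ≤ f(B)`: equality, `C_M(C_B(W)) = W C_M(B)`, and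
  `B` centralises `W` if `a < b`;
* `ax x` : the largest member of `{B ≤ Q x | f(B) = |M|^b, [W x, B] = 1}`;
* `Sys.main` : if some `1 ≠ B ≤ Q x` has `f(B) = |M|^b` (`= max`), then either `a = b` and `Q x` contains a group
  `B ≠ 1` with `[M, B] ≤ ⟨x⟩`, or `ax x ≠ 1` and `W x ≤ [M, ax x]`;
* `Sys.of_off`, `Sys.of_over` : the same from an offender resp. an over-offender in `Q x`.
-/

set_option autoImplicit false

namespace Cfsg.Agent.Omega.NOThreeL.WaistF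

open Subgroup Cfsg.Agent.ClassTwoFusion.Quad Cfsg.Agent.Omega.ML.CD
open Cfsg.Agent.Omega.NOThree.NoOver hiding fx mem_fx
open Cfsg.Agent.Omega.NO3S.ML (fx mem_fx)
open Cfsg.Agent.Omega.NOThreeL.KeyLemma (Axial)

variable {H : Type*} [Group H] {M : Type*} [Group M] [MulDistribMulAction H M]

/-! ### One step -/

theorem pow_lemma {a b r s : ℕ} (hab : a ≤ b) (hs : 0 < s) (hrs : r ≤ s) (h : s ^ b ≤ r ^ a) (ha : 0 < a) :
    r = s ∧ r ^ a = s ^ b ∧ (a < b → r = 1) := by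
  have h1 : r ^ a ≤ s ^ a := Nat.pow_le_pow_left hrs a
  have h2 : s ^ a ≤ s ^ b := Nat.pow_le_pow_right hs hab
  have h3 : r ^ a = s ^ a := le_antisymm h1 (h2.trans h)
  have h4 : r = s := Nat.pow_left_injective ha.ne' h3
  refine ⟨h4, le_antisymm (h1.trans h2) h, fun hlt => ?_⟩
  rw [h4]
  by_contra hne
  have h5 : 1 < s := by omega
  have h6 : s ^ a < s ^ b := Nat.pow_lt_pow_right h5 hlt
  rw [h3] at h
  omega

/-- **one step** -/
theorem step [Finite H] [Finite M] {a b : ℕ} {B : Subgroup H} {W : Subgroup M} {z : M} (h : Axial B W z)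
    (hM : ∀ v w : M, v * w = w * v) (ha : 0 < a) (hab : a ≤ b) (hf : fab M a b (B ⊓ fx W) ≤ fab M a b B) :
    fab M a b (B ⊓ fx W) = fab M a b B ∧ cv M ((B ⊓ fx W : Subgroup H) : Set H) = W ⊔ cv M (B : Set H) ∧
      (a < b → B ≤ fx W) := by
  set r := (fx W).relIndex B with hr
  set s := (cv M (B : Set H)).relIndex W with hs
  have hrs : r ≤ s := h.relIndex_le hM
  have hs0 : 0 < s := Nat.pos_of_ne_zero (relIndex_ne _ _)
  have e1 : Nat.card (B ⊓ fx W : Subgroup H) * r = Nat.card B := Axial.card_mul B W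
  have e2 : Nat.card (W ⊔ cv M (B : Set H) : Subgroup M) = s * Nat.card (cv M (B : Set H)) := Axial.card_sup hM B W
  have e3 : Nat.card (W ⊔ cv M (B : Set H) : Subgroup M) ≤
      Nat.card (cv M ((B ⊓ fx W : Subgroup H) : Set H)) :=
    Nat.le_of_dvd Nat.card_pos (card_dvd_of_le (Axial.sup_le_cv B W))
  have hB1 : 0 < Nat.card (B ⊓ fx W : Subgroup H) := Nat.card_pos
  have hC : 0 < Nat.card (cv M (B : Set H)) := Nat.card_pos
  have h1 : (Nat.card (B ⊓ fx W : Subgroup H)) ^ a * (s * Nat.card (cv M (B : Set H))) ^ b ≤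
      fab M a b (B ⊓ fx W) := by
    unfold fab
    exact Nat.mul_le_mul_left _ (Nat.pow_le_pow_left (e2 ▸ e3) b)
  have h2 : fab M a b B = (Nat.card (B ⊓ fx W : Subgroup H)) ^ a * r ^ a * Nat.card (cv M (B : Set H)) ^ b := by
    unfold fab
    rw [← e1, mul_pow]
  have h3 : s ^ b ≤ r ^ a := by
    have h4 := h1.trans hf
    rw [h2, mul_pow, ← mul_assoc] at h4
    have h5 := Nat.le_of_mul_le_mul_right h4 (Nat.pow_pos hC)
    exact Nat.le_of_mul_le_mul_left h5 (Nat.pow_pos hB1)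
  obtain ⟨h4, h5, h6⟩ := pow_lemma hab hs0 hrs h3 ha
  have h7 : (Nat.card (B ⊓ fx W : Subgroup H)) ^ a * (s * Nat.card (cv M (B : Set H))) ^ b = fab M a b B := by
    rw [h2, h5, mul_pow, mul_assoc]
  have h8 : fab M a b (B ⊓ fx W) = fab M a b B := le_antisymm hf (h7 ▸ h1)
  refine ⟨h8, ?_, fun hlt => ?_⟩
  · symm
    refine eq_of_le_of_card_ge (Axial.sup_le_cv B W) ?_
    rw [← h7] at h8
    unfold fab at h8
    have h9 := Nat.eq_of_mul_eq_mul_left (Nat.pow_pos hB1) h8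
    have hb : b ≠ 0 := by omega
    have h10 := Nat.pow_left_injective hb h9
    rw [h10, e2]
  · exact relIndex_eq_one.1 (h6 hlt)

/-! ### `[M, B]` -/

variable (M) in
/-- `[M, B]` -/
def cm (B : Subgroup H) : Subgroup M := closure {v | ∃ b ∈ B, ∃ m : M, v = b • m * m⁻¹}

theorem mem_cm {B : Subgroup H} {b : H} (hb : b ∈ B) (m : M) : b • m * m⁻¹ ∈ cm M B :=
  subset_closure ⟨b, hb, m, rfl⟩

theorem cm_mono {B D : Subgroup H} (h : B ≤ D) : cm M B ≤ cm M D := by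
  refine closure_mono ?_
  rintro _ ⟨b, hb, m, rfl⟩
  exact ⟨b, h hb, m, rfl⟩

/-! ### The system -/

/-- Points, collinearity, `W x`, `Q x`. -/
structure Sys (Pt : Set M) (Col : M → M → Prop) (W : M → Subgroup M) (Q : M → Subgroup H) : Prop where
  comm : ∀ v w : M, v * w = w * v
  sq : ∀ x ∈ Pt, x * x = 1
  ptH : ∀ x ∈ Pt, ∀ g : H, g • x ∈ Pt
  trans : ∀ x ∈ Pt, ∀ y ∈ Pt, ∃ g : H, g • x = y
  sym : ∀ x y, Col x y → Col y x
  mem : ∀ x y, Col x y → y ∈ Pt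
  ex : ∀ x ∈ Pt, ∃ y, Col x y
  /-- the graph is connected -/
  conn : ∀ x ∈ Pt, ∀ y ∈ Pt, Relation.ReflTransGen Col x y
  WH : ∀ (g : H) (x v : M), v ∈ W x → g • v ∈ W (g • x)
  QH : ∀ (g : H) (x : M), Q (g • x) = cj g (Q x)
  fix : ∀ x ∈ Pt, ∀ q ∈ Q x, q • x = x
  /-- `[W x, Q x] ≤ ⟨x⟩` -/
  axl : ∀ x ∈ Pt, ∀ q ∈ Q x, ∀ w ∈ W x, q • w = w ∨ q • w = w * x
  /-- (**) -/
  low : ∀ x y, Col x y → ∀ q ∈ Q x, (∀ w ∈ W y, q • w = w) → q ∈ Q y
  /-- no normal subgroup in all `Q x` -/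
  core : ∀ B : Subgroup H, (∀ x ∈ Pt, B ≤ Q x) → B = ⊥
  /-- **(D)** -/
  dich : ∀ x ∈ Pt, ∀ B ≤ Q x, MulAction.stabilizer H x ≤ normalizer (B : Set H) → B ≤ fx (W x) →
    (∀ y, Col x y → ∀ w ∈ W y, ∀ c ∈ B, c • w = w ∨ c • w = w * x) ∨ W x ≤ cm M B
  /-- a point collinear with `x` in `[M, B]` -/
  two : ∀ x ∈ Pt, ∀ B ≤ Q x, MulAction.stabilizer H x ≤ normalizer (B : Set H) →
    ∀ y, Col x y → y ∈ cm M B → W x ≤ cm M B

variable {Pt : Set M} {Col : M → M → Prop} {W : M → Subgroup M} {Q : M → Subgroup H}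

variable (M) in
/-- the largest member of `{B ≤ Q x | f(B) = |M|^b, [W x, B] = 1}` (if `f ≤ |M|^b` on `Q x`) -/
noncomputable def ax (W : M → Subgroup M) (Q : M → Subgroup H) (a b : ℕ) (x : M) : Subgroup H :=
  hi (fab M a b) (Q x ⊓ fx (W x))

theorem fab_bot' (a b : ℕ) : fab M a b (⊥ : Subgroup H) = Nat.card M ^ b := fab_bot a b

/-- the balls of the graph -/
def Ball (Col : M → M → Prop) : ℕ → M → Set M
  | 0, x => {x}
  | j + 1, x => Ball Col j x ∪ {w | ∃ y ∈ Ball Col j x, Col y w}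

variable (M) in
/-- intersection of the `ax w`, `w` in a ball -/
noncomputable def ff (Col : M → M → Prop) (W : M → Subgroup M) (Q : M → Subgroup H) (a b : ℕ) (j : ℕ) (x : M) :
    Subgroup H := ⨅ w ∈ Ball Col j x, ax M W Q a b w

theorem cj_fx (g : H) (U V : Subgroup M) (h : ∀ v, v ∈ U ↔ g • v ∈ V) : cj g (fx U) = fx V := by
  apply le_antisymm
  · rintro _ ⟨c, hc, rfl⟩
    rw [mem_fx]
    intro v hv
    have h1 : g⁻¹ • v ∈ U := by rw [h, smul_inv_smul]; exact hv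
    have h2 : c • (g⁻¹ • v) = g⁻¹ • v := hc _ h1
    change (g * c * g⁻¹) • v = v
    rw [mul_smul, mul_smul, h2, smul_inv_smul]
  · intro c hc
    refine ⟨g⁻¹ * c * g, ?_, ?_⟩
    · intro u hu
      have h1 : c • (g • u) = g • u := hc _ ((h u).1 hu)
      rw [mul_smul, mul_smul, h1, inv_smul_smul]
    · change g * (g⁻¹ * c * g) * g⁻¹ = c
      group

theorem cj_inf (g : H) (A B : Subgroup H) : cj g (A ⊓ B) = cj g A ⊓ cj g B := by
  apply le_antisymm
  · exact le_inf (Subgroup.map_mono inf_le_left) (Subgroup.map_mono inf_le_right)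
  · rintro _ ⟨⟨a, ha, rfl⟩, ⟨b, hb, h⟩⟩
    have h1 : b = a := (MulAut.conj g).injective h
    subst h1
    exact ⟨b, ⟨ha, hb⟩, rfl⟩

namespace Sys

variable (S : Sys Pt Col W Q)
include S

theorem mem' {x y : M} (h : Col x y) : x ∈ Pt := S.mem _ _ (S.sym _ _ h)

theorem WH_iff (g : H) (x v : M) : v ∈ W x ↔ g • v ∈ W (g • x) := by
  refine ⟨S.WH g x v, fun h => ?_⟩
  have := S.WH g⁻¹ _ _ h
  rwa [inv_smul_smul, inv_smul_smul] at this

theorem cj_dom (g : H) (x : M) : cj g (Q x ⊓ fx (W x)) = Q (g • x) ⊓ fx (W (g • x)) := by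
  rw [cj_inf, S.QH, cj_fx g (W x) (W (g • x)) (fun v => S.WH_iff g x v)]

variable [Finite H] [Finite M]

theorem ax_smul {a b : ℕ} (g : H) (x : M) : ax M W Q a b (g • x) = cj g (ax M W Q a b x) := by
  unfold ax
  rw [← S.cj_dom, (ls_fab M a b).hi_cj]

theorem stab_le {a b : ℕ} (x : M) :
    MulAction.stabilizer H x ≤ normalizer (ax M W Q a b x : Set H) := by
  intro g hg
  rw [Subgroup.mem_normalizer_iff_map_conj_eq]
  have h1 := S.ax_smul (a := a) (b := b) g x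
  rw [MulAction.mem_stabilizer_iff.1 hg] at h1
  exact h1.symm

omit S in
theorem ax_le {a b : ℕ} (x : M) : ax M W Q a b x ≤ Q x := ((ls_fab M a b).hi_le_self _).trans inf_le_left

omit S in
theorem ax_le_fx {a b : ℕ} (x : M) : ax M W Q a b x ≤ fx (W x) := ((ls_fab M a b).hi_le_self _).trans inf_le_right

/-! `hf`: the value `|M|^b` is the maximum on the subgroups of `Q x` -/

omit S [Finite H] [Finite M] in
theorem best_of {a b : ℕ} {x : M} (hf : ∀ B ≤ Q x, fab M a b B ≤ Nat.card M ^ b) {R B : Subgroup H} (hR : R ≤ Q x)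
    (hB : B ≤ R) (he : fab M a b B = Nat.card M ^ b) : Best (fab M a b) R B :=
  ⟨hB, fun D hD => (hf D (hD.trans hR)).trans he.ge⟩

omit S in
theorem ax_val {a b : ℕ} {x : M} (hf : ∀ B ≤ Q x, fab M a b B ≤ Nat.card M ^ b) :
    fab M a b (ax M W Q a b x) = Nat.card M ^ b := by
  have h1 := (ls_fab (H := H) M a b).best_hi (Q x ⊓ fx (W x))
  refine le_antisymm (hf _ (ax_le x)) ?_
  rw [← fab_bot' (H := H) (M := M) a b]
  exact h1.2 ⊥ bot_le

omit S [Finite H] [Finite M] in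
theorem le_ax {a b : ℕ} {x : M} (hf : ∀ B ≤ Q x, fab M a b B ≤ Nat.card M ^ b) {B : Subgroup H} (hB : B ≤ Q x)
    (hB' : B ≤ fx (W x)) (he : fab M a b B = Nat.card M ^ b) : B ≤ ax M W Q a b x :=
  le_hi (best_of hf inf_le_left (le_inf hB hB') he)

omit S in
/-- closure under intersection, with the centralisers -/
theorem inf_val {a b : ℕ} {x : M} (hb : 0 < b) (hM : ∀ v w : M, v * w = w * v)
    (hf : ∀ B ≤ Q x, fab M a b B ≤ Nat.card M ^ b) {B D : Subgroup H} (hB : B ≤ Q x)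
    (hD : D ≤ Q x) (eB : fab M a b B = Nat.card M ^ b) (eD : fab M a b D = Nat.card M ^ b) :
    fab M a b (B ⊓ D) = Nat.card M ^ b ∧
      cv M ((B ⊓ D : Subgroup H) : Set H) = cv M (B : Set H) ⊔ cv M (D : Set H) := by
  have h0 := (ls_fab (H := H) M a b).best_sup_inf (best_of hf le_rfl hB eB) (best_of hf le_rfl hD eD)
  have e1 : fab M a b (B ⊓ D) = Nat.card M ^ b := by
    rw [(best_of hf le_rfl hB eB).eq h0.2 |>.symm, eB]
  have e2 : fab M a b (B ⊔ D) = Nat.card M ^ b := by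
    rw [(best_of hf le_rfl hB eB).eq h0.1 |>.symm, eB]
  refine ⟨e1, ?_⟩
  symm
  have hle : cv M (B : Set H) ⊔ cv M (D : Set H) ≤ cv M ((B ⊓ D : Subgroup H) : Set H) :=
    sup_le (cv_anti (SetLike.coe_subset_coe.2 inf_le_left)) (cv_anti (SetLike.coe_subset_coe.2 inf_le_right))
  refine eq_of_le_of_card_ge hle ?_
  -- counting
  have h1 := card_mul_card_le B D
  have h2 : Nat.card (cv M (B : Set H) ⊔ cv M (D : Set H) : Subgroup M) *
      Nat.card (cv M ((B ⊔ D : Subgroup H) : Set H)) =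
      Nat.card (cv M (B : Set H)) * Nat.card (cv M (D : Set H)) := by
    have h3 := card_sup_mul (cv M (B : Set H)) (cv M (D : Set H)) (fun v _ => by
      rw [mem_normalizer_iff]
      intro w
      rw [hM v w, mul_inv_cancel_right])
    rw [← cv_sup] at h3
    exact h3
  by_contra hlt
  rw [not_le] at hlt
  have hp1 : 0 < Nat.card (cv M ((B ⊔ D : Subgroup H) : Set H)) := Nat.card_pos
  have h3 : Nat.card (cv M (B : Set H)) * Nat.card (cv M (D : Set H)) <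
      Nat.card (cv M ((B ⊓ D : Subgroup H) : Set H)) * Nat.card (cv M ((B ⊔ D : Subgroup H) : Set H)) := by
    rw [← h2]
    exact Nat.mul_lt_mul_of_pos_right hlt hp1
  have h4 : (Nat.card (cv M (B : Set H)) * Nat.card (cv M (D : Set H))) ^ b <
      (Nat.card (cv M ((B ⊓ D : Subgroup H) : Set H)) * Nat.card (cv M ((B ⊔ D : Subgroup H) : Set H))) ^ b :=
    Nat.pow_lt_pow_left h3 hb.ne'
  have h5 : (Nat.card B * Nat.card D) ^ a ≤
      (Nat.card (B ⊔ D : Subgroup H) * Nat.card (B ⊓ D : Subgroup H)) ^ a := Nat.pow_le_pow_left h1 a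
  have h6 : fab M a b B * fab M a b D < fab M a b (B ⊔ D) * fab M a b (B ⊓ D) := by
    unfold fab
    calc _ = (Nat.card B * Nat.card D) ^ a * (Nat.card (cv M (B : Set H)) * Nat.card (cv M (D : Set H))) ^ b := by
          ring
      _ < (Nat.card B * Nat.card D) ^ a * (Nat.card (cv M ((B ⊓ D : Subgroup H) : Set H)) *
            Nat.card (cv M ((B ⊔ D : Subgroup H) : Set H))) ^ b :=
          Nat.mul_lt_mul_of_pos_left h4 (Nat.pow_pos (Nat.mul_pos Nat.card_pos Nat.card_pos))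
      _ ≤ (Nat.card (B ⊔ D : Subgroup H) * Nat.card (B ⊓ D : Subgroup H)) ^ a *
          (Nat.card (cv M ((B ⊓ D : Subgroup H) : Set H)) *
            Nat.card (cv M ((B ⊔ D : Subgroup H) : Set H))) ^ b := Nat.mul_le_mul_right _ h5
      _ = _ := by ring
  rw [eB, eD, e1, e2] at h6
  exact lt_irrefl _ h6

/-! ### Elements with `[m, c] ∈ ⟨x⟩` -/

omit S [Finite H] [Finite M] in
/-- `{m | [m, c] ∈ ⟨x⟩}` -/
def Tr (hM : ∀ v w : M, v * w = w * v) {x : M} (hx : x * x = 1) (c : H) : Subgroup M where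
  carrier := {m | c • m = m ∨ c • m = m * x}
  one_mem' := Or.inl (smul_one c)
  mul_mem' := by
    rintro v w (hv | hv) (hw | hw)
    · left; rw [smul_mul', hv, hw]
    · right; rw [smul_mul', hv, hw, mul_assoc]
    · right; rw [smul_mul', hv, hw, mul_assoc, hM x w, mul_assoc]
    · left
      rw [smul_mul', hv, hw, mul_assoc, hM x (w * x), mul_assoc w, hx, mul_one]
  inv_mem' := by
    rintro v (hv | hv)
    · left; rw [smul_inv', hv]
    · right
      rw [smul_inv', hv, mul_inv_rev, hM]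
      congr 1
      exact inv_eq_of_mul_eq_one_left hx

/-! ### Step (1) -/

omit [Finite H] [Finite M] in
theorem axial {x : M} (hx : x ∈ Pt) {B : Subgroup H} (hB : B ≤ Q x) : Axial B (W x) x :=
  ⟨S.sq x hx, fun c hc => S.fix x hx c (hB hc), fun c hc w hw => S.axl x hx c (hB hc) w hw⟩

/-- **(1)** -/
theorem stepQ {a b : ℕ} (ha : 0 < a) (hab : a ≤ b) {x : M} (hx : x ∈ Pt)
    (hf : ∀ B ≤ Q x, fab M a b B ≤ Nat.card M ^ b) {B : Subgroup H} (hB : B ≤ Q x)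
    (he : fab M a b B = Nat.card M ^ b) :
    fab M a b (B ⊓ fx (W x)) = Nat.card M ^ b ∧
      cv M ((B ⊓ fx (W x) : Subgroup H) : Set H) = W x ⊔ cv M (B : Set H) ∧ (a < b → B ≤ fx (W x)) := by
  have h := step (S.axial hx hB) S.comm ha hab ((hf _ (inf_le_left.trans hB)).trans he.ge)
  exact ⟨h.1.trans he, h.2⟩

/-- **(1)**, `ax x = 1` -/
theorem of_ax_bot {a b : ℕ} (ha : 0 < a) (hab : a ≤ b) {x : M} (hx : x ∈ Pt)
    (hf : ∀ B ≤ Q x, fab M a b B ≤ Nat.card M ^ b) {B : Subgroup H} (hB : B ≤ Q x) (hB1 : B ≠ ⊥)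
    (he : fab M a b B = Nat.card M ^ b) (h0 : ax M W Q a b x = ⊥) :
    a = b ∧ ∀ c ∈ B, ∀ m : M, c • m = m ∨ c • m = m * x := by
  obtain ⟨h1, h2, h3⟩ := S.stepQ ha hab hx hf hB he
  have h4 : B ⊓ fx (W x) = ⊥ := le_bot_iff.1 (h0 ▸ le_ax hf (inf_le_left.trans hB) inf_le_right h1)
  refine ⟨?_, fun c hc m => ?_⟩
  · rcases hab.lt_or_eq with h5 | h5
    · exact absurd (by rw [← h4]; exact (inf_eq_left.2 (h3 h5)).symm) hB1
    · exact h5
  · rw [h4, cv_bot] at h2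
    have h5 : (⊤ : Subgroup M) ≤ Tr S.comm (S.sq x hx) c := by
      rw [h2]
      exact sup_le (fun w hw => S.axl x hx c (hB hc) w hw) (fun w hw => Or.inl (hw c hc))
    exact h5 (mem_top m)

/-! ### The balls -/

omit S [Finite H] [Finite M] in
theorem ball_succ (j : ℕ) (x : M) : Ball Col j x ⊆ Ball Col (j + 1) x := Set.subset_union_left

omit S [Finite H] [Finite M] in
theorem ball_mono {i j : ℕ} (h : i ≤ j) (x : M) : Ball Col i x ⊆ Ball Col j x := by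
  induction j, h using Nat.le_induction with
  | base => exact subset_rfl
  | succ j _ ih => exact ih.trans (ball_succ j x)

omit [Finite H] [Finite M] in
theorem ball_pt {x : M} (hx : x ∈ Pt) : ∀ j, Ball Col j x ⊆ Pt
  | 0 => by
    rintro y rfl
    exact hx
  | j + 1 => by
    rintro y (hy | ⟨z, -, hz⟩)
    · exact ball_pt hx j hy
    · exact S.mem _ _ hz

omit [Finite H] [Finite M] in
theorem ball_nbr {x : M} (hx : x ∈ Pt) : ∀ j, ∀ y ∈ Ball Col (j + 1) x, ∃ u ∈ Ball Col (j + 1) x, Col u y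
  | 0 => by
    rintro y (hy | ⟨z, hz, hzy⟩)
    · change y = x at hy
      subst hy
      obtain ⟨u, hu⟩ := S.ex y hx
      exact ⟨u, Or.inr ⟨y, rfl, hu⟩, S.sym _ _ hu⟩
    · exact ⟨z, Or.inl hz, hzy⟩
  | j + 1 => by
    rintro y (hy | ⟨z, hz, hzy⟩)
    · obtain ⟨u, hu, huy⟩ := ball_nbr hx j y hy
      exact ⟨u, Or.inl hu, huy⟩
    · exact ⟨z, Or.inl hz, hzy⟩

omit [Finite H] in
theorem exists_ball {x : M} (hx : x ∈ Pt) : ∃ n, Pt ⊆ Ball Col n x := by
  have h1 : ∀ y ∈ Pt, ∃ k, y ∈ Ball Col k x := by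
    intro y hy
    have h2 := S.conn x hx y hy
    induction h2 with
    | refl => exact ⟨0, rfl⟩
    | tail _ hcd ih =>
      obtain ⟨k, hk⟩ := ih (S.mem' hcd)
      exact ⟨k + 1, Or.inr ⟨_, hk, hcd⟩⟩
  have h3 : ∀ T : Set M, T.Finite → T ⊆ Pt → ∃ n, T ⊆ Ball Col n x := by
    intro T hT
    induction T, hT using Set.Finite.induction_on with
    | empty => exact fun _ => ⟨0, Set.empty_subset _⟩
    | @insert w T _ _ ih =>
      intro hT
      obtain ⟨n, hn⟩ := ih ((Set.subset_insert _ _).trans hT)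
      obtain ⟨k, hk⟩ := h1 w (hT (Set.mem_insert _ _))
      refine ⟨max n k, ?_⟩
      rintro y (rfl | hy)
      · exact ball_mono (le_max_right _ _) x hk
      · exact ball_mono (le_max_left _ _) x (hn hy)
  exact h3 Pt (Set.toFinite _) subset_rfl

/-! ### Step (3) -/

omit S [Finite H] [Finite M] in
theorem ff_le {a b j : ℕ} {x w : M} (hw : w ∈ Ball Col j x) : ff M Col W Q a b j x ≤ ax M W Q a b w :=
  iInf₂_le w hw

omit S [Finite H] [Finite M] in
theorem self_mem (j : ℕ) (x : M) : x ∈ Ball Col j x := ball_mono (Nat.zero_le j) x rfl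

omit S [Finite H] [Finite M] in
theorem ff_zero {a b : ℕ} {x : M} : ff M Col W Q a b 0 x = ax M W Q a b x := by
  refine le_antisymm (ff_le rfl) (le_iInf₂ fun w hw => ?_)
  change w = x at hw
  rw [hw]

/-- (I) for all points -/
def One (Pt : Set M) (Col : M → M → Prop) (W : M → Subgroup M) (A : M → Subgroup H) : Prop :=
  ∀ x ∈ Pt, ∀ y, Col x y → ∀ w ∈ W y, ∀ c ∈ A x, c • w = w ∨ c • w = w * x

/-- one member of the intersection -/
theorem dw {a b : ℕ} (ha : 0 < a) (hab : a ≤ b) (hf : ∀ x ∈ Pt, ∀ B ≤ Q x, fab M a b B ≤ Nat.card M ^ b)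
    (hI : One Pt Col W (ax M W Q a b)) {j : ℕ} {x : M} (hx : x ∈ Pt)
    (hF : fab M a b (ff M Col W Q a b j x) = Nat.card M ^ b) {w : M} (hw : w ∈ Ball Col (j + 1) x) :
    fab M a b (ff M Col W Q a b j x ⊓ ax M W Q a b w) = Nat.card M ^ b ∧
      cv M ((ff M Col W Q a b j x ⊓ ax M W Q a b w : Subgroup H) : Set H) ≤
        cv M (ff M Col W Q a b j x : Set H) ⊔ W w ∧
      (a < b → ff M Col W Q a b j x ≤ ax M W Q a b w) := by
  set F := ff M Col W Q a b j x with hFd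
  rcases hw with hw | ⟨y, hy, hyw⟩
  · have h1 : F ≤ ax M W Q a b w := ff_le hw
    rw [inf_eq_left.2 h1]
    exact ⟨hF, le_sup_left, fun _ => h1⟩
  · have hyP : y ∈ Pt := S.ball_pt hx j hy
    have hwP : w ∈ Pt := S.mem _ _ hyw
    have hFy : F ≤ ax M W Q a b y := ff_le hy
    have hFx : F ≤ Q x := (ff_le (self_mem j x)).trans (ax_le x)
    have hA : Axial F (W w) y :=
      ⟨S.sq y hyP, fun c hc => S.fix y hyP c (ax_le y (hFy hc)), fun c hc v hv => hI y hyP w hyw v hv c (hFy hc)⟩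
    obtain ⟨h1, h2, h3⟩ := step hA S.comm ha hab ((hf x hx _ (inf_le_left.trans hFx)).trans hF.ge)
    have h4 : F ⊓ fx (W w) ≤ Q w := fun c hc => S.low y w hyw c (ax_le y (hFy hc.1)) hc.2
    have h5 : F ⊓ fx (W w) ≤ ax M W Q a b w := le_ax (hf w hwP) h4 inf_le_right (h1.trans hF)
    have h6 : F ⊓ ax M W Q a b w = F ⊓ fx (W w) :=
      le_antisymm (le_inf inf_le_left (inf_le_right.trans (ax_le_fx w))) (le_inf inf_le_left h5)
    rw [h6]
    refine ⟨h1.trans hF, ?_, fun hlt => ?_⟩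
    · rw [h2]
      exact sup_le le_sup_right le_sup_left
    · rw [← inf_eq_left.2 (h3 hlt)]
      exact h5

omit S in
theorem inter {a b : ℕ} {x : M} (hb : 0 < b) (hM : ∀ v w : M, v * w = w * v)
    (hf : ∀ B ≤ Q x, fab M a b B ≤ Nat.card M ^ b) {F : Subgroup H} (hFx : F ≤ Q x)
    (hF : fab M a b F = Nat.card M ^ b) (A : M → Subgroup H) (C : M → Subgroup M) (T : Set M) (hT : T.Finite)
    (h : ∀ w ∈ T, fab M a b (F ⊓ A w) = Nat.card M ^ b ∧
      cv M ((F ⊓ A w : Subgroup H) : Set H) ≤ cv M (F : Set H) ⊔ C w) :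
    fab M a b (F ⊓ ⨅ w ∈ T, A w) = Nat.card M ^ b ∧
      cv M ((F ⊓ ⨅ w ∈ T, A w : Subgroup H) : Set H) ≤ cv M (F : Set H) ⊔ ⨆ w ∈ T, C w := by
  induction T, hT using Set.Finite.induction_on with
  | empty =>
    have e : (F ⊓ ⨅ w ∈ (∅ : Set M), A w) = F := by simp
    rw [e]
    exact ⟨hF, le_sup_left⟩
  | @insert w T _ _ ih =>
    obtain ⟨i1, i2⟩ := ih fun u hu => h u (Set.mem_insert_of_mem _ hu)
    obtain ⟨d1, d2⟩ := h w (Set.mem_insert _ _)
    have e : (F ⊓ ⨅ u ∈ insert w T, A u) = (F ⊓ A w) ⊓ (F ⊓ ⨅ u ∈ T, A u) := by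
      rw [iInf_insert, ← inf_inf_distrib_left]
    have le1 : F ⊓ A w ≤ Q x := inf_le_left.trans hFx
    have le2 : (F ⊓ ⨅ u ∈ T, A u) ≤ Q x := inf_le_left.trans hFx
    obtain ⟨v1, v2⟩ := inf_val hb hM hf le1 le2 d1 i1
    rw [e]
    refine ⟨v1, v2 ▸ sup_le ?_ ?_⟩
    · refine d2.trans (sup_le le_sup_left ?_)
      exact (le_iSup₂_of_le (f := fun u (_ : u ∈ insert w T) => C u) w (Set.mem_insert _ _) le_rfl).trans le_sup_right
    · refine i2.trans (sup_le le_sup_left ?_)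
      refine (iSup₂_le fun u hu => ?_ : (⨆ u ∈ T, C u) ≤ ⨆ u ∈ insert w T, C u).trans le_sup_right
      exact le_iSup₂_of_le (f := fun u (_ : u ∈ insert w T) => C u) u (Set.mem_insert_of_mem _ hu) le_rfl

omit S [Finite H] [Finite M] in
theorem ff_succ_eq {a b j : ℕ} {x : M} : ff M Col W Q a b (j + 1) x =
    ff M Col W Q a b j x ⊓ ⨅ w ∈ Ball Col (j + 1) x, ax M W Q a b w :=
  le_antisymm (le_inf (le_iInf₂ fun _ hw => ff_le (ball_succ j x hw)) le_rfl) inf_le_right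

/-- **(3)**, the induction -/
theorem ff_key {a b : ℕ} (ha : 0 < a) (hab : a ≤ b) (hf : ∀ x ∈ Pt, ∀ B ≤ Q x, fab M a b B ≤ Nat.card M ^ b)
    (hI : One Pt Col W (ax M W Q a b)) {x : M} (hx : x ∈ Pt) (j : ℕ)
    (hF : fab M a b (ff M Col W Q a b j x) = Nat.card M ^ b) :
    fab M a b (ff M Col W Q a b (j + 1) x) = Nat.card M ^ b ∧
      cv M (ff M Col W Q a b (j + 1) x : Set H) ≤
        cv M (ff M Col W Q a b j x : Set H) ⊔ ⨆ w ∈ Ball Col (j + 1) x, W w ∧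
      (a < b → ff M Col W Q a b (j + 1) x = ff M Col W Q a b j x) := by
  have hFx : ff M Col W Q a b j x ≤ Q x := (ff_le (self_mem j x)).trans (ax_le x)
  have h1 := inter (lt_of_lt_of_le ha hab) S.comm (hf x hx) hFx hF (fun w => ax M W Q a b w) W
    (Ball Col (j + 1) x) (Set.toFinite _) (fun w hw => by
      have h := S.dw ha hab hf hI hx hF hw
      exact ⟨h.1, h.2.1⟩)
  rw [← ff_succ_eq] at h1
  refine ⟨h1.1, h1.2, fun hlt => ?_⟩
  refine le_antisymm (by rw [ff_succ_eq]; exact inf_le_left) ?_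
  exact le_iInf₂ fun w hw => (S.dw ha hab hf hI hx hF hw).2.2 hlt

theorem ff_val {a b : ℕ} (ha : 0 < a) (hab : a ≤ b) (hf : ∀ x ∈ Pt, ∀ B ≤ Q x, fab M a b B ≤ Nat.card M ^ b)
    (hI : One Pt Col W (ax M W Q a b)) {x : M} (hx : x ∈ Pt) (j : ℕ) :
    fab M a b (ff M Col W Q a b j x) = Nat.card M ^ b := by
  induction j with
  | zero =>
    rw [ff_zero]
    exact ax_val (hf x hx)
  | succ j ih => exact (S.ff_key ha hab hf hI hx j ih).1

omit S [Finite H] [Finite M] in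
theorem cm_smul (g : H) {B : Subgroup H} {v : M} (hv : v ∈ cm M B) : g • v ∈ cm M (cj g B) := by
  have h : cm M B ≤ (cm M (cj g B)).comap (MulDistribMulAction.toMonoidHom M g) := by
    refine (closure_le _).2 ?_
    rintro _ ⟨c, hc, m, rfl⟩
    change g • (c • m * m⁻¹) ∈ cm M (cj g B)
    have e : g • (c • m * m⁻¹) = (g * c * g⁻¹) • (g • m) * (g • m)⁻¹ := by
      rw [smul_mul', smul_inv', mul_smul, mul_smul, inv_smul_smul]
    rw [e]
    have h1 : g * c * g⁻¹ ∈ cj g B := ⟨c, hc, rfl⟩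
    exact mem_cm h1 _
  exact h hv

/-- (II) at one point gives (II) at all points. -/
theorem two_trans {a b : ℕ} {x u : M} (hx : x ∈ Pt) (hu : u ∈ Pt) (h : W u ≤ cm M (ax M W Q a b u)) :
    W x ≤ cm M (ax M W Q a b x) := by
  obtain ⟨g, rfl⟩ := S.trans u hu x hx
  intro v hv
  have h1 : g⁻¹ • v ∈ W u := by
    rw [S.WH_iff g, smul_inv_smul]
    exact hv
  have h2 := cm_smul g (h h1)
  rw [smul_inv_smul] at h2
  rwa [S.ax_smul]

/-- **(WF)** -/
theorem main {a b : ℕ} (ha : 0 < a) (hab : a ≤ b) (hf : ∀ x ∈ Pt, ∀ B ≤ Q x, fab M a b B ≤ Nat.card M ^ b)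
    {x : M} (hx : x ∈ Pt) {B : Subgroup H} (hB : B ≤ Q x) (hB1 : B ≠ ⊥) (he : fab M a b B = Nat.card M ^ b) :
    (a = b ∧ ∃ B ≤ Q x, B ≠ ⊥ ∧ fab M a b B = Nat.card M ^ b ∧ ∀ c ∈ B, ∀ m : M, c • m = m ∨ c • m = m * x) ∨
      (ax M W Q a b x ≠ ⊥ ∧ W x ≤ cm M (ax M W Q a b x)) := by
  have hb : 0 < b := lt_of_lt_of_le ha hab
  by_cases h0 : ax M W Q a b x = ⊥
  · obtain ⟨h1, h2⟩ := S.of_ax_bot ha hab hx (hf x hx) hB hB1 he h0
    exact Or.inl ⟨h1, B, hB, hB1, he, h2⟩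
  by_cases hII : ∃ u ∈ Pt, W u ≤ cm M (ax M W Q a b u)
  · obtain ⟨u, hu, h⟩ := hII
    exact Or.inr ⟨h0, S.two_trans hx hu h⟩
  push Not at hII
  have hI : One Pt Col W (ax M W Q a b) := by
    intro y hy
    rcases S.dich y hy (ax M W Q a b y) (ax_le y) (S.stab_le y) (ax_le_fx y) with h | h
    · exact h
    · exact absurd h (hII y hy)
  -- the last nontrivial intersection
  have hex : ∃ j, ff M Col W Q a b j x = ⊥ := by
    obtain ⟨n, hn⟩ := S.exists_ball hx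
    exact ⟨n, S.core _ fun w hw => (ff_le (hn hw)).trans (ax_le w)⟩
  classical
  have hj0 : Nat.find hex ≠ 0 := by
    intro h
    have h1 := Nat.find_spec hex
    rw [h, ff_zero] at h1
    exact h0 h1
  obtain ⟨j, hj⟩ := Nat.exists_eq_succ_of_ne_zero hj0
  have hlast : ff M Col W Q a b (j + 1) x = ⊥ := by
    have h1 := Nat.find_spec hex
    rwa [hj] at h1
  have hne : ff M Col W Q a b j x ≠ ⊥ := Nat.find_min hex (by rw [hj]; exact Nat.lt_succ_self j)
  have v1 := S.ff_val ha hab hf hI hx j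
  obtain ⟨-, v2, v3⟩ := S.ff_key ha hab hf hI hx j v1
  set F := ff M Col W Q a b j x with hFd
  have hab' : a = b := by
    rcases hab.lt_or_eq with h | h
    · exact absurd (by rw [← v3 h]; exact hlast) hne
    · exact h
  have htop : (⊤ : Subgroup M) ≤ cv M (F : Set H) ⊔ ⨆ w ∈ Ball Col (j + 1) x, W w := by
    rw [hlast, cv_bot] at v2
    exact v2
  -- `F` moves some `W w`
  have hmove : ∃ w ∈ Ball Col (j + 1) x, ¬ W w ≤ cv M (F : Set H) := by
    by_contra hcon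
    push Not at hcon
    have h1 : (⊤ : Subgroup M) ≤ cv M (F : Set H) := htop.trans (sup_le le_rfl (iSup₂_le hcon))
    have h2 : cv M (F : Set H) = ⊤ := top_le_iff.1 h1
    have h3 : 1 < Nat.card F := Subgroup.one_lt_card_iff_ne_bot F |>.2 hne
    have h4 : Nat.card (cv M (F : Set H)) = Nat.card M := by
      rw [h2]
      exact Nat.card_congr Subgroup.topEquiv.toEquiv
    unfold fab at v1
    rw [h4] at v1
    have h5 : 0 < Nat.card M ^ b := Nat.pow_pos Nat.card_pos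
    have h6 : 1 < Nat.card F ^ a := Nat.one_lt_pow ha.ne' h3
    have h7 : Nat.card M ^ b < Nat.card F ^ a * Nat.card M ^ b := by
      calc Nat.card M ^ b = 1 * Nat.card M ^ b := (one_mul _).symm
        _ < _ := Nat.mul_lt_mul_of_pos_right h6 h5
    omega
  obtain ⟨w, hw, hmv⟩ := hmove
  obtain ⟨v, hv, hvn⟩ := SetLike.not_le_iff_exists.1 hmv
  obtain ⟨c, hc, hcv⟩ : ∃ c ∈ F, c • v ≠ v := by
    by_contra hcon
    push Not at hcon
    exact hvn fun c hc => hcon c hc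
  rcases hw with hw | ⟨y, hy, hyw⟩
  · exact absurd (ax_le_fx w (ff_le hw hc) v hv) hcv
  have hyP : y ∈ Pt := S.ball_pt hx j hy
  have hcy : c • v = v * y := (hI y hyP w hyw v hv c (ff_le hy hc)).resolve_left hcv
  have hycm : y ∈ cm M F := by
    have e : y = c • v * v⁻¹ := by rw [hcy, S.comm v y, mul_inv_cancel_right]
    rw [e]
    exact mem_cm hc v
  rcases Nat.eq_zero_or_pos j with rfl | hjpos
  · left
    refine ⟨hab', F, (ff_le (self_mem 0 x)).trans (ax_le x), hne, v1, fun d hd m => ?_⟩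
    have h1 : (⊤ : Subgroup M) ≤ Tr S.comm (S.sq x hx) d := by
      refine htop.trans (sup_le (fun w hw => Or.inl (hw d hd)) (iSup₂_le ?_))
      rintro w (hw | ⟨y', hy', hyw'⟩) m hm
      · exact Or.inl (ax_le_fx w (ff_le hw hd) m hm)
      · change y' = x at hy'
        subst hy'
        exact hI y' hx w hyw' m hm d (ff_le (self_mem 0 y') hd)
    exact h1 (mem_top m)
  · obtain ⟨i, rfl⟩ := Nat.exists_eq_add_of_le' hjpos
    obtain ⟨u, hu, huy⟩ := S.ball_nbr hx i y hy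
    have huP : u ∈ Pt := S.ball_pt hx _ hu
    have h1 : y ∈ cm M (ax M W Q a b u) := cm_mono (ff_le hu) hycm
    exact absurd (S.two u huP _ (ax_le u) (S.stab_le u) y huy h1) (hII u huP)

/-! ### Offenders -/

omit [Finite H] [Finite M] in
/-- `Q x` is faithful on `M`. -/
theorem faithful {x : M} (hx : x ∈ Pt) {q : H} (hq : q ∈ Q x) (h : ∀ m : M, q • m = m) : q = 1 := by
  let B : Subgroup H := Q x ⊓ fx (⊤ : Subgroup M)
  have h1 : ∀ y ∈ Pt, B ≤ Q y := by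
    intro y hy
    have h2 := S.conn x hx y hy
    induction h2 with
    | refl => exact inf_le_left
    | tail _ hcd ih =>
      intro c hc
      exact S.low _ _ hcd c (ih (S.mem' hcd) hc) fun w _ => hc.2 w (mem_top w)
  have h2 := S.core B h1
  have h3 : q ∈ B := ⟨hq, fun m _ => h m⟩
  rw [h2, mem_bot] at h3
  exact h3

/-- **The ratio.** -/
theorem exists_ratio (hM2 : IsPGroup 2 M) (hQ2 : ∀ x ∈ Pt, IsPGroup 2 (Q x)) {x : M} (hx : x ∈ Pt)
    {B₀ : Subgroup H} (hB₀ : B₀ ≤ Q x) (hB₁ : B₀ ≠ ⊥)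
    (off : Nat.card M ≤ Nat.card B₀ * Nat.card (cv M (B₀ : Set H))) :
    ∃ a b : ℕ, ∃ B : Subgroup H, 0 < a ∧ a ≤ b ∧
      (Nat.card M < Nat.card B₀ * Nat.card (cv M (B₀ : Set H)) → a < b) ∧ B ≤ Q x ∧ B ≠ ⊥ ∧
      fab M a b B = Nat.card M ^ b ∧ ∀ y ∈ Pt, ∀ D ≤ Q y, fab M a b D ≤ Nat.card M ^ b := by
  classical
  have hB2 : ∀ B ≤ Q x, ∃ n, Nat.card B = 2 ^ n := fun B hB =>
    IsPGroup.iff_card.1 ((hQ2 x hx).to_le hB)
  have hC2 : ∀ B : Subgroup H, ∃ n, (cv M (B : Set H)).index = 2 ^ n := fun B => hM2.index _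
  choose! β hβ using hB2
  choose μ hμ using hC2
  have hcard : ∀ B : Subgroup H, 2 ^ μ B * Nat.card (cv M (B : Set H)) = Nat.card M := by
    intro B
    rw [← hμ, mul_comm]
    exact Subgroup.card_mul_index _
  have hβ0 : ∀ B ≤ Q x, B ≠ ⊥ → 0 < β B := by
    intro B hB h1
    have h2 : 1 < Nat.card B := (Subgroup.one_lt_card_iff_ne_bot B).2 h1
    rw [hβ B hB] at h2
    by_contra h3
    have h4 : β B = 0 := by omega
    rw [h4] at h2
    norm_num at h2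
  have hμ0 : ∀ B ≤ Q x, B ≠ ⊥ → 0 < μ B := by
    intro B hB h1
    by_contra h3
    have h4 : μ B = 0 := by omega
    have h5 : cv M (B : Set H) = ⊤ := by
      rw [← Subgroup.index_eq_one, hμ, h4, pow_zero]
    refine h1 (le_bot_iff.1 fun c hc => ?_)
    rw [mem_bot]
    refine S.faithful hx (hB hc) fun m => ?_
    have h6 : m ∈ cv M (B : Set H) := h5 ▸ mem_top m
    exact h6 c hc
  obtain ⟨B, ⟨hB, hBn⟩, hmin⟩ := Set.exists_min_image {B : Subgroup H | B ≤ Q x ∧ B ≠ ⊥}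
    (fun B => (μ B : ℚ) / β B) (Set.toFinite _) ⟨B₀, hB₀, hB₁⟩
  have key : ∀ D ≤ Q x, D ≠ ⊥ → μ B * β D ≤ μ D * β B := by
    intro D hD hD1
    have h1 := hmin D ⟨hD, hD1⟩
    have h2 : (0 : ℚ) < β B := by exact_mod_cast hβ0 B hB hBn
    have h3 : (0 : ℚ) < β D := by exact_mod_cast hβ0 D hD hD1
    change (μ B : ℚ) / β B ≤ (μ D : ℚ) / β D at h1
    rw [div_le_div_iff₀ h2 h3] at h1
    exact_mod_cast h1
  have off' : μ B₀ ≤ β B₀ := by
    rw [← hcard B₀, hβ B₀ hB₀] at off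
    have h1 := Nat.le_of_mul_le_mul_right off Nat.card_pos
    exact (Nat.pow_le_pow_iff_right (by norm_num)).1 h1
  refine ⟨μ B, β B, B, hμ0 B hB hBn, ?_, ?_, hB, hBn, ?_, ?_⟩
  · have h1 := key B₀ hB₀ hB₁
    have h2 : μ B * β B₀ ≤ β B * β B₀ := h1.trans (by rw [mul_comm (β B)]; exact Nat.mul_le_mul_right _ off')
    exact Nat.le_of_mul_le_mul_right h2 (hβ0 B₀ hB₀ hB₁)
  · intro hlt
    have h0 : μ B₀ < β B₀ := by
      rw [← hcard B₀, hβ B₀ hB₀] at hlt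
      have h1 := Nat.lt_of_mul_lt_mul_right hlt
      exact (Nat.pow_lt_pow_iff_right (by norm_num)).1 h1
    have h1 := key B₀ hB₀ hB₁
    have h2 : μ B * β B₀ < β B * β B₀ :=
      lt_of_le_of_lt h1 (by rw [mul_comm (β B)]; exact Nat.mul_lt_mul_of_pos_right h0 (hβ0 B hB hBn))
    exact Nat.lt_of_mul_lt_mul_right h2
  · unfold fab
    rw [← hcard B, mul_pow, hβ B hB, ← pow_mul, ← pow_mul, mul_comm (β B)]
  · intro y hy D hD
    obtain ⟨g, rfl⟩ := S.trans x hx y hy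
    have h1 : cj g⁻¹ D ≤ Q x := by
      rw [cj_le_iff, inv_inv, ← S.QH]
      exact hD
    rw [← (ls_fab M (μ B) (β B)).conj g⁻¹ D]
    by_cases hD1 : cj g⁻¹ D = ⊥
    · rw [hD1, fab_bot]
    · have h2 := key _ h1 hD1
      unfold fab
      rw [← hcard (cj g⁻¹ D), mul_pow, hβ _ h1, ← pow_mul, ← pow_mul]
      refine Nat.mul_le_mul_right _ (Nat.pow_le_pow_right (by norm_num) ?_)
      rw [mul_comm (β (cj g⁻¹ D))]
      exact h2

/-- **(WF) for an offender in `Q x`**: transvections with centre `x`, or a canonical `A = ax x ≠ 1` in `Q x`, normalised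
by the stabilizer of `x`, trivial on `W x`, with `W x ≤ [M, A]`. -/
theorem of_off (hM2 : IsPGroup 2 M) (hQ2 : ∀ x ∈ Pt, IsPGroup 2 (Q x)) {x : M} (hx : x ∈ Pt)
    {B₀ : Subgroup H} (hB₀ : B₀ ≤ Q x) (hB₁ : B₀ ≠ ⊥)
    (off : Nat.card M ≤ Nat.card B₀ * Nat.card (cv M (B₀ : Set H))) :
    (∃ B ≤ Q x, B ≠ ⊥ ∧ ∀ c ∈ B, ∀ m : M, c • m = m ∨ c • m = m * x) ∨
      ∃ a b : ℕ, 0 < a ∧ a ≤ b ∧ (∀ y ∈ Pt, ∀ D ≤ Q y, fab M a b D ≤ Nat.card M ^ b) ∧
        ax M W Q a b x ≠ ⊥ ∧ W x ≤ cm M (ax M W Q a b x) := by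
  obtain ⟨a, b, B, ha, hab, -, hB, hB1, he, hf⟩ := S.exists_ratio hM2 hQ2 hx hB₀ hB₁ off
  rcases S.main ha hab hf hx hB hB1 he with ⟨-, D, hD, hD1, -, hD2⟩ | h
  · exact Or.inl ⟨D, hD, hD1, hD2⟩
  · exact Or.inr ⟨a, b, ha, hab, hf, h⟩

/-- **(WF) for an over-offender in `Q x`**: only the second alternative. -/
theorem of_over (hM2 : IsPGroup 2 M) (hQ2 : ∀ x ∈ Pt, IsPGroup 2 (Q x)) {x : M} (hx : x ∈ Pt)
    {B₀ : Subgroup H} (hB₀ : B₀ ≤ Q x)
    (hov : Nat.card M < Nat.card B₀ * Nat.card (cv M (B₀ : Set H))) :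
    ∃ a b : ℕ, 0 < a ∧ a < b ∧ (∀ y ∈ Pt, ∀ D ≤ Q y, fab M a b D ≤ Nat.card M ^ b) ∧
        ax M W Q a b x ≠ ⊥ ∧ W x ≤ cm M (ax M W Q a b x) := by
  have hB₁ : B₀ ≠ ⊥ := by
    rintro rfl
    rw [cv_bot, card_bot, one_mul, Nat.card_congr Subgroup.topEquiv.toEquiv] at hov
    exact lt_irrefl _ hov
  obtain ⟨a, b, B, ha, hab, hlt, hB, hB1, he, hf⟩ := S.exists_ratio hM2 hQ2 hx hB₀ hB₁ hov.le
  rcases S.main ha hab hf hx hB hB1 he with ⟨h1, -⟩ | h
  · exact absurd h1 (hlt hov).ne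
  · exact ⟨a, b, ha, hlt hov, hf, h⟩

end Sys

end Cfsg.Agent.Omega.NOThreeL.WaistF
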